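import Mathlib

/-!
Product decomposition for subgroups of coprime index (helper14).
-/

set_option autoImplicit false

namespace Cfsg.Agent.Lib.Helper14.CopIdx

variable {G : Type*} [Group G]

/-- If `Q` and `C` have coprime indices in a finite group then `G = Q * C`. -/
theorem exists_mul_of_coprime_index [Finite G] (Q C : Subgroup G)
    (h : Nat.Coprime Q.index C.index) (k : G) : ∃ y ∈ Q, ∃ c ∈ C, y * c = k := by
  -- index computations
  have h1 : (Q ⊓ C).index = C.relIndex Q * Q.index := by
    rw [← Subgroup.inf_relIndex_left, Subgroup.relIndex_mul_index inf_le_left]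
  have h2 : (Q ⊓ C).index = Q.relIndex C * C.index := by
    rw [← Subgroup.inf_relIndex_right, Subgroup.relIndex_mul_index inf_le_right]
  have h3 : C.index ∣ C.relIndex Q := by
    have : C.index ∣ C.relIndex Q * Q.index := by rw [← h1, h2]; exact dvd_mul_left _ _
    exact (Nat.Coprime.dvd_mul_right h.symm).mp this
  have hpos : 0 < C.relIndex Q := by
    apply Nat.pos_of_ne_zero
    intro h0
    have := Subgroup.relIndex_dvd_card C Q
    rw [h0, zero_dvd_iff] at this
    exact Nat.card_pos.ne' this
  have h4 : C.index ≤ C.relIndex Q := Nat.le_of_dvd hpos h3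
  -- the map on cosets
  let f : (↥Q ⧸ C.subgroupOf Q) → G ⧸ C :=
    Quotient.map' (fun y : ↥Q => (y : G)) (fun a b hab => by
      rw [QuotientGroup.leftRel_apply] at hab ⊢
      exact hab)
  have hf : Function.Injective f := by
    intro a b
    induction a using QuotientGroup.induction_on with
    | H a =>
      induction b using QuotientGroup.induction_on with
      | H b =>
        intro hab
        have hab' : ((a : G) : G ⧸ C) = ((b : G) : G ⧸ C) := hab
        rw [QuotientGroup.eq] at hab' ⊢
        exact hab'
  have hcard : Nat.card (G ⧸ C) ≤ Nat.card (↥Q ⧸ C.subgroupOf Q) := by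
    have e1 : Nat.card (G ⧸ C) = C.index := rfl
    have e2 : Nat.card (↥Q ⧸ C.subgroupOf Q) = C.relIndex Q := rfl
    rw [e1, e2]
    exact h4
  have hbij : Function.Bijective f := hf.bijective_of_nat_card_le hcard
  obtain ⟨y', hy'⟩ := hbij.2 (k : G ⧸ C)
  induction y' using QuotientGroup.induction_on with
  | H y =>
    have hy : ((y : G) : G ⧸ C) = (k : G ⧸ C) := hy'
    rw [QuotientGroup.eq] at hy
    exact ⟨y, y.2, _, hy, by group⟩

end Cfsg.Agent.Lib.Helper14.CopIdx
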