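import Mathlib
import Cfsg.Prelude.Def_Transfer

/-!
# Matrix representation of the normalizer of an elementary abelian subgroup of order `p²` (helper14)
-/

set_option autoImplicit false
set_option linter.style.haveILetI false

namespace Cfsg.Agent.Lib.Helper14.LinRep

open Subgroup Matrix

variable {G : Type*} [Group G]

/-- conjugation action of the normalizer of `R` on `R`. -/
def conjAut (R : Subgroup G) : ↥(Subgroup.normalizer (R : Set G)) →* MulAut ↥R where
  toFun g :=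
    { toFun := fun x => ⟨(g : G) * x * (g : G)⁻¹, (Subgroup.mem_normalizer_iff.mp g.2 x).mp x.2⟩
      invFun := fun x => ⟨(g : G)⁻¹ * x * (g : G), by
        have := (Subgroup.mem_normalizer_iff.mp (Subgroup.inv_mem _ g.2) x).mp x.2
        simpa using this⟩
      left_inv := fun x => by apply Subtype.ext; simp [mul_assoc]
      right_inv := fun x => by apply Subtype.ext; simp [mul_assoc]
      map_mul' := fun x y => by apply Subtype.ext; simp [mul_assoc] }
  map_one' := by ext x; simp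
  map_mul' := fun g h => by ext x; simp [mul_assoc]

theorem conjAut_apply (R : Subgroup G) (g : ↥(Subgroup.normalizer (R : Set G))) (x : ↥R) :
    ((conjAut R g x : ↥R) : G) = (g : G) * x * (g : G)⁻¹ := rfl

theorem exists_matrix_rep [Finite G] {p : ℕ} [hp : Fact p.Prime] (W : Subgroup G)
    (hW : Cfsg.IsElementaryAbelian p W) (hcard : Nat.card W = p ^ 2)
    (e₁ e₂ : G) (he₁ : e₁ ∈ W) (he₂ : e₂ ∈ W) (hne₁ : e₁ ≠ 1) (hne₂ : e₂ ≠ 1)
    (hdisj : zpowers e₁ ⊓ zpowers e₂ = ⊥) :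
    ∃ (c : ↥W → (Fin 2 → ZMod p))
      (μ : ↥(normalizer (W : Set G)) →* Matrix (Fin 2) (Fin 2) (ZMod p)),
      Function.Bijective c ∧ (∀ w₁ w₂, c (w₁ * w₂) = c w₁ + c w₂) ∧
      c ⟨e₁, he₁⟩ = ![1, 0] ∧ c ⟨e₂, he₂⟩ = ![0, 1] ∧
      (∀ (g : ↥(normalizer (W : Set G))) (w : ↥W), c (conjAut W g w) = μ g *ᵥ c w) := by
  letI cg : CommGroup ↥W :=
    { (inferInstance : Group ↥W) with mul_comm := fun a b => hW.1.is_comm.comm a b }
  have hexp : ∀ x : Additive ↥W, p • x = 0 := by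
    intro x
    have h1 : (Additive.toMul x) ^ p = 1 := by
      apply Subtype.ext
      rw [Subgroup.coe_pow, Subgroup.coe_one]
      exact hW.2 _ (Additive.toMul x).2
    have h2 := ofMul_pow p (Additive.toMul x)
    rw [h1] at h2
    simpa using h2.symm
  obtain ⟨inst⟩ : Nonempty (Module (ZMod p) (Additive ↥W)) := ⟨AddCommGroup.zmodModule hexp⟩
  have hsmul : ∀ (s : ZMod p) (w : ↥W), s • Additive.ofMul w = Additive.ofMul (w ^ s.val) := by
    intro s w
    rw [ofMul_pow, ← Nat.cast_smul_eq_nsmul (ZMod p), ZMod.natCast_zmod_val]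
  -- the two basis vectors
  let x₁ : Additive ↥W := Additive.ofMul ⟨e₁, he₁⟩
  let x₂ : Additive ↥W := Additive.ofMul ⟨e₂, he₂⟩
  have hord₁ : orderOf e₁ = p := orderOf_eq_prime (hW.2 e₁ he₁) hne₁
  have hord₂ : orderOf e₂ = p := orderOf_eq_prime (hW.2 e₂ he₂) hne₂
  have hzero₁ : ∀ s : ZMod p, e₁ ^ s.val = 1 → s = 0 := by
    intro s hs
    have h1 : orderOf e₁ ∣ s.val := orderOf_dvd_of_pow_eq_one hs
    rw [hord₁] at h1
    have h2 : s.val < p := ZMod.val_lt s
    have h3 : s.val = 0 := Nat.eq_zero_of_dvd_of_lt h1 h2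
    exact (ZMod.val_eq_zero s).mp h3
  have hzero₂ : ∀ s : ZMod p, e₂ ^ s.val = 1 → s = 0 := by
    intro s hs
    have h1 : orderOf e₂ ∣ s.val := orderOf_dvd_of_pow_eq_one hs
    rw [hord₂] at h1
    have h2 : s.val < p := ZMod.val_lt s
    have h3 : s.val = 0 := Nat.eq_zero_of_dvd_of_lt h1 h2
    exact (ZMod.val_eq_zero s).mp h3
  have hli : LinearIndependent (ZMod p) ![x₁, x₂] := by
    rw [LinearIndependent.pair_iff]
    intro s t hst
    have h1 : Additive.ofMul ((⟨e₁, he₁⟩ : ↥W) ^ s.val * (⟨e₂, he₂⟩ : ↥W) ^ t.val) = 0 := by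
      rw [ofMul_mul, ← hsmul, ← hsmul]
      exact hst
    have h2 : (⟨e₁, he₁⟩ : ↥W) ^ s.val * (⟨e₂, he₂⟩ : ↥W) ^ t.val = 1 := by
      have := congrArg Additive.toMul h1
      simpa using this
    have h3 : e₁ ^ s.val * e₂ ^ t.val = 1 := by
      have := congrArg Subtype.val h2
      simpa using this
    have h4 : e₁ ^ s.val ∈ zpowers e₁ ⊓ zpowers e₂ := by
      refine Subgroup.mem_inf.mpr ⟨Subgroup.pow_mem _ (mem_zpowers e₁) _, ?_⟩
      have : e₁ ^ s.val = (e₂ ^ t.val)⁻¹ := eq_inv_of_mul_eq_one_left h3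
      rw [this]
      exact Subgroup.inv_mem _ (Subgroup.pow_mem _ (mem_zpowers e₂) _)
    rw [hdisj, Subgroup.mem_bot] at h4
    refine ⟨hzero₁ s h4, ?_⟩
    rw [h4, one_mul] at h3
    exact hzero₂ t h3
  haveI : Module.Finite (ZMod p) (Additive ↥W) := Module.Finite.of_finite
  have hfr : Module.finrank (ZMod p) (Additive ↥W) = 2 := by
    have h1 := Module.natCard_eq_pow_finrank (K := ZMod p) (V := Additive ↥W)
    rw [Nat.card_zmod] at h1
    have h2 : Nat.card (Additive ↥W) = Nat.card ↥W := Nat.card_congr Additive.toMul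
    rw [h2, hcard] at h1
    exact (Nat.pow_right_injective hp.out.two_le h1).symm
  obtain ⟨𝔟, h𝔟⟩ : ∃ 𝔟 : Module.Basis (Fin 2) (ZMod p) (Additive ↥W), ∀ i, 𝔟 i = ![x₁, x₂] i :=
    ⟨basisOfLinearIndependentOfCardEqFinrank hli (by simp [hfr]), fun i =>
      congrFun (coe_basisOfLinearIndependentOfCardEqFinrank hli _) i⟩
  -- representation
  obtain ⟨ρ, hρ⟩ : ∃ ρ : ↥(normalizer (W : Set G)) →* Module.End (ZMod p) (Additive ↥W),
      ∀ (g : ↥(normalizer (W : Set G))) (w : ↥W),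
        ρ g (Additive.ofMul w) = Additive.ofMul (conjAut W g w) := ⟨
    { toFun := fun g => (MulEquiv.toAdditive (conjAut W g)).toAddMonoidHom.toZModLinearMap p
      map_one' := by
        apply LinearMap.ext
        intro x
        rw [Module.End.one_apply]
        simp
      map_mul' := fun g h => by
        apply LinearMap.ext
        intro x
        rw [Module.End.mul_apply]
        simp [map_mul] }, fun g w => rfl⟩
  let μ : ↥(normalizer (W : Set G)) →* Matrix (Fin 2) (Fin 2) (ZMod p) :=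
    ((LinearMap.toMatrixAlgEquiv 𝔟 : Module.End (ZMod p) (Additive ↥W) ≃ₐ[ZMod p] _) :
      Module.End (ZMod p) (Additive ↥W) →* Matrix (Fin 2) (Fin 2) (ZMod p)).comp ρ
  refine ⟨fun w => ⇑(𝔟.repr (Additive.ofMul w)), μ, ?_, ?_, ?_, ?_, ?_⟩
  · constructor
    · intro w₁ w₂ h
      have h1 : 𝔟.repr (Additive.ofMul w₁) = 𝔟.repr (Additive.ofMul w₂) := DFunLike.coe_injective h
      have h2 := 𝔟.repr.injective h1
      exact Additive.ofMul.injective h2
    · intro f
      refine ⟨Additive.toMul (𝔟.repr.symm (Finsupp.equivFunOnFinite.symm f)), ?_⟩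
      simp
  · intro w₁ w₂
    show ⇑(𝔟.repr (Additive.ofMul (w₁ * w₂))) =
      ⇑(𝔟.repr (Additive.ofMul w₁)) + ⇑(𝔟.repr (Additive.ofMul w₂))
    rw [ofMul_mul, map_add]
    rfl
  · have : Additive.ofMul (⟨e₁, he₁⟩ : ↥W) = 𝔟 0 := by rw [h𝔟 0]; rfl
    show ⇑(𝔟.repr (Additive.ofMul (⟨e₁, he₁⟩ : ↥W))) = ![1, 0]
    rw [this, Module.Basis.repr_self]
    funext i
    fin_cases i <;> simp
  · have : Additive.ofMul (⟨e₂, he₂⟩ : ↥W) = 𝔟 1 := by rw [h𝔟 1]; rfl
    show ⇑(𝔟.repr (Additive.ofMul (⟨e₂, he₂⟩ : ↥W))) = ![0, 1]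
    rw [this, Module.Basis.repr_self]
    funext i
    fin_cases i <;> simp
  · intro g w
    show ⇑(𝔟.repr (Additive.ofMul (conjAut W g w))) = μ g *ᵥ ⇑(𝔟.repr (Additive.ofMul w))
    rw [← hρ]
    exact (LinearMap.toMatrix_mulVec_repr 𝔟 𝔟 (ρ g) (Additive.ofMul w)).symm

end Cfsg.Agent.Lib.Helper14.LinRep
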