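import Mathlib
import Cfsg.Prelude.Def_PLocal
import Cfsg.Agent.S0598
import Cfsg.Agent.S3734
import Cfsg.Agent.Lib.Helper16.ThompsonAxB
import Cfsg.Agent.Lib.Helper17.Thompson
import Cfsg.Agent.Lib.Helper2.Cores

/-!
# Best offenders in groups with self-centralizing `p'`-core (helper14)

`H ≤ N_G(V)` acting faithfully on the `p`-group `V`, `K = O_{p'}(H)` with `C_H(K) ≤ K`.
Main results: there are no over-offenders (`no_over_offender`), and the "good hyperplane" lemma
(`inf_good_eq_bot`).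
-/

set_option autoImplicit false

namespace Cfsg.Agent.Lib.Helper14.Off

open Cfsg Subgroup
open Cfsg.Agent.S0598 (cv mm)
open scoped commutatorElement

variable {G : Type*} [Group G]

/-- `O_{p'}(H)` viewed inside `G`. -/
noncomputable def kk (p : ℕ) (H : Subgroup G) : Subgroup G :=
  (Cfsg.pPrimeCore p ↥H).map H.subtype

theorem kk_le (p : ℕ) (H : Subgroup G) : kk p H ≤ H := Subgroup.map_subtype_le _

theorem kk_normal (p : ℕ) (H : Subgroup G) : H ≤ normalizer (kk p H : Set G) := by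
  haveI := Cfsg.Agent.Lib.Helper2.pPrimeCore_normal (G := ↥H) p
  have h := Subgroup.le_normalizer_map (H := Cfsg.pPrimeCore p ↥H) H.subtype
  rw [Subgroup.normalizer_eq_top, ← MonoidHom.range_eq_map, Subgroup.range_subtype] at h
  exact h

theorem kk_coprime [Finite G] (p : ℕ) (H : Subgroup G) : (Nat.card (kk p H)).Coprime p := by
  unfold kk
  rw [Subgroup.card_map_of_injective H.subtype_injective]
  exact Cfsg.Agent.Lib.Helper2.pPrimeCore_coprime p

theorem kk_self_centralizing (p : ℕ) (H : Subgroup G)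
    (hS1 : Subgroup.centralizer (Cfsg.pPrimeCore p ↥H : Set ↥H) ≤ Cfsg.pPrimeCore p ↥H) :
    H ⊓ centralizer (kk p H : Set G) ≤ kk p H := by
  intro g hg
  obtain ⟨hgH, hgC⟩ := Subgroup.mem_inf.mp hg
  have : (⟨g, hgH⟩ : ↥H) ∈ Subgroup.centralizer (Cfsg.pPrimeCore p ↥H : Set ↥H) := by
    rw [Subgroup.mem_centralizer_iff]
    intro x hx
    apply Subtype.ext
    have hxK : (x : G) ∈ kk p H := Subgroup.mem_map.mpr ⟨x, hx, rfl⟩
    exact Subgroup.mem_centralizer_iff.mp hgC _ hxK
  exact Subgroup.mem_map.mpr ⟨⟨g, hgH⟩, hS1 this, rfl⟩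

/-- A `p`-subgroup of `H` centralizing `O_{p'}(H)` is trivial. -/
theorem eq_bot_of_le_centralizer_kk [Finite G] {p : ℕ} [Fact p.Prime] (H A : Subgroup G)
    (hS1' : H ⊓ centralizer (kk p H : Set G) ≤ kk p H) (hAH : A ≤ H) (hAp : IsPGroup p A)
    (hAC : A ≤ centralizer (kk p H : Set G)) : A = ⊥ := by
  have hAK : A ≤ kk p H := (le_inf hAH hAC).trans hS1'
  obtain ⟨n, hn⟩ := hAp.exists_card_eq
  have hdvd : Nat.card A ∣ Nat.card (kk p H) := Subgroup.card_dvd_of_le hAK
  have hcop : (Nat.card A).Coprime p := Nat.Coprime.coprime_dvd_left hdvd (kk_coprime p H)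
  apply Subgroup.eq_bot_of_card_eq
  rw [hn] at hcop ⊢
  rcases Nat.eq_zero_or_pos n with h0 | hpos
  · rw [h0, pow_zero]
  · exfalso
    have hp : p.Prime := Fact.out
    have : p ∣ p ^ n := dvd_pow_self p hpos.ne'
    have h1 : p ∣ Nat.gcd (p ^ n) p := Nat.dvd_gcd this dvd_rfl
    rw [hcop] at h1
    exact hp.one_lt.ne' (Nat.dvd_one.mp h1)

/-- Core step: if `C_V(B) = C_V(A)` then `A` centralizes `C_K(B)`. -/
theorem core_step [Finite G] {p : ℕ} [Fact p.Prime] (V H A B : Subgroup G)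
    (hVp : IsPGroup p V) (hHV : H ≤ normalizer (V : Set G))
    (hf : H ⊓ centralizer (V : Set G) = ⊥)
    (hAH : A ≤ H) (hAab : A ≤ centralizer (A : Set G)) (hAp : IsPGroup p A) (hBA : B ≤ A)
    (hcv : cv V B ≤ centralizer (A : Set G)) :
    A ≤ centralizer ((kk p H ⊓ centralizer (B : Set G) : Subgroup G) : Set G) := by
  intro a ha
  rw [Subgroup.mem_centralizer_iff]
  intro y hy
  obtain ⟨hyK, hyB⟩ := Subgroup.mem_inf.mp hy
  have hyH : y ∈ H := kk_le p H hyK
  have haH : a ∈ H := hAH ha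
  have haB : a ∈ centralizer (B : Set G) := Subgroup.centralizer_le hBA (hAab ha)
  -- c = [y, a]
  have hcK : ⁅y, a⁆ ∈ kk p H := by
    rw [commutatorElement_def]
    have h1 : a * y⁻¹ * a⁻¹ ∈ kk p H :=
      (Subgroup.mem_normalizer_iff.mp (kk_normal p H haH) y⁻¹).mp ((kk p H).inv_mem hyK)
    have : y * a * y⁻¹ * a⁻¹ = y * (a * y⁻¹ * a⁻¹) := by group
    rw [this]
    exact (kk p H).mul_mem hyK h1
  have hcH : ⁅y, a⁆ ∈ H := kk_le p H hcK
  have hcB : ⁅y, a⁆ ∈ centralizer (B : Set G) := by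
    rw [commutatorElement_def]
    exact Subgroup.mul_mem _ (Subgroup.mul_mem _ (Subgroup.mul_mem _ hyB haB)
      (Subgroup.inv_mem _ hyB)) (Subgroup.inv_mem _ haB)
  have hcop : (orderOf ⁅y, a⁆).Coprime p := by
    have h1 : orderOf ⁅y, a⁆ ∣ Nat.card (kk p H) := by
      have := Subgroup.orderOf_dvd_natCard (kk p H) hcK
      exact this
    exact Nat.Coprime.coprime_dvd_left h1 (kk_coprime p H)
  have hfix : ⁅y, a⁆ ∈ centralizer ((V ⊓ centralizer (B : Set G) : Subgroup G) : Set G) := by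
    rw [Subgroup.mem_centralizer_iff]
    intro w hw
    obtain ⟨hwV, hwB⟩ := Subgroup.mem_inf.mp hw
    have hwa : Commute a w := by
      have := Subgroup.mem_centralizer_iff.mp (hcv (Subgroup.mem_inf.mpr ⟨hwV, hwB⟩)) a ha
      exact this
    have hw' : y⁻¹ * w * y ∈ cv V B := by
      refine Subgroup.mem_inf.mpr ⟨?_, ?_⟩
      · have := (Subgroup.mem_normalizer_iff.mp (hHV (H.inv_mem hyH)) w).mp hwV
        rwa [inv_inv] at this
      · exact Subgroup.mul_mem _ (Subgroup.mul_mem _ (Subgroup.inv_mem _ hyB) hwB) hyB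
    have hw'a : Commute a (y⁻¹ * w * y) := by
      have := Subgroup.mem_centralizer_iff.mp (hcv hw') a ha
      exact this
    have hc1 : Commute (y * a * y⁻¹) w := by
      have h := (Commute.conj_iff y).mpr hw'a
      have e : y * (y⁻¹ * w * y) * y⁻¹ = w := by group
      rwa [e] at h
    have hc2 : Commute a⁻¹ w := hwa.inv_left
    have hc : Commute (y * a * y⁻¹ * a⁻¹) w := hc1.mul_left hc2
    rw [commutatorElement_def]
    exact hc.eq.symm
  have hBp : IsPGroup p B := hAp.to_le hBA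
  have hBV : B ≤ normalizer (V : Set G) := hBA.trans (hAH.trans hHV)
  have hcV := Cfsg.Agent.Lib.Helper16.thompson_AxB (H := G) B V ⁅y, a⁆ hBp hVp hcop hcB hBV
    (hHV hcH) hfix
  have hc1 : ⁅y, a⁆ ∈ H ⊓ centralizer (V : Set G) := Subgroup.mem_inf.mpr ⟨hcH, hcV⟩
  rw [hf, Subgroup.mem_bot] at hc1
  exact commutatorElement_eq_one_iff_mul_comm.mp hc1


/-- If `A₀ ≤ A` centralizes `C_K(B)` for all `B ≤ A` with `A/B` cyclic, then `A₀ = 1`. -/
theorem eq_bot_of_forall [Finite G] {p : ℕ} [Fact p.Prime] (H A A₀ : Subgroup G)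
    (hS1' : H ⊓ centralizer (kk p H : Set G) ≤ kk p H)
    (hAH : A ≤ H) (hAab : IsMulCommutative A) (hAp : IsPGroup p A) (hA₀ : A₀ ≤ A)
    (h : ∀ B : Subgroup G, B ≤ A → (∃ a ∈ A, B ⊔ zpowers a = A) →
      A₀ ≤ centralizer ((kk p H ⊓ centralizer (B : Set G) : Subgroup G) : Set G)) : A₀ = ⊥ := by
  have hAK : A ≤ normalizer (kk p H : Set G) := hAH.trans (kk_normal p H)
  have hcop : (Nat.card A).Coprime (Nat.card (kk p H)) := by
    obtain ⟨n, hn⟩ := hAp.exists_card_eq
    rw [hn]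
    exact Nat.Coprime.pow_left n (kk_coprime p H).symm
  have hgen := (Cfsg.Agent.S3734.result A (kk p H) hAab hAK hcop).1
  have hK : kk p H ≤ centralizer (A₀ : Set G) := by
    rw [← hgen]
    apply iSup₂_le
    intro B hB
    exact Subgroup.le_centralizer_iff.mp (h B hB.1 hB.2)
  exact eq_bot_of_le_centralizer_kk H A₀ hS1' (hA₀.trans hAH) (hAp.to_le hA₀)
    (Subgroup.le_centralizer_iff.mp hK)

/-- If `A` is commutative, `B ⊔ ⟨a⟩ = A` and `a ^ p = 1`, then `|A|` divides `|B| p`. -/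
theorem card_dvd_of_sup_zpowers [Finite G] {p : ℕ} (A B : Subgroup G) (hAab : IsMulCommutative A)
    (hBA : B ≤ A) (a : G) (ha : a ∈ A) (hap : a ^ p = 1) (hsup : B ⊔ zpowers a = A) :
    Nat.card A ∣ Nat.card B * p := by
  have hZA : zpowers a ≤ A := by rw [zpowers_le]; exact ha
  have htop : B.subgroupOf A ⊔ (zpowers a).subgroupOf A = ⊤ := by
    rw [← Subgroup.subgroupOf_sup hBA hZA, hsup, Subgroup.subgroupOf_self]
  haveI : ((zpowers a).subgroupOf A).Normal := by
    refine ⟨fun n hn g => ?_⟩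
    have : g * n * g⁻¹ = n := by
      have hc : g * n = n * g := hAab.is_comm.comm g n
      rw [hc, mul_inv_cancel_right]
    rwa [this]
  have h1 := Cfsg.Agent.Lib.Helper2.card_sup_dvd_of_normal (B.subgroupOf A) ((zpowers a).subgroupOf A)
  rw [htop, Subgroup.card_top] at h1
  have h2 : Nat.card (B.subgroupOf A) = Nat.card B :=
    Nat.card_congr (Subgroup.subgroupOfEquivOfLe hBA).toEquiv
  have h3 : Nat.card ((zpowers a).subgroupOf A) = Nat.card (zpowers a) :=
    Nat.card_congr (Subgroup.subgroupOfEquivOfLe hZA).toEquiv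
  rw [h2, h3, Nat.card_zpowers] at h1
  exact h1.trans (Nat.mul_dvd_mul_left _ (orderOf_dvd_of_pow_eq_one hap))

theorem cv_bot (V : Subgroup G) : cv V ⊥ = V := by
  apply le_antisymm inf_le_left
  intro v hv
  refine Subgroup.mem_inf.mpr ⟨hv, ?_⟩
  rw [Subgroup.mem_centralizer_iff]
  intro h hh
  have : h = 1 := Subgroup.mem_bot.mp hh
  rw [this, one_mul, mul_one]

theorem mm_bot (V : Subgroup G) : mm V ⊥ = Nat.card V := by
  unfold mm
  rw [cv_bot, Subgroup.card_bot, one_mul]

/-- Arithmetic heart: if `B < A` with `|A| ∣ |B| p`, `|B| |C_V(B)| ≤ m`, `m < |A| |C_V(A)|` (or the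
analogous strict/weak pair) then `C_V(B) = C_V(A)`. Stated with the conclusion `cB < p * cA`. -/
theorem cv_eq_of_lt [Finite G] {p : ℕ} [Fact p.Prime] (V A B : Subgroup G) (hVp : IsPGroup p V)
    (hBA : B ≤ A) (hlt : Nat.card (cv V B) < p * Nat.card (cv V A)) : cv V B = cv V A := by
  have hp : p.Prime := Fact.out
  have hle : cv V A ≤ cv V B := Cfsg.Agent.S0598.cv_anti V hBA
  have hpA : IsPGroup p (cv V A) := hVp.to_le inf_le_left
  have hpB : IsPGroup p (cv V B) := hVp.to_le inf_le_left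
  obtain ⟨α, hα⟩ := hpA.exists_card_eq
  obtain ⟨β, hβ⟩ := hpB.exists_card_eq
  symm
  apply Subgroup.eq_of_le_of_card_ge hle
  rw [hα, hβ] at hlt
  rw [hα, hβ]
  rw [← pow_succ'] at hlt
  have h1 : β < α + 1 := (Nat.pow_lt_pow_iff_right hp.one_lt).mp hlt
  exact Nat.pow_le_pow_right hp.pos (Nat.lt_succ_iff.mp h1)

/-- For `B < A` in the cyclic-quotient family, `|A| = |B| p`. -/
theorem card_eq_of_family [Finite G] {p : ℕ} [Fact p.Prime] (A B : Subgroup G)
    (hAab : IsMulCommutative A) (hAe : ∀ a ∈ A, a ^ p = 1)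
    (hBA : B ≤ A) (hne : B ≠ A) (hfam : ∃ a ∈ A, B ⊔ zpowers a = A) :
    Nat.card A = Nat.card B * p := by
  have hp : p.Prime := Fact.out
  obtain ⟨a, ha, hsup⟩ := hfam
  have h1 := card_dvd_of_sup_zpowers A B hAab hBA a ha (hAe a ha) hsup
  obtain ⟨k, hk⟩ := Subgroup.card_dvd_of_le hBA
  have hBpos : 0 < Nat.card B := Nat.card_pos
  rw [hk] at h1 ⊢
  have hkp : k ∣ p := Nat.dvd_of_mul_dvd_mul_left hBpos h1
  rcases (Nat.dvd_prime hp).mp hkp with h | h
  · exfalso
    apply hne
    apply Subgroup.eq_of_le_of_card_ge hBA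
    rw [hk, h, mul_one]
  · rw [h]

/-- **No over-offenders.** -/
theorem no_over_offender [Finite G] {p : ℕ} [Fact p.Prime] (V H : Subgroup G)
    (hVp : IsPGroup p V) (hHV : H ≤ normalizer (V : Set G))
    (hf : H ⊓ centralizer (V : Set G) = ⊥)
    (hS1' : H ⊓ centralizer (kk p H : Set G) ≤ kk p H) :
    ∀ n : ℕ, ∀ A : Subgroup G, Nat.card A = n → A ≤ H → IsMulCommutative A →
      (∀ a ∈ A, a ^ p = 1) → mm V A ≤ Nat.card V := by
  intro n
  induction n using Nat.strong_induction_on with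
  | _ n ih =>
    intro A hn hAH hAab hAe
    by_contra hlt
    rw [not_le] at hlt
    have hAp : IsPGroup p A := Cfsg.Agent.Lib.Helper17.ea_isPGroup ⟨hAab, hAe⟩
    have hAc : A ≤ centralizer (A : Set G) := le_centralizer_iff_isMulCommutative.mpr hAab
    have hbot : A = ⊥ := by
      apply eq_bot_of_forall H A A hS1' hAH hAab hAp le_rfl
      intro B hBA hfam
      by_cases hne : B = A
      · rw [hne]
        exact Subgroup.le_centralizer_iff.mp inf_le_right
      · apply core_step V H A B hVp hHV hf hAH hAc hAp hBA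
        have hcard := card_eq_of_family A B hAab hAe hBA hne hfam
        have hBlt : Nat.card B < n := by
          rw [← hn, hcard]
          have hp : p.Prime := Fact.out
          have hBpos : 0 < Nat.card B := Nat.card_pos
          calc Nat.card B = Nat.card B * 1 := (mul_one _).symm
            _ < Nat.card B * p := Nat.mul_lt_mul_of_pos_left hp.one_lt hBpos
        have hB := ih (Nat.card B) hBlt B rfl (hBA.trans hAH)
          (Cfsg.Agent.Lib.Helper17.ea_mono (p := p) ⟨hAab, hAe⟩ hBA).1 (fun b hb => hAe b (hBA hb))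
        have hcv : cv V B = cv V A := by
          apply cv_eq_of_lt V A B hVp hBA
          unfold mm at hB hlt
          rw [hcard] at hlt
          have hBpos : 0 < Nat.card B := Nat.card_pos
          have : Nat.card B * Nat.card (cv V B) < Nat.card B * (p * Nat.card (cv V A)) := by
            calc Nat.card B * Nat.card (cv V B) ≤ Nat.card V := hB
              _ < Nat.card B * p * Nat.card (cv V A) := hlt
              _ = Nat.card B * (p * Nat.card (cv V A)) := by ring
          exact Nat.lt_of_mul_lt_mul_left this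
        rw [hcv]
        exact inf_le_right
    rw [hbot, mm_bot] at hlt
    exact lt_irrefl _ hlt


/-- In a faithful `H`, a best offender is elementary abelian. -/
theorem ea_of_bestOffender {p : ℕ} (V H A : Subgroup G)
    (hf : H ⊓ centralizer (V : Set G) = ⊥) (hAH : A ≤ H) (hA : Cfsg.IsBestOffenderOn p V A) :
    IsMulCommutative A ∧ ∀ a ∈ A, a ^ p = 1 := by
  obtain ⟨_, h2, h3⟩ := hA
  constructor
  · rw [← le_centralizer_iff_isMulCommutative, ← Subgroup.commutator_eq_bot_iff_le_centralizer,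
      eq_bot_iff, ← hf]
    refine le_inf ?_ h2
    exact (Subgroup.commutator_le.mpr (fun x hx y hy =>
      A.mul_mem (A.mul_mem (A.mul_mem hx hy) (A.inv_mem hx)) (A.inv_mem hy))).trans hAH
  · intro a ha
    have : a ^ p ∈ H ⊓ centralizer (V : Set G) :=
      Subgroup.mem_inf.mpr ⟨hAH (A.pow_mem ha p), h3 a ha⟩
    rwa [hf, Subgroup.mem_bot] at this

/-- In a faithful `H`, nontrivial subgroups act nontrivially. -/
theorem commutator_ne_bot (V H B : Subgroup G) (hf : H ⊓ centralizer (V : Set G) = ⊥)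
    (hBH : B ≤ H) (hB : B ≠ ⊥) : ⁅V, B⁆ ≠ ⊥ := by
  intro h
  apply hB
  rw [Subgroup.commutator_eq_bot_iff_le_centralizer] at h
  rw [eq_bot_iff, ← hf]
  exact le_inf hBH (Subgroup.le_centralizer_iff.mp h)

section setting

variable [Finite G] {p : ℕ} [Fact p.Prime] (V H : Subgroup G)
  (hVp : IsPGroup p V) (hHV : H ≤ normalizer (V : Set G))
  (hf : H ⊓ centralizer (V : Set G) = ⊥)
  (hS1' : H ⊓ centralizer (kk p H : Set G) ≤ kk p H)

include hVp hHV hf hS1'

theorem mm_le (A : Subgroup G) (hAH : A ≤ H) (hAab : IsMulCommutative A)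
    (hAe : ∀ a ∈ A, a ^ p = 1) : mm V A ≤ Nat.card V :=
  no_over_offender V H hVp hHV hf hS1' _ A rfl hAH hAab hAe

/-- A best offender has `|A| |C_V(A)| = |V|`. -/
theorem mm_eq_of_bestOffender (A : Subgroup G) (hAH : A ≤ H)
    (hA : Cfsg.IsBestOffenderOn p V A) : mm V A = Nat.card V := by
  obtain ⟨hab, he⟩ := ea_of_bestOffender V H A hf hAH hA
  apply le_antisymm (mm_le V H hVp hHV hf hS1' A hAH hab he)
  have := hA.1 ⊥ bot_le
  have h2 := mm_bot V
  unfold mm at h2 ⊢
  rw [h2] at this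
  exact this

/-- An elementary abelian subgroup of `H` with `|B| |C_V(B)| = |V|` is a best offender. -/
theorem bestOffender_of_mm_eq (B : Subgroup G) (hBH : B ≤ H) (hBab : IsMulCommutative B)
    (hBe : ∀ a ∈ B, a ^ p = 1) (hB : mm V B = Nat.card V) : Cfsg.IsBestOffenderOn p V B := by
  refine ⟨?_, ?_, ?_⟩
  · intro C hCB
    have h1 := mm_le V H hVp hHV hf hS1' C (hCB.trans hBH)
      (Cfsg.Agent.Lib.Helper17.ea_mono (p := p) ⟨hBab, hBe⟩ hCB).1 (fun c hc => hBe c (hCB hc))
    unfold mm at h1 hB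
    rw [hB]
    exact h1
  · have : ⁅B, B⁆ = ⊥ := by
      rw [Subgroup.commutator_eq_bot_iff_le_centralizer]
      exact le_centralizer_iff_isMulCommutative.mpr hBab
    rw [this]
    exact bot_le
  · intro a ha
    rw [hBe a ha]
    exact Subgroup.one_mem _

/-- **Good hyperplane lemma.** If `A₀ ≤ A` lies in every proper member `B` of the cyclic-quotient
family with `|B| |C_V(B)| = |V|`, then `A₀ = 1` (for `A` with `|A| |C_V(A)| = |V|`). -/
theorem inf_good_eq_bot (A A₀ : Subgroup G) (hAH : A ≤ H) (hAab : IsMulCommutative A)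
    (hAe : ∀ a ∈ A, a ^ p = 1) (hA : mm V A = Nat.card V) (hA₀ : A₀ ≤ A)
    (h : ∀ B : Subgroup G, B ≤ A → (∃ a ∈ A, B ⊔ zpowers a = A) → B ≠ A →
      mm V B = Nat.card V → A₀ ≤ B) : A₀ = ⊥ := by
  have hAp : IsPGroup p A := Cfsg.Agent.Lib.Helper17.ea_isPGroup ⟨hAab, hAe⟩
  have hAc : A ≤ centralizer (A : Set G) := le_centralizer_iff_isMulCommutative.mpr hAab
  apply eq_bot_of_forall H A A₀ hS1' hAH hAab hAp hA₀
  intro B hBA hfam
  by_cases hne : B = A
  · rw [hne]
    exact hA₀.trans (Subgroup.le_centralizer_iff.mp inf_le_right)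
  by_cases hgood : mm V B = Nat.card V
  · have h1 : A₀ ≤ B := h B hBA hfam hne hgood
    refine h1.trans ?_
    exact Subgroup.le_centralizer_iff.mp inf_le_right
  · refine hA₀.trans ?_
    apply core_step V H A B hVp hHV hf hAH hAc hAp hBA
    have hcard := card_eq_of_family A B hAab hAe hBA hne hfam
    have hB := mm_le V H hVp hHV hf hS1' B (hBA.trans hAH)
      (Cfsg.Agent.Lib.Helper17.ea_mono (p := p) ⟨hAab, hAe⟩ hBA).1 (fun b hb => hAe b (hBA hb))
    have hBlt : mm V B < Nat.card V := lt_of_le_of_ne hB hgood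
    have hcv : cv V B = cv V A := by
      apply cv_eq_of_lt V A B hVp hBA
      unfold mm at hBlt hA
      rw [← hA, hcard] at hBlt
      have : Nat.card B * Nat.card (cv V B) < Nat.card B * (p * Nat.card (cv V A)) := by
        calc Nat.card B * Nat.card (cv V B) < Nat.card B * p * Nat.card (cv V A) := hBlt
          _ = Nat.card B * (p * Nat.card (cv V A)) := by ring
      exact Nat.lt_of_mul_lt_mul_left this
    rw [hcv]
    exact inf_le_right

/-- A minimal nontrivially-acting best offender has order `p`. -/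
theorem card_eq_p_of_minimal (A : Subgroup G) (hAH : A ≤ H)
    (hA : Cfsg.IsBestOffenderOn p V A) (hA1 : A ≠ ⊥)
    (hmin : ∀ B : Subgroup G, B ≤ A → Cfsg.IsBestOffenderOn p V B → ⁅V, B⁆ ≠ ⊥ → B = A) :
    Nat.card A = p := by
  have hp : p.Prime := Fact.out
  obtain ⟨hab, he⟩ := ea_of_bestOffender V H A hf hAH hA
  have hmm := mm_eq_of_bestOffender V H hVp hHV hf hS1' A hAH hA
  by_contra hne
  apply hA1
  apply inf_good_eq_bot V H hVp hHV hf hS1' A A hAH hab he hmm le_rfl
  intro B hBA hfam hBne hBmm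
  exfalso
  apply hBne
  have hBab := (Cfsg.Agent.Lib.Helper17.ea_mono (p := p) ⟨hab, he⟩ hBA)
  apply hmin B hBA (bestOffender_of_mm_eq V H hVp hHV hf hS1' B (hBA.trans hAH) hBab.1 hBab.2 hBmm)
  apply commutator_ne_bot V H B hf (hBA.trans hAH)
  intro hB0
  apply hne
  obtain ⟨a, ha, hsup⟩ := hfam
  rw [hB0, bot_sup_eq] at hsup
  rw [← hsup, Nat.card_zpowers]
  have hdvd : orderOf a ∣ p := orderOf_dvd_of_pow_eq_one (he a ha)
  rcases (Nat.dvd_prime hp).mp hdvd with h1 | h1
  · exfalso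
    apply hA1
    rw [← hsup]
    rw [orderOf_eq_one_iff] at h1
    rw [h1, Subgroup.zpowers_one_eq_bot]
  · exact h1

end setting

end Cfsg.Agent.Lib.Helper14.Off
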