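import Mathlib
import Cfsg.Agent.Lib.Helper14.Offender1

/-!
# Commutator with a single element acting on an abelian subgroup (helper14)
-/

set_option autoImplicit false

namespace Cfsg.Agent.Lib.Helper14.Off

open Cfsg Subgroup
open scoped commutatorElement

variable {G : Type*} [Group G]

theorem mem_centralizer_zpowers_iff (a v : G) :
    v ∈ centralizer (zpowers a : Set G) ↔ a * v = v * a := by
  rw [Subgroup.mem_centralizer_iff]
  constructor
  · intro h
    exact h a (mem_zpowers a)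
  · intro h z hz
    obtain ⟨k, rfl⟩ := Subgroup.mem_zpowers_iff.mp hz
    have hc : Commute a v := h
    exact (hc.zpow_left k).eq

/-- The commutator map `v ↦ [v, a]` on an abelian subgroup `V` normalized by `a`. -/
noncomputable def commHom (V : Subgroup G) (hVab : V ≤ centralizer (V : Set G)) (a : G)
    (ha : a ∈ normalizer (V : Set G)) : ↥V →* ↥V where
  toFun v := ⟨⁅(v : G), a⁆, by
    rw [commutatorElement_def]
    have h1 : a * (v : G)⁻¹ * a⁻¹ ∈ V := (Subgroup.mem_normalizer_iff.mp ha _).mp (V.inv_mem v.2)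
    have : (v : G) * a * (v : G)⁻¹ * a⁻¹ = (v : G) * (a * (v : G)⁻¹ * a⁻¹) := by group
    rw [this]
    exact V.mul_mem v.2 h1⟩
  map_one' := by
    apply Subtype.ext
    simp
  map_mul' v w := by
    apply Subtype.ext
    simp only [Subgroup.coe_mul, commutatorElement_def]
    have h1 : a * (v : G)⁻¹ * a⁻¹ ∈ V := (Subgroup.mem_normalizer_iff.mp ha _).mp (V.inv_mem v.2)
    have h2 : a * (w : G)⁻¹ * a⁻¹ ∈ V := (Subgroup.mem_normalizer_iff.mp ha _).mp (V.inv_mem w.2)
    have hc : Commute (w : G) (a * (v : G)⁻¹ * a⁻¹) :=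
      (Subgroup.mem_centralizer_iff.mp (hVab h1) _ w.2)
    have hc2 : Commute (a * (w : G)⁻¹ * a⁻¹) (a * (v : G)⁻¹ * a⁻¹) :=
      (Subgroup.mem_centralizer_iff.mp (hVab h1) _ h2)
    calc (v : G) * w * a * ((v : G) * w)⁻¹ * a⁻¹
        = (v : G) * (w * ((a * (w : G)⁻¹ * a⁻¹) * (a * (v : G)⁻¹ * a⁻¹))) := by group
      _ = (v : G) * (w * ((a * (v : G)⁻¹ * a⁻¹) * (a * (w : G)⁻¹ * a⁻¹))) := by rw [hc2.eq]
      _ = (v : G) * ((w * (a * (v : G)⁻¹ * a⁻¹)) * (a * (w : G)⁻¹ * a⁻¹)) := by group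
      _ = (v : G) * (((a * (v : G)⁻¹ * a⁻¹) * w) * (a * (w : G)⁻¹ * a⁻¹)) := by rw [hc.eq]
      _ = (v : G) * a * (v : G)⁻¹ * a⁻¹ * ((w : G) * a * (w : G)⁻¹ * a⁻¹) := by group

theorem commHom_apply (V : Subgroup G) (hVab : V ≤ centralizer (V : Set G)) (a : G)
    (ha : a ∈ normalizer (V : Set G)) (v : ↥V) :
    ((commHom V hVab a ha v : ↥V) : G) = ⁅(v : G), a⁆ := rfl

theorem commHom_ker (V : Subgroup G) (hVab : V ≤ centralizer (V : Set G)) (a : G)
    (ha : a ∈ normalizer (V : Set G)) :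
    (commHom V hVab a ha).ker.map V.subtype = V ⊓ centralizer (zpowers a : Set G) := by
  ext x
  constructor
  · rintro ⟨v, hv, rfl⟩
    refine Subgroup.mem_inf.mpr ⟨v.2, ?_⟩
    rw [mem_centralizer_zpowers_iff]
    have : ((commHom V hVab a ha v : ↥V) : G) = 1 := by
      rw [MonoidHom.mem_ker.mp hv]; rfl
    rw [commHom_apply, commutatorElement_eq_one_iff_mul_comm] at this
    exact this.symm
  · intro hx
    obtain ⟨hxV, hxC⟩ := Subgroup.mem_inf.mp hx
    refine ⟨⟨x, hxV⟩, ?_, rfl⟩
    rw [SetLike.mem_coe, MonoidHom.mem_ker]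
    apply Subtype.ext
    rw [commHom_apply]
    simp only [Subgroup.coe_one]
    rw [commutatorElement_eq_one_iff_mul_comm]
    exact ((mem_centralizer_zpowers_iff a x).mp hxC).symm

theorem commHom_range [Finite G] (V : Subgroup G) (hVab : V ≤ centralizer (V : Set G)) (a : G)
    (ha : a ∈ normalizer (V : Set G)) :
    (commHom V hVab a ha).range.map V.subtype = ⁅V, zpowers a⁆ := by
  apply le_antisymm
  · rintro _ ⟨_, ⟨v, rfl⟩, rfl⟩
    simp only [Subgroup.coe_subtype, commHom_apply]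
    exact Subgroup.commutator_mem_commutator v.2 (mem_zpowers a)
  · have hconj : ∀ (k : ℕ) (w : G), w ∈ V → a ^ k * w * (a ^ k)⁻¹ ∈ V := by
      intro k w hw
      exact (Subgroup.mem_normalizer_iff.mp (Subgroup.pow_mem _ ha k) w).mp hw
    have key : ∀ k : ℕ, ∀ v ∈ V, ⁅v, a ^ k⁆ ∈ (commHom V hVab a ha).range.map V.subtype := by
      intro k
      induction k with
      | zero =>
        intro v _
        have : ⁅v, a ^ 0⁆ = 1 := by simp [commutatorElement_def]
        rw [this]
        exact Subgroup.one_mem _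
      | succ k ih =>
        intro v hv
        have e : ⁅v, a ^ (k + 1)⁆ = ⁅v, a ^ k⁆ * ⁅a ^ k * v * (a ^ k)⁻¹, a⁆ := by
          have hc : Commute (a ^ k) a := (Commute.refl a).pow_left k
          have h1 : a ^ k * a = a * a ^ k := hc.eq
          have h2 : a⁻¹ * (a ^ k)⁻¹ = (a ^ k)⁻¹ * a⁻¹ := by
            rw [← mul_inv_rev, ← mul_inv_rev, h1]
          simp only [commutatorElement_def]
          rw [pow_succ, mul_inv_rev, h1, h2]
          group
        rw [e]
        refine Subgroup.mul_mem _ (ih v hv) ?_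
        exact ⟨commHom V hVab a ha ⟨_, hconj k v hv⟩, ⟨_, rfl⟩, rfl⟩
    rw [Subgroup.commutator_le]
    intro v hv z hz
    have hz' : z ∈ Submonoid.powers a := mem_powers_iff_mem_zpowers.mpr hz
    obtain ⟨k, hk⟩ := hz'
    rw [← hk]
    exact key k v hv

/-- `|[V, ⟨a⟩]| · |C_V(a)| = |V|` for an abelian `V` normalized by `a`. -/
theorem card_commutator_zpowers_mul [Finite G] (V : Subgroup G)
    (hVab : V ≤ centralizer (V : Set G)) (a : G) (ha : a ∈ normalizer (V : Set G)) :
    Nat.card (⁅V, zpowers a⁆ : Subgroup G) * Nat.card (V ⊓ centralizer (zpowers a : Set G) : Subgroup G)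
      = Nat.card V := by
  rw [← commHom_range V hVab a ha, ← commHom_ker V hVab a ha,
    Subgroup.card_map_of_injective V.subtype_injective,
    Subgroup.card_map_of_injective V.subtype_injective]
  have h1 := Subgroup.card_mul_index (commHom V hVab a ha).ker
  rw [Subgroup.index_ker] at h1
  rw [mul_comm]
  exact h1

end Cfsg.Agent.Lib.Helper14.Off
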