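import Mathlib
import Cfsg.Agent.Lib.Helper14.Offender2

/-!
# Decomposition of best offenders into minimal ones (helper14)
-/

set_option autoImplicit false

namespace Cfsg.Agent.Lib.Helper14.Off

open Cfsg Subgroup
open Cfsg.Agent.S0598 (cv mm)
open scoped Pointwise

variable {G : Type*} [Group G]

/-- A subgroup of a group of prime order is trivial or everything. -/
theorem eq_bot_or_eq_of_card_prime [Finite G] {p : ℕ} (hp : p.Prime) (X Y : Subgroup G)
    (hX : Nat.card X = p) (hY : Y ≤ X) : Y = ⊥ ∨ Y = X := by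
  have hdvd := Subgroup.card_dvd_of_le hY
  rw [hX] at hdvd
  rcases (Nat.dvd_prime hp).mp hdvd with h | h
  · left; exact Subgroup.eq_bot_of_card_eq Y h
  · right
    apply Subgroup.eq_of_le_of_card_ge hY
    rw [h, hX]

/-- Elementwise description of a join inside a commutative subgroup. -/
theorem mem_sup_of_comm (A X Y : Subgroup G) (hAab : A ≤ centralizer (A : Set G))
    (hX : X ≤ A) (hY : Y ≤ A) {g : G} (hg : g ∈ X ⊔ Y) : ∃ x ∈ X, ∃ y ∈ Y, g = x * y := by
  have hXN : X ≤ normalizer (Y : Set G) :=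
    (hX.trans hAab).trans ((Subgroup.centralizer_le hY).trans
      (Subgroup.centralizer_le_normalizer _))
  have h := Subgroup.coe_mul_of_left_le_normalizer_right X Y hXN
  have hg' : g ∈ ((X ⊔ Y : Subgroup G) : Set G) := hg
  rw [h] at hg'
  obtain ⟨x, hx, y, hy, rfl⟩ := Set.mem_mul.mp hg'
  exact ⟨x, hx, y, hy, rfl⟩

/-- Modular-law style disjointness. -/
theorem disjoint_sup_of (A X D Z B : Subgroup G) (hAab : A ≤ centralizer (A : Set G))
    (hX : X ≤ A) (hD : D ≤ A) (hZB : Z ≤ B) (hDB : D ≤ B) (hXB : X ⊓ B = ⊥)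
    (hZD : Disjoint Z D) : Disjoint Z (X ⊔ D) := by
  rw [disjoint_iff, eq_bot_iff]
  intro g hg
  obtain ⟨hgZ, hgXD⟩ := Subgroup.mem_inf.mp hg
  obtain ⟨x, hx, d, hd, rfl⟩ := mem_sup_of_comm A X D hAab hX hD hgXD
  have hxB : x ∈ B := by
    have : x = x * d * d⁻¹ := by group
    rw [this]
    exact B.mul_mem (hZB hgZ) (B.inv_mem (hDB hd))
  have hx1 : x = 1 := by
    have : x ∈ X ⊓ B := Subgroup.mem_inf.mpr ⟨hx, hxB⟩
    rwa [hXB, Subgroup.mem_bot] at this
  rw [hx1, one_mul] at hgZ ⊢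
  have : d ∈ Z ⊓ D := Subgroup.mem_inf.mpr ⟨hgZ, hd⟩
  rwa [disjoint_iff.mp hZD] at this

theorem iSup_cons {n : ℕ} (X : Subgroup G) (f : Fin n → Subgroup G) :
    (⨆ i, (Fin.cons X f : Fin (n + 1) → Subgroup G) i) = X ⊔ ⨆ i, f i := by
  apply le_antisymm
  · rw [iSup_le_iff, Fin.forall_fin_succ]
    refine ⟨?_, fun i => ?_⟩
    · rw [Fin.cons_zero]; exact le_sup_left
    · rw [Fin.cons_succ]; exact (le_iSup f i).trans le_sup_right
  · apply sup_le
    · have := le_iSup (Fin.cons X f : Fin (n + 1) → Subgroup G) 0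
      rwa [Fin.cons_zero] at this
    · rw [iSup_le_iff]
      intro i
      have := le_iSup (Fin.cons X f : Fin (n + 1) → Subgroup G) i.succ
      rwa [Fin.cons_succ] at this

/-- Independence of `Fin.cons X f` inside a commutative subgroup. -/
theorem iSupIndep_cons {n : ℕ} (A X B : Subgroup G) (f : Fin n → Subgroup G)
    (hAab : A ≤ centralizer (A : Set G)) (hX : X ≤ A) (hBA : B ≤ A)
    (hf : ∀ i, f i ≤ B) (hXB : X ⊓ B = ⊥) (hind : iSupIndep f) :
    iSupIndep (Fin.cons X f : Fin (n + 1) → Subgroup G) := by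
  intro i
  refine Fin.cases ?_ (fun i' => ?_) i
  · rw [Fin.cons_zero]
    have hle : (⨆ j, ⨆ (_ : j ≠ (0 : Fin (n + 1))), (Fin.cons X f : Fin (n + 1) → Subgroup G) j) ≤ B := by
      apply iSup₂_le
      intro j hj
      obtain ⟨j', rfl⟩ := Fin.exists_succ_eq_of_ne_zero hj
      rw [Fin.cons_succ]
      exact hf j'
    exact (disjoint_iff.mpr hXB).mono_right hle
  · rw [Fin.cons_succ]
    have hle : (⨆ j, ⨆ (_ : j ≠ i'.succ), (Fin.cons X f : Fin (n + 1) → Subgroup G) j) ≤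
        X ⊔ ⨆ j, ⨆ (_ : j ≠ i'), f j := by
      apply iSup₂_le
      intro j hj
      revert hj
      refine Fin.cases ?_ (fun j' => ?_) j
      · intro _
        rw [Fin.cons_zero]; exact le_sup_left
      · intro hj
        rw [Fin.cons_succ]
        have hj' : j' ≠ i' := fun h => hj (by rw [h])
        exact (le_iSup₂ (f := fun j (_ : j ≠ i') => f j) j' hj').trans le_sup_right
    refine Disjoint.mono_right hle ?_
    apply disjoint_sup_of A X _ (f i') B hAab hX _ (hf i') _ hXB (hind i')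
    · exact (iSup₂_le fun j _ => hf j).trans hBA
    · exact iSup₂_le fun j _ => hf j

section setting

variable [Finite G] {p : ℕ} [Fact p.Prime] (V H : Subgroup G)
  (hVp : IsPGroup p V) (hHV : H ≤ normalizer (V : Set G))
  (hf : H ⊓ centralizer (V : Set G) = ⊥)
  (hS1' : H ⊓ centralizer (kk p H : Set G) ≤ kk p H)

include hVp hHV hf hS1'

/-- Below any nontrivial exact offender there is a minimal nontrivially-acting best offender. -/
theorem exists_atom (A : Subgroup G) (hAH : A ≤ H) (hAab : IsMulCommutative A)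
    (hAe : ∀ a ∈ A, a ^ p = 1) (hA : mm V A = Nat.card V) (hA1 : A ≠ ⊥) :
    ∃ A₁ : Subgroup G, A₁ ≤ A ∧ Cfsg.IsBestOffenderOn p V A₁ ∧ ⁅V, A₁⁆ ≠ ⊥ ∧
      (∀ C : Subgroup G, C ≤ A₁ → Cfsg.IsBestOffenderOn p V C → ⁅V, C⁆ ≠ ⊥ → C = A₁) := by
  classical
  -- choose C ≤ A nontrivial exact of minimal cardinality
  let S : Set ℕ := {n | ∃ C : Subgroup G, C ≤ A ∧ C ≠ ⊥ ∧ mm V C = Nat.card V ∧ Nat.card C = n}
  have hS : S.Nonempty := ⟨Nat.card A, A, le_rfl, hA1, hA, rfl⟩
  obtain ⟨A₁, hA₁A, hA₁1, hA₁mm, hA₁c⟩ := Nat.sInf_mem hS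
  have hea := Cfsg.Agent.Lib.Helper17.ea_mono (p := p) ⟨hAab, hAe⟩ hA₁A
  refine ⟨A₁, hA₁A, bestOffender_of_mm_eq V H hVp hHV hf hS1' A₁ (hA₁A.trans hAH) hea.1 hea.2 hA₁mm,
    commutator_ne_bot V H A₁ hf (hA₁A.trans hAH) hA₁1, ?_⟩
  intro C hCA₁ hCbo hCV
  have hC1 : C ≠ ⊥ := by
    intro h
    apply hCV
    rw [h, Subgroup.commutator_bot_right]
  have hCmm := mm_eq_of_bestOffender V H hVp hHV hf hS1' C (hCA₁.trans (hA₁A.trans hAH)) hCbo
  have hmem : Nat.card C ∈ S := ⟨C, hCA₁.trans hA₁A, hC1, hCmm, rfl⟩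
  have hle : Nat.card A₁ ≤ Nat.card C := by
    rw [hA₁c]
    exact Nat.sInf_le hmem
  exact Subgroup.eq_of_le_of_card_ge hCA₁ hle

/-- **Decomposition**: every exact elementary abelian offender is an internal direct product of
minimal nontrivially-acting best offenders. -/
theorem exists_decomp :
    ∀ n : ℕ, ∀ A : Subgroup G, Nat.card A = n → A ≤ H → IsMulCommutative A →
      (∀ a ∈ A, a ^ p = 1) → mm V A = Nat.card V →
      ∃ (k : ℕ) (B : Fin k → Subgroup G),
        (∀ i, B i ≤ A ∧ Cfsg.IsBestOffenderOn p V (B i) ∧ ⁅V, B i⁆ ≠ ⊥ ∧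
          ∀ C : Subgroup G, C ≤ B i → Cfsg.IsBestOffenderOn p V C → ⁅V, C⁆ ≠ ⊥ → C = B i) ∧
        iSupIndep B ∧ ⨆ i, B i = A := by
  intro n
  induction n using Nat.strong_induction_on with
  | _ n ih =>
    intro A hn hAH hAab hAe hA
    have hp : p.Prime := Fact.out
    by_cases hA1 : A = ⊥
    · refine ⟨0, fun i => i.elim0, fun i => i.elim0, fun i => i.elim0, ?_⟩
      rw [hA1, eq_bot_iff, iSup_le_iff]
      intro i
      exact i.elim0
    · obtain ⟨A₁, hA₁A, hA₁bo, hA₁V, hA₁min⟩ :=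
        exists_atom V H hVp hHV hf hS1' A hAH hAab hAe hA hA1
      have hA₁1 : A₁ ≠ ⊥ := by
        intro h
        apply hA₁V
        rw [h, Subgroup.commutator_bot_right]
      have hA₁c : Nat.card A₁ = p :=
        card_eq_p_of_minimal V H hVp hHV hf hS1' A₁ (hA₁A.trans hAH) hA₁bo hA₁1 hA₁min
      -- a good hyperplane not containing A₁
      obtain ⟨B, hBA, hfam, hBne, hBmm, hA₁B⟩ : ∃ B : Subgroup G, B ≤ A ∧
          (∃ a ∈ A, B ⊔ zpowers a = A) ∧ B ≠ A ∧ mm V B = Nat.card V ∧ ¬ A₁ ≤ B := by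
        by_contra hcon
        push Not at hcon
        exact hA₁1 (inf_good_eq_bot V H hVp hHV hf hS1' A A₁ hAH hAab hAe hA hA₁A hcon)
      have hcard := card_eq_of_family A B hAab hAe hBA hBne hfam
      have hinf : A₁ ⊓ B = ⊥ := by
        rcases eq_bot_or_eq_of_card_prime hp A₁ (A₁ ⊓ B) hA₁c inf_le_left with h | h
        · exact h
        · exact absurd (h ▸ inf_le_right) hA₁B
      have hsup : A₁ ⊔ B = A := by
        apply Subgroup.eq_of_le_of_card_ge (sup_le hA₁A hBA)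
        have h1 := Cfsg.Agent.S0598.card_mul_card_le A₁ B
        rw [hinf, Subgroup.card_bot, one_mul, hA₁c] at h1
        rw [hcard, mul_comm]
        exact h1
      have hBlt : Nat.card B < n := by
        rw [← hn, hcard]
        have hBpos : 0 < Nat.card B := Nat.card_pos
        calc Nat.card B = Nat.card B * 1 := (mul_one _).symm
          _ < Nat.card B * p := Nat.mul_lt_mul_of_pos_left hp.one_lt hBpos
      have hBea := Cfsg.Agent.Lib.Helper17.ea_mono (p := p) ⟨hAab, hAe⟩ hBA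
      obtain ⟨k, B', hB', hind, hsupB⟩ :=
        ih (Nat.card B) hBlt B rfl (hBA.trans hAH) hBea.1 hBea.2 hBmm
      have hAc : A ≤ centralizer (A : Set G) := le_centralizer_iff_isMulCommutative.mpr hAab
      have hB'le : ∀ i, B' i ≤ B := fun i => (hB' i).1
      refine ⟨k + 1, Fin.cons A₁ B', ?_, ?_, ?_⟩
      · intro i
        refine Fin.cases ?_ (fun i' => ?_) i
        · rw [Fin.cons_zero]
          exact ⟨hA₁A, hA₁bo, hA₁V, hA₁min⟩
        · rw [Fin.cons_succ]
          exact ⟨(hB' i').1.trans hBA, (hB' i').2⟩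
      · exact iSupIndep_cons A A₁ B B' hAc hA₁A hBA hB'le hinf hind
      · rw [iSup_cons, hsupB, hsup]

end setting

end Cfsg.Agent.Lib.Helper14.Off
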