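import Mathlib
import Cfsg.Agent.Lib.Helper14.Offender3
import Cfsg.Agent.Lib.Helper15.PGroupBasic
import Cfsg.Agent.S2833

/-!
# `p'`-group extended by an abelian `p`-group: elementary facts (helper14)
-/

set_option autoImplicit false

namespace Cfsg.Agent.Lib.Helper14.Off

open Cfsg Subgroup
open scoped Pointwise commutatorElement

variable {G : Type*} [Group G]

/-- In `N ⊔ A` (`A` abelian normalizing `N`) all commutators lie in `N`. -/
theorem commutator_sup_le (N A : Subgroup G) (hAab : A ≤ centralizer (A : Set G))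
    (hAN : A ≤ normalizer (N : Set G)) : ⁅N ⊔ A, N ⊔ A⁆ ≤ N := by
  have hcl : Subgroup.closure ((N : Set G) ∪ (A : Set G)) = N ⊔ A := by
    rw [Subgroup.closure_union, Subgroup.closure_eq, Subgroup.closure_eq]
  have hNN : N ⊔ A ≤ normalizer (N : Set G) := sup_le Subgroup.le_normalizer hAN
  have key := Cfsg.Agent.Lib.Helper15.commutator_closure_le ((N : Set G) ∪ (A : Set G)) N ?_ ?_
  · rwa [hcl] at key
  · intro h hh e he
    rw [hcl] at hh
    exact (Subgroup.mem_normalizer_iff.mp (hNN hh) e).mp he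
  · intro x hx y hy
    rcases hx with hx | hx <;> rcases hy with hy | hy
    · rw [commutatorElement_def]
      exact N.mul_mem (N.mul_mem (N.mul_mem hx hy) (N.inv_mem hx)) (N.inv_mem hy)
    · rw [commutatorElement_def]
      have h1 : y * x⁻¹ * y⁻¹ ∈ N :=
        (Subgroup.mem_normalizer_iff.mp (hAN hy) x⁻¹).mp (N.inv_mem hx)
      have : x * y * x⁻¹ * y⁻¹ = x * (y * x⁻¹ * y⁻¹) := by group
      rw [this]
      exact N.mul_mem hx h1
    · rw [commutatorElement_def]
      have h1 : x * y * x⁻¹ ∈ N := (Subgroup.mem_normalizer_iff.mp (hAN hx) y).mp hy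
      exact N.mul_mem h1 (N.inv_mem hy)
    · have : ⁅x, y⁆ = 1 := by
        rw [commutatorElement_eq_one_iff_mul_comm]
        exact (Subgroup.mem_centralizer_iff.mp (hAab hx) y hy).symm
      rw [this]
      exact N.one_mem

/-- `|A ⊔ N| ≤ |A| |N|` when `A` normalizes `N`. -/
theorem card_sup_le [Finite G] (A N : Subgroup G) (hAN : A ≤ normalizer (N : Set G)) :
    Nat.card (A ⊔ N : Subgroup G) ≤ Nat.card A * Nat.card N := by
  have h := Subgroup.coe_mul_of_left_le_normalizer_right A N hAN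
  have h1 : Nat.card (A ⊔ N : Subgroup G) = Nat.card ((A : Set G) * (N : Set G) : Set G) := by
    rw [← h]; rfl
  rw [h1]
  exact Set.natCard_mul_le

/-- A `p`-group meets a `p'`-group trivially. -/
theorem inf_eq_bot_of_coprime [Finite G] {p : ℕ} [Fact p.Prime] (P N : Subgroup G)
    (hP : IsPGroup p P) (hN : (Nat.card N).Coprime p) : P ⊓ N = ⊥ := by
  have hp : p.Prime := Fact.out
  have h1 : IsPGroup p (P ⊓ N : Subgroup G) := hP.to_le inf_le_left
  obtain ⟨n, hn⟩ := h1.exists_card_eq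
  have hdvd : Nat.card (P ⊓ N : Subgroup G) ∣ Nat.card N := Subgroup.card_dvd_of_le inf_le_right
  apply Subgroup.eq_bot_of_card_eq
  rw [hn] at hdvd ⊢
  rcases Nat.eq_zero_or_pos n with h0 | hpos
  · rw [h0, pow_zero]
  · exfalso
    have h2 : p ∣ Nat.card N := (dvd_pow_self p hpos.ne').trans hdvd
    have h3 : p ∣ Nat.gcd (Nat.card N) p := Nat.dvd_gcd h2 dvd_rfl
    rw [hN] at h3
    exact hp.one_lt.ne' (Nat.dvd_one.mp h3)

/-- `p`-subgroups of `N ⊔ A` have order at most `|A|`. -/
theorem card_le_of_isPGroup [Finite G] {p : ℕ} [Fact p.Prime] (N A P : Subgroup G)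
    (hAN : A ≤ normalizer (N : Set G)) (hN : (Nat.card N).Coprime p)
    (hP : IsPGroup p P) (hPle : P ≤ N ⊔ A) : Nat.card P ≤ Nat.card A := by
  have h1 := Cfsg.Agent.S0598.card_mul_card_le P N
  rw [inf_eq_bot_of_coprime P N hP hN, Subgroup.card_bot, one_mul] at h1
  have h2 : Nat.card (P ⊔ N : Subgroup G) ≤ Nat.card (A ⊔ N : Subgroup G) := by
    apply Subgroup.card_le_of_le
    rw [sup_comm A N]
    exact sup_le hPle le_sup_left
  have h3 := card_sup_le A N hAN
  have hNpos : 0 < Nat.card N := Nat.card_pos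
  have : Nat.card P * Nat.card N ≤ Nat.card A * Nat.card N := h1.trans (h2.trans h3)
  exact Nat.le_of_mul_le_mul_right this hNpos

/-- Elements of `N ⊔ A` of order prime to `p` lie in `N`. -/
theorem mem_of_coprime_order [Finite G] {p : ℕ} [Fact p.Prime] (N A : Subgroup G)
    (hAN : A ≤ normalizer (N : Set G)) (hN : (Nat.card N).Coprime p) (hA : IsPGroup p A)
    (g : G) (hg : g ∈ N ⊔ A) (hcop : (orderOf g).Coprime p) : g ∈ N := by
  have hp : p.Prime := Fact.out
  -- the p-group ⟨g⟩... use: zpowers g ⊔ N is contained in N ⊔ A; consider P a Sylow-free argument: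
  -- write g = a * n
  have h := Subgroup.coe_mul_of_left_le_normalizer_right A N hAN
  have hg' : g ∈ ((A ⊔ N : Subgroup G) : Set G) := by rw [sup_comm]; exact hg
  rw [h] at hg'
  obtain ⟨a, ha, n, hn, rfl⟩ := Set.mem_mul.mp hg'
  -- powers
  have hpow : ∀ k : ℕ, ∃ m ∈ N, (a * n) ^ k = a ^ k * m := by
    intro k
    induction k with
    | zero => exact ⟨1, N.one_mem, by simp⟩
    | succ k ih =>
      obtain ⟨m, hm, hk⟩ := ih
      refine ⟨a⁻¹ * m * a * n, ?_, ?_⟩
      · have h1 : a⁻¹ * m * a⁻¹⁻¹ ∈ N :=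
          (Subgroup.mem_normalizer_iff.mp (hAN (A.inv_mem ha)) m).mp hm
        rw [inv_inv] at h1
        exact N.mul_mem h1 hn
      · rw [pow_succ, hk, pow_succ]; group
  obtain ⟨m, hm, hk⟩ := hpow (orderOf (a * n))
  rw [pow_orderOf_eq_one] at hk
  have h1 : a ^ orderOf (a * n) ∈ A ⊓ N := by
    refine Subgroup.mem_inf.mpr ⟨A.pow_mem ha _, ?_⟩
    have : a ^ orderOf (a * n) = m⁻¹ := eq_inv_of_mul_eq_one_left hk.symm
    rw [this]
    exact N.inv_mem hm
  rw [inf_eq_bot_of_coprime A N hA hN, Subgroup.mem_bot] at h1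
  have h2 : orderOf a ∣ orderOf (a * n) := orderOf_dvd_of_pow_eq_one h1
  obtain ⟨j, hj⟩ := (hA.to_le (le_refl A) : IsPGroup p A) ⟨a, ha⟩
  have h3 : orderOf a ∣ p ^ j := by
    apply orderOf_dvd_of_pow_eq_one
    have := congrArg Subtype.val hj
    simpa using this
  have h4 : (orderOf a).Coprime (orderOf a) :=
    Nat.Coprime.coprime_dvd_left h2 (Nat.Coprime.coprime_dvd_right h3 (Nat.Coprime.pow_right j hcop))
  have h5 : orderOf a = 1 := (Nat.coprime_self _).mp h4
  rw [orderOf_eq_one_iff] at h5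
  rw [h5, one_mul]
  exact hn

end Cfsg.Agent.Lib.Helper14.Off
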