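import Mathlib

/-!
# Generation of `SL₂(F)` by elementary matrices (helper14)
-/

set_option autoImplicit false

namespace Cfsg.Agent.Lib.Helper14.SL2

open Matrix

variable {F : Type*} [Field F]

/-- upper unitriangular -/
def up (u : F) : Matrix.SpecialLinearGroup (Fin 2) F := ⟨!![1, u; 0, 1], by simp [det_fin_two_of]⟩

/-- lower unitriangular -/
def lo (u : F) : Matrix.SpecialLinearGroup (Fin 2) F := ⟨!![1, 0; u, 1], by simp [det_fin_two_of]⟩

@[simp] theorem up_val (u : F) : (up u).1 = !![1, u; 0, 1] := rfl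
@[simp] theorem lo_val (u : F) : (lo u).1 = !![1, 0; u, 1] := rfl

theorem up_mul (u v : F) : up u * up v = up (u + v) := by
  apply Matrix.SpecialLinearGroup.ext
  intro i j
  rw [Matrix.SpecialLinearGroup.coe_mul]
  fin_cases i <;> fin_cases j <;> simp [Matrix.mul_apply, Fin.sum_univ_two, add_comm]

theorem lo_mul (u v : F) : lo u * lo v = lo (u + v) := by
  apply Matrix.SpecialLinearGroup.ext
  intro i j
  rw [Matrix.SpecialLinearGroup.coe_mul]
  fin_cases i <;> fin_cases j <;> simp [Matrix.mul_apply, Fin.sum_univ_two, add_comm]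

theorem up_zero : up (0 : F) = 1 := by
  apply Matrix.SpecialLinearGroup.ext
  intro i j
  fin_cases i <;> fin_cases j <;> simp

theorem lo_zero : lo (0 : F) = 1 := by
  apply Matrix.SpecialLinearGroup.ext
  intro i j
  fin_cases i <;> fin_cases j <;> simp

theorem up_pow (u : F) (k : ℕ) : up u ^ k = up (k * u) := by
  induction k with
  | zero => simp [up_zero]
  | succ k ih => rw [pow_succ, ih, up_mul]; congr 1; push_cast; ring

theorem lo_pow (u : F) (k : ℕ) : lo u ^ k = lo (k * u) := by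
  induction k with
  | zero => simp [lo_zero]
  | succ k ih => rw [pow_succ, ih, lo_mul]; congr 1; push_cast; ring

/-- explicit factorization when the lower-left entry is nonzero -/
theorem eq_up_lo_up (g : Matrix.SpecialLinearGroup (Fin 2) F) (hc : g.1 1 0 ≠ 0) :
    g = up ((g.1 0 0 - 1) / g.1 1 0) * lo (g.1 1 0) * up ((g.1 1 1 - 1) / g.1 1 0) := by
  have hdet : g.1 0 0 * g.1 1 1 - g.1 0 1 * g.1 1 0 = 1 := by
    have := g.2
    rwa [Matrix.det_fin_two] at this
  apply Matrix.SpecialLinearGroup.ext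
  intro i j
  rw [Matrix.SpecialLinearGroup.coe_mul, Matrix.SpecialLinearGroup.coe_mul]
  fin_cases i <;> fin_cases j
  · simp [Matrix.mul_apply, Fin.sum_univ_two]
    field_simp
    ring
  · simp [Matrix.mul_apply, Fin.sum_univ_two]
    field_simp
    linear_combination (-1 : F) * hdet
  · simp [Matrix.mul_apply, Fin.sum_univ_two]
  · simp [Matrix.mul_apply, Fin.sum_univ_two]
    field_simp
    ring

/-- A subgroup containing all `up u` and `lo u` is everything. -/
theorem eq_top_of_up_lo (S : Subgroup (Matrix.SpecialLinearGroup (Fin 2) F))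
    (hu : ∀ u, up u ∈ S) (hl : ∀ u, lo u ∈ S) : S = ⊤ := by
  rw [eq_top_iff]
  intro g _
  have key : ∀ g : Matrix.SpecialLinearGroup (Fin 2) F, g.1 1 0 ≠ 0 → g ∈ S := by
    intro g hc
    rw [eq_up_lo_up g hc]
    exact S.mul_mem (S.mul_mem (hu _) (hl _)) (hu _)
  by_cases hc : g.1 1 0 = 0
  · have hdet : g.1 0 0 * g.1 1 1 - g.1 0 1 * g.1 1 0 = 1 := by
      have := g.2
      rwa [Matrix.det_fin_two] at this
    have ha : g.1 0 0 ≠ 0 := by
      intro h
      rw [h, hc] at hdet
      simp at hdet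
    have h1 : lo 1 * g ∈ S := by
      apply key
      rw [Matrix.SpecialLinearGroup.coe_mul]
      simp [Matrix.mul_apply, Fin.sum_univ_two, hc, ha]
    have : g = (lo 1)⁻¹ * (lo 1 * g) := by group
    rw [this]
    exact S.mul_mem (S.inv_mem (hl 1)) h1
  · exact key g hc

/-- diagonal -/
def dg (t : F) (ht : t ≠ 0) : Matrix.SpecialLinearGroup (Fin 2) F :=
  ⟨!![t, 0; 0, t⁻¹], by simp [det_fin_two_of, ht]⟩

/-- antidiagonal -/
def ad (t : F) (ht : t ≠ 0) : Matrix.SpecialLinearGroup (Fin 2) F :=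
  ⟨!![0, -t⁻¹; t, 0], by simp [det_fin_two_of, ht]⟩

/-- first column prescribed -/
def fc (t s : F) (ht : t ≠ 0) : Matrix.SpecialLinearGroup (Fin 2) F :=
  ⟨!![t, 0; s, t⁻¹], by simp [det_fin_two_of, ht]⟩

/-- `SL₂(F)` is transitive on nonzero vectors. -/
theorem exists_mulVec_eq (v : Fin 2 → F) (hv : v ≠ 0) :
    ∃ g : Matrix.SpecialLinearGroup (Fin 2) F, g.1 *ᵥ ![1, 0] = v := by
  by_cases h0 : v 0 = 0
  · have h1 : v 1 ≠ 0 := by
      intro h1
      apply hv
      funext i
      fin_cases i <;> simp [h0, h1]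
    refine ⟨ad (v 1) h1, ?_⟩
    funext i
    fin_cases i <;> simp [ad, Matrix.mulVec, dotProduct, Fin.sum_univ_two, h0]
  · refine ⟨fc (v 0) (v 1) h0, ?_⟩
    funext i
    fin_cases i <;> simp [fc, Matrix.mulVec, dotProduct, Fin.sum_univ_two]

/-- If `2 ≠ 0` then some `h` conjugates `up 1` to `up 4`. -/
theorem exists_conj_up (h2 : (2 : F) ≠ 0) :
    ∃ h : Matrix.SpecialLinearGroup (Fin 2) F, h * up 1 * h⁻¹ = up 4 := by
  refine ⟨dg 2 h2, ?_⟩
  rw [mul_inv_eq_iff_eq_mul]
  apply Matrix.SpecialLinearGroup.ext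
  intro i j
  rw [Matrix.SpecialLinearGroup.coe_mul, Matrix.SpecialLinearGroup.coe_mul]
  fin_cases i <;> fin_cases j <;> simp [dg, Matrix.mul_apply, Fin.sum_univ_two]
  · field_simp
    norm_num

end Cfsg.Agent.Lib.Helper14.SL2

namespace Cfsg.Agent.Lib.Helper14.SL2

open Matrix

/-- A group with a faithful 2×2 matrix representation over `ZMod p` generated by two elements
mapping to `up 1` and `lo t` (`t ≠ 0`) is isomorphic to `SL₂(p)` via that representation. -/
theorem exists_iso_of_matrix_hom {Γ : Type*} [Group Γ] {p : ℕ} [Fact p.Prime]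
    (μ : Γ →* Matrix (Fin 2) (Fin 2) (ZMod p)) (hinj : Function.Injective μ)
    (a b : Γ) (hgen : Subgroup.closure {a, b} = ⊤) (t : ZMod p) (ht : t ≠ 0)
    (ha : μ a = !![1, 1; 0, 1]) (hb : μ b = !![1, 0; t, 1]) :
    ∃ φ : Γ ≃* Matrix.SpecialLinearGroup (Fin 2) (ZMod p), ∀ g, (φ g).1 = μ g := by
  have hdet : ∀ g : Γ, (μ g).det = 1 := by
    intro g
    have hg : g ∈ Subgroup.closure {a, b} := by rw [hgen]; trivial
    induction hg using Subgroup.closure_induction with
    | mem x hx =>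
      rcases hx with rfl | hx
      · rw [ha]; simp [det_fin_two_of]
      · rw [Set.mem_singleton_iff] at hx
        rw [hx, hb]; simp [det_fin_two_of]
    | one => rw [map_one, Matrix.det_one]
    | mul x y _ _ ihx ihy => rw [map_mul, Matrix.det_mul, ihx, ihy, one_mul]
    | inv x _ ih =>
      have h1 : μ x⁻¹ * μ x = 1 := by rw [← map_mul, inv_mul_cancel, map_one]
      have h2 := congrArg Matrix.det h1
      rw [Matrix.det_mul, ih, mul_one, Matrix.det_one] at h2
      exact h2
  let φ₀ : Γ →* Matrix.SpecialLinearGroup (Fin 2) (ZMod p) :=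
    { toFun := fun g => ⟨μ g, hdet g⟩
      map_one' := Subtype.ext (map_one μ)
      map_mul' := fun g h => Subtype.ext (map_mul μ g h) }
  have hφ₀ : ∀ g, (φ₀ g).1 = μ g := fun g => rfl
  have hinj₀ : Function.Injective φ₀ := by
    intro g h hgh
    apply hinj
    have := congrArg Subtype.val hgh
    exact this
  have hφa : φ₀ a = up 1 := Subtype.ext ha
  have hφb : φ₀ b = lo t := Subtype.ext hb
  have hsurj : Function.Surjective φ₀ := by
    rw [← MonoidHom.range_eq_top]
    apply eq_top_of_up_lo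
    · intro u
      refine ⟨a ^ u.val, ?_⟩
      rw [map_pow, hφa, up_pow, mul_one, ZMod.natCast_zmod_val]
    · intro u
      refine ⟨b ^ (u / t).val, ?_⟩
      rw [map_pow, hφb, lo_pow, ZMod.natCast_zmod_val, div_mul_cancel₀ u ht]
  exact ⟨MulEquiv.ofBijective φ₀ ⟨hinj₀, hsurj⟩, fun g => rfl⟩

end Cfsg.Agent.Lib.Helper14.SL2
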