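import Mathlib
import Cfsg.Agent.Lib.Helper14.Offender4
import Cfsg.Agent.Lib.Helper14.LinRep
import Cfsg.Agent.Lib.Helper14.SL2Gen
import Cfsg.Agent.Lib.Helper13.Coprime

/-!
# The subgroup generated by two conjugate transvection groups (helper14)
-/

set_option autoImplicit false

namespace Cfsg.Agent.Lib.Helper14.Off

open Cfsg Subgroup
open scoped Pointwise commutatorElement

variable {G : Type*} [Group G]

/-- A subgroup of prime order is generated by any nontrivial element. -/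
theorem exists_generator [Finite G] {p : ℕ} [hp : Fact p.Prime] (A : Subgroup G)
    (hA : Nat.card A = p) : ∃ a ∈ A, a ≠ 1 ∧ zpowers a = A ∧ orderOf a = p := by
  have hA1 : A ≠ ⊥ := by
    intro h
    rw [h, Subgroup.card_bot] at hA
    exact hp.out.one_lt.ne hA
  obtain ⟨a, haA, ha1⟩ : ∃ a ∈ A, a ≠ 1 := by
    by_contra hcon
    push Not at hcon
    apply hA1
    rw [eq_bot_iff]
    intro x hx
    exact Subgroup.mem_bot.mpr (hcon x hx)
  have hle : zpowers a ≤ A := by rw [zpowers_le]; exact haA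
  have hz : zpowers a = A := by
    rcases eq_bot_or_eq_of_card_prime hp.out A (zpowers a) hA hle with h | h
    · exfalso
      apply ha1
      have : a ∈ zpowers a := mem_zpowers a
      rwa [h, Subgroup.mem_bot] at this
    · exact h
  refine ⟨a, haA, ha1, hz, ?_⟩
  rw [← Nat.card_zpowers, hz, hA]

/-- A group of order `p` acting on `V` with `|[V, A]| = p` centralizes `[V, A]`. -/
theorem le_centralizer_commutator [Finite G] {p : ℕ} [hp : Fact p.Prime] (V A : Subgroup G)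
    (hAV : A ≤ normalizer (V : Set G)) (hA : IsPGroup p A)
    (hL : Nat.card (⁅V, A⁆ : Subgroup G) = p) : A ≤ centralizer ((⁅V, A⁆ : Subgroup G) : Set G) := by
  have hLp : IsPGroup p (⁅V, A⁆ : Subgroup G) := IsPGroup.of_card (n := 1) (by rw [hL, pow_one])
  have hAL : A ≤ normalizer ((⁅V, A⁆ : Subgroup G) : Set G) := by
    refine le_trans ?_ (Cfsg.Agent.Lib.Helper16.inf_normalizer_le_normalizer_commutator V A)
    exact le_inf hAV Subgroup.le_normalizer
  have hne : (⁅V, A⁆ : Subgroup G) ≠ ⊥ := by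
    intro h
    rw [h, Subgroup.card_bot] at hL
    exact hp.out.one_lt.ne hL
  have hlt := Cfsg.Agent.Lib.Helper16.commutator_lt_of_isPGroup (⁅V, A⁆) A hLp hA hAL hne
  rcases eq_bot_or_eq_of_card_prime hp.out _ _ hL hlt.le with h | h
  · rw [Subgroup.commutator_eq_bot_iff_le_centralizer] at h
    exact Subgroup.le_centralizer_iff.mp h
  · exact absurd h hlt.ne

/-- If `g` centralizes `W ≤ V` and `[g, V] ⊆ W` (with `V` of exponent `p`) then `g ^ p`
centralizes `V`. -/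
theorem pow_mem_centralizer {p : ℕ} (V W : Subgroup G) (hVe : ∀ v ∈ V, v ^ p = 1)
    (hWV : W ≤ V) (g : G) (hgW : g ∈ centralizer (W : Set G))
    (hcomm : ∀ v ∈ V, g * v * g⁻¹ * v⁻¹ ∈ W) : g ^ p ∈ centralizer (V : Set G) := by
  have key : ∀ v ∈ V, ∀ k : ℕ, g ^ k * v * (g ^ k)⁻¹ = (g * v * g⁻¹ * v⁻¹) ^ k * v := by
    intro v hv k
    induction k with
    | zero => simp
    | succ k ih =>
      have hw : Commute g (g * v * g⁻¹ * v⁻¹) :=
        (Subgroup.mem_centralizer_iff.mp hgW _ (hcomm v hv)).symm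
      have hwk : Commute g ((g * v * g⁻¹ * v⁻¹) ^ k) := hw.pow_right k
      calc g ^ (k + 1) * v * (g ^ (k + 1))⁻¹
          = g * (g ^ k * v * (g ^ k)⁻¹) * g⁻¹ := by rw [pow_succ']; group
        _ = g * ((g * v * g⁻¹ * v⁻¹) ^ k * v) * g⁻¹ := by rw [ih]
        _ = (g * (g * v * g⁻¹ * v⁻¹) ^ k) * v * g⁻¹ := by group
        _ = ((g * v * g⁻¹ * v⁻¹) ^ k * g) * v * g⁻¹ := by rw [hwk.eq]
        _ = (g * v * g⁻¹ * v⁻¹) ^ k * ((g * v * g⁻¹ * v⁻¹) * v) := by group
        _ = (g * v * g⁻¹ * v⁻¹) ^ (k + 1) * v := by rw [pow_succ]; group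
  rw [Subgroup.mem_centralizer_iff]
  intro v hv
  have h1 := key v hv p
  rw [hVe _ (hWV (hcomm v hv)), one_mul] at h1
  have : g ^ p * v = v * g ^ p := by
    calc g ^ p * v = g ^ p * v * (g ^ p)⁻¹ * g ^ p := by group
      _ = v * g ^ p := by rw [h1]
  exact this.symm


/-- the conjugate subgroup `x A x⁻¹` -/
abbrev cjs (x : G) (A : Subgroup G) : Subgroup G := A.map (MulAut.conj x).toMonoidHom

theorem mem_cjs_iff (x : G) (A : Subgroup G) (g : G) : g ∈ cjs x A ↔ ∃ a ∈ A, x * a * x⁻¹ = g := by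
  constructor
  · rintro ⟨a, ha, rfl⟩
    exact ⟨a, ha, rfl⟩
  · rintro ⟨a, ha, rfl⟩
    exact ⟨a, ha, rfl⟩

theorem cjs_le_of_mem (x : G) (A M : Subgroup G) (hx : x ∈ M) (hA : A ≤ M) : cjs x A ≤ M := by
  intro g hg
  obtain ⟨a, ha, rfl⟩ := (mem_cjs_iff x A g).mp hg
  exact M.mul_mem (M.mul_mem hx (hA ha)) (M.inv_mem hx)

theorem cjs_eq_self_of_mem_normalizer (x : G) (V : Subgroup G) (hx : x ∈ normalizer (V : Set G)) :
    cjs x V = V := by
  apply le_antisymm
  · intro g hg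
    obtain ⟨v, hv, rfl⟩ := (mem_cjs_iff x V g).mp hg
    exact (Subgroup.mem_normalizer_iff.mp hx v).mp hv
  · intro g hg
    refine (mem_cjs_iff x V g).mpr ⟨x⁻¹ * g * x, ?_, by group⟩
    have := (Subgroup.mem_normalizer_iff.mp (Subgroup.inv_mem _ hx) g).mp hg
    rwa [inv_inv] at this

theorem cjs_commutator (x : G) (V A : Subgroup G) : cjs x ⁅V, A⁆ = ⁅cjs x V, cjs x A⁆ :=
  Subgroup.map_commutator V A _

theorem card_cjs (x : G) (A : Subgroup G) : Nat.card (cjs x A) = Nat.card A :=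
  Subgroup.card_map_of_injective (MulAut.conj x).injective

theorem cjs_zpowers (x a : G) : cjs x (zpowers a) = zpowers (x * a * x⁻¹) :=
  MonoidHom.map_zpowers _ a

theorem cjs_le_normalizer (x : G) (A M : Subgroup G) (hx : x ∈ normalizer (M : Set G))
    (hA : A ≤ normalizer (M : Set G)) : cjs x A ≤ normalizer (M : Set G) :=
  cjs_le_of_mem x A _ hx hA

theorem le_normalizer_of_forall_conj_mem (E D : Subgroup G)
    (h : ∀ e ∈ E, ∀ d ∈ D, e * d * e⁻¹ ∈ D) : E ≤ normalizer (D : Set G) := by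
  intro e he
  rw [Subgroup.mem_normalizer_iff]
  intro d
  constructor
  · exact h e he d
  · intro hd
    have := h e⁻¹ (E.inv_mem he) _ hd
    have e' : e⁻¹ * (e * d * e⁻¹) * e⁻¹⁻¹ = d := by group
    rwa [e'] at this

section pair

variable [Finite G] {p : ℕ} [hp : Fact p.Prime] (V H N A : Subgroup G) (x : G)
  (hV : Cfsg.IsElementaryAbelian p V) (hHV : H ≤ normalizer (V : Set G))
  (hf : H ⊓ centralizer (V : Set G) = ⊥)
  (hNH : N ≤ H) (hAH : A ≤ H) (hAN : A ≤ normalizer (N : Set G)) (hN : (Nat.card N).Coprime p)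
  (hA : Nat.card A = p) (hL : Nat.card (⁅V, A⁆ : Subgroup G) = p)
  (hx : x ∈ N) (hxA : x ∉ centralizer (A : Set G))

include hAN hN hA hx hxA in
theorem cjs_ne : A ≠ cjs x A := by
  intro h
  apply hxA
  have hAp : IsPGroup p A := IsPGroup.of_card (n := 1) (by rw [hA, pow_one])
  have hNA : N ⊓ A = ⊥ := by rw [inf_comm]; exact inf_eq_bot_of_coprime A N hAp hN
  apply Cfsg.Agent.Lib.Helper13.mem_centralizer_of_mem_normalizer A N hAN hNA x hx
  rw [Subgroup.mem_normalizer_iff_map_conj_eq]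
  exact h.symm

include hAN in
theorem pair_le_sup (hx : x ∈ N) : A ⊔ cjs x A ≤ N ⊔ A :=
  sup_le le_sup_right (cjs_le_of_mem x A _ (Subgroup.mem_sup_left hx) le_sup_right)

include hHV hNH hAH in
theorem pair_le (hx : x ∈ N) : A ⊔ cjs x A ≤ H :=
  sup_le hAH (cjs_le_of_mem x A H (hNH hx) hAH)

include hV hHV hNH hAH in
theorem commutator_pair (hx : x ∈ N) :
    ⁅V, A ⊔ cjs x A⁆ = ⁅V, A⁆ ⊔ ⁅V, cjs x A⁆ := by
  have hVab : V ≤ centralizer (V : Set G) := (Cfsg.Agent.Lib.Helper17.ea_iff.mp hV).1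
  have hBH : cjs x A ≤ H := cjs_le_of_mem x A H (hNH hx) hAH
  apply le_antisymm
  · -- X normalizes J when ⁅V,X⁆ ≤ J ≤ V
    have hnorm : ∀ X : Subgroup G, X ≤ normalizer (V : Set G) →
        ⁅V, X⁆ ≤ ⁅V, A⁆ ⊔ ⁅V, cjs x A⁆ →
        X ≤ normalizer ((⁅V, A⁆ ⊔ ⁅V, cjs x A⁆ : Subgroup G) : Set G) := by
      intro X hXV hX
      have hJV : ⁅V, A⁆ ⊔ ⁅V, cjs x A⁆ ≤ V := by
        apply sup_le
        · exact Cfsg.Agent.Lib.Helper13.commutator_le_of_le_normalizer V A (hAH.trans hHV)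
        · exact Cfsg.Agent.Lib.Helper13.commutator_le_of_le_normalizer V _ (hBH.trans hHV)
      have hone : ∀ g ∈ X, ∀ j ∈ (⁅V, A⁆ ⊔ ⁅V, cjs x A⁆ : Subgroup G),
          g * j * g⁻¹ ∈ (⁅V, A⁆ ⊔ ⁅V, cjs x A⁆ : Subgroup G) := by
        intro g hg j hj
        have h1 : ⁅j, g⁆ ∈ ⁅V, X⁆ := Subgroup.commutator_mem_commutator (hJV hj) hg
        have h2 : g * j * g⁻¹ = (⁅j, g⁆)⁻¹ * j := by
          rw [commutatorElement_def]; group
        rw [h2]
        exact Subgroup.mul_mem _ (Subgroup.inv_mem _ (hX h1)) hj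
      intro g hg
      rw [Subgroup.mem_normalizer_iff]
      intro j
      constructor
      · exact hone g hg j
      · intro hj
        have := hone g⁻¹ (X.inv_mem hg) _ hj
        have e : g⁻¹ * (g * j * g⁻¹) * g⁻¹⁻¹ = j := by group
        rwa [e] at this
    apply Cfsg.Agent.S2833.commutator_sup_le_of V A (cjs x A) _
      (hnorm A (hAH.trans hHV) le_sup_left) (hnorm _ (hBH.trans hHV) le_sup_right)
      le_sup_left le_sup_right
  · exact sup_le (Subgroup.commutator_mono le_rfl le_sup_left)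
      (Subgroup.commutator_mono le_rfl le_sup_right)

include hV hHV hf hNH hAH hAN hN hA hx hxA in
theorem pair_inf_centralizer :
    (A ⊔ cjs x A) ⊓ centralizer ((⁅V, A ⊔ cjs x A⁆ : Subgroup G) : Set G) = ⊥ := by
  have hEH : A ⊔ cjs x A ≤ H := pair_le V H N A x hHV hNH hAH hx
  have hEV : A ⊔ cjs x A ≤ normalizer (V : Set G) := hEH.trans hHV
  have hWV : ⁅V, A ⊔ cjs x A⁆ ≤ V :=
    Cfsg.Agent.Lib.Helper13.commutator_le_of_le_normalizer V _ hEV
  have hAp : IsPGroup p A := IsPGroup.of_card (n := 1) (by rw [hA, pow_one])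
  have hBp : IsPGroup p (cjs x A) := IsPGroup.of_card (n := 1) (by rw [card_cjs, hA, pow_one])
  -- exponent p
  have hDexp : ∀ g ∈ (A ⊔ cjs x A) ⊓ centralizer ((⁅V, A ⊔ cjs x A⁆ : Subgroup G) : Set G),
      g ^ p = 1 := by
    intro g hg
    obtain ⟨hgE, hgW⟩ := Subgroup.mem_inf.mp hg
    have h1 := pow_mem_centralizer V ⁅V, A ⊔ cjs x A⁆ hV.2 hWV g hgW (fun v hv => by
      have h2 : ⁅v, g⁆ ∈ ⁅V, A ⊔ cjs x A⁆ := Subgroup.commutator_mem_commutator hv hgE
      have : g * v * g⁻¹ * v⁻¹ = (⁅v, g⁆)⁻¹ := by rw [commutatorElement_def]; group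
      rw [this]
      exact Subgroup.inv_mem _ h2)
    have : g ^ p ∈ H ⊓ centralizer (V : Set G) :=
      Subgroup.mem_inf.mpr ⟨hEH (Subgroup.pow_mem _ hgE p), h1⟩
    rwa [hf, Subgroup.mem_bot] at this
  have hDp : IsPGroup p ((A ⊔ cjs x A) ⊓
      centralizer ((⁅V, A ⊔ cjs x A⁆ : Subgroup G) : Set G) : Subgroup G) := by
    intro g
    refine ⟨1, ?_⟩
    apply Subtype.ext
    rw [pow_one, Subgroup.coe_pow, Subgroup.coe_one]
    exact hDexp g.1 g.2
  -- E normalizes W hence D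
  have hEW : A ⊔ cjs x A ≤ normalizer ((⁅V, A ⊔ cjs x A⁆ : Subgroup G) : Set G) :=
    (le_inf hEV Subgroup.le_normalizer).trans
      (Cfsg.Agent.Lib.Helper16.inf_normalizer_le_normalizer_commutator V _)
  have hED : A ⊔ cjs x A ≤ normalizer (((A ⊔ cjs x A) ⊓
      centralizer ((⁅V, A ⊔ cjs x A⁆ : Subgroup G) : Set G) : Subgroup G) : Set G) := by
    apply le_normalizer_of_forall_conj_mem
    intro e he d hd
    obtain ⟨hdE, hdW⟩ := Subgroup.mem_inf.mp hd
    refine Subgroup.mem_inf.mpr ⟨Subgroup.mul_mem _ (Subgroup.mul_mem _ he hdE)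
      (Subgroup.inv_mem _ he), ?_⟩
    rw [Subgroup.mem_centralizer_iff]
    intro w hw
    have hw' : e⁻¹ * w * e ∈ ⁅V, A ⊔ cjs x A⁆ := by
      have := (Subgroup.mem_normalizer_iff.mp (hEW (Subgroup.inv_mem _ he)) w).mp hw
      rwa [inv_inv] at this
    have hc : Commute (e⁻¹ * w * e) d := Subgroup.mem_centralizer_iff.mp hdW _ hw'
    have h2 := (Commute.conj_iff e).mpr hc
    have e1 : e * (e⁻¹ * w * e) * e⁻¹ = w := by group
    rw [e1] at h2
    exact h2.eq
  have hEle : A ⊔ cjs x A ≤ N ⊔ A := pair_le_sup N A x hAN hx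
  -- D ≤ A
  have hDA : (A ⊔ cjs x A) ⊓ centralizer ((⁅V, A ⊔ cjs x A⁆ : Subgroup G) : Set G) ≤ A := by
    have hAD := IsPGroup.to_sup_of_normal_right' hAp hDp (le_sup_left.trans hED)
    have hcard := card_le_of_isPGroup N A _ hAN hN hAD
      (sup_le le_sup_right (inf_le_left.trans hEle))
    have : A = A ⊔ ((A ⊔ cjs x A) ⊓
        centralizer ((⁅V, A ⊔ cjs x A⁆ : Subgroup G) : Set G)) :=
      Subgroup.eq_of_le_of_card_ge le_sup_left hcard
    exact le_sup_right.trans (le_of_eq this.symm)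
  -- D ≤ B
  have hxNN : x ∈ normalizer (N : Set G) := Subgroup.le_normalizer hx
  have hBN : cjs x A ≤ normalizer (N : Set G) := cjs_le_normalizer x A N hxNN hAN
  have hAleB : A ≤ N ⊔ cjs x A := by
    intro a ha
    have h1 : x * a * x⁻¹ ∈ cjs x A := (mem_cjs_iff x A _).mpr ⟨a, ha, rfl⟩
    have h2 : a = x⁻¹ * (x * a * x⁻¹) * x := by group
    rw [h2]
    exact Subgroup.mul_mem _ (Subgroup.mul_mem _ (Subgroup.mem_sup_left (N.inv_mem hx))
      (Subgroup.mem_sup_right h1)) (Subgroup.mem_sup_left hx)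
  have hDB : (A ⊔ cjs x A) ⊓ centralizer ((⁅V, A ⊔ cjs x A⁆ : Subgroup G) : Set G) ≤ cjs x A := by
    have hBD := IsPGroup.to_sup_of_normal_right' hBp hDp (le_sup_right.trans hED)
    have hcard := card_le_of_isPGroup N (cjs x A) _ hBN hN hBD
      (sup_le le_sup_right (inf_le_left.trans (sup_le hAleB le_sup_right)))
    have : cjs x A = cjs x A ⊔ ((A ⊔ cjs x A) ⊓
        centralizer ((⁅V, A ⊔ cjs x A⁆ : Subgroup G) : Set G)) :=
      Subgroup.eq_of_le_of_card_ge le_sup_left hcard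
    exact le_sup_right.trans (le_of_eq this.symm)
  have hAB : A ⊓ cjs x A = ⊥ := by
    rcases eq_bot_or_eq_of_card_prime hp.out A (A ⊓ cjs x A) hA inf_le_left with h | h
    · exact h
    · exfalso
      apply cjs_ne N A x hAN hN hA hx hxA
      have hle : A ≤ cjs x A := by
        have h' : A ⊓ cjs x A ≤ cjs x A := inf_le_right
        rwa [h] at h'
      apply Subgroup.eq_of_le_of_card_ge hle
      rw [card_cjs]
  rw [eq_bot_iff, ← hAB]
  exact le_inf hDA hDB

include hV hHV hNH hAH hL in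
theorem card_commutator_cjs (hx : x ∈ N) : Nat.card (⁅V, cjs x A⁆ : Subgroup G) = p := by
  have h1 : cjs x V = V := cjs_eq_self_of_mem_normalizer x V (hHV (hNH hx))
  have h2 := cjs_commutator x V A
  rw [h1] at h2
  rw [← h2, card_cjs, hL]

include hV hHV hf hNH hAH hAN hN hA hL hx hxA in
theorem pair_commutator_inf : ⁅V, A⁆ ⊓ ⁅V, cjs x A⁆ = ⊥ := by
  have hL₂ := card_commutator_cjs V H N A x hV hHV hNH hAH hL hx
  rcases eq_bot_or_eq_of_card_prime hp.out ⁅V, A⁆ (⁅V, A⁆ ⊓ ⁅V, cjs x A⁆) hL inf_le_left with h | h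
  · exact h
  · exfalso
    have hle : ⁅V, A⁆ ≤ ⁅V, cjs x A⁆ := by
      have h' : ⁅V, A⁆ ⊓ ⁅V, cjs x A⁆ ≤ ⁅V, cjs x A⁆ := inf_le_right
      rwa [h] at h'
    have heq : ⁅V, A⁆ = ⁅V, cjs x A⁆ := by
      apply Subgroup.eq_of_le_of_card_ge hle
      rw [hL, hL₂]
    have hW : ⁅V, A ⊔ cjs x A⁆ = ⁅V, A⁆ := by
      rw [commutator_pair V H N A x hV hHV hNH hAH hx, ← heq, sup_idem]
    have hAp : IsPGroup p A := IsPGroup.of_card (n := 1) (by rw [hA, pow_one])
    have hAc := le_centralizer_commutator V A (hAH.trans hHV) hAp hL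
    have hbot := pair_inf_centralizer V H N A x hV hHV hf hNH hAH hAN hN hA hx hxA
    rw [hW] at hbot
    have : A ≤ ⊥ := by
      rw [← hbot]
      exact le_inf le_sup_left hAc
    have hA1 : A = ⊥ := eq_bot_iff.mpr this
    rw [hA1, Subgroup.card_bot] at hA
    exact hp.out.one_lt.ne hA

include hV hHV hf hNH hAH hAN hN hA hL hx hxA in
theorem pair_card_commutator : Nat.card (⁅V, A ⊔ cjs x A⁆ : Subgroup G) = p ^ 2 := by
  have hL₂ := card_commutator_cjs V H N A x hV hHV hNH hAH hL hx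
  have hinf := pair_commutator_inf V H N A x hV hHV hf hNH hAH hAN hN hA hL hx hxA
  have hVab : V ≤ centralizer (V : Set G) := (Cfsg.Agent.Lib.Helper17.ea_iff.mp hV).1
  have hBH : cjs x A ≤ H := cjs_le_of_mem x A H (hNH hx) hAH
  have hL₁V : ⁅V, A⁆ ≤ V :=
    Cfsg.Agent.Lib.Helper13.commutator_le_of_le_normalizer V A (hAH.trans hHV)
  have hL₂V : ⁅V, cjs x A⁆ ≤ V :=
    Cfsg.Agent.Lib.Helper13.commutator_le_of_le_normalizer V _ (hBH.trans hHV)
  rw [commutator_pair V H N A x hV hHV hNH hAH hx]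
  apply le_antisymm
  · have hnorm : ⁅V, A⁆ ≤ normalizer ((⁅V, cjs x A⁆ : Subgroup G) : Set G) :=
      (hL₁V.trans hVab).trans ((Subgroup.centralizer_le hL₂V).trans
        (Subgroup.centralizer_le_normalizer _))
    have := card_sup_le ⁅V, A⁆ ⁅V, cjs x A⁆ hnorm
    rw [hL, hL₂] at this
    rw [pow_two]
    exact this
  · have := Cfsg.Agent.S0598.card_mul_card_le ⁅V, A⁆ ⁅V, cjs x A⁆
    rw [hinf, Subgroup.card_bot, one_mul, hL, hL₂] at this
    rw [pow_two]
    exact this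

end pair

end Cfsg.Agent.Lib.Helper14.Off
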