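import Mathlib
import Cfsg.Agent.Lib.Helper14.Offender5

/-!
# Two conjugate transvection groups generate `SL₂(p)` (helper14)
-/

set_option autoImplicit false

namespace Cfsg.Agent.Lib.Helper14.Off

open Cfsg Subgroup Matrix
open scoped Pointwise commutatorElement

variable {G : Type*} [Group G]

theorem matrix_eq_of_mulVec {R : Type*} [CommRing R] (M : Matrix (Fin 2) (Fin 2) R)
    (u v : Fin 2 → R) (h0 : M *ᵥ ![1, 0] = u) (h1 : M *ᵥ ![0, 1] = v) :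
    M = !![u 0, v 0; u 1, v 1] := by
  have e00 : M 0 0 = u 0 := by
    have := congrFun h0 0
    simpa [Matrix.mulVec, dotProduct, Fin.sum_univ_two] using this
  have e10 : M 1 0 = u 1 := by
    have := congrFun h0 1
    simpa [Matrix.mulVec, dotProduct, Fin.sum_univ_two] using this
  have e01 : M 0 1 = v 0 := by
    have := congrFun h1 0
    simpa [Matrix.mulVec, dotProduct, Fin.sum_univ_two] using this
  have e11 : M 1 1 = v 1 := by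
    have := congrFun h1 1
    simpa [Matrix.mulVec, dotProduct, Fin.sum_univ_two] using this
  rw [Matrix.eta_fin_two M, e00, e10, e01, e11]

theorem mem_centralizer_sup_zpowers (g e₁ e₂ : G) (h1 : g * e₁ = e₁ * g) (h2 : g * e₂ = e₂ * g) :
    g ∈ centralizer ((zpowers e₁ ⊔ zpowers e₂ : Subgroup G) : Set G) := by
  have h : zpowers e₁ ⊔ zpowers e₂ ≤ centralizer (zpowers g : Set G) := by
    apply sup_le
    · rw [zpowers_le, mem_centralizer_zpowers_iff]; exact h1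
    · rw [zpowers_le, mem_centralizer_zpowers_iff]; exact h2
  exact (Subgroup.le_centralizer_iff.mp h) (mem_zpowers g)

section pair

variable [Finite G] {p : ℕ} [hp : Fact p.Prime] (V H N A : Subgroup G) (x : G)
  (hV : Cfsg.IsElementaryAbelian p V) (hHV : H ≤ normalizer (V : Set G))
  (hf : H ⊓ centralizer (V : Set G) = ⊥)
  (hNH : N ≤ H) (hAH : A ≤ H) (hAN : A ≤ normalizer (N : Set G)) (hN : (Nat.card N).Coprime p)
  (hA : Nat.card A = p) (hL : Nat.card (⁅V, A⁆ : Subgroup G) = p)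
  (hx : x ∈ N) (hxA : x ∉ centralizer (A : Set G))

include hV hHV hf hNH hAH hAN hN hA hL hx hxA in
/-- The pair `⟨A, xAx⁻¹⟩` is `SL₂(p)` in its natural representation on `[V, ⟨A, xAx⁻¹⟩]`. -/
theorem pair_rep :
    ∃ (c : ↥(⁅V, A ⊔ cjs x A⁆ : Subgroup G) → (Fin 2 → ZMod p))
      (φ : ↥(A ⊔ cjs x A : Subgroup G) ≃* Matrix.SpecialLinearGroup (Fin 2) (ZMod p))
      (e₁ : G) (he₁ : e₁ ∈ (⁅V, A ⊔ cjs x A⁆ : Subgroup G)),
      Function.Bijective c ∧ (∀ w₁ w₂, c (w₁ * w₂) = c w₁ + c w₂) ∧ e₁ ∈ ⁅V, A⁆ ∧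
      c ⟨e₁, he₁⟩ = ![1, 0] ∧
      (∀ (g : ↥(A ⊔ cjs x A : Subgroup G)) (w : ↥(⁅V, A ⊔ cjs x A⁆ : Subgroup G))
        (h : (g : G) * w * (g : G)⁻¹ ∈ (⁅V, A ⊔ cjs x A⁆ : Subgroup G)),
        c ⟨(g : G) * w * (g : G)⁻¹, h⟩ = (φ g).1 *ᵥ c w) ∧
      ∃ (a : G) (ha : a ∈ (A ⊔ cjs x A : Subgroup G)), a ∈ A ∧ a ≠ 1 ∧
        φ ⟨a, ha⟩ = Cfsg.Agent.Lib.Helper14.SL2.up 1 := by
  have hpp : p.Prime := hp.out
  obtain ⟨a, haA, ha1, hza, horda⟩ := exists_generator A hA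
  have hL₂ := card_commutator_cjs V H N A x hV hHV hNH hAH hL hx
  have hinf := pair_commutator_inf V H N A x hV hHV hf hNH hAH hAN hN hA hL hx hxA
  have hbot := pair_inf_centralizer V H N A x hV hHV hf hNH hAH hAN hN hA hx hxA
  have hcardW := pair_card_commutator V H N A x hV hHV hf hNH hAH hAN hN hA hL hx hxA
  have hWeq := commutator_pair V H N A x hV hHV hNH hAH hx
  have hEH : A ⊔ cjs x A ≤ H := pair_le V H N A x hHV hNH hAH hx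
  have hEV : A ⊔ cjs x A ≤ normalizer (V : Set G) := hEH.trans hHV
  have hWV : ⁅V, A ⊔ cjs x A⁆ ≤ V :=
    Cfsg.Agent.Lib.Helper13.commutator_le_of_le_normalizer V _ hEV
  have hEW : A ⊔ cjs x A ≤ normalizer ((⁅V, A ⊔ cjs x A⁆ : Subgroup G) : Set G) :=
    (le_inf hEV Subgroup.le_normalizer).trans
      (Cfsg.Agent.Lib.Helper16.inf_normalizer_le_normalizer_commutator V _)
  have hBH : cjs x A ≤ H := cjs_le_of_mem x A H (hNH hx) hAH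
  have hAp : IsPGroup p A := IsPGroup.of_card (n := 1) (by rw [hA, pow_one])
  have hBp : IsPGroup p (cjs x A) := IsPGroup.of_card (n := 1) (by rw [card_cjs, hA, pow_one])
  have hAc := le_centralizer_commutator V A (hAH.trans hHV) hAp hL
  have hBc := le_centralizer_commutator V (cjs x A) (hBH.trans hHV) hBp hL₂
  have hbB : x * a * x⁻¹ ∈ cjs x A := (mem_cjs_iff x A _).mpr ⟨a, haA, rfl⟩
  have hb1 : x * a * x⁻¹ ≠ 1 := by
    intro h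
    apply ha1
    have : a = x⁻¹ * (x * a * x⁻¹) * x := by group
    rw [this, h]; group
  have hzb : zpowers (x * a * x⁻¹) = cjs x A := by rw [← hza, cjs_zpowers]
  have haE : a ∈ A ⊔ cjs x A := Subgroup.mem_sup_left haA
  have hbE : x * a * x⁻¹ ∈ A ⊔ cjs x A := Subgroup.mem_sup_right hbB
  -- generators of W
  obtain ⟨e₂, he₂L, he₂1, hze₂, -⟩ := exists_generator (⁅V, cjs x A⁆ : Subgroup G) hL₂
  have hL₁W : ⁅V, A⁆ ≤ ⁅V, A ⊔ cjs x A⁆ := by rw [hWeq]; exact le_sup_left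
  have hL₂W : ⁅V, cjs x A⁆ ≤ ⁅V, A ⊔ cjs x A⁆ := by rw [hWeq]; exact le_sup_right
  have he₂W : e₂ ∈ ⁅V, A ⊔ cjs x A⁆ := hL₂W he₂L
  have he₂V : e₂ ∈ V := hWV he₂W
  have he₁L : a * e₂ * a⁻¹ * e₂⁻¹ ∈ ⁅V, A⁆ := by
    have h1 : ⁅e₂, a⁆ ∈ ⁅V, A⁆ := Subgroup.commutator_mem_commutator he₂V haA
    have : a * e₂ * a⁻¹ * e₂⁻¹ = (⁅e₂, a⁆)⁻¹ := by rw [commutatorElement_def]; group
    rw [this]
    exact Subgroup.inv_mem _ h1
  have he₁W : a * e₂ * a⁻¹ * e₂⁻¹ ∈ ⁅V, A ⊔ cjs x A⁆ := hL₁W he₁L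
  -- a centralizes L₁; b centralizes L₂
  have ha_e₁ : a * (a * e₂ * a⁻¹ * e₂⁻¹) = (a * e₂ * a⁻¹ * e₂⁻¹) * a :=
    (Subgroup.mem_centralizer_iff.mp (hAc haA) _ he₁L).symm
  have hb_e₂ : (x * a * x⁻¹) * e₂ = e₂ * (x * a * x⁻¹) :=
    (Subgroup.mem_centralizer_iff.mp (hBc hbB) _ he₂L).symm
  have hWz : ∀ e₁ : G, zpowers e₁ = ⁅V, A⁆ →
      (⁅V, A ⊔ cjs x A⁆ : Subgroup G) = zpowers e₁ ⊔ zpowers e₂ := by
    intro e₁ h
    rw [hWeq, h, hze₂]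
  have he₁1 : a * e₂ * a⁻¹ * e₂⁻¹ ≠ 1 := by
    intro h
    have hcomm : a * e₂ = e₂ * a := by
      have : a * e₂ * a⁻¹ * e₂⁻¹ * e₂ * a = e₂ * a := by rw [h, one_mul]
      rw [← this]; group
    -- a centralizes L₁ and L₂
    have h1 : a ∈ centralizer ((⁅V, A ⊔ cjs x A⁆ : Subgroup G) : Set G) := by
      rw [hWeq, ← hze₂]
      have h2 : ⁅V, A⁆ ⊔ zpowers e₂ ≤ centralizer (zpowers a : Set G) := by
        apply sup_le
        · rw [hza]; exact Subgroup.le_centralizer_iff.mp hAc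
        · rw [zpowers_le, mem_centralizer_zpowers_iff]; exact hcomm
      exact (Subgroup.le_centralizer_iff.mp h2) (mem_zpowers a)
    have : a ∈ (A ⊔ cjs x A) ⊓ centralizer ((⁅V, A ⊔ cjs x A⁆ : Subgroup G) : Set G) :=
      Subgroup.mem_inf.mpr ⟨haE, h1⟩
    rw [hbot, Subgroup.mem_bot] at this
    exact ha1 this
  have hze₁ : zpowers (a * e₂ * a⁻¹ * e₂⁻¹) = ⁅V, A⁆ := by
    have hle : zpowers (a * e₂ * a⁻¹ * e₂⁻¹) ≤ ⁅V, A⁆ := by rw [zpowers_le]; exact he₁L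
    rcases eq_bot_or_eq_of_card_prime hpp _ _ hL hle with h | h
    · exfalso
      apply he₁1
      have : a * e₂ * a⁻¹ * e₂⁻¹ ∈ zpowers (a * e₂ * a⁻¹ * e₂⁻¹) := mem_zpowers _
      rwa [h, Subgroup.mem_bot] at this
    · exact h
  have hdisj : zpowers (a * e₂ * a⁻¹ * e₂⁻¹) ⊓ zpowers e₂ = ⊥ := by rw [hze₁, hze₂]; exact hinf
  have hWea : Cfsg.IsElementaryAbelian p (⁅V, A ⊔ cjs x A⁆ : Subgroup G) :=
    Cfsg.Agent.Lib.Helper17.ea_mono hV hWV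
  obtain ⟨c, μ, hcbij, hcadd, hc₁, hc₂, hcompat⟩ :=
    LinRep.exists_matrix_rep (⁅V, A ⊔ cjs x A⁆ : Subgroup G) hWea hcardW
      (a * e₂ * a⁻¹ * e₂⁻¹) e₂ he₁W he₂W he₁1 he₂1 hdisj
  -- additivity consequences
  have hc_one : c 1 = 0 := by
    have := hcadd 1 1
    rw [mul_one] at this
    exact left_eq_add.mp this
  have hc_pow : ∀ (w : ↥(⁅V, A ⊔ cjs x A⁆ : Subgroup G)) (k : ℕ), c (w ^ k) = k • c w := by
    intro w k
    induction k with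
    | zero => rw [pow_zero, zero_smul]; exact hc_one
    | succ k ih => rw [pow_succ, hcadd, ih, succ_nsmul]
  -- restrict to E
  let ι : ↥(A ⊔ cjs x A : Subgroup G) →* ↥(normalizer ((⁅V, A ⊔ cjs x A⁆ : Subgroup G) : Set G)) :=
    Subgroup.inclusion hEW
  have hcompat' : ∀ (g : ↥(A ⊔ cjs x A : Subgroup G)) (w : ↥(⁅V, A ⊔ cjs x A⁆ : Subgroup G))
      (h : (g : G) * w * (g : G)⁻¹ ∈ (⁅V, A ⊔ cjs x A⁆ : Subgroup G)),
      c ⟨(g : G) * w * (g : G)⁻¹, h⟩ = (μ.comp ι) g *ᵥ c w := by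
    intro g w h
    have := hcompat (ι g) w
    rw [MonoidHom.comp_apply, ← this]
    congr 1
  -- injectivity
  have hinj : Function.Injective (μ.comp ι) := by
    intro g h hgh
    have hall : ∀ w : ↥(⁅V, A ⊔ cjs x A⁆ : Subgroup G),
        (g : G) * w * (g : G)⁻¹ = (h : G) * w * (h : G)⁻¹ := by
      intro w
      have hg' := (Subgroup.mem_normalizer_iff.mp (hEW g.2) w).mp w.2
      have hh' := (Subgroup.mem_normalizer_iff.mp (hEW h.2) w).mp w.2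
      have h1 := hcompat' g w hg'
      have h2 := hcompat' h w hh'
      rw [hgh] at h1
      have h3 := hcbij.1 (h1.trans h2.symm)
      exact congrArg Subtype.val h3
    have hmem : (h : G)⁻¹ * (g : G) ∈ (A ⊔ cjs x A) ⊓
        centralizer ((⁅V, A ⊔ cjs x A⁆ : Subgroup G) : Set G) := by
      refine Subgroup.mem_inf.mpr ⟨Subgroup.mul_mem _ (Subgroup.inv_mem _ h.2) g.2, ?_⟩
      rw [Subgroup.mem_centralizer_iff]
      intro w hw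
      have := hall ⟨w, hw⟩
      simp only at this
      calc w * ((h : G)⁻¹ * (g : G)) = (h : G)⁻¹ * ((h : G) * w * (h : G)⁻¹) * g := by group
        _ = (h : G)⁻¹ * ((g : G) * w * (g : G)⁻¹) * g := by rw [this]
        _ = (h : G)⁻¹ * (g : G) * w := by group
    rw [hbot, Subgroup.mem_bot] at hmem
    apply Subtype.ext
    have : (g : G) = (h : G) * ((h : G)⁻¹ * (g : G)) := by group
    rw [this, hmem, mul_one]
  -- matrix of a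
  have hμa : (μ.comp ι) ⟨a, haE⟩ = !![1, 1; 0, 1] := by
    have h0 : (μ.comp ι) ⟨a, haE⟩ *ᵥ ![1, 0] = ![1, 0] := by
      have hmem : a * (a * e₂ * a⁻¹ * e₂⁻¹) * a⁻¹ ∈ (⁅V, A ⊔ cjs x A⁆ : Subgroup G) :=
        (Subgroup.mem_normalizer_iff.mp (hEW haE) _).mp he₁W
      have := hcompat' ⟨a, haE⟩ ⟨_, he₁W⟩ hmem
      rw [hc₁] at this
      rw [← this, ← hc₁]
      congr 1
      apply Subtype.ext
      show a * (a * e₂ * a⁻¹ * e₂⁻¹) * a⁻¹ = a * e₂ * a⁻¹ * e₂⁻¹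
      rw [ha_e₁]; group
    have h1 : (μ.comp ι) ⟨a, haE⟩ *ᵥ ![0, 1] = ![1, 1] := by
      have hmem : a * e₂ * a⁻¹ ∈ (⁅V, A ⊔ cjs x A⁆ : Subgroup G) :=
        (Subgroup.mem_normalizer_iff.mp (hEW haE) _).mp he₂W
      have := hcompat' ⟨a, haE⟩ ⟨_, he₂W⟩ hmem
      rw [hc₂] at this
      rw [← this]
      have e : (⟨a * e₂ * a⁻¹, hmem⟩ : ↥(⁅V, A ⊔ cjs x A⁆ : Subgroup G)) =
          ⟨a * e₂ * a⁻¹ * e₂⁻¹, he₁W⟩ * ⟨e₂, he₂W⟩ := by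
        apply Subtype.ext
        show a * e₂ * a⁻¹ = a * e₂ * a⁻¹ * e₂⁻¹ * e₂
        group
      show c ⟨a * e₂ * a⁻¹, hmem⟩ = ![1, 1]
      rw [e, hcadd, hc₁, hc₂]
      funext i
      fin_cases i <;> simp
    have := matrix_eq_of_mulVec _ _ _ h0 h1
    simpa using this
  -- matrix of b
  have hfL : (x * a * x⁻¹) * (a * e₂ * a⁻¹ * e₂⁻¹) * (x * a * x⁻¹)⁻¹ * (a * e₂ * a⁻¹ * e₂⁻¹)⁻¹ ∈
      ⁅V, cjs x A⁆ := by
    have h1 : ⁅a * e₂ * a⁻¹ * e₂⁻¹, x * a * x⁻¹⁆ ∈ ⁅V, cjs x A⁆ :=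
      Subgroup.commutator_mem_commutator (hWV he₁W) hbB
    have : (x * a * x⁻¹) * (a * e₂ * a⁻¹ * e₂⁻¹) * (x * a * x⁻¹)⁻¹ * (a * e₂ * a⁻¹ * e₂⁻¹)⁻¹ =
        (⁅a * e₂ * a⁻¹ * e₂⁻¹, x * a * x⁻¹⁆)⁻¹ := by rw [commutatorElement_def]; group
    rw [this]
    exact Subgroup.inv_mem _ h1
  obtain ⟨k, hk⟩ : ∃ k : ℕ, e₂ ^ k =
      (x * a * x⁻¹) * (a * e₂ * a⁻¹ * e₂⁻¹) * (x * a * x⁻¹)⁻¹ * (a * e₂ * a⁻¹ * e₂⁻¹)⁻¹ := by
    rw [← hze₂] at hfL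
    exact mem_powers_iff_mem_zpowers.mpr hfL
  have hb0 : (μ.comp ι) ⟨x * a * x⁻¹, hbE⟩ *ᵥ ![1, 0] = ![1, (k : ZMod p)] := by
    have hmem : (x * a * x⁻¹) * (a * e₂ * a⁻¹ * e₂⁻¹) * (x * a * x⁻¹)⁻¹ ∈
        (⁅V, A ⊔ cjs x A⁆ : Subgroup G) :=
      (Subgroup.mem_normalizer_iff.mp (hEW hbE) _).mp he₁W
    have := hcompat' ⟨x * a * x⁻¹, hbE⟩ ⟨_, he₁W⟩ hmem
    rw [hc₁] at this
    rw [← this]
    have e : (⟨(x * a * x⁻¹) * (a * e₂ * a⁻¹ * e₂⁻¹) * (x * a * x⁻¹)⁻¹, hmem⟩ :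
        ↥(⁅V, A ⊔ cjs x A⁆ : Subgroup G)) =
        (⟨e₂, he₂W⟩ : ↥(⁅V, A ⊔ cjs x A⁆ : Subgroup G)) ^ k * ⟨a * e₂ * a⁻¹ * e₂⁻¹, he₁W⟩ := by
      apply Subtype.ext
      show (x * a * x⁻¹) * (a * e₂ * a⁻¹ * e₂⁻¹) * (x * a * x⁻¹)⁻¹ =
        e₂ ^ k * (a * e₂ * a⁻¹ * e₂⁻¹)
      rw [hk]; group
    show c ⟨(x * a * x⁻¹) * (a * e₂ * a⁻¹ * e₂⁻¹) * (x * a * x⁻¹)⁻¹, hmem⟩ = ![1, (k : ZMod p)]
    rw [e, hcadd, hc_pow, hc₁, hc₂]
    funext i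
    fin_cases i <;> simp
  have hb1' : (μ.comp ι) ⟨x * a * x⁻¹, hbE⟩ *ᵥ ![0, 1] = ![0, 1] := by
    have hmem : (x * a * x⁻¹) * e₂ * (x * a * x⁻¹)⁻¹ ∈ (⁅V, A ⊔ cjs x A⁆ : Subgroup G) :=
      (Subgroup.mem_normalizer_iff.mp (hEW hbE) _).mp he₂W
    have := hcompat' ⟨x * a * x⁻¹, hbE⟩ ⟨_, he₂W⟩ hmem
    rw [hc₂] at this
    rw [← this, ← hc₂]
    congr 1
    apply Subtype.ext
    show (x * a * x⁻¹) * e₂ * (x * a * x⁻¹)⁻¹ = e₂
    rw [hb_e₂]; group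
  have hμb : (μ.comp ι) ⟨x * a * x⁻¹, hbE⟩ = !![1, 0; (k : ZMod p), 1] := by
    have := matrix_eq_of_mulVec _ _ _ hb0 hb1'
    simpa using this
  have hk0 : (k : ZMod p) ≠ 0 := by
    intro h0
    rw [h0] at hb0
    -- b fixes e₁
    have hmem : (x * a * x⁻¹) * (a * e₂ * a⁻¹ * e₂⁻¹) * (x * a * x⁻¹)⁻¹ ∈
        (⁅V, A ⊔ cjs x A⁆ : Subgroup G) :=
      (Subgroup.mem_normalizer_iff.mp (hEW hbE) _).mp he₁W
    have h1 := hcompat' ⟨x * a * x⁻¹, hbE⟩ ⟨_, he₁W⟩ hmem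
    rw [hc₁, hb0, ← hc₁] at h1
    have h2 := congrArg Subtype.val (hcbij.1 h1)
    simp only at h2
    have hcomm : (x * a * x⁻¹) * (a * e₂ * a⁻¹ * e₂⁻¹) = (a * e₂ * a⁻¹ * e₂⁻¹) * (x * a * x⁻¹) := by
      calc (x * a * x⁻¹) * (a * e₂ * a⁻¹ * e₂⁻¹)
          = (x * a * x⁻¹) * (a * e₂ * a⁻¹ * e₂⁻¹) * (x * a * x⁻¹)⁻¹ * (x * a * x⁻¹) := by group
        _ = (a * e₂ * a⁻¹ * e₂⁻¹) * (x * a * x⁻¹) := by rw [h2]
    have h3 := mem_centralizer_sup_zpowers (x * a * x⁻¹) (a * e₂ * a⁻¹ * e₂⁻¹) e₂ hcomm hb_e₂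
    rw [← hWz _ hze₁] at h3
    have : x * a * x⁻¹ ∈ (A ⊔ cjs x A) ⊓
        centralizer ((⁅V, A ⊔ cjs x A⁆ : Subgroup G) : Set G) :=
      Subgroup.mem_inf.mpr ⟨hbE, h3⟩
    rw [hbot, Subgroup.mem_bot] at this
    exact hb1 this
  -- generation
  have hgen : Subgroup.closure
      ({⟨a, haE⟩, ⟨x * a * x⁻¹, hbE⟩} : Set ↥(A ⊔ cjs x A : Subgroup G)) = ⊤ := by
    have hmap : (Subgroup.closure
        ({⟨a, haE⟩, ⟨x * a * x⁻¹, hbE⟩} : Set ↥(A ⊔ cjs x A : Subgroup G))).map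
        (A ⊔ cjs x A : Subgroup G).subtype = A ⊔ cjs x A := by
      rw [MonoidHom.map_closure]
      have : (A ⊔ cjs x A : Subgroup G).subtype ''
          ({⟨a, haE⟩, ⟨x * a * x⁻¹, hbE⟩} : Set ↥(A ⊔ cjs x A : Subgroup G)) =
          {a, x * a * x⁻¹} := by
        rw [Set.image_pair]; rfl
      rw [this]
      have h2 : ({a, x * a * x⁻¹} : Set G) = {a} ∪ {x * a * x⁻¹} := by
        ext y; simp [or_comm]
      rw [h2, Subgroup.closure_union, ← zpowers_eq_closure, ← zpowers_eq_closure, hza, hzb]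
    rw [eq_top_iff]
    intro g _
    have hg : (g : G) ∈ (Subgroup.closure
        ({⟨a, haE⟩, ⟨x * a * x⁻¹, hbE⟩} : Set ↥(A ⊔ cjs x A : Subgroup G))).map
        (A ⊔ cjs x A : Subgroup G).subtype := by rw [hmap]; exact g.2
    obtain ⟨g', hg', hgg'⟩ := hg
    have : g' = g := Subtype.ext hgg'
    rwa [this] at hg'
  obtain ⟨φ, hφ⟩ := Cfsg.Agent.Lib.Helper14.SL2.exists_iso_of_matrix_hom (μ.comp ι) hinj
    ⟨a, haE⟩ ⟨x * a * x⁻¹, hbE⟩ hgen (k : ZMod p) hk0 hμa hμb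
  refine ⟨c, φ, a * e₂ * a⁻¹ * e₂⁻¹, he₁W, hcbij, hcadd, he₁L, hc₁, ?_, a, haE, haA, ha1, ?_⟩
  · intro g w h
    rw [hφ]
    exact hcompat' g w h
  · apply Subtype.ext
    rw [hφ, hμa]
    rfl

include hV hHV hf hNH hAH hAN hN hA hL hx hxA in
/-- The prime is `2` or `3`. -/
theorem pair_prime : p = 2 ∨ p = 3 := by
  have hpp : p.Prime := hp.out
  by_contra hcon
  push Not at hcon
  obtain ⟨hp2, hp3⟩ := hcon
  obtain ⟨c, φ, e₁, he₁, -, -, -, -, -, a, haE, haA, ha1, hφa⟩ :=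
    pair_rep V H N A x hV hHV hf hNH hAH hAN hN hA hL hx hxA
  have h2 : (2 : ZMod p) ≠ 0 := by
    intro h
    have h' : ((2 : ℕ) : ZMod p) = 0 := by exact_mod_cast h
    rw [ZMod.natCast_eq_zero_iff] at h'
    exact hp2 ((Nat.prime_dvd_prime_iff_eq hpp Nat.prime_two).mp h')
  obtain ⟨h, hh⟩ := Cfsg.Agent.Lib.Helper14.SL2.exists_conj_up (F := ZMod p) h2
  have h4 : Cfsg.Agent.Lib.Helper14.SL2.up (4 : ZMod p) =
      (Cfsg.Agent.Lib.Helper14.SL2.up (1 : ZMod p)) ^ 4 := by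
    rw [Cfsg.Agent.Lib.Helper14.SL2.up_pow]
    congr 1
    push_cast
    ring
  have hconj : φ.symm h * ⟨a, haE⟩ * (φ.symm h)⁻¹ = (⟨a, haE⟩ : ↥(A ⊔ cjs x A : Subgroup G)) ^ 4 := by
    apply φ.injective
    rw [map_mul, map_mul, map_inv, map_pow, MulEquiv.apply_symm_apply, hφa, hh, h4]
  have hconj' : ((φ.symm h : ↥(A ⊔ cjs x A : Subgroup G)) : G) * a *
      ((φ.symm h : ↥(A ⊔ cjs x A : Subgroup G)) : G)⁻¹ = a ^ 4 := by
    have := congrArg Subtype.val hconj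
    simpa using this
  have hAab : A ≤ centralizer (A : Set G) := by
    obtain ⟨a', -, -, hza', -⟩ := exists_generator A hA
    rw [← hza']
    intro u hu
    rw [Subgroup.mem_centralizer_iff]
    intro v hv
    obtain ⟨i, rfl⟩ := Subgroup.mem_zpowers_iff.mp hu
    obtain ⟨j, rfl⟩ := Subgroup.mem_zpowers_iff.mp hv
    exact ((Commute.refl a').zpow_zpow j i).eq
  have hEle : A ⊔ cjs x A ≤ N ⊔ A := pair_le_sup N A x hAN hx
  have hcomm : ⁅((φ.symm h : ↥(A ⊔ cjs x A : Subgroup G)) : G), a⁆ ∈ N :=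
    commutator_sup_le N A hAab hAN
      (Subgroup.commutator_mem_commutator (hEle (φ.symm h).2) (hEle haE))
  have h3 : a ^ 3 ∈ N := by
    have : ⁅((φ.symm h : ↥(A ⊔ cjs x A : Subgroup G)) : G), a⁆ = a ^ 3 := by
      rw [commutatorElement_def, hconj']
      rw [show (4 : ℕ) = 3 + 1 from rfl, pow_succ]
      group
    rwa [this] at hcomm
  have hAp : IsPGroup p A := IsPGroup.of_card (n := 1) (by rw [hA, pow_one])
  have h3' : a ^ 3 ∈ A ⊓ N := Subgroup.mem_inf.mpr ⟨A.pow_mem haA 3, h3⟩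
  rw [inf_eq_bot_of_coprime A N hAp hN, Subgroup.mem_bot] at h3'
  have hord : orderOf a = p := by
    have hap : a ^ p = 1 := by
      have := hAp ⟨a, haA⟩
      obtain ⟨k, hk⟩ := this
      have h1 : orderOf a ∣ Nat.card A := Subgroup.orderOf_dvd_natCard A haA
      rw [hA] at h1
      exact orderOf_dvd_iff_pow_eq_one.mp h1
    exact orderOf_eq_prime hap ha1
  have hdvd : p ∣ 3 := by rw [← hord]; exact orderOf_dvd_of_pow_eq_one h3'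
  exact hp3 ((Nat.prime_dvd_prime_iff_eq hpp Nat.prime_three).mp hdvd)

end pair

end Cfsg.Agent.Lib.Helper14.Off
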