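import Mathlib

/-!
# Some explicit elements of `SL₂(2)` and `SL₂(3)` (helper14)
-/

set_option autoImplicit false

namespace Cfsg.Agent.Lib.Helper14.SL2

open Matrix

theorem exists_order_three :
    ∃ g : Matrix.SpecialLinearGroup (Fin 2) (ZMod 2), g ≠ 1 ∧ g ^ 3 = 1 := by
  refine ⟨⟨!![0, 1; 1, 1], by decide⟩, ?_, by decide⟩
  intro h
  have h' := congrArg (fun g : Matrix.SpecialLinearGroup (Fin 2) (ZMod 2) => g.1 0 0) h
  revert h'
  simp

theorem exists_order_two :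
    ∃ g : Matrix.SpecialLinearGroup (Fin 2) (ZMod 3), g ≠ 1 ∧ g ^ 2 = 1 := by
  refine ⟨⟨!![2, 0; 0, 2], by decide⟩, ?_, by decide⟩
  intro h
  have h' := congrArg (fun g : Matrix.SpecialLinearGroup (Fin 2) (ZMod 3) => g.1 0 0) h
  revert h'
  simp
  decide

theorem exists_noncomm :
    ∃ g h : Matrix.SpecialLinearGroup (Fin 2) (ZMod 3), g ^ 4 = 1 ∧ h ^ 4 = 1 ∧ g * h ≠ h * g := by
  refine ⟨⟨!![0, 2; 1, 0], by decide⟩, ⟨!![1, 1; 1, 2], by decide⟩, by decide, by decide, by decide⟩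

end Cfsg.Agent.Lib.Helper14.SL2
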