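import Mathlib
import Cfsg.Agent.Lib.Helper14.Offender6
import Cfsg.Agent.Lib.Helper14.SL2Small
import Cfsg.Agent.Lib.Helper14.CoprimeIndex
import Cfsg.Agent.Lib.Helper2.CoprimeSylow

/-!
# KS 9.3: the commutator `[O_{p'}(H), A]` for a minimal offender `A` (helper14)
-/

set_option autoImplicit false

namespace Cfsg.Agent.Lib.Helper14.Off

open Cfsg Subgroup
open scoped Pointwise commutatorElement

variable {G : Type*} [Group G]

/-- a group of prime order is abelian -/
theorem le_centralizer_self_of_card_prime [Finite G] {p : ℕ} [hp : Fact p.Prime] (A : Subgroup G)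
    (hA : Nat.card A = p) : A ≤ centralizer (A : Set G) := by
  obtain ⟨a', -, -, hza', -⟩ := exists_generator A hA
  rw [← hza']
  intro u hu
  rw [Subgroup.mem_centralizer_iff]
  intro v hv
  obtain ⟨i, rfl⟩ := Subgroup.mem_zpowers_iff.mp hu
  obtain ⟨j, rfl⟩ := Subgroup.mem_zpowers_iff.mp hv
  exact ((Commute.refl a').zpow_zpow j i).eq

theorem le_normalizer_commutator (N A : Subgroup G) (hAN : A ≤ normalizer (N : Set G)) :
    A ≤ normalizer ((⁅N, A⁆ : Subgroup G) : Set G) := by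
  apply le_normalizer_of_forall_conj_mem
  intro e he d hd
  have h1 : e * d * e⁻¹ ∈ cjs e ⁅N, A⁆ := (mem_cjs_iff e _ _).mpr ⟨d, hd, rfl⟩
  rw [cjs_commutator, cjs_eq_self_of_mem_normalizer e N (hAN he),
    cjs_eq_self_of_mem_normalizer e A (Subgroup.le_normalizer he)] at h1
  exact h1

theorem commutator_le_of_le_normalizer (N A : Subgroup G) (hAN : A ≤ normalizer (N : Set G)) :
    ⁅N, A⁆ ≤ N := by
  rw [Subgroup.commutator_le]
  intro k hk a ha
  have e : ⁅k, a⁆ = k * (a * k⁻¹ * a⁻¹) := by rw [commutatorElement_def]; group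
  rw [e]
  exact N.mul_mem hk ((Subgroup.mem_normalizer_iff.mp (hAN ha) _).mp (N.inv_mem hk))

section pair2

variable [Finite G] {p : ℕ} [hp : Fact p.Prime] (V H N A : Subgroup G)
  (hV : Cfsg.IsElementaryAbelian p V) (hHV : H ≤ normalizer (V : Set G))
  (hf : H ⊓ centralizer (V : Set G) = ⊥)
  (hNH : N ≤ H) (hAH : A ≤ H) (hAN : A ≤ normalizer (N : Set G)) (hN : (Nat.card N).Coprime p)
  (hA : Nat.card A = p) (hL : Nat.card (⁅V, A⁆ : Subgroup G) = p)

include hV hHV hf hNH hAH hAN hN hA hL in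
/-- If `SL₂(p)` has an element of prime order `q ≠ p` and `A` does not centralize `N`,
then `q` divides `|N|`. -/
theorem dvd_card_of_not_le (q : ℕ) (hq : q.Prime) (hqp : q ≠ p)
    (hg : ∃ g : Matrix.SpecialLinearGroup (Fin 2) (ZMod p), g ≠ 1 ∧ g ^ q = 1)
    (hNA : ¬ N ≤ centralizer (A : Set G)) : q ∣ Nat.card N := by
  have hpp : p.Prime := hp.out
  obtain ⟨x, hx, hxA⟩ := SetLike.not_le_iff_exists.mp hNA
  obtain ⟨c, φ, -⟩ := pair_rep V H N A x hV hHV hf hNH hAH hAN hN hA hL hx hxA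
  obtain ⟨g₀, hg1, hgq⟩ := hg
  have hAp : IsPGroup p A := IsPGroup.of_card (n := 1) (by rw [hA, pow_one])
  have hmem : ((φ.symm g₀ : ↥(A ⊔ cjs x A : Subgroup G)) : G) ∈ N ⊔ A :=
    pair_le_sup N A x hAN hx (φ.symm g₀).2
  have hne : ((φ.symm g₀ : ↥(A ⊔ cjs x A : Subgroup G)) : G) ≠ 1 := by
    intro h
    apply hg1
    have : φ.symm g₀ = 1 := Subtype.ext h
    rw [← φ.apply_symm_apply g₀, this, map_one]
  have hpow : ((φ.symm g₀ : ↥(A ⊔ cjs x A : Subgroup G)) : G) ^ q = 1 := by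
    have : (φ.symm g₀) ^ q = 1 := by rw [← map_pow, hgq, map_one]
    have := congrArg Subtype.val this
    simpa using this
  haveI : Fact q.Prime := ⟨hq⟩
  have hord : orderOf ((φ.symm g₀ : ↥(A ⊔ cjs x A : Subgroup G)) : G) = q :=
    orderOf_eq_prime hpow hne
  have hcop : (orderOf ((φ.symm g₀ : ↥(A ⊔ cjs x A : Subgroup G)) : G)).Coprime p := by
    rw [hord]; exact (Nat.coprime_primes hq hpp).mpr hqp
  have hin := mem_of_coprime_order N A hAN hN hAp _ hmem hcop
  rw [← hord]
  exact Subgroup.orderOf_dvd_natCard N hin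

include hV hHV hf hNH hAH hAN hN hA hL in
/-- `[N, A]` is a `q`-group when `SL₂(p)` has elements of prime order `q ≠ p`. -/
theorem commutator_isPGroup (q : ℕ) [hq : Fact q.Prime] (hqp : q ≠ p)
    (hg : ∃ g : Matrix.SpecialLinearGroup (Fin 2) (ZMod p), g ≠ 1 ∧ g ^ q = 1) :
    IsPGroup q (⁅N, A⁆ : Subgroup G) := by
  have hpp : p.Prime := hp.out
  have hAab := le_centralizer_self_of_card_prime A hA
  have hcop : (Nat.card A).Coprime (Nat.card N) := by rw [hA]; exact hN.symm
  have hsolv : IsSolvable A ∨ IsSolvable N := by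
    left
    apply isSolvable_of_comm
    intro a b
    apply Subtype.ext
    have := Subgroup.mem_centralizer_iff.mp (hAab b.2) a a.2
    simpa using this
  -- invariant Sylow subgroups for other primes are centralized
  have hcent : ∀ r : ℕ, r.Prime → r ≠ q →
      ∀ r' : ℕ, r' = r → ∀ [Fact r'.Prime], ∀ P : Sylow r' N,
      A ≤ normalizer (((P : Subgroup N).map N.subtype : Subgroup G) : Set G) →
      (P : Subgroup N).map N.subtype ≤ centralizer (A : Set G) := by
    intro r hr hrq r' hr' _ P hPA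
    subst hr'
    by_contra hcon
    have hPN : (P : Subgroup N).map N.subtype ≤ N := Subgroup.map_subtype_le _
    have hPcop : (Nat.card ((P : Subgroup N).map N.subtype : Subgroup G)).Coprime p :=
      Nat.Coprime.coprime_dvd_left (Subgroup.card_dvd_of_le hPN) hN
    have hdvd := dvd_card_of_not_le V H _ A hV hHV hf (hPN.trans hNH) hAH hPA hPcop hA hL q
      hq.out hqp hg hcon
    rw [Subgroup.card_map_of_injective N.subtype_injective] at hdvd
    obtain ⟨n, hn⟩ := P.isPGroup'.exists_card_eq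
    rw [hn] at hdvd
    have := (Nat.prime_dvd_prime_iff_eq hq.out hr).mp (hq.out.dvd_of_dvd_pow hdvd)
    exact hrq this.symm
  -- the centralizer has `q`-power index
  set C' : Subgroup N := (centralizer (A : Set G)).subgroupOf N with hC'
  have hidx : ∀ r : ℕ, r.Prime → r ∣ C'.index → r = q := by
    intro r hr hdvd
    by_contra hrq
    haveI : Fact r.Prime := ⟨hr⟩
    obtain ⟨P, hPA⟩ := Cfsg.Agent.Lib.Helper2.exists_invariant_sylow A N hAN hcop hsolv r
    have hPC := hcent r hr hrq r rfl P hPA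
    have hle : (P : Subgroup N) ≤ C' := by
      intro y hy
      rw [hC', Subgroup.mem_subgroupOf]
      exact hPC (Subgroup.mem_map_of_mem N.subtype hy)
    have h1 : C'.index ∣ (P : Subgroup N).index := Subgroup.index_dvd_of_le hle
    exact P.not_dvd_index (hdvd.trans h1)
  have hC'pos : C'.index ≠ 0 := by
    intro h0
    have := Subgroup.index_dvd_card C'
    rw [h0, zero_dvd_iff] at this
    exact Nat.card_pos.ne' this
  have hC'pow : C'.index = q ^ C'.index.primeFactorsList.length :=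
    Nat.eq_prime_pow_of_unique_prime_dvd hC'pos (fun {d} hd hdvd => hidx d hd hdvd)
  -- an invariant Sylow `q`-subgroup
  obtain ⟨Q, hQA⟩ := Cfsg.Agent.Lib.Helper2.exists_invariant_sylow A N hAN hcop hsolv q
  have hcopidx : Nat.Coprime (Q : Subgroup N).index C'.index := by
    rw [hC'pow]
    apply Nat.Coprime.pow_right
    exact ((Nat.Prime.coprime_iff_not_dvd hq.out).mpr Q.not_dvd_index).symm
  have hle : ⁅N, A⁆ ≤ (Q : Subgroup N).map N.subtype := by
    rw [Subgroup.commutator_le]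
    intro k hk a ha
    obtain ⟨y, hy, c, hc, hyc⟩ :=
      Cfsg.Agent.Lib.Helper14.CopIdx.exists_mul_of_coprime_index (Q : Subgroup N) C' hcopidx ⟨k, hk⟩
    have hk' : k = (y : G) * (c : G) := by
      have := congrArg Subtype.val hyc
      simpa using this.symm
    have hcA : (c : G) ∈ centralizer (A : Set G) := by
      rw [hC', Subgroup.mem_subgroupOf] at hc
      exact hc
    have hca : (c : G) * a = a * (c : G) := (Subgroup.mem_centralizer_iff.mp hcA a ha).symm
    have hyQ : (y : G) ∈ (Q : Subgroup N).map N.subtype := Subgroup.mem_map_of_mem N.subtype hy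
    have e : ⁅k, a⁆ = (y : G) * (a * (y : G)⁻¹ * a⁻¹) := by
      rw [hk', commutatorElement_def]
      have : (y : G) * (c : G) * a * ((y : G) * (c : G))⁻¹ * a⁻¹ =
          (y : G) * ((c : G) * a) * (c : G)⁻¹ * (y : G)⁻¹ * a⁻¹ := by group
      rw [this, hca]
      group
    rw [e]
    apply Subgroup.mul_mem _ hyQ
    exact (Subgroup.mem_normalizer_iff.mp (hQA ha) _).mp (Subgroup.inv_mem _ hyQ)
  have hQp : IsPGroup q ((Q : Subgroup N).map N.subtype : Subgroup G) := Q.isPGroup'.map _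
  exact hQp.to_le hle

include hV hHV hf hNH hAH hAN hN hA hL in
/-- For `p = 3` the commutator `[N, A]` is non-abelian (when `A` acts nontrivially). -/
theorem commutator_not_comm (hp3 : p = 3) (hNA : ¬ N ≤ centralizer (A : Set G)) :
    ¬ IsMulCommutative (⁅N, A⁆ : Subgroup G) := by
  subst hp3
  obtain ⟨x, hx, hxA⟩ := SetLike.not_le_iff_exists.mp hNA
  obtain ⟨c, φ, -⟩ := pair_rep V H N A x hV hHV hf hNH hAH hAN hN hA hL hx hxA
  obtain ⟨g₀, h₀, hg4, hh4, hgh⟩ := Cfsg.Agent.Lib.Helper14.SL2.exists_noncomm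
  have hAp : IsPGroup 3 A := IsPGroup.of_card (n := 1) (by rw [hA, pow_one])
  have hRA := le_normalizer_commutator N A hAN
  have hRN : ⁅N, A⁆ ≤ N := commutator_le_of_le_normalizer N A hAN
  have hRcop : (Nat.card (⁅N, A⁆ : Subgroup G)).Coprime 3 :=
    Nat.Coprime.coprime_dvd_left (Subgroup.card_dvd_of_le hRN) hN
  have hEle : A ⊔ cjs x A ≤ ⁅N, A⁆ ⊔ A := by
    apply sup_le le_sup_right
    intro g hg
    obtain ⟨a, ha, rfl⟩ := (mem_cjs_iff x A g).mp hg
    have : x * a * x⁻¹ = ⁅x, a⁆ * a := by rw [commutatorElement_def]; group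
    rw [this]
    exact Subgroup.mul_mem _ (le_sup_left (a := ⁅N, A⁆) (Subgroup.commutator_mem_commutator hx ha))
      (le_sup_right (a := ⁅N, A⁆) ha)
  have key : ∀ g₁ : Matrix.SpecialLinearGroup (Fin 2) (ZMod 3), g₁ ^ 4 = 1 →
      ((φ.symm g₁ : ↥(A ⊔ cjs x A : Subgroup G)) : G) ∈ ⁅N, A⁆ := by
    intro g₁ h4
    have hpow : ((φ.symm g₁ : ↥(A ⊔ cjs x A : Subgroup G)) : G) ^ 4 = 1 := by
      have : (φ.symm g₁) ^ 4 = 1 := by rw [← map_pow, h4, map_one]
      have := congrArg Subtype.val this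
      simpa using this
    have hcop : (orderOf ((φ.symm g₁ : ↥(A ⊔ cjs x A : Subgroup G)) : G)).Coprime 3 := by
      have : orderOf ((φ.symm g₁ : ↥(A ⊔ cjs x A : Subgroup G)) : G) ∣ 4 :=
        orderOf_dvd_of_pow_eq_one hpow
      exact Nat.Coprime.coprime_dvd_left this (by norm_num)
    exact mem_of_coprime_order _ A hRA hRcop hAp _ (hEle (φ.symm g₁).2) hcop
  intro hcomm
  apply hgh
  have h1 := key g₀ hg4
  have h2 := key h₀ hh4
  have h3 : (⟨_, h1⟩ : ↥(⁅N, A⁆ : Subgroup G)) * ⟨_, h2⟩ = ⟨_, h2⟩ * ⟨_, h1⟩ := mul_comm' _ _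
  have h4 : ((φ.symm g₀ : ↥(A ⊔ cjs x A : Subgroup G)) : G) * (φ.symm h₀ : ↥(A ⊔ cjs x A : Subgroup G)) =
      (φ.symm h₀ : ↥(A ⊔ cjs x A : Subgroup G)) * (φ.symm g₀ : ↥(A ⊔ cjs x A : Subgroup G)) := by
    have := congrArg Subtype.val h3
    simpa using this
  have h5 : φ.symm g₀ * φ.symm h₀ = φ.symm h₀ * φ.symm g₀ := Subtype.ext h4
  have := congrArg φ h5
  simpa using this

end pair2

end Cfsg.Agent.Lib.Helper14.Off
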