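import Mathlib
import Cfsg.Agent.Lib.Helper14.Offender7

/-!
# KS 9.3: structure of `E = [O_{p'}(H), A] A` (helper14)
-/

set_option autoImplicit false

namespace Cfsg.Agent.Lib.Helper14.Off

open Cfsg Subgroup
open scoped Pointwise commutatorElement

variable {G : Type*} [Group G]

theorem cjs_mul (g h : G) (A : Subgroup G) : cjs (g * h) A = cjs g (cjs h A) := by
  ext y
  simp only [mem_cjs_iff]
  constructor
  · rintro ⟨a, ha, rfl⟩
    exact ⟨h * a * h⁻¹, ⟨a, ha, rfl⟩, by group⟩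
  · rintro ⟨b, ⟨a, ha, rfl⟩, rfl⟩
    exact ⟨a, ha, by group⟩

theorem cjs_one (A : Subgroup G) : cjs 1 A = A := by
  ext y
  simp only [mem_cjs_iff]
  constructor
  · rintro ⟨a, ha, rfl⟩
    simpa using ha
  · intro hy
    exact ⟨y, hy, by simp⟩

theorem cjs_eq_self_of_mem_centralizer (x : G) (A : Subgroup G)
    (hx : x ∈ centralizer (A : Set G)) : cjs x A = A :=
  cjs_eq_self_of_mem_normalizer x A (Subgroup.centralizer_le_normalizer _ hx)

theorem cjs_mono (x : G) {A B : Subgroup G} (h : A ≤ B) : cjs x A ≤ cjs x B :=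
  Subgroup.map_mono h

theorem cjs_sup (x : G) (A B : Subgroup G) : cjs x (A ⊔ B) = cjs x A ⊔ cjs x B :=
  Subgroup.map_sup A B _

theorem le_centralizer_sup (A X Y : Subgroup G) (hX : A ≤ centralizer (X : Set G))
    (hY : A ≤ centralizer (Y : Set G)) : A ≤ centralizer ((X ⊔ Y : Subgroup G) : Set G) := by
  rw [Subgroup.le_centralizer_iff]
  exact sup_le (Subgroup.le_centralizer_iff.mp hX) (Subgroup.le_centralizer_iff.mp hY)

/-- transvection-like subgroups: order `p` with `|[V, A]| = p` -/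
def Tv (p : ℕ) (V H A : Subgroup G) : Prop :=
  A ≤ H ∧ Nat.card A = p ∧ Nat.card (⁅V, A⁆ : Subgroup G) = p

/-- the subgroup `[O_{p'}(H), A] A` -/
noncomputable abbrev EE (p : ℕ) (H A : Subgroup G) : Subgroup G := ⁅kk p H, A⁆ ⊔ A

section struct

variable [Finite G] {p : ℕ} [hp : Fact p.Prime] (V H : Subgroup G)
  (hV : Cfsg.IsElementaryAbelian p V) (hHV : H ≤ normalizer (V : Set G))
  (hf : H ⊓ centralizer (V : Set G) = ⊥)
  (hS1' : H ⊓ centralizer (kk p H : Set G) ≤ kk p H)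

include hHV in
theorem Tv.conj {A : Subgroup G} (hA : Tv p V H A) {h : G} (hh : h ∈ H) : Tv p V H (cjs h A) := by
  obtain ⟨hAH, hcA, hcL⟩ := hA
  refine ⟨cjs_le_of_mem h A H hh hAH, by rw [card_cjs, hcA], ?_⟩
  have h1 : cjs h V = V := cjs_eq_self_of_mem_normalizer h V (hHV hh)
  have h2 := cjs_commutator h V A
  rw [h1] at h2
  rw [← h2, card_cjs, hcL]

omit [Finite G] in
theorem Tv.ne_bot {A : Subgroup G} (hA : Tv p V H A) : A ≠ ⊥ := by
  intro h
  have := hA.2.1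
  rw [h, Subgroup.card_bot] at this
  exact hp.out.one_lt.ne this

omit [Finite G] in
theorem Tv.isPGroup {A : Subgroup G} (hA : Tv p V H A) : IsPGroup p A :=
  IsPGroup.of_card (n := 1) (by rw [hA.2.1, pow_one])

include hS1' in
theorem Tv.not_le_centralizer {A : Subgroup G} (hA : Tv p V H A) :
    ¬ kk p H ≤ centralizer (A : Set G) := by
  intro h
  exact hA.ne_bot V H (eq_bot_of_le_centralizer_kk H A hS1' hA.1 (hA.isPGroup V H)
    (Subgroup.le_centralizer_iff.mp h))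

include hS1' in
theorem Tv.exists_not_mem {A : Subgroup G} (hA : Tv p V H A) :
    ∃ x ∈ kk p H, x ∉ centralizer (A : Set G) :=
  SetLike.not_le_iff_exists.mp (hA.not_le_centralizer V H hS1')

include hV hHV hf in
/-- **Transitivity.** Every point of the plane `[V, ⟨A, A^x⟩]` is the commutator of a
`K`-conjugate of `A` inside `⟨A, A^x⟩`. -/
theorem Tv.exists_conj {A : Subgroup G} (hA : Tv p V H A) {x : G} (hx : x ∈ kk p H)
    (hxA : x ∉ centralizer (A : Set G)) {w : G} (hw : w ∈ (⁅V, A ⊔ cjs x A⁆ : Subgroup G))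
    (hw1 : w ≠ 1) :
    ∃ k ∈ kk p H, ⁅V, cjs k A⁆ = zpowers w ∧ cjs k A ≤ A ⊔ cjs x A := by
  obtain ⟨hAH, hcA, hcL⟩ := hA
  have hN := kk_coprime p H
  have hNH := kk_le p H
  have hAN : A ≤ normalizer (kk p H : Set G) := hAH.trans (kk_normal p H)
  obtain ⟨c, φ, e₁, he₁, hcbij, hcadd, he₁L, hce₁, hcompat, -⟩ :=
    pair_rep V H _ A x hV hHV hf hNH hAH hAN hN hcA hcL hx hxA
  have hc1 : c 1 = 0 := by
    have := hcadd 1 1
    rw [mul_one] at this
    exact left_eq_add.mp this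
  have hcw : c ⟨w, hw⟩ ≠ 0 := by
    intro h
    apply hw1
    have := hcbij.1 (h.trans hc1.symm)
    exact congrArg Subtype.val this
  obtain ⟨g₀, hg₀⟩ := Cfsg.Agent.Lib.Helper14.SL2.exists_mulVec_eq (c ⟨w, hw⟩) hcw
  have hEH : A ⊔ cjs x A ≤ H := pair_le V H _ A x hHV hNH hAH hx
  have hEW := le_normalizer_commutator V (A ⊔ cjs x A) (hEH.trans hHV)
  have hmem : ((φ.symm g₀ : ↥(A ⊔ cjs x A : Subgroup G)) : G) * e₁ *
      ((φ.symm g₀ : ↥(A ⊔ cjs x A : Subgroup G)) : G)⁻¹ ∈ (⁅V, A ⊔ cjs x A⁆ : Subgroup G) :=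
    (Subgroup.mem_normalizer_iff.mp (hEW (φ.symm g₀).2) e₁).mp he₁
  have h1 := hcompat (φ.symm g₀) ⟨e₁, he₁⟩ hmem
  rw [φ.apply_symm_apply, hce₁, hg₀] at h1
  have h2 : ((φ.symm g₀ : ↥(A ⊔ cjs x A : Subgroup G)) : G) * e₁ *
      ((φ.symm g₀ : ↥(A ⊔ cjs x A : Subgroup G)) : G)⁻¹ = w := congrArg Subtype.val (hcbij.1 h1)
  -- `e₁` generates `[V, A]`
  have he₁1 : e₁ ≠ 1 := by
    intro h
    have : c ⟨e₁, he₁⟩ = 0 := by
      have : (⟨e₁, he₁⟩ : ↥(⁅V, A ⊔ cjs x A⁆ : Subgroup G)) = 1 := Subtype.ext h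
      rw [this, hc1]
    rw [hce₁] at this
    have := congrFun this 0
    simp at this
  have hz : zpowers e₁ = ⁅V, A⁆ := by
    rcases eq_bot_or_eq_of_card_prime hp.out ⁅V, A⁆ (zpowers e₁) hcL
      (by rw [zpowers_le]; exact he₁L) with h | h
    · exfalso
      apply he₁1
      have : e₁ ∈ zpowers e₁ := mem_zpowers e₁
      rwa [h, Subgroup.mem_bot] at this
    · exact h
  -- decompose `g`
  have hgmem : ((φ.symm g₀ : ↥(A ⊔ cjs x A : Subgroup G)) : G) ∈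
      ((A ⊔ kk p H : Subgroup G) : Set G) := by
    have := pair_le_sup (kk p H) A x hAN hx (φ.symm g₀).2
    rw [sup_comm] at this
    exact this
  rw [Subgroup.coe_mul_of_left_le_normalizer_right A (kk p H) hAN] at hgmem
  obtain ⟨a, ha, n, hn, hg⟩ := Set.mem_mul.mp hgmem
  have hk : a * n * a⁻¹ ∈ kk p H := (Subgroup.mem_normalizer_iff.mp (hAN ha) n).mp hn
  have hg' : ((φ.symm g₀ : ↥(A ⊔ cjs x A : Subgroup G)) : G) = (a * n * a⁻¹) * a := by
    rw [← hg]; group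
  have hcj : cjs ((φ.symm g₀ : ↥(A ⊔ cjs x A : Subgroup G)) : G) A = cjs (a * n * a⁻¹) A := by
    rw [hg', cjs_mul, cjs_eq_self_of_mem_normalizer a A (Subgroup.le_normalizer ha)]
  refine ⟨a * n * a⁻¹, hk, ?_, ?_⟩
  · have hgV : cjs ((φ.symm g₀ : ↥(A ⊔ cjs x A : Subgroup G)) : G) V = V :=
      cjs_eq_self_of_mem_normalizer _ V (hHV (hEH (φ.symm g₀).2))
    rw [← hcj, ← h2, ← cjs_zpowers, hz, cjs_commutator, hgV]
  · rw [← hcj]
    exact cjs_le_of_mem _ A _ (φ.symm g₀).2 le_sup_left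

include hV hHV hf hS1' in
/-- **Uniqueness.** A transvection-like subgroup is determined by its commutator. -/
theorem Tv.eq_of_commutator_eq {A B : Subgroup G} (hA : Tv p V H A) (hB : Tv p V H B)
    (h : ⁅V, A⁆ = ⁅V, B⁆) : A = B := by
  by_contra hne
  have hpp : p.Prime := hp.out
  obtain ⟨hVab, hVe⟩ := Cfsg.Agent.Lib.Helper17.ea_iff.mp hV
  have hAp := hA.isPGroup V H
  have hBp := hB.isPGroup V H
  have hAL : A ≤ centralizer ((⁅V, A⁆ : Subgroup G) : Set G) :=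
    le_centralizer_commutator V A (hA.1.trans hHV) hAp hA.2.2
  have hBL : B ≤ centralizer ((⁅V, A⁆ : Subgroup G) : Set G) := by
    rw [h]; exact le_centralizer_commutator V B (hB.1.trans hHV) hBp hB.2.2
  have hPL : A ⊔ B ≤ centralizer ((⁅V, A⁆ : Subgroup G) : Set G) := sup_le hAL hBL
  have hPH : A ⊔ B ≤ H := sup_le hA.1 hB.1
  have hLV : ⁅V, A⁆ ≤ V :=
    Cfsg.Agent.Lib.Helper13.commutator_le_of_le_normalizer V A (hA.1.trans hHV)
  have hVP : ⁅V, A ⊔ B⁆ ≤ ⁅V, A⁆ :=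
    Cfsg.Agent.S2833.commutator_sup_le_of V A B _
      (hAL.trans (Subgroup.centralizer_le_normalizer _))
      (hBL.trans (Subgroup.centralizer_le_normalizer _)) le_rfl (le_of_eq h.symm)
  have h1 : ⁅⁅V, A ⊔ B⁆, A ⊔ B⁆ = ⊥ := by
    rw [eq_bot_iff]
    calc ⁅⁅V, A ⊔ B⁆, A ⊔ B⁆ ≤ ⁅⁅V, A⁆, A ⊔ B⁆ := Subgroup.commutator_mono hVP le_rfl
      _ = ⊥ := by
        rw [Subgroup.commutator_eq_bot_iff_le_centralizer]
        exact Subgroup.le_centralizer_iff.mp hPL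
  have h2 : ⁅⁅A ⊔ B, V⁆, A ⊔ B⁆ = ⊥ := by rw [Subgroup.commutator_comm (A ⊔ B) V]; exact h1
  have h3 : ⁅⁅A ⊔ B, A ⊔ B⁆, V⁆ = ⊥ := Subgroup.commutator_commutator_eq_bot_of_rotate h2 h1
  have hPab : IsMulCommutative ↥(A ⊔ B : Subgroup G) := by
    rw [← le_centralizer_iff_isMulCommutative, ← Subgroup.commutator_eq_bot_iff_le_centralizer,
      eq_bot_iff, ← hf]
    refine le_inf ?_ ?_
    · rw [Subgroup.commutator_le]
      intro a ha b hb
      rw [commutatorElement_def]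
      exact H.mul_mem (H.mul_mem (H.mul_mem (hPH ha) (hPH hb)) (H.inv_mem (hPH ha)))
        (H.inv_mem (hPH hb))
    · rw [Subgroup.commutator_eq_bot_iff_le_centralizer] at h3
      exact h3
  have hexp : ∀ g ∈ A ⊔ B, g ^ p = 1 := by
    intro g hg
    have hc := pow_mem_centralizer V ⁅V, A⁆ hVe hLV g (hPL hg) (by
      intro v hv
      apply hVP
      have : g * v * g⁻¹ * v⁻¹ = ⁅g, v⁆ := by rw [commutatorElement_def]
      rw [this, Subgroup.commutator_comm]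
      exact Subgroup.commutator_mem_commutator hg hv)
    have : g ^ p ∈ H ⊓ centralizer (V : Set G) :=
      Subgroup.mem_inf.mpr ⟨H.pow_mem (hPH hg) p, hc⟩
    rwa [hf, Subgroup.mem_bot] at this
  have hPp : IsPGroup p ↥(A ⊔ B : Subgroup G) := by
    intro g
    refine ⟨1, ?_⟩
    apply Subtype.ext
    rw [pow_one]
    simpa using hexp g g.2
  have hNH := kk_le p H
  have hN := kk_coprime p H
  have hBN : B ≤ normalizer (kk p H : Set G) := hB.1.trans (kk_normal p H)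
  have hLne : (⁅V, A⁆ : Subgroup G) ≠ ⊥ := by
    intro h0
    have := hA.2.2
    rw [h0, Subgroup.card_bot] at this
    exact hpp.one_lt.ne this
  have hBbot : B = ⊥ := by
    apply eq_bot_of_forall H (A ⊔ B) B hS1' hPH hPab hPp le_sup_right
    rintro P₀ hP₀ ⟨a, ha, hsup⟩
    rw [Subgroup.le_centralizer_iff]
    intro x hx
    obtain ⟨hxK, hxP₀⟩ := Subgroup.mem_inf.mp hx
    by_contra hxB
    have hinf := pair_commutator_inf V H (kk p H) B x hV hHV hf hNH hB.1 hBN hN hB.2.1 hB.2.2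
      hxK hxB
    have hP₀ne : P₀ ≠ ⊥ := by
      intro h0
      rw [h0, bot_sup_eq] at hsup
      have hcard : Nat.card ↥(A ⊔ B : Subgroup G) ≤ p := by
        rw [← hsup, Nat.card_zpowers]
        exact orderOf_le_of_pow_eq_one hpp.pos (hexp a ha)
      have hAP : A = A ⊔ B :=
        Subgroup.eq_of_le_of_card_ge le_sup_left (by rw [hA.2.1]; exact hcard)
      have hBP : B = A ⊔ B :=
        Subgroup.eq_of_le_of_card_ge le_sup_right (by rw [hB.2.1]; exact hcard)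
      exact hne (hAP.trans hBP.symm)
    have hVP₀ : ⁅V, P₀⁆ = ⁅V, A⁆ := by
      rcases eq_bot_or_eq_of_card_prime hpp ⁅V, A⁆ ⁅V, P₀⁆ hA.2.2
        ((Subgroup.commutator_mono le_rfl hP₀).trans hVP) with h0 | h0
      · exact absurd h0 (commutator_ne_bot V H P₀ hf (hP₀.trans hPH) hP₀ne)
      · exact h0
    have hxV : cjs x V = V := cjs_eq_self_of_mem_normalizer x V (hHV (hNH hxK))
    have hcj : cjs x ⁅V, A⁆ = ⁅V, A⁆ := by
      have h5 := cjs_commutator x V P₀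
      rw [hxV, cjs_eq_self_of_mem_centralizer x P₀ hxP₀, hVP₀] at h5
      exact h5
    have h6 : ⁅V, cjs x B⁆ = ⁅V, A⁆ := by
      have h5 := cjs_commutator x V B
      rw [hxV, ← h, hcj] at h5
      exact h5.symm
    rw [← h, h6, inf_idem] at hinf
    exact hLne hinf
  exact hB.ne_bot V H hBbot

include hV hHV in
/-- `|C_V(A)| · p = |V|` for a transvection-like `A`. -/
theorem Tv.card_cv {A : Subgroup G} (hA : Tv p V H A) :
    p * Nat.card (V ⊓ centralizer (A : Set G) : Subgroup G) = Nat.card V := by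
  obtain ⟨hVab, hVe⟩ := Cfsg.Agent.Lib.Helper17.ea_iff.mp hV
  obtain ⟨a, haA, -, hza, -⟩ := exists_generator A hA.2.1
  have := card_commutator_zpowers_mul V hVab a (hHV (hA.1 haA))
  rw [hza, hA.2.2] at this
  exact this

include hV hHV hf in
/-- **Planes coincide.** All the planes `[V, ⟨A, A^x⟩]`, `x ∈ K`, coincide. -/
theorem Tv.commutator_cjs_le {A : Subgroup G} (hA : Tv p V H A) {x y : G} (hx : x ∈ kk p H)
    (hxA : x ∉ centralizer (A : Set G)) (hy : y ∈ kk p H) :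
    ⁅V, cjs y A⁆ ≤ ⁅V, A ⊔ cjs x A⁆ := by
  have hpp : p.Prime := hp.out
  have hNH := kk_le p H
  have hN := kk_coprime p H
  have hAN : A ≤ normalizer (kk p H : Set G) := hA.1.trans (kk_normal p H)
  have hWeq := commutator_pair V H (kk p H) A x hV hHV hNH hA.1 hx
  by_cases hyA : y ∈ centralizer (A : Set G)
  · rw [cjs_eq_self_of_mem_centralizer y A hyA]
    exact Subgroup.commutator_mono le_rfl le_sup_left
  by_cases hxy : cjs x A = cjs y A
  · rw [← hxy]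
    exact Subgroup.commutator_mono le_rfl le_sup_right
  have hAx : Tv p V H (cjs x A) := hA.conj V H hHV (hNH hx)
  have hx'K : y * x⁻¹ ∈ kk p H := (kk p H).mul_mem hy ((kk p H).inv_mem hx)
  have hAy : cjs (y * x⁻¹) (cjs x A) = cjs y A := by
    rw [← cjs_mul]
    congr 1
    group
  have hx'A : y * x⁻¹ ∉ centralizer ((cjs x A : Subgroup G) : Set G) := by
    intro h
    apply hxy
    rw [← hAy, cjs_eq_self_of_mem_centralizer _ _ h]
  have hAxN : cjs x A ≤ normalizer (kk p H : Set G) := hAx.1.trans (kk_normal p H)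
  have hW'card := pair_card_commutator V H (kk p H) (cjs x A) (y * x⁻¹) hV hHV hf hNH hAx.1 hAxN hN
    hAx.2.1 hAx.2.2 hx'K hx'A
  have hW'eq := commutator_pair V H (kk p H) (cjs x A) (y * x⁻¹) hV hHV hNH hAx.1 hx'K
  have hW'V : ⁅V, cjs x A ⊔ cjs (y * x⁻¹) (cjs x A)⁆ ≤ V :=
    Cfsg.Agent.Lib.Helper13.commutator_le_of_le_normalizer V _
      ((pair_le V H (kk p H) (cjs x A) (y * x⁻¹) hHV hNH hAx.1 hx'K).trans hHV)
  -- a nontrivial element of `W' ∩ C_V(A)`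
  have hcv := hA.card_cv V H hV hHV
  have hle : p ≤ Nat.card (⁅V, cjs x A ⊔ cjs (y * x⁻¹) (cjs x A)⁆ ⊓
      (V ⊓ centralizer (A : Set G)) : Subgroup G) := by
    have h1 := Cfsg.Agent.S0598.card_mul_card_le ⁅V, cjs x A ⊔ cjs (y * x⁻¹) (cjs x A)⁆
      (V ⊓ centralizer (A : Set G))
    have h2 : Nat.card (⁅V, cjs x A ⊔ cjs (y * x⁻¹) (cjs x A)⁆ ⊔
        (V ⊓ centralizer (A : Set G)) : Subgroup G) ≤ Nat.card V :=
      Subgroup.card_le_of_le (sup_le hW'V inf_le_left)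
    rw [hW'card] at h1
    have hcpos : 0 < Nat.card (V ⊓ centralizer (A : Set G) : Subgroup G) := Nat.card_pos
    have h3 : p ^ 2 * Nat.card (V ⊓ centralizer (A : Set G) : Subgroup G) ≤
        Nat.card (⁅V, cjs x A ⊔ cjs (y * x⁻¹) (cjs x A)⁆ ⊓
          (V ⊓ centralizer (A : Set G)) : Subgroup G) *
        (p * Nat.card (V ⊓ centralizer (A : Set G) : Subgroup G)) := by
      rw [hcv]
      exact h1.trans (Nat.mul_le_mul_left _ h2)
    have h4 : p * (p * Nat.card (V ⊓ centralizer (A : Set G) : Subgroup G)) ≤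
        Nat.card (⁅V, cjs x A ⊔ cjs (y * x⁻¹) (cjs x A)⁆ ⊓
          (V ⊓ centralizer (A : Set G)) : Subgroup G) *
        (p * Nat.card (V ⊓ centralizer (A : Set G) : Subgroup G)) := by
      rw [← mul_assoc, ← pow_two]; exact h3
    exact Nat.le_of_mul_le_mul_right h4 (Nat.mul_pos hpp.pos hcpos)
  have hne : (⁅V, cjs x A ⊔ cjs (y * x⁻¹) (cjs x A)⁆ ⊓
      (V ⊓ centralizer (A : Set G)) : Subgroup G) ≠ ⊥ := by
    intro h0
    rw [h0, Subgroup.card_bot] at hle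
    exact absurd hle (not_le.mpr hpp.one_lt)
  obtain ⟨⟨w, hwmem⟩, hw1⟩ := (Subgroup.ne_bot_iff_exists_ne_one).mp hne
  have hw1' : w ≠ 1 := fun h => hw1 (Subtype.ext h)
  obtain ⟨hwW', hwcv⟩ := Subgroup.mem_inf.mp hwmem
  obtain ⟨k₁, hk₁, hk₁L, -⟩ := hAx.exists_conj V H hV hHV hf hx'K hx'A hwW' hw1'
  rw [← cjs_mul] at hk₁L
  have hk₃ : k₁ * x ∈ kk p H := (kk p H).mul_mem hk₁ hx
  by_cases hk₃A : k₁ * x ∈ centralizer (A : Set G)
  · rw [cjs_eq_self_of_mem_centralizer _ A hk₃A] at hk₁L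
    have hLW' : ⁅V, A⁆ ≤ ⁅V, cjs x A ⊔ cjs (y * x⁻¹) (cjs x A)⁆ := by
      rw [hk₁L, zpowers_le]; exact hwW'
    have hWW' : ⁅V, A ⊔ cjs x A⁆ ≤ ⁅V, cjs x A ⊔ cjs (y * x⁻¹) (cjs x A)⁆ := by
      rw [hWeq]
      refine sup_le hLW' ?_
      rw [hW'eq]
      exact le_sup_left
    have hWcard := pair_card_commutator V H (kk p H) A x hV hHV hf hNH hA.1 hAN hN hA.2.1 hA.2.2
      hx hxA
    have heq : ⁅V, A ⊔ cjs x A⁆ = ⁅V, cjs x A ⊔ cjs (y * x⁻¹) (cjs x A)⁆ :=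
      Subgroup.eq_of_le_of_card_ge hWW' (by rw [hWcard, hW'card])
    rw [heq, hW'eq, hAy]
    exact le_sup_right
  · exfalso
    have hbot := pair_inf_centralizer V H (kk p H) A (k₁ * x) hV hHV hf hNH hA.1 hAN hN hA.2.1
      hk₃ hk₃A
    have hW₃ := commutator_pair V H (kk p H) A (k₁ * x) hV hHV hNH hA.1 hk₃
    rw [hW₃, hk₁L] at hbot
    have hAL := le_centralizer_commutator V A (hA.1.trans hHV) (hA.isPGroup V H) hA.2.2
    have hAw : A ≤ centralizer ((zpowers w : Subgroup G) : Set G) := by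
      intro a ha
      rw [mem_centralizer_zpowers_iff]
      exact (Subgroup.mem_centralizer_iff.mp (Subgroup.mem_inf.mp hwcv).2 a ha).symm
    have : A ≤ ⊥ := by
      rw [← hbot]
      exact le_inf le_sup_left (le_centralizer_sup A _ _ hAL hAw)
    exact hA.ne_bot V H (eq_bot_iff.mpr this)

include hV hHV hf hS1' in
/-- every `K`-conjugate of `A` lies in `⟨A, A^x⟩` -/
theorem Tv.cjs_le_pair {A : Subgroup G} (hA : Tv p V H A) {x y : G} (hx : x ∈ kk p H)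
    (hxA : x ∉ centralizer (A : Set G)) (hy : y ∈ kk p H) : cjs y A ≤ A ⊔ cjs x A := by
  have hNH := kk_le p H
  have hAy : Tv p V H (cjs y A) := hA.conj V H hHV (hNH hy)
  have hL := hA.commutator_cjs_le V H hV hHV hf hx hxA hy
  obtain ⟨w, hwL, hw1, hzw, -⟩ := exists_generator ⁅V, cjs y A⁆ hAy.2.2
  obtain ⟨k₁, hk₁, hk₁L, hk₁E⟩ := hA.exists_conj V H hV hHV hf hx hxA (hL hwL) hw1
  have hAk : Tv p V H (cjs k₁ A) := hA.conj V H hHV (hNH hk₁)
  have := hAk.eq_of_commutator_eq V H hV hHV hf hS1' hAy (by rw [hk₁L, hzw])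
  rw [← this]
  exact hk₁E

include hV hHV hf hS1' in
/-- `[K, A] A = ⟨A, A^x⟩` -/
theorem Tv.EE_eq {A : Subgroup G} (hA : Tv p V H A) {x : G} (hx : x ∈ kk p H)
    (hxA : x ∉ centralizer (A : Set G)) : EE p H A = A ⊔ cjs x A := by
  apply le_antisymm
  · refine sup_le ?_ le_sup_left
    rw [Subgroup.commutator_le]
    intro y hy a ha
    have h1 : y * a * y⁻¹ ∈ A ⊔ cjs x A :=
      hA.cjs_le_pair V H hV hHV hf hS1' hx hxA hy ((mem_cjs_iff y A _).mpr ⟨a, ha, rfl⟩)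
    have : ⁅y, a⁆ = (y * a * y⁻¹) * a⁻¹ := by rw [commutatorElement_def]
    rw [this]
    exact Subgroup.mul_mem _ h1 (Subgroup.inv_mem _ (le_sup_left (a := A) ha))
  · apply sup_le le_sup_right
    intro g hg
    obtain ⟨a, ha, rfl⟩ := (mem_cjs_iff x A g).mp hg
    have : x * a * x⁻¹ = ⁅x, a⁆ * a := by rw [commutatorElement_def]; group
    rw [this]
    exact Subgroup.mul_mem _
      (le_sup_left (a := ⁅kk p H, A⁆) (Subgroup.commutator_mem_commutator hx ha))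
      (le_sup_right (a := ⁅kk p H, A⁆) ha)

include hV hHV hf hS1' in
/-- basic facts about `E = [K, A] A` -/
theorem Tv.EE_facts {A : Subgroup G} (hA : Tv p V H A) :
    (p = 2 ∨ p = 3) ∧
    Nonempty (↥(EE p H A) ≃* Matrix.SpecialLinearGroup (Fin 2) (ZMod p)) ∧
    Nat.card (⁅V, EE p H A⁆ : Subgroup G) = p ^ 2 ∧
    EE p H A ⊓ centralizer ((⁅V, EE p H A⁆ : Subgroup G) : Set G) = ⊥ := by
  have hNH := kk_le p H
  have hN := kk_coprime p H
  have hAN : A ≤ normalizer (kk p H : Set G) := hA.1.trans (kk_normal p H)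
  obtain ⟨x, hx, hxA⟩ := hA.exists_not_mem V H hS1'
  rw [hA.EE_eq V H hV hHV hf hS1' hx hxA]
  refine ⟨?_, ?_, ?_, ?_⟩
  · exact pair_prime V H _ A x hV hHV hf hNH hA.1 hAN hN hA.2.1 hA.2.2 hx hxA
  · obtain ⟨c, φ, -⟩ := pair_rep V H _ A x hV hHV hf hNH hA.1 hAN hN hA.2.1 hA.2.2 hx hxA
    exact ⟨φ⟩
  · exact pair_card_commutator V H _ A x hV hHV hf hNH hA.1 hAN hN hA.2.1 hA.2.2 hx hxA
  · exact pair_inf_centralizer V H _ A x hV hHV hf hNH hA.1 hAN hN hA.2.1 hx hxA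

include hHV in
/-- the fixed points of `B` on a faithful plane containing `[V, B]` -/
theorem Tv.inf_centralizer_eq {B : Subgroup G} (hB : Tv p V H B) (W E : Subgroup G)
    (hBE : B ≤ E) (hLW : ⁅V, B⁆ ≤ W) (hWcard : Nat.card W = p ^ 2)
    (hbot : E ⊓ centralizer (W : Set G) = ⊥) : W ⊓ centralizer (B : Set G) = ⁅V, B⁆ := by
  have hpp : p.Prime := hp.out
  have hBL := le_centralizer_commutator V B (hB.1.trans hHV) (hB.isPGroup V H) hB.2.2
  have hle : ⁅V, B⁆ ≤ W ⊓ centralizer (B : Set G) :=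
    le_inf hLW (Subgroup.le_centralizer_iff.mp hBL)
  have hdvd : Nat.card (W ⊓ centralizer (B : Set G) : Subgroup G) ∣ p ^ 2 := by
    rw [← hWcard]; exact Subgroup.card_dvd_of_le inf_le_left
  obtain ⟨k, hk2, hk⟩ := (Nat.dvd_prime_pow hpp).mp hdvd
  have hk1 : 1 ≤ k := by
    by_contra h0
    have hk0 : k = 0 := by omega
    rw [hk0, pow_zero] at hk
    have := Subgroup.card_le_of_le hle
    rw [hk, hB.2.2] at this
    exact absurd this (not_le.mpr hpp.one_lt)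
  have hk' : k = 1 := by
    by_contra hk1'
    have hk2' : k = 2 := by omega
    rw [hk2'] at hk
    have hXW : W ⊓ centralizer (B : Set G) = W :=
      Subgroup.eq_of_le_of_card_ge inf_le_left (by rw [hk, hWcard])
    have hWB : W ≤ centralizer (B : Set G) := by rw [← hXW]; exact inf_le_right
    have : B ≤ ⊥ := by
      rw [← hbot]
      exact le_inf hBE (Subgroup.le_centralizer_iff.mp hWB)
    exact hB.ne_bot V H (eq_bot_iff.mpr this)
  rw [hk', pow_one] at hk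
  exact (Subgroup.eq_of_le_of_card_ge hle (by rw [hk, hB.2.2])).symm

include hV hHV hf hS1' in
/-- `[V, E] ∩ C_V(E) = 1` -/
theorem Tv.EE_inf_cv {A : Subgroup G} (hA : Tv p V H A) :
    ⁅V, EE p H A⁆ ⊓ (V ⊓ centralizer ((EE p H A : Subgroup G) : Set G)) = ⊥ := by
  have hNH := kk_le p H
  have hN := kk_coprime p H
  have hAN : A ≤ normalizer (kk p H : Set G) := hA.1.trans (kk_normal p H)
  obtain ⟨-, -, hcard, hbot⟩ := hA.EE_facts V H hV hHV hf hS1'
  obtain ⟨x, hx, hxA⟩ := hA.exists_not_mem V H hS1'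
  have hEE := hA.EE_eq V H hV hHV hf hS1' hx hxA
  have hAx : Tv p V H (cjs x A) := hA.conj V H hHV (hNH hx)
  have hWeq := commutator_pair V H (kk p H) A x hV hHV hNH hA.1 hx
  have hinf := pair_commutator_inf V H (kk p H) A x hV hHV hf hNH hA.1 hAN hN hA.2.1 hA.2.2 hx hxA
  have h1 := hA.inf_centralizer_eq V H hHV ⁅V, EE p H A⁆ (EE p H A) le_sup_right
    (Subgroup.commutator_mono le_rfl le_sup_right) hcard hbot
  have h2 := hAx.inf_centralizer_eq V H hHV ⁅V, EE p H A⁆ (EE p H A)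
    (by rw [hEE]; exact le_sup_right)
    (Subgroup.commutator_mono le_rfl (by rw [hEE]; exact le_sup_right)) hcard hbot
  rw [eq_bot_iff, ← hinf, ← h1, ← h2]
  intro g hg
  obtain ⟨hgW, hgcv⟩ := Subgroup.mem_inf.mp hg
  have hgC := (Subgroup.mem_inf.mp hgcv).2
  refine Subgroup.mem_inf.mpr ⟨Subgroup.mem_inf.mpr ⟨hgW, ?_⟩, Subgroup.mem_inf.mpr ⟨hgW, ?_⟩⟩
  · exact Subgroup.centralizer_le (show (A : Set G) ⊆ (EE p H A : Subgroup G) from
      (le_sup_right : A ≤ EE p H A)) hgC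
  · exact Subgroup.centralizer_le (show ((cjs x A : Subgroup G) : Set G) ⊆ (EE p H A : Subgroup G) from
      (by rw [hEE]; exact (le_sup_right : cjs x A ≤ A ⊔ cjs x A))) hgC

include hV hHV hf hS1' in
/-- `[V, E] C_V(E) = V` -/
theorem Tv.EE_sup_cv {A : Subgroup G} (hA : Tv p V H A) :
    ⁅V, EE p H A⁆ ⊔ (V ⊓ centralizer ((EE p H A : Subgroup G) : Set G)) = V := by
  have hpp : p.Prime := hp.out
  have hNH := kk_le p H
  obtain ⟨-, -, hcard, hbot⟩ := hA.EE_facts V H hV hHV hf hS1'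
  obtain ⟨x, hx, hxA⟩ := hA.exists_not_mem V H hS1'
  have hEE := hA.EE_eq V H hV hHV hf hS1' hx hxA
  have hAx : Tv p V H (cjs x A) := hA.conj V H hHV (hNH hx)
  have hEH : EE p H A ≤ H := by
    rw [hEE]; exact pair_le V H (kk p H) A x hHV hNH hA.1 hx
  have hWV : ⁅V, EE p H A⁆ ≤ V :=
    Cfsg.Agent.Lib.Helper13.commutator_le_of_le_normalizer V _ (hEH.trans hHV)
  have hle : ⁅V, EE p H A⁆ ⊔ (V ⊓ centralizer ((EE p H A : Subgroup G) : Set G)) ≤ V :=
    sup_le hWV inf_le_left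
  apply Subgroup.eq_of_le_of_card_ge hle
  have hc1 := hA.card_cv V H hV hHV
  have hc2 := hAx.card_cv V H hV hHV
  have hcvE : V ⊓ centralizer ((EE p H A : Subgroup G) : Set G) =
      (V ⊓ centralizer (A : Set G)) ⊓ (V ⊓ centralizer ((cjs x A : Subgroup G) : Set G)) := by
    rw [hEE]; exact Cfsg.Agent.S0598.cv_sup V A (cjs x A)
  have h1 := Cfsg.Agent.S0598.card_mul_card_le (V ⊓ centralizer (A : Set G))
    (V ⊓ centralizer ((cjs x A : Subgroup G) : Set G))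
  rw [← hcvE] at h1
  have h2 : Nat.card ((V ⊓ centralizer (A : Set G)) ⊔
      (V ⊓ centralizer ((cjs x A : Subgroup G) : Set G)) : Subgroup G) ≤ Nat.card V :=
    Subgroup.card_le_of_le (sup_le inf_le_left inf_le_left)
  have h3 := Cfsg.Agent.S0598.card_mul_card_le ⁅V, EE p H A⁆
    (V ⊓ centralizer ((EE p H A : Subgroup G) : Set G))
  rw [hA.EE_inf_cv V H hV hHV hf hS1', Subgroup.card_bot, one_mul, hcard] at h3
  refine le_trans ?_ h3
  -- |V| ≤ p² |C_V(E)|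
  set a := Nat.card (V ⊓ centralizer (A : Set G) : Subgroup G) with ha
  set b := Nat.card (V ⊓ centralizer ((cjs x A : Subgroup G) : Set G) : Subgroup G) with hb
  set e := Nat.card (V ⊓ centralizer ((EE p H A : Subgroup G) : Set G) : Subgroup G) with he
  have h4 : a * b ≤ e * Nat.card V := h1.trans (Nat.mul_le_mul_left _ h2)
  have hVpos : 0 < Nat.card V := Nat.card_pos
  have h5 : Nat.card V * Nat.card V ≤ p ^ 2 * e * Nat.card V := by
    calc Nat.card V * Nat.card V = (p * a) * (p * b) := by rw [hc1, hc2]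
      _ = p ^ 2 * (a * b) := by ring
      _ ≤ p ^ 2 * (e * Nat.card V) := Nat.mul_le_mul_left _ h4
      _ = p ^ 2 * e * Nat.card V := by ring
  exact Nat.le_of_mul_le_mul_right h5 hVpos

include hV hHV hf hS1' in
theorem Tv.EE_cjs_le {A : Subgroup G} (hA : Tv p V H A) {k : G} (hk : k ∈ kk p H) :
    EE p H (cjs k A) ≤ EE p H A := by
  have hNH := kk_le p H
  have hD : Tv p V H (cjs k A) := hA.conj V H hHV (hNH hk)
  obtain ⟨x, hx, hxA⟩ := hA.exists_not_mem V H hS1'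
  obtain ⟨z, hz, hzD⟩ := hD.exists_not_mem V H hS1'
  rw [hD.EE_eq V H hV hHV hf hS1' hz hzD, hA.EE_eq V H hV hHV hf hS1' hx hxA]
  apply sup_le
  · exact hA.cjs_le_pair V H hV hHV hf hS1' hx hxA hk
  · rw [← cjs_mul]
    exact hA.cjs_le_pair V H hV hHV hf hS1' hx hxA ((kk p H).mul_mem hz hk)

include hV hHV hf hS1' in
theorem Tv.EE_cjs {A : Subgroup G} (hA : Tv p V H A) {k : G} (hk : k ∈ kk p H) :
    EE p H (cjs k A) = EE p H A := by
  apply le_antisymm (hA.EE_cjs_le V H hV hHV hf hS1' hk)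
  have hD : Tv p V H (cjs k A) := hA.conj V H hHV (kk_le p H hk)
  have := hD.EE_cjs_le V H hV hHV hf hS1' ((kk p H).inv_mem hk)
  rw [← cjs_mul, inv_mul_cancel, cjs_one] at this
  exact this

include hV hHV hf hS1' in
/-- **TI property** of the planes. -/
theorem Tv.EE_eq_of_inf_ne_bot {A B : Subgroup G} (hA : Tv p V H A) (hB : Tv p V H B)
    (h : ⁅V, EE p H A⁆ ⊓ ⁅V, EE p H B⁆ ≠ ⊥) : EE p H A = EE p H B := by
  have hNH := kk_le p H
  obtain ⟨⟨w, hwmem⟩, hw1⟩ := (Subgroup.ne_bot_iff_exists_ne_one).mp h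
  have hw1' : w ≠ 1 := fun h => hw1 (Subtype.ext h)
  obtain ⟨hwA, hwB⟩ := Subgroup.mem_inf.mp hwmem
  obtain ⟨x, hx, hxA⟩ := hA.exists_not_mem V H hS1'
  obtain ⟨y, hy, hyB⟩ := hB.exists_not_mem V H hS1'
  rw [hA.EE_eq V H hV hHV hf hS1' hx hxA] at hwA
  rw [hB.EE_eq V H hV hHV hf hS1' hy hyB] at hwB
  obtain ⟨k₁, hk₁, hk₁L, -⟩ := hA.exists_conj V H hV hHV hf hx hxA hwA hw1'
  obtain ⟨k₂, hk₂, hk₂L, -⟩ := hB.exists_conj V H hV hHV hf hy hyB hwB hw1'
  have hD₁ : Tv p V H (cjs k₁ A) := hA.conj V H hHV (hNH hk₁)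
  have hD₂ : Tv p V H (cjs k₂ B) := hB.conj V H hHV (hNH hk₂)
  have heq := hD₁.eq_of_commutator_eq V H hV hHV hf hS1' hD₂ (by rw [hk₁L, hk₂L])
  rw [← hA.EE_cjs V H hV hHV hf hS1' hk₁, ← hB.EE_cjs V H hV hHV hf hS1' hk₂, heq]

omit hp [Finite G] in
theorem cjs_EE_eq (A : Subgroup G) {b : G} (hb : b ∈ H) :
    cjs b (EE p H A) = EE p H (cjs b A) := by
  unfold EE
  rw [cjs_sup, cjs_commutator, cjs_eq_self_of_mem_normalizer b (kk p H) (kk_normal p H hb)]

include hV hHV hf hS1' in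
/-- **Normality.** Transvection-like subgroups normalize every `E`. -/
theorem Tv.cjs_EE {A B : Subgroup G} (hA : Tv p V H A) (hB : Tv p V H B) {b : G} (hb : b ∈ B) :
    cjs b (EE p H A) = EE p H A := by
  have hpp : p.Prime := hp.out
  have hbH : b ∈ H := hB.1 hb
  have hAb : Tv p V H (cjs b A) := hA.conj V H hHV hbH
  have h1 := cjs_EE_eq (p := p) H A hbH
  have hbV : cjs b V = V := cjs_eq_self_of_mem_normalizer b V (hHV hbH)
  have h2 : cjs b ⁅V, EE p H A⁆ = ⁅V, EE p H (cjs b A)⁆ := by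
    rw [cjs_commutator, hbV, h1]
  obtain ⟨-, -, hcard, -⟩ := hA.EE_facts V H hV hHV hf hS1'
  rw [h1]
  symm
  apply hA.EE_eq_of_inf_ne_bot V H hV hHV hf hS1' hAb
  intro hbot
  rw [← h2] at hbot
  -- counting
  have hWV : ⁅V, EE p H A⁆ ≤ V := by
    obtain ⟨x, hx, hxA⟩ := hA.exists_not_mem V H hS1'
    have hEH : EE p H A ≤ H := by
      rw [hA.EE_eq V H hV hHV hf hS1' hx hxA]
      exact pair_le V H (kk p H) A x hHV (kk_le p H) hA.1 hx
    exact Cfsg.Agent.Lib.Helper13.commutator_le_of_le_normalizer V _ (hEH.trans hHV)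
  let f : ↥(⁅V, EE p H A⁆ : Subgroup G) → ↥(⁅V, B⁆ : Subgroup G) := fun w =>
    ⟨⁅(w : G), b⁆, Subgroup.commutator_mem_commutator (hWV w.2) hb⟩
  have hfinj : Function.Injective f := by
    intro w w' hww'
    have h3 : ⁅(w : G), b⁆ = ⁅(w' : G), b⁆ := congrArg Subtype.val hww'
    rw [commutatorElement_def, commutatorElement_def] at h3
    have h4 : (w' : G)⁻¹ * w = b * ((w' : G)⁻¹ * w) * b⁻¹ := by
      calc (w' : G)⁻¹ * w = (w' : G)⁻¹ * ((w : G) * b * (w : G)⁻¹ * b⁻¹) * (b * w * b⁻¹) := by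
            group
        _ = (w' : G)⁻¹ * ((w' : G) * b * (w' : G)⁻¹ * b⁻¹) * (b * w * b⁻¹) := by rw [h3]
        _ = b * ((w' : G)⁻¹ * w) * b⁻¹ := by group
    have h5 : (w' : G)⁻¹ * w ∈ (⁅V, EE p H A⁆ : Subgroup G) :=
      Subgroup.mul_mem _ (Subgroup.inv_mem _ w'.2) w.2
    have h6 : (w' : G)⁻¹ * w ∈ cjs b ⁅V, EE p H A⁆ := by
      rw [h4]
      exact (mem_cjs_iff b _ _).mpr ⟨_, h5, rfl⟩
    have h7 : (w' : G)⁻¹ * w ∈ (⊥ : Subgroup G) := by
      rw [← hbot]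
      exact Subgroup.mem_inf.mpr ⟨h5, h6⟩
    rw [Subgroup.mem_bot] at h7
    apply Subtype.ext
    have : (w : G) = w' * ((w' : G)⁻¹ * w) := by group
    rw [this, h7, mul_one]
  have hle := Nat.card_le_card_of_injective f hfinj
  rw [hcard, hB.2.2, pow_two] at hle
  have : p * 2 ≤ p * p := Nat.mul_le_mul_left p hpp.two_le
  have hp0 := hpp.pos
  omega

include hV hHV hf hS1' in
/-- **Dichotomy.** A transvection-like subgroup lies in `E` or centralizes `[V, E]`. -/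
theorem Tv.le_or_le {A B : Subgroup G} (hA : Tv p V H A) (hB : Tv p V H B) :
    B ≤ EE p H A ∨ B ≤ centralizer ((⁅V, EE p H A⁆ : Subgroup G) : Set G) := by
  by_cases h : ⁅V, EE p H A⁆ ⊓ ⁅V, EE p H B⁆ = ⊥
  · right
    intro b hb
    have hbH : b ∈ H := hB.1 hb
    have hbV : cjs b V = V := cjs_eq_self_of_mem_normalizer b V (hHV hbH)
    have hbW : cjs b ⁅V, EE p H A⁆ = ⁅V, EE p H A⁆ := by
      rw [cjs_commutator, hbV, hA.cjs_EE V H hV hHV hf hS1' hB hb]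
    have hWV : ⁅V, EE p H A⁆ ≤ V := by
      obtain ⟨x, hx, hxA⟩ := hA.exists_not_mem V H hS1'
      have hEH : EE p H A ≤ H := by
        rw [hA.EE_eq V H hV hHV hf hS1' hx hxA]
        exact pair_le V H (kk p H) A x hHV (kk_le p H) hA.1 hx
      exact Cfsg.Agent.Lib.Helper13.commutator_le_of_le_normalizer V _ (hEH.trans hHV)
    rw [Subgroup.mem_centralizer_iff]
    intro w hw
    have h1 : ⁅w, b⁆ ∈ (⁅V, EE p H A⁆ : Subgroup G) := by
      have e : ⁅w, b⁆ = w * (b * w⁻¹ * b⁻¹) := by rw [commutatorElement_def]; group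
      rw [e]
      apply Subgroup.mul_mem _ hw
      rw [← hbW]
      exact (mem_cjs_iff b _ _).mpr ⟨w⁻¹, Subgroup.inv_mem _ hw, rfl⟩
    have h2 : ⁅w, b⁆ ∈ (⁅V, EE p H B⁆ : Subgroup G) :=
      Subgroup.commutator_mem_commutator (hWV hw) (le_sup_right (a := ⁅kk p H, B⁆) hb)
    have h3 : ⁅w, b⁆ ∈ (⊥ : Subgroup G) := by
      rw [← h]; exact Subgroup.mem_inf.mpr ⟨h1, h2⟩
    rw [Subgroup.mem_bot, commutatorElement_eq_one_iff_commute] at h3
    exact h3.eq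
  · left
    rw [hA.EE_eq_of_inf_ne_bot V H hV hHV hf hS1' hB h]
    exact le_sup_right

section gen

variable (hgen : ∀ X : Subgroup G, (∀ B : Subgroup G, Tv p V H B → B ≤ X) → H ≤ X)

include hV hHV hf hS1' in
theorem Tv.EE_le {A : Subgroup G} (hA : Tv p V H A) : EE p H A ≤ H := by
  obtain ⟨x, hx, hxA⟩ := hA.exists_not_mem V H hS1'
  rw [hA.EE_eq V H hV hHV hf hS1' hx hxA]
  exact pair_le V H (kk p H) A x hHV (kk_le p H) hA.1 hx

include hV hHV hf hS1' in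
theorem Tv.commutator_EE_le {A : Subgroup G} (hA : Tv p V H A) : ⁅V, EE p H A⁆ ≤ V :=
  Cfsg.Agent.Lib.Helper13.commutator_le_of_le_normalizer V _
    ((hA.EE_le V H hV hHV hf hS1').trans hHV)

include hV hHV hf hS1' hgen in
/-- `E ⊴ H` -/
theorem Tv.le_normalizer_EE {A : Subgroup G} (hA : Tv p V H A) :
    H ≤ normalizer ((EE p H A : Subgroup G) : Set G) := by
  apply hgen
  intro B hB b hb
  rw [Subgroup.mem_normalizer_iff_map_conj_eq]
  exact hA.cjs_EE V H hV hHV hf hS1' hB hb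

include hV hHV hf hS1' hgen in
/-- `H` normalizes `[V, E]` -/
theorem Tv.le_normalizer_commutator_EE {A : Subgroup G} (hA : Tv p V H A) :
    H ≤ normalizer ((⁅V, EE p H A⁆ : Subgroup G) : Set G) := by
  refine le_trans ?_ (Cfsg.Agent.Lib.Helper16.inf_normalizer_le_normalizer_commutator V (EE p H A))
  exact le_inf hHV (hA.le_normalizer_EE V H hV hHV hf hS1' hgen)

include hV hHV hf hS1' hgen in
/-- `E F = H` -/
theorem Tv.EE_sup_F {A : Subgroup G} (hA : Tv p V H A) :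
    EE p H A ⊔ (H ⊓ centralizer ((⁅V, EE p H A⁆ : Subgroup G) : Set G)) = H := by
  apply le_antisymm
  · exact sup_le (hA.EE_le V H hV hHV hf hS1') inf_le_left
  · apply hgen
    intro B hB
    rcases hA.le_or_le V H hV hHV hf hS1' hB with h | h
    · exact h.trans le_sup_left
    · exact (le_inf hB.1 h).trans le_sup_right

include hV hHV hf hS1' in
/-- `E ∩ F = 1` -/
theorem Tv.EE_inf_F {A : Subgroup G} (hA : Tv p V H A) :
    EE p H A ⊓ (H ⊓ centralizer ((⁅V, EE p H A⁆ : Subgroup G) : Set G)) = ⊥ := by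
  obtain ⟨-, -, -, hbot⟩ := hA.EE_facts V H hV hHV hf hS1'
  rw [eq_bot_iff, ← hbot]
  exact inf_le_inf_left _ inf_le_right

include hV hHV hf hS1' hgen in
/-- `[E, F] = 1` -/
theorem Tv.EE_comm_F {A : Subgroup G} (hA : Tv p V H A) :
    ⁅EE p H A, H ⊓ centralizer ((⁅V, EE p H A⁆ : Subgroup G) : Set G)⁆ = ⊥ := by
  have hHE := hA.le_normalizer_EE V H hV hHV hf hS1' hgen
  have hHW := hA.le_normalizer_commutator_EE V H hV hHV hf hS1' hgen
  have hEH := hA.EE_le V H hV hHV hf hS1'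
  have hFN : H ⊓ centralizer ((⁅V, EE p H A⁆ : Subgroup G) : Set G) ≤
      normalizer ((EE p H A : Subgroup G) : Set G) := inf_le_left.trans hHE
  have hEF : EE p H A ≤
      normalizer ((H ⊓ centralizer ((⁅V, EE p H A⁆ : Subgroup G) : Set G) : Subgroup G) : Set G) := by
    apply le_normalizer_of_forall_conj_mem
    intro e he f hf'
    obtain ⟨hfH, hfC⟩ := Subgroup.mem_inf.mp hf'
    refine Subgroup.mem_inf.mpr ⟨H.mul_mem (H.mul_mem (hEH he) hfH) (H.inv_mem (hEH he)), ?_⟩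
    rw [Subgroup.mem_centralizer_iff]
    intro w hw
    have hw' : e⁻¹ * w * e⁻¹⁻¹ ∈ (⁅V, EE p H A⁆ : Subgroup G) :=
      (Subgroup.mem_normalizer_iff.mp (hHW (H.inv_mem (hEH he))) w).mp hw
    rw [inv_inv] at hw'
    have hc := Subgroup.mem_centralizer_iff.mp hfC _ hw'
    calc w * (e * f * e⁻¹) = e * ((e⁻¹ * w * e) * f) * e⁻¹ := by group
      _ = e * (f * (e⁻¹ * w * e)) * e⁻¹ := by rw [hc]
      _ = e * f * e⁻¹ * w := by group
  rw [eq_bot_iff, ← hA.EE_inf_F V H hV hHV hf hS1']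
  apply le_inf
  · exact commutator_le_of_le_normalizer _ _ hFN
  · rw [Subgroup.commutator_comm]
    exact commutator_le_of_le_normalizer _ _ hEF

include hV hHV hf hS1' hgen in
/-- `[V, F] ≤ C_V(E)` -/
theorem Tv.commutator_F_le {A : Subgroup G} (hA : Tv p V H A) :
    ⁅V, H ⊓ centralizer ((⁅V, EE p H A⁆ : Subgroup G) : Set G)⁆ ≤
      V ⊓ centralizer ((EE p H A : Subgroup G) : Set G) := by
  obtain ⟨hVab, hVe⟩ := Cfsg.Agent.Lib.Helper17.ea_iff.mp hV
  have hHE := hA.le_normalizer_EE V H hV hHV hf hS1' hgen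
  have hWV := hA.commutator_EE_le V H hV hHV hf hS1'
  have hsup := hA.EE_sup_cv V H hV hHV hf hS1'
  rw [Subgroup.commutator_le]
  intro v hv f hf'
  obtain ⟨hfH, hfC⟩ := Subgroup.mem_inf.mp hf'
  have hv' : v ∈ ⁅V, EE p H A⁆ ⊔ (V ⊓ centralizer ((EE p H A : Subgroup G) : Set G)) := by
    rw [hsup]; exact hv
  obtain ⟨w, hw, u, hu, rfl⟩ := mem_sup_of_comm V _ _ hVab hWV inf_le_left hv'
  obtain ⟨huV, huC⟩ := Subgroup.mem_inf.mp hu
  -- `f u⁻¹ f⁻¹ ∈ C_V(E)`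
  have h1 : f * u⁻¹ * f⁻¹ ∈ V ⊓ centralizer ((EE p H A : Subgroup G) : Set G) := by
    refine Subgroup.mem_inf.mpr ⟨(Subgroup.mem_normalizer_iff.mp (hHV hfH) _).mp (V.inv_mem huV), ?_⟩
    rw [Subgroup.mem_centralizer_iff]
    intro e he
    have he' : f⁻¹ * e * f⁻¹⁻¹ ∈ EE p H A :=
      (Subgroup.mem_normalizer_iff.mp (hHE (H.inv_mem hfH)) e).mp he
    rw [inv_inv] at he'
    have hc := Subgroup.mem_centralizer_iff.mp (Subgroup.inv_mem _ huC) _ he'
    calc e * (f * u⁻¹ * f⁻¹) = f * ((f⁻¹ * e * f) * u⁻¹) * f⁻¹ := by group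
      _ = f * (u⁻¹ * (f⁻¹ * e * f)) * f⁻¹ := by rw [hc]
      _ = f * u⁻¹ * f⁻¹ * e := by group
  have h2 : ⁅u, f⁆ ∈ V ⊓ centralizer ((EE p H A : Subgroup G) : Set G) := by
    have e : ⁅u, f⁆ = u * (f * u⁻¹ * f⁻¹) := by rw [commutatorElement_def]; group
    rw [e]
    exact Subgroup.mul_mem _ hu h1
  have hwf : w * f = f * w := Subgroup.mem_centralizer_iff.mp hfC w hw
  have h3 : ⁅w * u, f⁆ = w * ⁅u, f⁆ * w⁻¹ := by
    rw [commutatorElement_def, commutatorElement_def]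
    have : (w * u)⁻¹ * f⁻¹ = u⁻¹ * f⁻¹ * w⁻¹ := by
      have h4 : w⁻¹ * f⁻¹ = f⁻¹ * w⁻¹ := by
        rw [← mul_inv_rev, ← mul_inv_rev, hwf]
      rw [mul_inv_rev, mul_assoc, h4, ← mul_assoc]
    calc w * u * f * (w * u)⁻¹ * f⁻¹ = w * u * f * ((w * u)⁻¹ * f⁻¹) := by group
      _ = w * u * f * (u⁻¹ * f⁻¹ * w⁻¹) := by rw [this]
      _ = w * (u * f * u⁻¹ * f⁻¹) * w⁻¹ := by group
  have h5 : w * ⁅u, f⁆ * w⁻¹ = ⁅u, f⁆ := by
    have hc := Subgroup.mem_centralizer_iff.mp (hVab (hWV hw)) _ (Subgroup.mem_inf.mp h2).1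
    rw [← hc]
    group
  rw [h3, h5]
  exact h2

end gen

end struct

end Cfsg.Agent.Lib.Helper14.Off
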