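import Mathlib
import Cfsg.Agent.Lib.Helper14.Offender8
import Cfsg.Agent.S0611
import Cfsg.Agent.S0612

/-!
# KS 9.3: generation of `H` by minimal offenders (helper14)
-/

set_option autoImplicit false

namespace Cfsg.Agent.Lib.Helper14.Off

open Cfsg Subgroup
open scoped Pointwise commutatorElement

variable {G : Type*} [Group G]

/-- minimal nontrivially acting best offenders -/
def MinOff (p : ℕ) (V H A : Subgroup G) : Prop :=
  A ≤ H ∧ Cfsg.IsBestOffenderOn p V A ∧ ⁅V, A⁆ ≠ ⊥ ∧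
    ∀ B : Subgroup G, B ≤ A → Cfsg.IsBestOffenderOn p V B → ⁅V, B⁆ ≠ ⊥ → B = A

section

variable [Finite G] {p : ℕ} [hp : Fact p.Prime] (V H : Subgroup G)
  (hV : Cfsg.IsElementaryAbelian p V) (hHV : H ≤ normalizer (V : Set G))
  (hf : H ⊓ centralizer (V : Set G) = ⊥)
  (hS1 : Subgroup.centralizer (Cfsg.pPrimeCore p ↥H : Set ↥H) ≤ Cfsg.pPrimeCore p ↥H)
  (hS3 : H = ⨆ A : {A : Subgroup G // A ≤ H ∧ Cfsg.IsBestOffenderOn p V A}, (A : Subgroup G))
  (hH1 : H ≠ ⊥)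

include hV hHV hf hS1 hS3 hH1 in
theorem MinOff.tv {A : Subgroup G} (hA : MinOff p V H A) : Tv p V H A := by
  obtain ⟨hAH, hAo, hAV, hmin⟩ := hA
  have hd := Cfsg.Agent.S0611.result V H hV hHV hf hS1 hS3 hH1 A hAH hAo hAV hmin
  exact ⟨hAH, hd.1, hd.2.1⟩

include hV hHV hf hS1 hS3 hH1 in
/-- `H` is generated by its minimal offenders. -/
theorem le_of_forall_minOff (X : Subgroup G) (h : ∀ B : Subgroup G, MinOff p V H B → B ≤ X) :
    H ≤ X := by
  apply hS3.le.trans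
  apply iSup_le
  rintro ⟨A', hA'H, hA'⟩
  by_cases h1 : A' = ⊥
  · change A' ≤ X
    rw [h1]; exact bot_le
  obtain ⟨k, B, hB, -, hsup⟩ :=
    Cfsg.Agent.S0612.result V H hV hHV hf hS1 hS3 hH1 A' hA'H hA' h1
  change A' ≤ X
  rw [← hsup]
  apply iSup_le
  intro i
  obtain ⟨hBA, hBo, hBV, hBmin⟩ := hB i
  exact h (B i) ⟨hBA.trans hA'H, hBo, hBV, hBmin⟩

include hV hHV hf hS1 hS3 hH1 in
theorem le_of_forall_tv (X : Subgroup G) (h : ∀ B : Subgroup G, Tv p V H B → B ≤ X) : H ≤ X :=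
  le_of_forall_minOff V H hV hHV hf hS1 hS3 hH1 X
    (fun B hB => h B (hB.tv V H hV hHV hf hS1 hS3 hH1))

include hV hHV hf hS1 hS3 hH1 in
theorem exists_minOff : ∃ B : Subgroup G, MinOff p V H B := by
  by_contra hcon
  push Not at hcon
  apply hH1
  rw [eq_bot_iff]
  exact le_of_forall_minOff V H hV hHV hf hS1 hS3 hH1 ⊥ (fun B hB => absurd hB (hcon B))

end

end Cfsg.Agent.Lib.Helper14.Off
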