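import Mathlib
import Cfsg.Agent.Lib.Helper14.Offender9

/-!
# KS 9.3: the structure theorem for failure of factorization (helper14)
-/

set_option autoImplicit false

namespace Cfsg.Agent.Lib.Helper14.Off

open Cfsg Subgroup
open scoped Pointwise commutatorElement

variable {G : Type*} [Group G]

theorem mem_centralizer_iSup {ι : Sort*} (E : ι → Subgroup G) (g : G) :
    g ∈ centralizer (((⨆ i, E i : Subgroup G)) : Set G) ↔ ∀ i, g ∈ centralizer (E i : Set G) := by
  constructor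
  · intro h i
    exact Subgroup.centralizer_le (show (E i : Set G) ⊆ ((⨆ i, E i : Subgroup G) : Set G) from
      le_iSup E i) h
  · intro h
    have h1 : ⨆ i, E i ≤ centralizer ((zpowers g : Subgroup G) : Set G) :=
      iSup_le (fun i => Subgroup.le_centralizer_iff.mp (by rw [zpowers_le]; exact h i))
    exact Subgroup.le_centralizer_iff.mp h1 (mem_zpowers g)

/-- generic independence lemma -/
theorem inf_biSup_eq_bot {ι : Type*} (V D : Subgroup G) (hVab : V ≤ centralizer (V : Set G))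
    (W C : ι → Subgroup G) (hWV : ∀ i, W i ≤ V) (hWC : ∀ i, W i ⊓ C i = ⊥)
    (hne : ∀ i j, i ≠ j → W j ≤ C i) (hD : ∀ i, D ≤ C i) (s : Finset ι) :
    D ⊓ ⨆ i ∈ s, W i = ⊥ := by
  classical
  induction s using Finset.induction_on with
  | empty => simp
  | insert a s has ih =>
    rw [Finset.iSup_insert, eq_bot_iff]
    intro v hv
    obtain ⟨hvD, hvs⟩ := Subgroup.mem_inf.mp hv
    have hYV : ⨆ i ∈ s, W i ≤ V := iSup₂_le (fun i _ => hWV i)
    have hYC : ⨆ i ∈ s, W i ≤ C a := iSup₂_le (fun i hi => hne a i (by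
      rintro rfl; exact has hi))
    obtain ⟨w, hw, u, hu, rfl⟩ := mem_sup_of_comm V _ _ hVab (hWV a) hYV hvs
    have hwC : w ∈ C a := by
      have : w = (w * u) * u⁻¹ := by group
      rw [this]
      exact (C a).mul_mem (hD a hvD) ((C a).inv_mem (hYC hu))
    have hw1 : w = 1 := by
      have : w ∈ W a ⊓ C a := Subgroup.mem_inf.mpr ⟨hw, hwC⟩
      rwa [hWC a, Subgroup.mem_bot] at this
    rw [hw1, one_mul] at hvD ⊢
    rw [← ih]
    exact Subgroup.mem_inf.mpr ⟨hvD, hu⟩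

/-- generic spanning lemma -/
theorem biSup_sup_biInf_eq {ι : Type*} (V : Subgroup G) (hVab : V ≤ centralizer (V : Set G))
    (W C : ι → Subgroup G) (hWV : ∀ i, W i ≤ V) (hCV : ∀ i, C i ≤ V)
    (hsup : ∀ i, W i ⊔ C i = V) (hne : ∀ i j, i ≠ j → W j ≤ C i) (s : Finset ι) :
    (⨆ i ∈ s, W i) ⊔ (V ⊓ ⨅ i ∈ s, C i) = V := by
  classical
  induction s using Finset.induction_on with
  | empty => simp
  | insert a s has ih =>
    rw [Finset.iSup_insert, Finset.iInf_insert]
    apply le_antisymm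
    · exact sup_le (sup_le (hWV a) (iSup₂_le (fun i _ => hWV i))) inf_le_left
    · conv_lhs => rw [← ih]
      apply sup_le
      · exact le_sup_right.trans le_sup_left
      · intro v hv
        obtain ⟨hvV, hvC⟩ := Subgroup.mem_inf.mp hv
        have hv' : v ∈ W a ⊔ C a := by rw [hsup a]; exact hvV
        obtain ⟨w, hw, u, hu, rfl⟩ := mem_sup_of_comm V _ _ hVab (hWV a) (hCV a) hv'
        have huC : u ∈ ⨅ i ∈ s, C i := by
          rw [Subgroup.mem_iInf]
          intro i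
          rw [Subgroup.mem_iInf]
          intro hi
          have hia : i ≠ a := by rintro rfl; exact has hi
          have h1 : w * u ∈ C i := Subgroup.mem_iInf.mp (Subgroup.mem_iInf.mp hvC i) hi
          have h2 : w ∈ C i := hne i a hia hw
          have : u = w⁻¹ * (w * u) := by group
          rw [this]
          exact (C i).mul_mem ((C i).inv_mem h2) h1
        apply Subgroup.mul_mem
        · exact Subgroup.mem_sup_left (Subgroup.mem_sup_left hw)
        · apply Subgroup.mem_sup_right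
          exact Subgroup.mem_inf.mpr ⟨hCV a hu, Subgroup.mem_inf.mpr ⟨hu, huC⟩⟩

section struct2

variable [Finite G] {p : ℕ} [hp : Fact p.Prime] (V H : Subgroup G)
  (hV : Cfsg.IsElementaryAbelian p V) (hHV : H ≤ normalizer (V : Set G))
  (hf : H ⊓ centralizer (V : Set G) = ⊥)
  (hS1' : H ⊓ centralizer (kk p H : Set G) ≤ kk p H)
  (hgen : ∀ X : Subgroup G, (∀ B : Subgroup G, Tv p V H B → B ≤ X) → H ≤ X)

include hV hHV hf hS1' hgen in
/-- `F = C_H([V, E]) ⊴ H` -/
theorem Tv.le_normalizer_F {A : Subgroup G} (hA : Tv p V H A) :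
    H ≤ normalizer ((H ⊓ centralizer ((⁅V, EE p H A⁆ : Subgroup G) : Set G) : Subgroup G) : Set G) := by
  have hHW := hA.le_normalizer_commutator_EE V H hV hHV hf hS1' hgen
  apply le_normalizer_of_forall_conj_mem
  intro e he f hf'
  obtain ⟨hfH, hfC⟩ := Subgroup.mem_inf.mp hf'
  refine Subgroup.mem_inf.mpr ⟨H.mul_mem (H.mul_mem he hfH) (H.inv_mem he), ?_⟩
  rw [Subgroup.mem_centralizer_iff]
  intro w hw
  have hw' : e⁻¹ * w * e⁻¹⁻¹ ∈ (⁅V, EE p H A⁆ : Subgroup G) :=
    (Subgroup.mem_normalizer_iff.mp (hHW (H.inv_mem he)) w).mp hw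
  rw [inv_inv] at hw'
  have hc := Subgroup.mem_centralizer_iff.mp hfC _ hw'
  calc w * (e * f * e⁻¹) = e * ((e⁻¹ * w * e) * f) * e⁻¹ := by group
    _ = e * (f * (e⁻¹ * w * e)) * e⁻¹ := by rw [hc]
    _ = e * f * e⁻¹ * w := by group

include hV hHV hf hS1' hgen in
/-- distinct `E`'s: the second lies in `F` of the first -/
theorem Tv.EE_le_F {A B : Subgroup G} (hA : Tv p V H A) (hB : Tv p V H B)
    (hne : EE p H A ≠ EE p H B) :
    EE p H B ≤ H ⊓ centralizer ((⁅V, EE p H A⁆ : Subgroup G) : Set G) := by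
  have hpp : p.Prime := hp.out
  rcases hA.le_or_le V H hV hHV hf hS1' hB with h | h
  · exfalso
    apply hne
    apply hA.EE_eq_of_inf_ne_bot V H hV hHV hf hS1' hB
    intro hbot
    have h1 : ⁅V, B⁆ ≤ ⁅V, EE p H A⁆ ⊓ ⁅V, EE p H B⁆ :=
      le_inf (Subgroup.commutator_mono le_rfl h) (Subgroup.commutator_mono le_rfl le_sup_right)
    rw [hbot, le_bot_iff] at h1
    have := hB.2.2
    rw [h1, Subgroup.card_bot] at this
    exact hpp.one_lt.ne this
  · have hBF : B ≤ H ⊓ centralizer ((⁅V, EE p H A⁆ : Subgroup G) : Set G) := le_inf hB.1 h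
    have hFN := hA.le_normalizer_F V H hV hHV hf hS1' hgen
    apply sup_le _ hBF
    rw [Subgroup.commutator_le]
    intro k hk b hb
    have h1 : k * b * k⁻¹ ∈ H ⊓ centralizer ((⁅V, EE p H A⁆ : Subgroup G) : Set G) :=
      (Subgroup.mem_normalizer_iff.mp (hFN (kk_le p H hk)) b).mp (hBF hb)
    rw [commutatorElement_def]
    exact Subgroup.mul_mem _ h1 (Subgroup.inv_mem _ (hBF hb))

include hV hHV hf hS1' hgen in
theorem Tv.commutator_EE_le_cv {A B : Subgroup G} (hA : Tv p V H A) (hB : Tv p V H B)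
    (hne : EE p H A ≠ EE p H B) :
    ⁅V, EE p H B⁆ ≤ V ⊓ centralizer ((EE p H A : Subgroup G) : Set G) := by
  apply le_inf (hB.commutator_EE_le V H hV hHV hf hS1')
  have h1 := hB.EE_le_F V H hV hHV hf hS1' hgen hA hne.symm
  exact Subgroup.le_centralizer_iff.mp (h1.trans inf_le_right)

end struct2

/-- the subgroups `E = [O_{p'}(H), A] A` for minimal offenders `A` -/
def IsEE (p : ℕ) (V H E : Subgroup G) : Prop :=
  ∃ A : Subgroup G, A ≤ H ∧ Cfsg.IsBestOffenderOn p V A ∧ ⁅V, A⁆ ≠ ⊥ ∧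
    (∀ B : Subgroup G, B ≤ A → Cfsg.IsBestOffenderOn p V B → ⁅V, B⁆ ≠ ⊥ → B = A) ∧
    E = ⁅((Cfsg.pPrimeCore p ↥H).map H.subtype), A⁆ ⊔ A

section main

variable [Finite G] {p : ℕ} [hp : Fact p.Prime] (V H : Subgroup G)
  (hV : Cfsg.IsElementaryAbelian p V) (hHV : H ≤ normalizer (V : Set G))
  (hf : H ⊓ centralizer (V : Set G) = ⊥)
  (hS1 : Subgroup.centralizer (Cfsg.pPrimeCore p ↥H : Set ↥H) ≤ Cfsg.pPrimeCore p ↥H)
  (hS3 : H = ⨆ A : {A : Subgroup G // A ≤ H ∧ Cfsg.IsBestOffenderOn p V A}, (A : Subgroup G))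
  (hH1 : H ≠ ⊥)

include hV hHV hf hS1 hS3 hH1 in
theorem IsEE.exists_tv {E : Subgroup G} (hE : IsEE p V H E) :
    ∃ A : Subgroup G, Tv p V H A ∧ E = EE p H A := by
  obtain ⟨A, hAH, hAo, hAV, hmin, hEA⟩ := hE
  exact ⟨A, MinOff.tv V H hV hHV hf hS1 hS3 hH1 ⟨hAH, hAo, hAV, hmin⟩, hEA⟩

include hV hHV hf hS1 hS3 hH1 in
/-- **Structure theorem** (KS 9.3.8). -/
theorem structure_main :
    (p = 2 ∨ p = 3) ∧
    (∀ E : {E : Subgroup G // IsEE p V H E},
      H ≤ Subgroup.normalizer ((E : Subgroup G) : Set G) ∧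
      Nonempty (↥(E : Subgroup G) ≃* Matrix.SpecialLinearGroup (Fin 2) (ZMod p)) ∧
      Nat.card ↥(⁅V, (E : Subgroup G)⁆) = p ^ 2) ∧
    iSupIndep (fun E : {E : Subgroup G // IsEE p V H E} => (E : Subgroup G)) ∧
    (⨆ E : {E : Subgroup G // IsEE p V H E}, (E : Subgroup G)) = H ∧
    iSupIndep (fun o : Option {E : Subgroup G // IsEE p V H E} =>
      o.elim (V ⊓ Subgroup.centralizer (H : Set G)) (fun E => ⁅V, (E : Subgroup G)⁆)) ∧
    (V ⊓ Subgroup.centralizer (H : Set G)) ⊔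
      (⨆ E : {E : Subgroup G // IsEE p V H E}, ⁅V, (E : Subgroup G)⁆) = V := by
  classical
  haveI : Fintype {E : Subgroup G // IsEE p V H E} := Fintype.ofFinite _
  have hS1' := kk_self_centralizing p H hS1
  have hgen := le_of_forall_tv V H hV hHV hf hS1 hS3 hH1
  obtain ⟨hVab, hVe⟩ := Cfsg.Agent.Lib.Helper17.ea_iff.mp hV
  have hex : ∀ E : {E : Subgroup G // IsEE p V H E},
      ∃ A : Subgroup G, Tv p V H A ∧ (E : Subgroup G) = EE p H A :=
    fun E => E.2.exists_tv V H hV hHV hf hS1 hS3 hH1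
  -- pairwise facts
  have hpairF : ∀ E₁ E₂ : {E : Subgroup G // IsEE p V H E}, E₁ ≠ E₂ →
      (E₂ : Subgroup G) ≤ H ⊓ centralizer ((⁅V, (E₁ : Subgroup G)⁆ : Subgroup G) : Set G) := by
    intro E₁ E₂ hne
    obtain ⟨A₁, hT₁, h₁⟩ := hex E₁
    obtain ⟨A₂, hT₂, h₂⟩ := hex E₂
    rw [h₁, h₂]
    apply hT₁.EE_le_F V H hV hHV hf hS1' hgen hT₂
    intro h
    apply hne
    apply Subtype.ext
    rw [h₁, h₂, h]
  have hpairC : ∀ E₁ E₂ : {E : Subgroup G // IsEE p V H E}, E₁ ≠ E₂ →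
      ⁅V, (E₂ : Subgroup G)⁆ ≤ V ⊓ centralizer (((E₁ : Subgroup G)) : Set G) := by
    intro E₁ E₂ hne
    obtain ⟨A₁, hT₁, h₁⟩ := hex E₁
    obtain ⟨A₂, hT₂, h₂⟩ := hex E₂
    rw [h₁, h₂]
    apply hT₁.commutator_EE_le_cv V H hV hHV hf hS1' hgen hT₂
    intro h
    apply hne
    apply Subtype.ext
    rw [h₁, h₂, h]
  have hsupH : (⨆ E : {E : Subgroup G // IsEE p V H E}, (E : Subgroup G)) = H := by
    apply le_antisymm
    · apply iSup_le
      intro E
      obtain ⟨A, hT, h⟩ := hex E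
      rw [h]
      exact hT.EE_le V H hV hHV hf hS1'
    · apply le_of_forall_minOff V H hV hHV hf hS1 hS3 hH1
      intro B hB
      obtain ⟨hBH, hBo, hBV, hBmin⟩ := hB
      exact le_trans (le_sup_right : B ≤ ⁅((Cfsg.pPrimeCore p ↥H).map H.subtype), B⁆ ⊔ B)
        (le_iSup (fun E : {E : Subgroup G // IsEE p V H E} => (E : Subgroup G))
          ⟨_, B, hBH, hBo, hBV, hBmin, rfl⟩)
  have hWV : ∀ E : {E : Subgroup G // IsEE p V H E}, ⁅V, (E : Subgroup G)⁆ ≤ V := by
    intro E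
    obtain ⟨A, hT, h⟩ := hex E
    rw [h]
    exact hT.commutator_EE_le V H hV hHV hf hS1'
  have hWC : ∀ E : {E : Subgroup G // IsEE p V H E},
      ⁅V, (E : Subgroup G)⁆ ⊓ (V ⊓ centralizer (((E : Subgroup G)) : Set G)) = ⊥ := by
    intro E
    obtain ⟨A, hT, h⟩ := hex E
    rw [h]
    exact hT.EE_inf_cv V H hV hHV hf hS1'
  have hWsup : ∀ E : {E : Subgroup G // IsEE p V H E},
      ⁅V, (E : Subgroup G)⁆ ⊔ (V ⊓ centralizer (((E : Subgroup G)) : Set G)) = V := by
    intro E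
    obtain ⟨A, hT, h⟩ := hex E
    rw [h]
    exact hT.EE_sup_cv V H hV hHV hf hS1'
  have hD : ∀ E : {E : Subgroup G // IsEE p V H E},
      V ⊓ centralizer (H : Set G) ≤ V ⊓ centralizer (((E : Subgroup G)) : Set G) := by
    intro E
    apply inf_le_inf_left
    apply Subgroup.centralizer_le
    have : (E : Subgroup G) ≤ H :=
      (le_iSup (fun E : {E : Subgroup G // IsEE p V H E} => (E : Subgroup G)) E).trans hsupH.le
    exact this
  refine ⟨?_, ?_, ?_, hsupH, ?_, ?_⟩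
  · obtain ⟨B, hB⟩ := exists_minOff V H hV hHV hf hS1 hS3 hH1
    exact ((hB.tv V H hV hHV hf hS1 hS3 hH1).EE_facts V H hV hHV hf hS1').1
  · intro E
    obtain ⟨A, hT, h⟩ := hex E
    rw [h]
    obtain ⟨-, h2, h3, -⟩ := hT.EE_facts V H hV hHV hf hS1'
    exact ⟨hT.le_normalizer_EE V H hV hHV hf hS1' hgen, h2, h3⟩
  · intro E₁
    have h1 : (⨆ (E₂ : {E : Subgroup G // IsEE p V H E}) (_ : E₂ ≠ E₁), (E₂ : Subgroup G)) ≤
        H ⊓ centralizer ((⁅V, (E₁ : Subgroup G)⁆ : Subgroup G) : Set G) :=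
      iSup₂_le (fun E₂ hne => hpairF E₁ E₂ (Ne.symm hne))
    obtain ⟨A, hT, h⟩ := hex E₁
    have h2 := hT.EE_inf_F V H hV hHV hf hS1'
    rw [← h] at h2
    exact (disjoint_iff.mpr h2).mono_right h1
  · intro o
    cases o with
    | none =>
      have h1 : (⨆ (o' : Option {E : Subgroup G // IsEE p V H E}) (_ : o' ≠ none),
          o'.elim (V ⊓ Subgroup.centralizer (H : Set G)) (fun E => ⁅V, (E : Subgroup G)⁆)) ≤
          ⨆ E ∈ (Finset.univ : Finset {E : Subgroup G // IsEE p V H E}),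
            ⁅V, (E : Subgroup G)⁆ := by
        apply iSup₂_le
        intro o' ho'
        cases o' with
        | none => exact absurd rfl ho'
        | some E =>
          exact le_iSup₂_of_le E (Finset.mem_univ E) le_rfl
      have h2 := inf_biSup_eq_bot V (V ⊓ Subgroup.centralizer (H : Set G)) hVab
        (fun E : {E : Subgroup G // IsEE p V H E} => ⁅V, (E : Subgroup G)⁆)
        (fun E : {E : Subgroup G // IsEE p V H E} =>
          V ⊓ centralizer (((E : Subgroup G)) : Set G))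
        hWV hWC (fun E₁ E₂ hne => hpairC E₁ E₂ hne) hD Finset.univ
      exact (disjoint_iff.mpr h2).mono_right h1
    | some E₁ =>
      have h1 : (⨆ (o' : Option {E : Subgroup G // IsEE p V H E}) (_ : o' ≠ some E₁),
          o'.elim (V ⊓ Subgroup.centralizer (H : Set G)) (fun E => ⁅V, (E : Subgroup G)⁆)) ≤
          V ⊓ centralizer (((E₁ : Subgroup G)) : Set G) := by
        apply iSup₂_le
        intro o' ho'
        cases o' with
        | none => exact hD E₁
        | some E₂ =>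
          apply hpairC E₁ E₂
          intro h
          exact ho' (by rw [h])
      exact (disjoint_iff.mpr (hWC E₁)).mono_right h1
  · have h2 := biSup_sup_biInf_eq V hVab
        (fun E : {E : Subgroup G // IsEE p V H E} => ⁅V, (E : Subgroup G)⁆)
        (fun E : {E : Subgroup G // IsEE p V H E} =>
          V ⊓ centralizer (((E : Subgroup G)) : Set G))
        hWV (fun E => inf_le_left) hWsup (fun E₁ E₂ hne => hpairC E₁ E₂ hne) Finset.univ
    have h3 : V ⊓ (⨅ E ∈ (Finset.univ : Finset {E : Subgroup G // IsEE p V H E}),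
        V ⊓ centralizer (((E : Subgroup G)) : Set G)) ≤ V ⊓ Subgroup.centralizer (H : Set G) := by
      intro v hv
      obtain ⟨hvV, hvC⟩ := Subgroup.mem_inf.mp hv
      refine Subgroup.mem_inf.mpr ⟨hvV, ?_⟩
      rw [← hsupH, mem_centralizer_iSup]
      intro E
      have := Subgroup.mem_iInf.mp (Subgroup.mem_iInf.mp hvC E) (Finset.mem_univ E)
      exact (Subgroup.mem_inf.mp this).2
    have h4 : (⨆ E ∈ (Finset.univ : Finset {E : Subgroup G // IsEE p V H E}),
        ⁅V, (E : Subgroup G)⁆) = ⨆ E : {E : Subgroup G // IsEE p V H E}, ⁅V, (E : Subgroup G)⁆ := by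
      simp
    apply le_antisymm
    · exact sup_le inf_le_left (iSup_le hWV)
    · conv_lhs => rw [← h2]
      rw [h4, sup_comm]
      exact sup_le_sup_right h3 _

end main

end Cfsg.Agent.Lib.Helper14.Off
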