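import Mathlib
import Cfsg.Agent.Lib.Helper14.Offender10

/-!
# Coprime action on the FF-structure: general lemmas (helper14)
-/

set_option autoImplicit false

namespace Cfsg.Agent.Lib.Helper14.CopFF

open Cfsg Subgroup Cfsg.Agent.Lib.Helper14.Off Cfsg.Agent.S0598
open scoped commutatorElement

theorem multiset_noncommProd_congr {β : Type*} [Monoid β] {s t : Multiset β} (h : s = t)
    (cs : {x | x ∈ s}.Pairwise Commute) (ct : {x | x ∈ t}.Pairwise Commute) :
    s.noncommProd cs = t.noncommProd ct := by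
  subst h; rfl

/-- reindexing a noncommutative product over a whole fintype -/
theorem noncommProd_univ_equiv {ι β : Type*} [Fintype ι] [Monoid β] (σ : ι ≃ ι) (f : ι → β)
    (comm : ((Finset.univ : Finset ι) : Set ι).Pairwise (Function.onFun Commute f))
    (comm' : ((Finset.univ : Finset ι) : Set ι).Pairwise
      (Function.onFun Commute (fun i => f (σ i)))) :
    Finset.univ.noncommProd (fun i => f (σ i)) comm' = Finset.univ.noncommProd f comm := by
  unfold Finset.noncommProd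
  apply multiset_noncommProd_congr
  have h := congrArg Finset.val (Finset.map_univ_equiv σ)
  rw [Finset.map_val] at h
  conv_rhs => rw [← h]
  rw [Multiset.map_map]
  rfl

variable {G : Type*} [Group G]

/-- `|N : P ∩ N|` divides `|Y : P|` when `N ⊴ Y`. -/
theorem relIndex_inf_dvd [Finite G] (P N Y : Subgroup G) (hPY : P ≤ Y) (hNY : N ≤ Y)
    (hYN : Y ≤ normalizer (N : Set G)) : (P ⊓ N).relIndex N ∣ P.relIndex Y := by
  have h1 : P.relIndex (P ⊔ N) * (P ⊔ N).relIndex Y = P.relIndex Y :=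
    relIndex_mul_relIndex _ _ _ le_sup_left (sup_le hPY hNY)
  have e1 := card_mul_relIndex (inf_le_right : P ⊓ N ≤ N)
  have e2 := card_mul_relIndex (inf_le_left : P ⊓ N ≤ P)
  have e3 := card_mul_relIndex (le_sup_right : N ≤ P ⊔ N)
  have e4 := card_mul_relIndex (le_sup_left : P ≤ P ⊔ N)
  have e5 : N.relIndex (P ⊔ N) = N.relIndex P := by
    haveI : (N.subgroupOf Y).Normal := normal_subgroupOf_of_le_normalizer hYN
    have := relIndex_sup_right (P.subgroupOf Y) (N.subgroupOf Y)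
    rw [← subgroupOf_sup hPY hNY, relIndex_subgroupOf (sup_le hPY hNY),
      relIndex_subgroupOf hPY] at this
    exact this
  have e6 : (P ⊓ N).relIndex P = N.relIndex P := inf_relIndex_left P N
  rw [e6] at e2
  rw [e5] at e3
  have hpos : 0 < Nat.card (P ⊓ N : Subgroup G) * N.relIndex P := by
    rw [e2]; exact Nat.card_pos
  have key : (P ⊓ N).relIndex N = P.relIndex (P ⊔ N) := by
    apply Nat.eq_of_mul_eq_mul_left hpos
    calc Nat.card (P ⊓ N : Subgroup G) * N.relIndex P * (P ⊓ N).relIndex N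
        = (Nat.card (P ⊓ N : Subgroup G) * (P ⊓ N).relIndex N) * N.relIndex P := by ring
      _ = Nat.card N * N.relIndex P := by rw [e1]
      _ = Nat.card (P ⊔ N : Subgroup G) := e3
      _ = Nat.card P * P.relIndex (P ⊔ N) := e4.symm
      _ = Nat.card (P ⊓ N : Subgroup G) * N.relIndex P * P.relIndex (P ⊔ N) := by rw [e2]
  rw [key]
  exact Dvd.intro _ h1

/-- A `p`-subgroup of `E` lies in every normal subgroup of `E` of index prime to `p`. -/
theorem le_of_isPGroup_of_coprime [Finite G] {p : ℕ} [hp : Fact p.Prime] (A R E : Subgroup G)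
    (hER : E ≤ normalizer (R : Set G)) (hAE : A ≤ E) (hA : IsPGroup p A)
    (hc : (R.relIndex E).Coprime p) : A ≤ R := by
  haveI : (R.subgroupOf E).Normal := normal_subgroupOf_of_le_normalizer hER
  have h1 : (R.subgroupOf E).relIndex (A.subgroupOf E) ∣ (R.subgroupOf E).index :=
    relIndex_dvd_index_of_normal _ _
  rw [relIndex_subgroupOf hAE] at h1
  obtain ⟨n, hn⟩ := hA.index (R.subgroupOf A)
  have h2 : R.relIndex A = p ^ n := hn
  have h3 : (R.subgroupOf E).index = R.relIndex E := rfl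
  rw [h2, h3] at h1
  rw [← relIndex_eq_one, h2]
  rcases Nat.eq_zero_or_pos n with h0 | hpos
  · rw [h0, pow_zero]
  · exfalso
    have h4 : p ∣ R.relIndex E := (dvd_pow_self p hpos.ne').trans h1
    have h5 : p ∣ Nat.gcd (R.relIndex E) p := Nat.dvd_gcd h4 dvd_rfl
    rw [hc] at h5
    exact hp.out.one_lt.ne' (Nat.dvd_one.mp h5)

/-- maximality of `O_{p'}(H)` -/
theorem le_kk {p : ℕ} (H N : Subgroup G) (hNH : N ≤ H) (hn : H ≤ normalizer (N : Set G))
    (hc : (Nat.card N).Coprime p) : N ≤ kk p H := by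
  haveI : (N.subgroupOf H).Normal := normal_subgroupOf_of_le_normalizer hn
  have h1 : N.subgroupOf H ≤ Cfsg.pPrimeCore p ↥H := by
    unfold Cfsg.pPrimeCore
    apply le_sSup
    refine ⟨inferInstance, ?_⟩
    rw [Nat.card_congr (Subgroup.subgroupOfEquivOfLe hNH).toEquiv]
    exact hc
  intro x hx
  exact Subgroup.mem_map.mpr ⟨⟨x, hNH hx⟩, h1 hx, rfl⟩

theorem cjs_inv_cjs' (g : G) (A : Subgroup G) : cjs g⁻¹ (cjs g A) = A := by
  rw [← cjs_mul, inv_mul_cancel, cjs_one]

theorem cjs_cjs_inv' (g : G) (A : Subgroup G) : cjs g (cjs g⁻¹ A) = A := by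
  rw [← cjs_mul, mul_inv_cancel, cjs_one]

theorem cjs_le_normalizer_cjs (g : G) (A B : Subgroup G) (h : A ≤ normalizer (B : Set G)) :
    cjs g A ≤ normalizer (cjs g B : Set G) := by
  intro x hx
  obtain ⟨a, ha, rfl⟩ := (mem_cjs_iff g A x).mp hx
  rw [Subgroup.mem_normalizer_iff]
  intro y
  have hn := Subgroup.mem_normalizer_iff.mp (h ha)
  constructor
  · intro hy
    obtain ⟨b, hb, rfl⟩ := (mem_cjs_iff g B y).mp hy
    rw [mem_cjs_iff]
    refine ⟨a * b * a⁻¹, (hn b).mp hb, ?_⟩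
    group
  · intro hy
    obtain ⟨b, hb, hbe⟩ := (mem_cjs_iff g B _).mp hy
    rw [mem_cjs_iff]
    refine ⟨a⁻¹ * b * a, ?_, ?_⟩
    · have := (hn (a⁻¹ * b * a)).mpr
      apply this
      have : a * (a⁻¹ * b * a) * a⁻¹ = b := by group
      rw [this]; exact hb
    · have : y = (g * a * g⁻¹)⁻¹ * (g * b * g⁻¹) * (g * a * g⁻¹) := by rw [hbe]; group
      rw [this]; group

/-- `O_{p'}(H)` is invariant under the normalizer of `H`. -/
theorem cjs_kk [Finite G] {p : ℕ} (H : Subgroup G) {g : G} (hg : g ∈ normalizer (H : Set G)) :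
    cjs g (kk p H) = kk p H := by
  have key : ∀ g : G, g ∈ normalizer (H : Set G) → cjs g (kk p H) ≤ kk p H := by
    intro g hg
    apply le_kk
    · have := cjs_mono g (kk_le p H)
      rwa [cjs_eq_self_of_mem_normalizer g H hg] at this
    · have := cjs_le_normalizer_cjs g H (kk p H) (kk_normal p H)
      rwa [cjs_eq_self_of_mem_normalizer g H hg] at this
    · rw [card_cjs]; exact kk_coprime p H
  apply le_antisymm (key g hg)
  have h2 := cjs_mono g (key g⁻¹ (Subgroup.inv_mem _ hg))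
  rwa [cjs_cjs_inv'] at h2

theorem cjs_inf (g : G) (A B : Subgroup G) : cjs g (A ⊓ B) = cjs g A ⊓ cjs g B :=
  Subgroup.map_inf _ _ _ (MulAut.conj g).injective

theorem cjs_centralizer (g : G) (A : Subgroup G) :
    cjs g (centralizer (A : Set G)) = centralizer (cjs g A : Set G) := by
  ext x
  rw [mem_cjs_iff, Subgroup.mem_centralizer_iff]
  constructor
  · rintro ⟨c, hc, rfl⟩ y hy
    obtain ⟨a, ha, rfl⟩ := (mem_cjs_iff g A y).mp hy
    have := Subgroup.mem_centralizer_iff.mp hc a ha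
    calc g * a * g⁻¹ * (g * c * g⁻¹) = g * (a * c) * g⁻¹ := by group
      _ = g * (c * a) * g⁻¹ := by rw [this]
      _ = g * c * g⁻¹ * (g * a * g⁻¹) := by group
  · intro h
    refine ⟨g⁻¹ * x * g, ?_, by group⟩
    rw [Subgroup.mem_centralizer_iff]
    intro a ha
    have := h (g * a * g⁻¹) ((mem_cjs_iff g A _).mpr ⟨a, ha, rfl⟩)
    calc a * (g⁻¹ * x * g) = g⁻¹ * (g * a * g⁻¹ * x) * g := by group
      _ = g⁻¹ * (x * (g * a * g⁻¹)) * g := by rw [this]
      _ = g⁻¹ * x * g * a := by group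

/-- best offenders are permuted by `N(V)` -/
theorem bestOffender_cjs {p : ℕ} (V A : Subgroup G) {g : G} (hg : g ∈ normalizer (V : Set G))
    (hA : Cfsg.IsBestOffenderOn p V A) : Cfsg.IsBestOffenderOn p V (cjs g A) := by
  have hV : cjs g V = V := cjs_eq_self_of_mem_normalizer g V hg
  have hcv : ∀ B : Subgroup G, Nat.card ↥(V ⊓ centralizer ((cjs g B : Subgroup G) : Set G)) =
      Nat.card ↥(V ⊓ centralizer (B : Set G)) := by
    intro B
    rw [← card_cjs g (V ⊓ centralizer (B : Set G)), cjs_inf, hV, cjs_centralizer]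
  have hCV : cjs g (centralizer (V : Set G)) = centralizer (V : Set G) := by
    rw [cjs_centralizer, hV]
  obtain ⟨h1, h2, h3⟩ := hA
  refine ⟨?_, ?_, ?_⟩
  · intro B hB
    have hB' : cjs g⁻¹ B ≤ A := by
      have := cjs_mono g⁻¹ hB
      rwa [cjs_inv_cjs'] at this
    have := h1 _ hB'
    rw [← hcv (cjs g⁻¹ B), cjs_cjs_inv', card_cjs] at this
    rw [hcv A, card_cjs]
    exact this
  · rw [← cjs_commutator, ← hCV]
    exact cjs_mono g h2
  · intro a ha
    obtain ⟨b, hb, rfl⟩ := (mem_cjs_iff g A a).mp ha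
    rw [← hCV, mem_cjs_iff]
    refine ⟨b ^ p, h3 b hb, ?_⟩
    rw [← conj_pow]

/-- the family `IsEE` is permuted by `N(V) ∩ N(H)` -/
theorem IsEE.conj [Finite G] {p : ℕ} (V H : Subgroup G) {E : Subgroup G} (hE : IsEE p V H E) {g : G}
    (hgV : g ∈ normalizer (V : Set G)) (hgH : g ∈ normalizer (H : Set G)) :
    IsEE p V H (cjs g E) := by
  obtain ⟨A, hAH, hAo, hAV, hmin, hEA⟩ := hE
  have hV : cjs g V = V := cjs_eq_self_of_mem_normalizer g V hgV
  have hH : cjs g H = H := cjs_eq_self_of_mem_normalizer g H hgH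
  have hcomm : ∀ B : Subgroup G, ⁅V, cjs g B⁆ = cjs g ⁅V, B⁆ := by
    intro B
    rw [cjs_commutator, hV]
  refine ⟨cjs g A, ?_, bestOffender_cjs V A hgV hAo, ?_, ?_, ?_⟩
  · have := cjs_mono g hAH
    rwa [hH] at this
  · rw [hcomm]
    intro h
    apply hAV
    have := congrArg (cjs g⁻¹) h
    rw [cjs_inv_cjs'] at this
    rw [this]
    exact Subgroup.map_bot _
  · intro B hB hBo hBV
    have hB' : cjs g⁻¹ B ≤ A := by
      have := cjs_mono g⁻¹ hB
      rwa [cjs_inv_cjs'] at this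
    have hgV' : g⁻¹ ∈ normalizer (V : Set G) := Subgroup.inv_mem _ hgV
    have h1 := hmin (cjs g⁻¹ B) hB' (bestOffender_cjs V B hgV' hBo) ?_
    · rw [← h1, cjs_cjs_inv']
    · have hV' : cjs g⁻¹ V = V := cjs_eq_self_of_mem_normalizer g⁻¹ V hgV'
      intro h
      apply hBV
      have h2 : ⁅V, cjs g⁻¹ B⁆ = cjs g⁻¹ ⁅V, B⁆ := by rw [cjs_commutator, hV']
      rw [h2] at h
      have := congrArg (cjs g) h
      rw [cjs_cjs_inv'] at this
      rw [this]
      exact Subgroup.map_bot _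
  · rw [hEA, cjs_sup, cjs_commutator]
    have : cjs g ((Cfsg.pPrimeCore p ↥H).map H.subtype) = (Cfsg.pPrimeCore p ↥H).map H.subtype :=
      cjs_kk (p := p) H hgH
    rw [this]

end Cfsg.Agent.Lib.Helper14.CopFF
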