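import Mathlib
import Cfsg.Agent.Lib.Helper14.CopFF1
import Cfsg.Agent.Lib.Helper14.SL2Small

/-!
# Coprime action on the FF-structure: the components and the norm element (helper14)
-/

set_option autoImplicit false

namespace Cfsg.Agent.Lib.Helper14.CopFF

open Cfsg Subgroup Cfsg.Agent.Lib.Helper14.Off Cfsg.Agent.S0598
open scoped commutatorElement

variable {G : Type*} [Group G]

section facts

variable [Finite G] {p : ℕ} [hp : Fact p.Prime] (V H : Subgroup G)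
  (hV : Cfsg.IsElementaryAbelian p V) (hHV : H ≤ normalizer (V : Set G))
  (hf : H ⊓ centralizer (V : Set G) = ⊥)
  (hS1 : Subgroup.centralizer (Cfsg.pPrimeCore p ↥H : Set ↥H) ≤ Cfsg.pPrimeCore p ↥H)
  (hS3 : H = ⨆ A : {A : Subgroup G // A ≤ H ∧ Cfsg.IsBestOffenderOn p V A}, (A : Subgroup G))
  (hH1 : H ≠ ⊥)

/-- the facts about one component -/
structure Comp (p : ℕ) (V H E : Subgroup G) : Prop where
  isEE : IsEE p V H E
  le : E ≤ H
  normal : H ≤ normalizer (E : Set G)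
  normalW : H ≤ normalizer ((⁅V, E⁆ : Subgroup G) : Set G)
  normalF : H ≤ normalizer ((H ⊓ centralizer ((⁅V, E⁆ : Subgroup G) : Set G) : Subgroup G) : Set G)
  sup_F : E ⊔ (H ⊓ centralizer ((⁅V, E⁆ : Subgroup G) : Set G)) = H
  inf_F : E ⊓ (H ⊓ centralizer ((⁅V, E⁆ : Subgroup G) : Set G)) = ⊥
  comm_F : ⁅E, H ⊓ centralizer ((⁅V, E⁆ : Subgroup G) : Set G)⁆ = ⊥
  cardW : Nat.card (⁅V, E⁆ : Subgroup G) = p ^ 2
  iso : Nonempty (↥E ≃* Matrix.SpecialLinearGroup (Fin 2) (ZMod p))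
  W_le : ⁅V, E⁆ ≤ V
  W_inf : ⁅V, E⁆ ⊓ (V ⊓ centralizer (E : Set G)) = ⊥
  W_sup : ⁅V, E⁆ ⊔ (V ⊓ centralizer (E : Set G)) = V
  gen : ∃ A : Subgroup G, A ≤ E ∧ Nat.card A = p ∧ E = ⨆ k : ↥(kk p H), cjs (k : G) A

include hV hHV hf hS1 hS3 hH1 in
theorem IsEE.comp {E : Subgroup G} (hE : IsEE p V H E) : Comp p V H E := by
  have hS1' := kk_self_centralizing p H hS1
  have hgen := le_of_forall_tv V H hV hHV hf hS1 hS3 hH1
  obtain ⟨A, hA, rfl⟩ := hE.exists_tv V H hV hHV hf hS1 hS3 hH1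
  obtain ⟨-, hiso, hcard, -⟩ := hA.EE_facts V H hV hHV hf hS1'
  refine ⟨hE, hA.EE_le V H hV hHV hf hS1', hA.le_normalizer_EE V H hV hHV hf hS1' hgen,
    hA.le_normalizer_commutator_EE V H hV hHV hf hS1' hgen,
    hA.le_normalizer_F V H hV hHV hf hS1' hgen,
    hA.EE_sup_F V H hV hHV hf hS1' hgen, hA.EE_inf_F V H hV hHV hf hS1',
    hA.EE_comm_F V H hV hHV hf hS1' hgen, hcard, hiso,
    hA.commutator_EE_le V H hV hHV hf hS1', hA.EE_inf_cv V H hV hHV hf hS1',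
    hA.EE_sup_cv V H hV hHV hf hS1', ?_⟩
  refine ⟨A, le_sup_right, hA.2.1, ?_⟩
  apply le_antisymm
  · apply sup_le
    · rw [Subgroup.commutator_le]
      intro k hk a ha
      rw [commutatorElement_def]
      apply Subgroup.mul_mem
      · apply (le_iSup (fun k : ↥(kk p H) => cjs (k : G) A) ⟨k, hk⟩)
        exact (mem_cjs_iff k A _).mpr ⟨a, ha, rfl⟩
      · apply (le_iSup (fun k : ↥(kk p H) => cjs (k : G) A) ⟨1, Subgroup.one_mem _⟩)
        rw [cjs_one]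
        exact Subgroup.inv_mem _ ha
    · refine le_trans ?_ (le_iSup (fun k : ↥(kk p H) => cjs (k : G) A) ⟨1, Subgroup.one_mem _⟩)
      rw [cjs_one]
  · apply iSup_le
    rintro ⟨k, hk⟩ x hx
    obtain ⟨a, ha, rfl⟩ := (mem_cjs_iff k A x).mp hx
    have h1 : ⁅k, a⁆ ∈ ⁅kk p H, A⁆ := Subgroup.commutator_mem_commutator hk ha
    have h2 : k * a * k⁻¹ = ⁅k, a⁆ * a := by rw [commutatorElement_def]; group
    rw [h2]
    exact Subgroup.mul_mem _ (Subgroup.mem_sup_left h1) (Subgroup.mem_sup_right ha)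

include hV hHV hf hS1 hS3 hH1 in
theorem IsEE.le_F_of_ne {E E' : Subgroup G} (hE : IsEE p V H E) (hE' : IsEE p V H E')
    (hne : E ≠ E') : E' ≤ H ⊓ centralizer ((⁅V, E⁆ : Subgroup G) : Set G) := by
  have hS1' := kk_self_centralizing p H hS1
  have hgen := le_of_forall_tv V H hV hHV hf hS1 hS3 hH1
  obtain ⟨A, hA, rfl⟩ := hE.exists_tv V H hV hHV hf hS1 hS3 hH1
  obtain ⟨B, hB, rfl⟩ := hE'.exists_tv V H hV hHV hf hS1 hS3 hH1
  exact hA.EE_le_F V H hV hHV hf hS1' hgen hB hne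

include hV hHV hf hS1 hS3 hH1 in
theorem IsEE.W_le_cv_of_ne {E E' : Subgroup G} (hE : IsEE p V H E) (hE' : IsEE p V H E')
    (hne : E ≠ E') : ⁅V, E'⁆ ≤ V ⊓ centralizer (E : Set G) := by
  have hS1' := kk_self_centralizing p H hS1
  have hgen := le_of_forall_tv V H hV hHV hf hS1 hS3 hH1
  obtain ⟨A, hA, rfl⟩ := hE.exists_tv V H hV hHV hf hS1 hS3 hH1
  obtain ⟨B, hB, rfl⟩ := hE'.exists_tv V H hV hHV hf hS1 hS3 hH1
  exact hA.commutator_EE_le_cv V H hV hHV hf hS1' hgen hB hne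

include hV hHV hf hS1 hS3 hH1 in
/-- `H` is generated by the components -/
theorem le_of_forall_isEE (M : Subgroup G) (h : ∀ E : Subgroup G, IsEE p V H E → E ≤ M) :
    H ≤ M := by
  obtain ⟨-, -, -, hsup, -, -⟩ := structure_main V H hV hHV hf hS1 hS3 hH1
  rw [← hsup]
  exact iSup_le (fun E => h E.1 E.2)

include hV hHV hf hS1 hS3 hH1 in
theorem exists_isEE : ∃ E : Subgroup G, IsEE p V H E := by
  by_contra hne
  push Not at hne
  apply hH1
  rw [eq_bot_iff]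
  apply le_of_forall_isEE V H hV hHV hf hS1 hS3 hH1
  intro E hE
  exact absurd hE (hne E)

include hV hHV hf hS1 hS3 hH1 in
theorem prime_two_three : p = 2 ∨ p = 3 :=
  (structure_main V H hV hHV hf hS1 hS3 hH1).1

include hV hHV hf hS1 hS3 hH1 in
/-- `6 ∣ |H|` -/
theorem two_three_dvd : 2 ∣ Nat.card H ∧ 3 ∣ Nat.card H := by
  obtain ⟨E, hE⟩ := exists_isEE V H hV hHV hf hS1 hS3 hH1
  have hc := IsEE.comp V H hV hHV hf hS1 hS3 hH1 hE
  obtain ⟨φ⟩ := hc.iso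
  obtain ⟨A, hAE, hcA, -⟩ := hc.gen
  have hpd : p ∣ Nat.card H := by
    rw [← hcA]
    exact Subgroup.card_dvd_of_le (hAE.trans hc.le)
  have hEd : Nat.card E ∣ Nat.card H := Subgroup.card_dvd_of_le hc.le
  have key : ∀ (r : ℕ) (hr : r.Prime) (g : Matrix.SpecialLinearGroup (Fin 2) (ZMod p)),
      g ≠ 1 → g ^ r = 1 → r ∣ Nat.card H := by
    intro r hr g hg1 hgr
    haveI : Fact r.Prime := ⟨hr⟩
    have h1 : orderOf g = r := orderOf_eq_prime hgr hg1
    have h2 : orderOf (φ.symm g) = r := by rw [← h1]; exact MulEquiv.orderOf_eq φ.symm g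
    rw [← h2]
    exact (_root_.orderOf_dvd_natCard _).trans hEd
  rcases prime_two_three V H hV hHV hf hS1 hS3 hH1 with h2 | h3
  · subst h2
    refine ⟨hpd, ?_⟩
    obtain ⟨g, hg1, hg3⟩ := SL2.exists_order_three
    exact key 3 Nat.prime_three g hg1 hg3
  · subst h3
    refine ⟨?_, hpd⟩
    obtain ⟨g, hg1, hg2⟩ := SL2.exists_order_two
    exact key 2 Nat.prime_two g hg1 hg2

end facts

end Cfsg.Agent.Lib.Helper14.CopFF
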