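import Mathlib
import Cfsg.Agent.Lib.Helper14.Offender8
import Cfsg.Agent.Lib.Helper13.Zipper
import Cfsg.Agent.Lib.Helper16.Subnormal
import Cfsg.Agent.S0590
import Cfsg.Agent.S0597

/-!
# KS 9.3.6: two subnormal subgroups irreducible on incomparable commutators (helper14)
-/

set_option autoImplicit false

namespace Cfsg.Agent.Lib.Helper14.SubnPair

open Cfsg Subgroup Cfsg.Agent.Lib.Helper14.Off
open scoped Pointwise commutatorElement

variable {G : Type*} [Group G]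

theorem cjs_eq_smul (z : G) (A : Subgroup G) : cjs z A = MulAut.conj z • A := rfl

theorem cjs_inf (z : G) (A B : Subgroup G) : cjs z (A ⊓ B) = cjs z A ⊓ cjs z B :=
  Subgroup.map_inf A B _ (MulAut.conj z).injective

theorem cjs_bot (z : G) : cjs z (⊥ : Subgroup G) = ⊥ := Subgroup.map_bot _

theorem cjs_inv_cjs (z : G) (A : Subgroup G) : cjs z⁻¹ (cjs z A) = A := by
  rw [← cjs_mul, inv_mul_cancel, cjs_one]

theorem cjs_cjs_inv (z : G) (A : Subgroup G) : cjs z (cjs z⁻¹ A) = A := by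
  rw [← cjs_mul, mul_inv_cancel, cjs_one]

theorem cjs_injective (z : G) {A B : Subgroup G} (h : cjs z A = cjs z B) : A = B := by
  rw [← cjs_inv_cjs z A, h, cjs_inv_cjs]

theorem cjs_le_iff (z : G) {A B : Subgroup G} : cjs z A ≤ cjs z B ↔ A ≤ B := by
  constructor
  · intro h
    have := cjs_mono z⁻¹ h
    rwa [cjs_inv_cjs, cjs_inv_cjs] at this
  · exact cjs_mono z

theorem mem_normalizer_iff_cjs (z : G) (A : Subgroup G) :
    z ∈ normalizer (A : Set G) ↔ cjs z A = A :=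
  Subgroup.mem_normalizer_iff_map_conj_eq

theorem cjs_normalizer_le (z : G) {X U : Subgroup G} (h : X ≤ normalizer (U : Set G)) :
    cjs z X ≤ normalizer ((cjs z U : Subgroup G) : Set G) := by
  intro g hg
  obtain ⟨a, ha, rfl⟩ := (mem_cjs_iff z X g).mp hg
  rw [mem_normalizer_iff_cjs, ← cjs_mul]
  have h1 : z * a * z⁻¹ * z = z * a := by group
  rw [h1, cjs_mul, (mem_normalizer_iff_cjs a U).mp (h ha)]

section

variable [Finite G] {p : ℕ} [hp : Fact p.Prime]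

/-- the hypotheses of the lemma -/
structure Hyp (p : ℕ) (V E E₁ E₂ : Subgroup G) : Prop where
  hEV : E ≤ normalizer (V : Set G)
  hf : E ⊓ centralizer (V : Set G) = ⊥
  hgen : E = E₁ ⊔ E₂
  hs₁ : (E₁.subgroupOf E).IsSubnormal
  hs₂ : (E₂.subgroupOf E).IsSubnormal
  hOp : Cfsg.pCore p ↥E = ⊥
  hirr₁ : ∀ U : Subgroup G, U ≤ ⁅V, E₁⁆ → E₁ ≤ normalizer (U : Set G) → U = ⊥ ∨ U = ⁅V, E₁⁆
  hirr₂ : ∀ U : Subgroup G, U ≤ ⁅V, E₂⁆ → E₂ ≤ normalizer (U : Set G) → U = ⊥ ∨ U = ⁅V, E₂⁆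
  h12 : ¬ ⁅V, E₁⁆ ≤ ⁅V, E₂⁆
  h21 : ¬ ⁅V, E₂⁆ ≤ ⁅V, E₁⁆
  hc₁ : 2 < Nat.card E₁
  hc₂ : 2 < Nat.card E₂

omit [Finite G] in
theorem Hyp.symm {V E E₁ E₂ : Subgroup G} (h : Hyp p V E E₁ E₂) : Hyp p V E E₂ E₁ :=
  ⟨h.hEV, h.hf, by rw [h.hgen, sup_comm], h.hs₂, h.hs₁, h.hOp, h.hirr₂, h.hirr₁, h.h21, h.h12,
    h.hc₂, h.hc₁⟩

omit [Finite G] in
theorem Hyp.le₁ {V E E₁ E₂ : Subgroup G} (h : Hyp p V E E₁ E₂) : E₁ ≤ E := by
  rw [h.hgen]; exact le_sup_left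

omit [Finite G] in
theorem Hyp.le₂ {V E E₁ E₂ : Subgroup G} (h : Hyp p V E E₁ E₂) : E₂ ≤ E := by
  rw [h.hgen]; exact le_sup_right

omit [Finite G] in
theorem Hyp.commutator_le {V E E₁ E₂ : Subgroup G} (h : Hyp p V E E₁ E₂) : ⁅V, E₁⁆ ≤ V :=
  Cfsg.Agent.Lib.Helper13.commutator_le_of_le_normalizer V E₁ (h.le₁.trans h.hEV)

omit [Finite G] in
theorem Hyp.le_normalizer_commutator {V E E₁ E₂ : Subgroup G} (h : Hyp p V E E₁ E₂) :
    E₁ ≤ normalizer ((⁅V, E₁⁆ : Subgroup G) : Set G) :=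
  Cfsg.Agent.Lib.Helper14.Off.le_normalizer_commutator V E₁ (h.le₁.trans h.hEV)

/-- subnormal `p`-subgroups of `E` are trivial -/
theorem Hyp.eq_bot_of_isPGroup {V E E₁ E₂ : Subgroup G} (h : Hyp p V E E₁ E₂) (X : Subgroup G)
    (hXE : X ≤ E) (hXs : (X.subgroupOf E).IsSubnormal) (hXp : IsPGroup p X) : X = ⊥ := by
  have hp' : IsPGroup p (X.subgroupOf E) := by
    have : IsPGroup p ((X.subgroupOf E).map E.subtype) := by
      rw [Subgroup.map_subgroupOf_eq_of_le hXE]; exact hXp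
    exact IsPGroup.of_injective this
      ((X.subgroupOf E).equivMapOfInjective E.subtype E.subtype_injective).toMonoidHom
      ((X.subgroupOf E).equivMapOfInjective E.subtype E.subtype_injective).injective
  have h1 := Cfsg.Agent.Lib.Helper16.le_pCore_of_isSubnormal_of_isPGroup p hXs hp'
  rw [h.hOp, le_bot_iff] at h1
  have h2 := congrArg (Subgroup.map E.subtype) h1
  rw [Subgroup.map_subgroupOf_eq_of_le hXE, Subgroup.map_bot] at h2
  exact h2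

/-- subnormal subgroups of `E` acting quadratically are trivial -/
theorem Hyp.eq_bot_of_quadratic {V E E₁ E₂ : Subgroup G} (hV : Cfsg.IsElementaryAbelian p V)
    (h : Hyp p V E E₁ E₂) (X : Subgroup G)
    (hXE : X ≤ E) (hXs : (X.subgroupOf E).IsSubnormal) (hq : ⁅⁅V, X⁆, X⁆ = ⊥) : X = ⊥ := by
  apply h.eq_bot_of_isPGroup X hXE hXs
  have h1 := (Cfsg.Agent.S0590.result V X hV (hXE.trans h.hEV) hq).2
  intro g
  refine ⟨1, ?_⟩
  apply Subtype.ext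
  rw [pow_one]
  have h2 : (g : G) ^ p ∈ E ⊓ centralizer (V : Set G) :=
    Subgroup.mem_inf.mpr ⟨E.pow_mem (hXE g.2) p, h1 g g.2⟩
  rw [h.hf, Subgroup.mem_bot] at h2
  simpa using h2

omit [Finite G] hp in
theorem Hyp.commutator_ne_bot {V E E₁ E₂ : Subgroup G} (h : Hyp p V E E₁ E₂) :
    (⁅V, E₁⁆ : Subgroup G) ≠ ⊥ := by
  intro h0
  apply h.h12
  rw [h0]
  exact bot_le

omit [Finite G] hp in
theorem Hyp.ne_bot {V E E₁ E₂ : Subgroup G} (h : Hyp p V E E₁ E₂) : E₁ ≠ ⊥ := by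
  intro h0
  apply h.commutator_ne_bot
  rw [h0]
  exact Subgroup.commutator_bot_right V

/-- `E₁` has no fixed points on `[V, E₁]` -/
theorem Hyp.inf_centralizer_eq_bot {V E E₁ E₂ : Subgroup G} (hV : Cfsg.IsElementaryAbelian p V)
    (h : Hyp p V E E₁ E₂) : ⁅V, E₁⁆ ⊓ centralizer (E₁ : Set G) = ⊥ := by
  have hN : E₁ ≤ normalizer ((⁅V, E₁⁆ ⊓ centralizer (E₁ : Set G) : Subgroup G) : Set G) := by
    apply le_normalizer_of_forall_conj_mem
    intro e he d hd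
    obtain ⟨hd1, hd2⟩ := Subgroup.mem_inf.mp hd
    have : e * d * e⁻¹ = d := by
      have := Subgroup.mem_centralizer_iff.mp hd2 e he
      rw [this]; group
    rw [this]
    exact hd
  rcases h.hirr₁ _ inf_le_left hN with h0 | h0
  · exact h0
  · exfalso
    apply h.ne_bot
    apply h.eq_bot_of_quadratic hV E₁ h.le₁ h.hs₁
    rw [Subgroup.commutator_eq_bot_iff_le_centralizer]
    rw [← h0]
    exact inf_le_right

/-- if `E₂` normalizes `[V, E₁]` the conclusion holds -/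
theorem Hyp.of_invariant {V E E₁ E₂ : Subgroup G} (hV : Cfsg.IsElementaryAbelian p V)
    (h : Hyp p V E E₁ E₂) (hinv : E₂ ≤ normalizer ((⁅V, E₁⁆ : Subgroup G) : Set G)) :
    ⁅E₁, E₂⁆ = ⊥ ∧ ⁅V, E₁⁆ ⊓ ⁅V, E₂⁆ = ⊥ := by
  have hinf : ⁅V, E₁⁆ ⊓ ⁅V, E₂⁆ = ⊥ := by
    have hN : E₂ ≤ normalizer ((⁅V, E₁⁆ ⊓ ⁅V, E₂⁆ : Subgroup G) : Set G) := by
      intro e he
      rw [mem_normalizer_iff_cjs, cjs_inf, (mem_normalizer_iff_cjs e _).mp (hinv he),
        (mem_normalizer_iff_cjs e _).mp (h.symm.le_normalizer_commutator he)]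
    rcases h.hirr₂ _ inf_le_right hN with h0 | h0
    · exact h0
    · exfalso
      apply h.h21
      rw [← h0]
      exact inf_le_left
  refine ⟨?_, hinf⟩
  have hc : ⁅⁅V, E₁⁆, E₂⁆ = ⊥ := by
    rw [eq_bot_iff, ← hinf]
    apply le_inf
    · exact Cfsg.Agent.Lib.Helper14.Off.commutator_le_of_le_normalizer _ _ hinv
    · exact Subgroup.commutator_mono h.commutator_le le_rfl
  have := Cfsg.Agent.S0597.result V E hV h.hEV h.hf E₁ E₂ h.le₁ h.le₂ h.hs₁ h.hs₂ hc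
  rw [h.hOp, Subgroup.map_bot, le_bot_iff] at this
  exact this

end

end Cfsg.Agent.Lib.Helper14.SubnPair
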