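import Mathlib
import Cfsg.Agent.Lib.Helper14.CopFF2
import Cfsg.Agent.Lib.Helper14.SubnPair1
import Cfsg.Agent.Lib.Helper16.ThompsonAxB

/-!
# Coprime action on the FF-structure: stabilizers act trivially; the norm element (helper14)
-/

set_option autoImplicit false

namespace Cfsg.Agent.Lib.Helper14.CopFF

open Cfsg Subgroup Cfsg.Agent.Lib.Helper14.Off Cfsg.Agent.S0598
open scoped commutatorElement

variable {G : Type*} [Group G]

/-- conjugation action of a normalizing subgroup -/
def conjMulAction (N W : Subgroup G) (h : N ≤ normalizer (W : Set G)) : MulAction ↥N ↥W where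
  smul n w := ⟨(n : G) * w * (n : G)⁻¹, (Subgroup.mem_normalizer_iff.mp (h n.2) w).mp w.2⟩
  one_smul w := by
    apply Subtype.ext
    change ((1 : ↥N) : G) * (w : G) * ((1 : ↥N) : G)⁻¹ = w
    simp
  mul_smul a b w := by
    apply Subtype.ext
    change ((a * b : ↥N) : G) * (w : G) * ((a * b : ↥N) : G)⁻¹ =
      (a : G) * ((b : G) * (w : G) * (b : G)⁻¹) * (a : G)⁻¹
    rw [Subgroup.coe_mul]
    group

/-- a `q`-group (`q ≥ 5`) acts trivially on a group of order `p²`, `p ≤ 3` -/
theorem le_centralizer_of_card_sq [Finite G] {p q : ℕ} [hp : Fact p.Prime] [hq : Fact q.Prime]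
    (N W : Subgroup G) (h : N ≤ normalizer (W : Set G)) (hN : IsPGroup q N)
    (hW : Nat.card W = p ^ 2) (hp23 : p = 2 ∨ p = 3) (hq2 : q ≠ 2) (hq3 : q ≠ 3) :
    N ≤ centralizer (W : Set G) := by
  letI := conjMulAction N W h
  have hmod := hN.card_modEq_card_fixedPoints ↥W
  have hfix : MulAction.fixedPoints ↥N ↥W =
      (((centralizer (N : Set G)).subgroupOf W : Subgroup ↥W) : Set ↥W) := by
    ext w
    rw [MulAction.mem_fixedPoints, SetLike.mem_coe, Subgroup.mem_subgroupOf,
      Subgroup.mem_centralizer_iff]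
    constructor
    · intro hw n hn
      have := congrArg Subtype.val (hw ⟨n, hn⟩)
      change n * (w : G) * n⁻¹ = w at this
      calc n * (w : G) = n * (w : G) * n⁻¹ * n := by group
        _ = (w : G) * n := by rw [this]
    · intro hw n
      apply Subtype.ext
      change (n : G) * (w : G) * (n : G)⁻¹ = w
      rw [hw n n.2]
      group
  have hcard : Nat.card (MulAction.fixedPoints ↥N ↥W) =
      Nat.card ((centralizer (N : Set G)).subgroupOf W : Subgroup ↥W) := by
    rw [hfix]; rfl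
  rw [hcard, hW] at hmod
  have hdvd : Nat.card ((centralizer (N : Set G)).subgroupOf W : Subgroup ↥W) ∣ p ^ 2 := by
    rw [← hW]; exact Subgroup.card_subgroup_dvd_card _
  obtain ⟨i, hi, hFi⟩ := (Nat.dvd_prime_pow hp.out).mp hdvd
  rw [hFi] at hmod
  have hi2 : i = 2 := by
    have hqp : q.Prime := hq.out
    rcases hp23 with rfl | rfl
    · interval_cases i
      · exfalso
        have := (Nat.modEq_iff_dvd' (by norm_num)).mp hmod.symm
        norm_num at this
        exact hq3 ((Nat.prime_dvd_prime_iff_eq hqp Nat.prime_three).mp this)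
      · exfalso
        have := (Nat.modEq_iff_dvd' (by norm_num)).mp hmod.symm
        norm_num at this
        exact hq2 ((Nat.prime_dvd_prime_iff_eq hqp Nat.prime_two).mp this)
      · rfl
    · interval_cases i
      · exfalso
        have := (Nat.modEq_iff_dvd' (by norm_num)).mp hmod.symm
        norm_num at this
        have h8 : q ∣ 2 ^ 3 := by norm_num; exact this
        exact hq2 ((Nat.prime_dvd_prime_iff_eq hqp Nat.prime_two).mp (hqp.dvd_of_dvd_pow h8))
      · exfalso
        have := (Nat.modEq_iff_dvd' (by norm_num)).mp hmod.symm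
        norm_num at this
        have h6 : q ∣ 2 * 3 := by norm_num; exact this
        rcases (Nat.Prime.dvd_mul hqp).mp h6 with h | h
        · exact hq2 ((Nat.prime_dvd_prime_iff_eq hqp Nat.prime_two).mp h)
        · exact hq3 ((Nat.prime_dvd_prime_iff_eq hqp Nat.prime_three).mp h)
      · rfl
  rw [hi2, ← hW] at hFi
  have htop := Subgroup.eq_top_of_card_eq _ hFi
  rw [Subgroup.subgroupOf_eq_top] at htop
  exact Subgroup.le_centralizer_iff.mp htop

section act

variable [Finite G] {p : ℕ} [hp : Fact p.Prime] (V H : Subgroup G)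
  (hV : Cfsg.IsElementaryAbelian p V) (hHV : H ≤ normalizer (V : Set G))
  (hf : H ⊓ centralizer (V : Set G) = ⊥)
  (hS1 : Subgroup.centralizer (Cfsg.pPrimeCore p ↥H : Set ↥H) ≤ Cfsg.pPrimeCore p ↥H)
  (hS3 : H = ⨆ A : {A : Subgroup G // A ≤ H ∧ Cfsg.IsBestOffenderOn p V A}, (A : Subgroup G))
  (hH1 : H ≠ ⊥)
  {q : ℕ} [hq : Fact q.Prime] (X : Subgroup G) (hXq : IsPGroup q X)
  (hXV : X ≤ normalizer (V : Set G)) (hXH : X ≤ normalizer (H : Set G))
  (hqH : ¬ q ∣ Nat.card H)

include hV hHV hf hS1 hS3 hH1 hqH in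
theorem q_ne : q ≠ 2 ∧ q ≠ 3 := by
  obtain ⟨h2, h3⟩ := two_three_dvd V H hV hHV hf hS1 hS3 hH1
  constructor
  · rintro rfl; exact hqH h2
  · rintro rfl; exact hqH h3

include hV hHV hf hS1 hS3 hH1 hXq hXV hqH in
/-- the stabilizer in `X` of a component centralizes it -/
theorem stab_le_centralizer {E : Subgroup G} (hE : IsEE p V H E) :
    X ⊓ normalizer (E : Set G) ≤ centralizer (E : Set G) := by
  have hc := IsEE.comp V H hV hHV hf hS1 hS3 hH1 hE
  obtain ⟨hq2, hq3⟩ := q_ne V H hV hHV hf hS1 hS3 hH1 hqH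
  have hp23 := prime_two_three V H hV hHV hf hS1 hS3 hH1
  have hNW : X ⊓ normalizer (E : Set G) ≤ normalizer ((⁅V, E⁆ : Subgroup G) : Set G) :=
    le_trans (le_inf (inf_le_left.trans hXV) inf_le_right)
      (Cfsg.Agent.Lib.Helper16.inf_normalizer_le_normalizer_commutator V E)
  have hNq : IsPGroup q ↥(X ⊓ normalizer (E : Set G) : Subgroup G) := hXq.to_le inf_le_left
  have hNC := le_centralizer_of_card_sq _ _ hNW hNq hc.cardW hp23 hq2 hq3
  have h1 : ⁅⁅X ⊓ normalizer (E : Set G), ⁅V, E⁆⁆, E⁆ = ⊥ := by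
    rw [Subgroup.commutator_eq_bot_iff_le_centralizer.mpr hNC, Subgroup.commutator_bot_left]
  have h2 : ⁅⁅⁅V, E⁆, E⁆, X ⊓ normalizer (E : Set G)⁆ = ⊥ := by
    rw [eq_bot_iff]
    have hWE : ⁅⁅V, E⁆, E⁆ ≤ ⁅V, E⁆ :=
      Cfsg.Agent.Lib.Helper13.commutator_le_of_le_normalizer _ _ (hc.le.trans hc.normalW)
    refine (Subgroup.commutator_mono hWE le_rfl).trans ?_
    rw [le_bot_iff, Subgroup.commutator_eq_bot_iff_le_centralizer]
    exact Subgroup.le_centralizer_iff.mp hNC
  have h3 := Subgroup.commutator_commutator_eq_bot_of_rotate h1 h2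
  rw [Subgroup.commutator_eq_bot_iff_le_centralizer] at h3
  have h4 : ⁅E, X ⊓ normalizer (E : Set G)⁆ ≤ E :=
    Cfsg.Agent.Lib.Helper13.commutator_le_of_le_normalizer _ _ inf_le_right
  have h5 : ⁅E, X ⊓ normalizer (E : Set G)⁆ = ⊥ := by
    rw [eq_bot_iff, ← hc.inf_F]
    exact le_inf h4 (le_inf (h4.trans hc.le) h3)
  rw [Subgroup.commutator_eq_bot_iff_le_centralizer] at h5
  exact Subgroup.le_centralizer_iff.mp h5

end act

end Cfsg.Agent.Lib.Helper14.CopFF
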