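import Mathlib
import Cfsg.Prelude.Def_LocalEven
import Cfsg.Agent.S0598
import Cfsg.Agent.Lib.Helper14.CopFF3
import Cfsg.Agent.Lib.Helper3.S3

/-!
# Producing `S₃`-sections (helper14)

* `card_modEq_card_inf_centralizer`: fixed point congruence for conjugation actions.
* `three_dvd_orderOf`: an odd order element acting nontrivially on a `2`-group `W` with
  `|W : C_W(c)| ≤ 4` has order divisible by `3`.
* `involves_of_inverted`: an involution inverting an element of order `3` gives an `S₃`.
-/

set_option autoImplicit false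

namespace Cfsg.Agent.Lib.Helper14.S3Sec

open Subgroup
open scoped commutatorElement
open Cfsg.Agent.Lib.Helper14.CopFF

variable {G : Type*} [Group G]

theorem card_modEq_card_inf_centralizer [Finite G] {r : ℕ} [hr : Fact r.Prime]
    (N W : Subgroup G) (h : N ≤ normalizer (W : Set G)) (hN : IsPGroup r N) :
    Nat.card W ≡ Nat.card (W ⊓ centralizer (N : Set G) : Subgroup G) [MOD r] := by
  letI := conjMulAction N W h
  have hmod := hN.card_modEq_card_fixedPoints ↥W
  have hfix : MulAction.fixedPoints ↥N ↥W =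
      (((centralizer (N : Set G)).subgroupOf W : Subgroup ↥W) : Set ↥W) := by
    ext w
    rw [MulAction.mem_fixedPoints, SetLike.mem_coe, Subgroup.mem_subgroupOf,
      Subgroup.mem_centralizer_iff]
    constructor
    · intro hw n hn
      have := congrArg Subtype.val (hw ⟨n, hn⟩)
      change n * (w : G) * n⁻¹ = w at this
      calc n * (w : G) = n * (w : G) * n⁻¹ * n := by group
        _ = (w : G) * n := by rw [this]
    · intro hw n
      apply Subtype.ext
      change (n : G) * (w : G) * (n : G)⁻¹ = w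
      rw [hw n n.2]
      group
  have hcard : Nat.card (MulAction.fixedPoints ↥N ↥W) =
      Nat.card ((centralizer (N : Set G)).subgroupOf W : Subgroup ↥W) := by
    rw [hfix]; rfl
  rw [hcard] at hmod
  have e : Nat.card ((centralizer (N : Set G)).subgroupOf W : Subgroup ↥W) =
      Nat.card (W ⊓ centralizer (N : Set G) : Subgroup G) := by
    rw [← Subgroup.inf_subgroupOf_left]
    exact Nat.card_congr (Subgroup.subgroupOfEquivOfLe
      (inf_le_left : W ⊓ centralizer (N : Set G) ≤ W)).toEquiv
  rw [e] at hmod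
  exact hmod

/-- An element of odd order acting nontrivially on a `2`-group `W` with `|W : C_W(c)| ≤ 4`
has order divisible by `3`. -/
theorem three_dvd_orderOf [Finite G] (W : Subgroup G) (hW : IsPGroup 2 W) (c : G)
    (hcN : c ∈ normalizer (W : Set G)) (hodd : Odd (orderOf c))
    (hcW : c ∉ centralizer (W : Set G))
    (hidx : (W ⊓ centralizer ((zpowers c : Subgroup G) : Set G)).relIndex W ≤ 4) :
    3 ∣ orderOf c := by
  classical
  set Z : Subgroup G := zpowers c with hZ
  set C : Subgroup G := Z ⊓ centralizer (W : Set G) with hC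
  have hcZ : c ∈ Z := mem_zpowers c
  have hZN : Z ≤ normalizer (W : Set G) := zpowers_le.mpr hcN
  have hn1 : C.relIndex Z ≠ 1 := by
    intro h
    have h1 : Z ≤ C := Subgroup.relIndex_eq_one.mp h
    exact hcW (h1 hcZ).2
  have hndvd : C.relIndex Z ∣ orderOf c := by
    rw [← Nat.card_zpowers]
    exact Subgroup.relIndex_dvd_card _ _
  set r := Nat.minFac (C.relIndex Z) with hr
  have hrp : r.Prime := Nat.minFac_prime hn1
  haveI : Fact r.Prime := ⟨hrp⟩
  have hrn : r ∣ C.relIndex Z := Nat.minFac_dvd _
  have hrc : r ∣ orderOf c := hrn.trans hndvd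
  have hr2 : r ≠ 2 := by
    intro h
    rw [h] at hrc
    exact (Nat.not_even_iff_odd.mpr hodd) (even_iff_two_dvd.mpr hrc)
  obtain ⟨P⟩ : Nonempty (Sylow r ↥Z) := inferInstance
  set P' : Subgroup G := (P : Subgroup ↥Z).map Z.subtype with hP'
  have hP'Z : P' ≤ Z := Subgroup.map_subtype_le _
  have hP'r : IsPGroup r P' := P.isPGroup'.map _
  have hP'W : ¬ P' ≤ centralizer (W : Set G) := by
    intro h
    have h1 : P' ≤ C := le_inf hP'Z h
    have h2 : C.relIndex Z ∣ P'.relIndex Z := Subgroup.relIndex_dvd_of_le_left Z h1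
    have h3 : P'.relIndex Z = (P : Subgroup ↥Z).index := by
      unfold Subgroup.relIndex
      congr 1
      ext x
      rw [hP', Subgroup.mem_subgroupOf, Subgroup.mem_map]
      constructor
      · rintro ⟨y, hy, hxy⟩
        have : y = x := Subtype.ext hxy
        rwa [← this]
      · intro hx
        exact ⟨x, hx, rfl⟩
    rw [h3] at h2
    exact P.not_dvd_index (hrn.trans h2)
  have hP'N : P' ≤ normalizer (W : Set G) := hP'Z.trans hZN
  have hmod := card_modEq_card_inf_centralizer P' W hP'N hP'r
  set F : Subgroup G := W ⊓ centralizer (P' : Set G) with hF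
  have hFW : F ≤ W := inf_le_left
  have hFne : F.relIndex W ≠ 1 := by
    intro h
    have h1 : W ≤ F := Subgroup.relIndex_eq_one.mp h
    exact hP'W (Subgroup.le_centralizer_iff.mp (h1.trans inf_le_right))
  have hle : W ⊓ centralizer ((zpowers c : Subgroup G) : Set G) ≤ F :=
    inf_le_inf_left _ (Subgroup.centralizer_le hP'Z)
  have hk4 : F.relIndex W ≤ 4 := by
    refine (Subgroup.relIndex_le_of_le_left hle ?_).trans hidx
    intro h0
    have : (W ⊓ centralizer ((zpowers c : Subgroup G) : Set G)).relIndex W ∣ Nat.card W :=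
      Subgroup.relIndex_dvd_card _ _
    rw [h0] at this
    exact (Nat.card_pos (α := W)).ne' (Nat.eq_zero_of_zero_dvd this)
  obtain ⟨m, hm⟩ := hW.exists_card_eq
  have hcard := Cfsg.Agent.S0598.card_mul_relIndex hFW
  have hkdvd : F.relIndex W ∣ 2 ^ m := by rw [← hm]; exact Subgroup.relIndex_dvd_card _ _
  obtain ⟨j, hj, hkj⟩ := (Nat.dvd_prime_pow Nat.prime_two).mp hkdvd
  have hFdvd : Nat.card F ∣ 2 ^ m := by rw [← hm]; exact Subgroup.card_dvd_of_le hFW
  obtain ⟨i, hi, hFi⟩ := (Nat.dvd_prime_pow Nat.prime_two).mp hFdvd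
  have hcop : Nat.Coprime r (Nat.card F) := by
    rw [hFi]
    apply Nat.Coprime.pow_right
    exact (Nat.coprime_primes hrp Nat.prime_two).mpr hr2
  have hFleW : Nat.card F ≤ Nat.card W := Subgroup.card_le_of_le hFW
  have hdvd : r ∣ Nat.card W - Nat.card F := (Nat.modEq_iff_dvd' hFleW).mp hmod.symm
  have hsub : Nat.card W - Nat.card F = Nat.card F * (F.relIndex W - 1) := by
    rw [← hcard, Nat.mul_sub, mul_one]
  rw [hsub] at hdvd
  have hdvd' : r ∣ F.relIndex W - 1 := hcop.dvd_of_dvd_mul_left hdvd
  have hj2 : j ≤ 2 := by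
    by_contra hcon
    push Not at hcon
    have : 2 ^ 3 ≤ 2 ^ j := Nat.pow_le_pow_right (by norm_num) hcon
    rw [hkj] at hk4
    omega
  have hj0 : j ≠ 0 := by
    intro h0
    rw [h0, pow_zero] at hkj
    exact hFne hkj
  have hr3 : r = 3 := by
    interval_cases j
    · exact absurd rfl hj0
    · rw [hkj] at hdvd'
      norm_num at hdvd'
      exact absurd hdvd' hrp.one_lt.ne'
    · rw [hkj] at hdvd'
      norm_num at hdvd'
      exact (Nat.prime_dvd_prime_iff_eq hrp Nat.prime_three).mp hdvd'
  rw [← hr3]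
  exact hrc

/-- An involution inverting an element of order `3` generates an `S₃` with it. -/
theorem involves_of_inverted {H : Type*} [Group H] (a x : H) (ha : a * a = 1)
    (hax : a * x * a⁻¹ = x⁻¹) (hx : orderOf x = 3) :
    Cfsg.Involves (Equiv.Perm (Fin 3)) H := by
  have hai : a⁻¹ = a := inv_eq_of_mul_eq_one_left ha
  have he : (a * x) * (a * x) = 1 := by
    calc (a * x) * (a * x) = (a * x * a⁻¹) * x := by rw [hai]; group
      _ = 1 := by rw [hax]; group
  have hde : a * (a * x) = x := by rw [← mul_assoc, ha, one_mul]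
  have hc : (a * (a * x)) ^ 3 = 1 := by
    rw [hde, ← hx]; exact pow_orderOf_eq_one x
  have hne : a * (a * x) ≠ (a * x) * a := by
    rw [hde]
    intro h
    have h1 : a * x * a = x⁻¹ := by rw [← hax, hai]
    rw [h1] at h
    have h2 : x ^ 2 = 1 := by
      rw [pow_two]
      nth_rewrite 1 [h]
      exact inv_mul_cancel x
    have h3 : orderOf x ∣ 2 := orderOf_dvd_of_pow_eq_one h2
    rw [hx] at h3
    omega
  obtain ⟨e⟩ := Cfsg.Agent.Lib.Helper3.nonempty_mulEquiv_perm_fin_three ha he hc hne
  refine ⟨closure ({a, a * x} : Set H), ⊥, inferInstance, ⟨?_⟩⟩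
  refine ((QuotientGroup.quotientMulEquivOfEq ?_).trans (QuotientGroup.quotientBot)).trans e
  exact Subgroup.bot_subgroupOf _

end Cfsg.Agent.Lib.Helper14.S3Sec
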