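import Mathlib
import Cfsg.Agent.Lib.Helper3.PSolvable

/-!
# Dual form of Hall–Higman Lemma 1.2.3 (helper14)

If `G` is `p`-soluble with `O_p(G) = 1` then `C_G(O_{p'}(G)) ≤ O_{p'}(G)`.
-/

set_option autoImplicit false

namespace Cfsg.Agent.Lib.Helper14

open Cfsg Subgroup Cfsg.Agent.Lib.Helper3

theorem centralizer_pPrimeCore_le {G : Type*} [Group G] [Finite G] {p : ℕ} [hp : Fact p.Prime]
    (hsol : IsPSolvable p G) (hOp : pCore p G = ⊥) :
    centralizer (pPrimeCore p G : Set G) ≤ pPrimeCore p G := by
  set R := pPrimeCore p G with hR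
  have hRn : R.Normal := Cfsg.Agent.Lib.Helper2.pPrimeCore_normal p
  have hRc : (Nat.card R).Coprime p := Cfsg.Agent.Lib.Helper2.pPrimeCore_coprime p
  set C := centralizer (R : Set G) with hC
  have hCn : C.Normal := Subgroup.normal_centralizer
  by_contra hCR
  set Z := C ⊓ R with hZ
  have hZn : Z.Normal := Subgroup.normal_inf_normal _ _
  have hZC : Z < C := by
    refine lt_of_le_of_ne inf_le_left ?_
    intro h
    apply hCR
    rw [← h]
    exact inf_le_right
  obtain ⟨M, hMn, hZM, hMC, hidx⟩ := exists_normal_between hp.out hsol hZn hCn hZC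
  have hZc : (Nat.card Z).Coprime p :=
    Nat.Coprime.coprime_dvd_left (Subgroup.card_dvd_of_le inf_le_right) hRc
  have hcardM : Nat.card Z * Z.relIndex M = Nat.card M := by
    have := relIndex_mul_relIndex ⊥ Z M bot_le hZM.le
    rwa [relIndex_bot_left, relIndex_bot_left] at this
  rcases hidx with ⟨m, hm⟩ | hcop
  · -- Schur–Zassenhaus
    set d := Z.relIndex M with hd
    have hdp : d = p ^ m := hm
    have : (Z.subgroupOf M).Normal := inferInstance
    have hcardZ' : Nat.card (Z.subgroupOf M) = Nat.card Z :=
      Nat.card_congr (Subgroup.subgroupOfEquivOfLe hZM.le).toEquiv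
    have hcopd : (Nat.card Z).Coprime d := by
      rw [hdp]; exact Nat.Coprime.pow_right m hZc
    have hcop' : Nat.Coprime (Nat.card (Z.subgroupOf M)) (Z.subgroupOf M).index := by
      rw [hcardZ']
      have : (Z.subgroupOf M).index = d := rfl
      rw [this]
      exact hcopd
    obtain ⟨D', hD'⟩ := Subgroup.exists_right_complement'_of_coprime hcop'
    have hcardD' : Nat.card D' = d := by
      have h1 := hD'.card_mul_card
      have h2 : Nat.card (Z.subgroupOf M) * (Z.subgroupOf M).index = Nat.card M :=
        Subgroup.card_mul_index _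
      have hpos : 0 < Nat.card (Z.subgroupOf M) := Nat.card_pos
      have : (Z.subgroupOf M).index = d := rfl
      rw [this] at h2
      exact Nat.eq_of_mul_eq_mul_left hpos (h1.trans h2.symm)
    -- M centralizes Z
    have hcomm : ∀ x ∈ M, ∀ z ∈ Z, z * x = x * z := by
      intro x hx z hz
      have hxC : x ∈ C := hMC hx
      rw [hC, Subgroup.mem_centralizer_iff] at hxC
      exact hxC z hz.2
    -- description of D
    have hDset : ∀ x : G, x ∈ D'.map M.subtype ↔ x ∈ M ∧ x ^ d = 1 := by
      intro x
      constructor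
      · rintro ⟨y, hy, rfl⟩
        refine ⟨y.2, ?_⟩
        have : (⟨y, hy⟩ : D') ^ d = 1 := by rw [← hcardD']; exact pow_card_eq_one'
        have := congrArg (fun t : D' => ((t : M) : G)) this
        simpa using this
      · rintro ⟨hxM, hxd⟩
        obtain ⟨⟨z, y⟩, hzy⟩ := hD'.2 (⟨x, hxM⟩ : M)
        have hzy' : (z : M) * (y : M) = ⟨x, hxM⟩ := hzy
        have hzy'' : ((z : M) : G) * ((y : M) : G) = x := by
          have := congrArg (fun t : M => (t : G)) hzy'
          simpa using this
        have hzZ : ((z : M) : G) ∈ Z := Subgroup.mem_subgroupOf.mp z.2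
        have hyd : ((y : M) : G) ^ d = 1 := by
          have : (y : D') ^ d = 1 := by rw [← hcardD']; exact pow_card_eq_one'
          have := congrArg (fun t : D' => ((t : M) : G)) this
          simpa using this
        have hc : Commute ((z : M) : G) ((y : M) : G) := hcomm _ (y : M).2 _ hzZ
        have hzd : ((z : M) : G) ^ d = 1 := by
          have := hc.mul_pow d
          rw [hzy'', hxd, hyd, mul_one] at this
          exact this.symm
        have hz1 : ((z : M) : G) = 1 := by
          have h1 : orderOf ((z : M) : G) ∣ d := orderOf_dvd_of_pow_eq_one hzd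
          have h2 : orderOf ((z : M) : G) ∣ Nat.card Z := Subgroup.orderOf_dvd_natCard Z hzZ
          have := Nat.eq_one_of_dvd_coprimes hcopd h2 h1
          exact orderOf_eq_one_iff.mp this
        rw [hz1, one_mul] at hzy''
        refine ⟨(y : M), y.2, ?_⟩
        simpa using hzy''
    -- D is normal in G
    have hDn : (D'.map M.subtype).Normal := by
      constructor
      intro x hx g
      rw [hDset] at hx ⊢
      refine ⟨hMn.conj_mem x hx.1 g, ?_⟩
      rw [conj_pow, hx.2, mul_one, mul_inv_cancel]
    have hDp : IsPGroup p (D'.map M.subtype : Subgroup G) := by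
      apply IsPGroup.of_card (n := m)
      rw [Subgroup.card_map_of_injective M.subtype_injective, hcardD', hdp]
    have hDbot := Cfsg.Agent.Lib.Helper2.le_pCore hDn hDp
    rw [hOp, le_bot_iff] at hDbot
    have hD'bot : D' = ⊥ := (Subgroup.map_eq_bot_iff_of_injective _ M.subtype_injective).mp hDbot
    rw [hD'bot, isComplement'_bot_right] at hD'
    have : M ≤ Z := by
      intro x hx
      have : (⟨x, hx⟩ : M) ∈ Z.subgroupOf M := by rw [hD']; trivial
      rwa [Subgroup.mem_subgroupOf] at this
    exact absurd (lt_of_lt_of_le hZM this) (lt_irrefl _)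
  · -- M is a p'-group
    have hMc : (Nat.card M).Coprime p := by
      rw [← hcardM]
      exact Nat.Coprime.mul_left hZc hcop
    have hMR : M ≤ R := Cfsg.Agent.Lib.Helper2.le_pPrimeCore hMn hMc
    have : M ≤ Z := le_inf hMC hMR
    exact absurd (lt_of_lt_of_le hZM this) (lt_irrefl _)

end Cfsg.Agent.Lib.Helper14
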