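import Mathlib
import Cfsg.Agent.Lib.Helper14.Offender1

/-!
# Transport of the action of `G` on a normal subgroup `V` to the holomorph of `V` (helper14)

In the holomorph `V ⋊ Aut V` the image of `G` acts faithfully on (the copy of) `V`.
-/

set_option autoImplicit false

namespace Cfsg.Agent.Lib.Helper14.Hol

open Cfsg Subgroup
open scoped commutatorElement

variable {G : Type*} [Group G] (V : Subgroup G) [hVn : V.Normal]

/-- the holomorph of `V` -/
abbrev Hl : Type _ := ↥V ⋊[MonoidHom.id (MulAut ↥V)] MulAut ↥V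

/-- the conjugation action -/
def rho : G →* MulAut ↥V := MulAut.conjNormal

/-- `V → Hol V` -/
def iV : ↥V →* Hl V := SemidirectProduct.inl

/-- `Aut V → Hol V` -/
def jA : MulAut ↥V →* Hl V := SemidirectProduct.inr

/-- `G → Hol V` -/
def rho' : G →* Hl V := (jA V).comp (rho V)

/-- the copy of `V` in the holomorph -/
def Vh : Subgroup (Hl V) := (iV V).range

/-- the image of `X ≤ G` in the holomorph -/
def hat (X : Subgroup G) : Subgroup (Hl V) := X.map (rho' V)

theorem rho_apply (g : G) (v : ↥V) : ((rho V g v : ↥V) : G) = g * v * g⁻¹ :=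
  MulAut.conjNormal_apply g v

theorem iV_injective : Function.Injective (iV V) := SemidirectProduct.inl_injective

theorem jA_injective : Function.Injective (jA V) := SemidirectProduct.inr_injective

theorem rho_ker : (rho V).ker = centralizer (V : Set G) := by
  ext g
  rw [MonoidHom.mem_ker, Subgroup.mem_centralizer_iff]
  constructor
  · intro h v hv
    have := congrArg (fun α : MulAut ↥V => ((α ⟨v, hv⟩ : ↥V) : G)) h
    simp only [rho_apply, MulAut.one_apply] at this
    calc v * g = (g * v * g⁻¹)⁻¹⁻¹ * g := by rw [this]; group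
      _ = g * v := by group
  · intro h
    ext v
    rw [rho_apply, MulAut.one_apply]
    have := h v v.2
    calc g * v * g⁻¹ = (v * g) * g⁻¹ := by rw [this]
      _ = v := by group

theorem rho'_ker : (rho' V).ker = centralizer (V : Set G) := by
  rw [← rho_ker]
  ext g
  simp only [MonoidHom.mem_ker, rho', MonoidHom.comp_apply]
  constructor
  · intro h
    apply jA_injective V
    rw [h, map_one]
  · intro h
    rw [h, map_one]

theorem conj_jA_iV (α : MulAut ↥V) (v : ↥V) : jA V α * iV V v * (jA V α)⁻¹ = iV V (α v) := by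
  have := SemidirectProduct.inl_aut (φ := MonoidHom.id (MulAut ↥V)) α v
  simp only [MonoidHom.id_apply] at this
  rw [iV, jA, this, map_inv]

theorem conj_rho'_iV (g : G) (v : ↥V) :
    rho' V g * iV V v * (rho' V g)⁻¹ = iV V (rho V g v) := conj_jA_iV V _ v

instance Vh_normal : (Vh V).Normal := by
  unfold Vh iV
  rw [SemidirectProduct.range_inl_eq_ker_rightHom]
  infer_instance

theorem mem_Vh_iff (y : Hl V) : y ∈ Vh V ↔ ∃ v : ↥V, iV V v = y := Iff.rfl

theorem Vh_ea {p : ℕ} (hV : Cfsg.IsElementaryAbelian p V) : Cfsg.IsElementaryAbelian p (Vh V) := by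
  obtain ⟨hc, he⟩ := hV
  constructor
  · constructor
    constructor
    rintro ⟨a, ⟨v, rfl⟩⟩ ⟨b, ⟨w, rfl⟩⟩
    apply Subtype.ext
    change iV V v * iV V w = iV V w * iV V v
    rw [← map_mul, ← map_mul]
    congr 1
    exact hc.is_comm.comm v w
  · rintro a ⟨v, rfl⟩
    rw [← map_pow]
    have : v ^ p = 1 := by
      apply Subtype.ext
      simpa using he v v.2
    rw [this, map_one]

theorem card_Vh : Nat.card (Vh V) = Nat.card V := by
  unfold Vh
  exact (Nat.card_congr (MonoidHom.ofInjective (iV_injective V)).toEquiv).symm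

theorem hat_mono {X Y : Subgroup G} (h : X ≤ Y) : hat V X ≤ hat V Y := Subgroup.map_mono h

theorem mem_hat_iff (X : Subgroup G) (y : Hl V) : y ∈ hat V X ↔ ∃ x ∈ X, rho' V x = y := Iff.rfl

/-- the image of `G` acts faithfully -/
theorem hat_inf_centralizer (X : Subgroup G) : hat V X ⊓ centralizer (Vh V : Set (Hl V)) = ⊥ := by
  rw [eq_bot_iff]
  rintro y ⟨⟨x, hx, rfl⟩, hy⟩
  rw [Subgroup.mem_bot]
  have hker : x ∈ (rho V).ker := by
    rw [MonoidHom.mem_ker]
    ext v
    rw [MulAut.one_apply]
    have h1 := Subgroup.mem_centralizer_iff.mp hy (iV V v) ⟨v, rfl⟩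
    have h2 := conj_rho'_iV V x v
    have h3 : rho' V x * iV V v * (rho' V x)⁻¹ = iV V v := by
      rw [← h1]; group
    rw [h3] at h2
    exact congrArg Subtype.val (iV_injective V h2).symm
  change (jA V) (rho V x) = 1
  rw [MonoidHom.mem_ker.mp hker, map_one]

theorem hat_le_normalizer (X : Subgroup G) : hat V X ≤ normalizer (Vh V : Set (Hl V)) := by
  rw [Subgroup.normalizer_eq_top]
  exact le_top

/-- `|X̂| · |C_X(V)| = |X|` -/
theorem card_hat [Finite G] (X : Subgroup G) :
    Nat.card (hat V X) * Nat.card (X ⊓ centralizer (V : Set G) : Subgroup G) = Nat.card X := by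
  have h1 : Nat.card (hat V X) = (rho' V).ker.relIndex X := (Subgroup.relIndex_ker X (rho' V)).symm
  rw [h1, rho'_ker, ← Subgroup.inf_relIndex_right, inf_comm, mul_comm]
  exact Cfsg.Agent.S0598.card_mul_relIndex inf_le_left

/-- fixed points correspond -/
theorem cv_hat (X : Subgroup G) :
    Vh V ⊓ centralizer (hat V X : Set (Hl V)) =
      ((centralizer (X : Set G)).subgroupOf V).map (iV V) := by
  ext y
  constructor
  · rintro ⟨⟨v, rfl⟩, hy⟩
    refine ⟨v, ?_, rfl⟩
    change v ∈ (centralizer (X : Set G)).subgroupOf V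
    rw [Subgroup.mem_subgroupOf, Subgroup.mem_centralizer_iff]
    intro x hx
    have h1 := Subgroup.mem_centralizer_iff.mp hy (rho' V x) ⟨x, hx, rfl⟩
    have h2 := conj_rho'_iV V x v
    have h3 : rho' V x * iV V v * (rho' V x)⁻¹ = iV V v := by
      rw [h1]; group
    rw [h3] at h2
    have h4 := congrArg Subtype.val (iV_injective V h2)
    rw [rho_apply] at h4
    calc x * v = (x * v * x⁻¹) * x := by group
      _ = v * x := by rw [← h4]
  · rintro ⟨v, hv, rfl⟩
    refine Subgroup.mem_inf.mpr ⟨⟨v, rfl⟩, ?_⟩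
    change v ∈ (centralizer (X : Set G)).subgroupOf V at hv
    rw [Subgroup.mem_subgroupOf, Subgroup.mem_centralizer_iff] at hv
    rw [Subgroup.mem_centralizer_iff]
    rintro y ⟨x, hx, rfl⟩
    have h2 := conj_rho'_iV V x v
    have h4 : rho V x v = v := by
      apply Subtype.ext
      rw [rho_apply]
      have := hv x hx
      calc x * v * x⁻¹ = (v * x) * x⁻¹ := by rw [this]
        _ = v := by group
    rw [h4] at h2
    calc rho' V x * iV V v = (rho' V x * iV V v * (rho' V x)⁻¹) * rho' V x := by group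
      _ = iV V v * rho' V x := by rw [h2]

theorem card_cv_hat [Finite G] (X : Subgroup G) :
    Nat.card (Vh V ⊓ centralizer (hat V X : Set (Hl V)) : Subgroup (Hl V)) =
      Nat.card (V ⊓ centralizer (X : Set G) : Subgroup G) := by
  rw [cv_hat, Subgroup.card_map_of_injective (iV_injective V), inf_comm,
    ← Subgroup.inf_subgroupOf_right]
  exact Nat.card_congr (Subgroup.subgroupOfEquivOfLe inf_le_right).toEquiv

instance finite_Hl [Finite G] : Finite (Hl V) :=
  Finite.of_equiv _ (SemidirectProduct.equivProd (φ := MonoidHom.id (MulAut ↥V))).symm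

/-- subgroups of `X̂` are images of subgroups of `X` containing `C_X(V)` -/
theorem hat_inf_comap {X : Subgroup G} {B : Subgroup (Hl V)} (hB : B ≤ hat V X) :
    hat V (X ⊓ B.comap (rho' V)) = B := by
  apply le_antisymm
  · rintro y ⟨x, hx, rfl⟩
    exact (Subgroup.mem_inf.mp hx).2
  · intro y hy
    obtain ⟨x, hx, rfl⟩ := hB hy
    exact ⟨x, Subgroup.mem_inf.mpr ⟨hx, hy⟩, rfl⟩

theorem inf_comap_inf_centralizer (X : Subgroup G) (B : Subgroup (Hl V)) :
    (X ⊓ B.comap (rho' V)) ⊓ centralizer (V : Set G) = X ⊓ centralizer (V : Set G) := by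
  apply le_antisymm
  · exact inf_le_inf_right _ inf_le_left
  · apply le_inf _ inf_le_right
    apply le_inf inf_le_left
    intro x hx
    rw [Subgroup.mem_comap]
    have : x ∈ (rho' V).ker := by rw [rho'_ker]; exact (Subgroup.mem_inf.mp hx).2
    rw [MonoidHom.mem_ker.mp this]
    exact B.one_mem

/-- best offenders map to best offenders -/
theorem bestOffender_hat [Finite G] {p : ℕ} {A : Subgroup G}
    (hA : Cfsg.IsBestOffenderOn p V A) : Cfsg.IsBestOffenderOn p (Vh V) (hat V A) := by
  obtain ⟨h1, h2, h3⟩ := hA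
  refine ⟨?_, ?_, ?_⟩
  · intro B hB
    have hB' := hat_inf_comap V hB
    have hle : A ⊓ B.comap (rho' V) ≤ A := inf_le_left
    have hineq := h1 _ hle
    have c1 := card_hat V (A ⊓ B.comap (rho' V))
    rw [hB', inf_comap_inf_centralizer] at c1
    have c2 := card_hat V A
    have c3 := card_cv_hat V (A ⊓ B.comap (rho' V))
    rw [hB'] at c3
    have c4 := card_cv_hat V A
    rw [c3, c4]
    rw [← c1, ← c2] at hineq
    have hpos : 0 < Nat.card (A ⊓ centralizer (V : Set G) : Subgroup G) := Nat.card_pos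
    have : Nat.card B * Nat.card (V ⊓ centralizer ((A ⊓ B.comap (rho' V) : Subgroup G) : Set G) :
        Subgroup G) * Nat.card (A ⊓ centralizer (V : Set G) : Subgroup G) ≤
        Nat.card (hat V A) * Nat.card (V ⊓ centralizer (A : Set G) : Subgroup G) *
          Nat.card (A ⊓ centralizer (V : Set G) : Subgroup G) := by
      calc _ = Nat.card B * Nat.card (A ⊓ centralizer (V : Set G) : Subgroup G) *
            Nat.card (V ⊓ centralizer ((A ⊓ B.comap (rho' V) : Subgroup G) : Set G) :
              Subgroup G) := by ring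
        _ ≤ Nat.card (hat V A) * Nat.card (A ⊓ centralizer (V : Set G) : Subgroup G) *
            Nat.card (V ⊓ centralizer (A : Set G) : Subgroup G) := hineq
        _ = _ := by ring
    exact Nat.le_of_mul_le_mul_right this hpos
  · have hAA : hat V ⁅A, A⁆ = ⁅hat V A, hat V A⁆ := Subgroup.map_commutator A A (rho' V)
    rw [← hAA]
    intro y hy
    obtain ⟨x, hx, rfl⟩ := hy
    have : x ∈ (rho' V).ker := by rw [rho'_ker]; exact h2 hx
    rw [MonoidHom.mem_ker.mp this]
    exact Subgroup.one_mem _
  · rintro y ⟨a, ha, rfl⟩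
    rw [← map_pow]
    have : a ^ p ∈ (rho' V).ker := by rw [rho'_ker]; exact h3 a ha
    rw [MonoidHom.mem_ker.mp this]
    exact Subgroup.one_mem _

theorem hat_sSup (S : Set (Subgroup G)) : hat V (sSup S) = ⨆ A ∈ S, hat V A := by
  unfold hat
  rw [sSup_eq_iSup, Subgroup.map_iSup]
  congr 1
  funext A
  rw [Subgroup.map_iSup]

theorem hat_eq_bot_iff (X : Subgroup G) : hat V X = ⊥ ↔ X ≤ centralizer (V : Set G) := by
  unfold hat
  rw [← rho'_ker, eq_bot_iff]
  constructor
  · intro h x hx
    rw [MonoidHom.mem_ker]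
    have := h ⟨x, hx, rfl⟩
    rwa [Subgroup.mem_bot] at this
  · rintro h y ⟨x, hx, rfl⟩
    rw [Subgroup.mem_bot]
    exact MonoidHom.mem_ker.mp (h hx)

/-- the image of `G` is `G / C_G(V)` -/
noncomputable def quotEquiv : G ⧸ centralizer (V : Set G) ≃* ↥(hat V ⊤) :=
  (QuotientGroup.quotientMulEquivOfEq (rho'_ker V).symm).trans
    ((QuotientGroup.quotientKerEquivRange (rho' V)).trans
      (MulEquiv.subgroupCongr (by unfold hat; rw [← MonoidHom.range_eq_map])))

end Cfsg.Agent.Lib.Helper14.Hol
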