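import Mathlib

/-!
Frattini quotient of a finite p-group as an F_p vector space; counting generating tuples;
free actions (helper14).
-/

set_option autoImplicit false

namespace Cfsg.Agent.Lib.Helper14

/-- A group acting freely on a finite set has order dividing the size of the set. -/
theorem card_dvd_of_free {G X : Type*} [Group G] [MulAction G X] [Finite G] [Finite X]
    (hfree : ∀ (g : G) (x : X), g • x = x → g = 1) : Nat.card G ∣ Nat.card X := by
  classical
  have := Fintype.ofFinite (Quotient (MulAction.orbitRel G X))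
  have e := MulAction.selfEquivSigmaOrbitsQuotientStabilizer G X
  have h : ∀ ω : Quotient (MulAction.orbitRel G X),
      Nat.card (G ⧸ MulAction.stabilizer G ω.out) = Nat.card G := by
    intro ω
    have hbot : MulAction.stabilizer G ω.out = ⊥ := by
      rw [eq_bot_iff]
      intro g hg
      exact Subgroup.mem_bot.mpr (hfree g _ hg)
    rw [hbot]
    exact Nat.card_congr (QuotientGroup.quotientBot).toEquiv
  rw [Nat.card_congr e, Nat.card_sigma, Finset.sum_congr rfl (fun ω _ => h ω), Finset.sum_const]
  exact Dvd.intro_left _ rfl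

section AddVersion
variable {V : Type*} [AddCommGroup V] {p : ℕ} [Fact p.Prime] [Module (ZMod p) V]

theorem finrank_eq_of_card [Finite V] {r : ℕ} (hV : Nat.card V = p ^ r) : Module.finrank (ZMod p) V = r := by
  have h := Module.natCard_eq_pow_finrank (K := ZMod p) (V := V)
  rw [Nat.card_zmod, hV] at h
  exact (Nat.pow_right_injective (Fact.out : p.Prime).two_le h).symm

theorem closure_eq_top_iff_span {ι : Type*} (s : ι → V) :
    AddSubgroup.closure (Set.range s) = ⊤ ↔ Submodule.span (ZMod p) (Set.range s) = ⊤ := by
  have key : Submodule.span (ZMod p) (Set.range s) = AddSubgroup.toZModSubmodule p (AddSubgroup.closure (Set.range s)) := by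
    apply le_antisymm
    · rw [Submodule.span_le]
      intro x hx
      exact AddSubgroup.subset_closure hx
    · intro x hx
      rw [AddSubgroup.mem_toZModSubmodule] at hx
      have : AddSubgroup.closure (Set.range s) ≤ (Submodule.span (ZMod p) (Set.range s)).toAddSubgroup := by
        rw [AddSubgroup.closure_le]
        intro y hy
        exact Submodule.subset_span hy
      exact this hx
  rw [key]
  constructor
  · intro h; rw [h]; rfl
  · intro h
    rw [eq_top_iff]
    intro x _
    have : x ∈ AddSubgroup.toZModSubmodule p (AddSubgroup.closure (Set.range s)) := by rw [h]; trivial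
    exact this

theorem card_generating_tuples_add [Finite V] {r : ℕ} (hV : Nat.card V = p ^ r) :
    Nat.card {s : Fin r → V // AddSubgroup.closure (Set.range s) = ⊤} = ∏ i : Fin r, (p ^ r - p ^ i.val) := by
  have hfr := finrank_eq_of_card (p := p) hV
  have hc := card_linearIndependent (K := ZMod p) (V := V) (k := r) (by rw [hfr])
  rw [hfr, ZMod.card] at hc
  rw [← hc]
  apply Nat.card_congr
  apply Equiv.subtypeEquivRight
  intro s
  rw [closure_eq_top_iff_span (p := p)]
  constructor
  · intro h
    apply linearIndependent_of_top_le_span_of_card_eq_finrank h.ge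
    rw [hfr]; simp
  · intro h
    exact h.span_eq_top_of_card_eq_finrank' (by rw [hfr]; simp)

end AddVersion

/-- Number of generating `r`-tuples of an elementary abelian group of order `p^r`. -/
theorem card_generating_tuples_mul {E : Type*} [CommGroup E] [Finite E] {p : ℕ} [Fact p.Prime]
    (hE : ∀ x : E, x ^ p = 1) {r : ℕ} (hcard : Nat.card E = p ^ r) :
    Nat.card {s : Fin r → E // Subgroup.closure (Set.range s) = ⊤} = ∏ i : Fin r, (p ^ r - p ^ i.val) := by
  let _ : Module (ZMod p) (Additive E) := AddCommGroup.zmodModule (n := p) (fun x => by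
    change Additive.ofMul (x.toMul ^ p) = 0
    rw [hE]; rfl)
  have hV : Nat.card (Additive E) = p ^ r := hcard
  rw [← card_generating_tuples_add (p := p) (V := Additive E) hV]
  apply Nat.card_congr
  refine Equiv.subtypeEquiv (Equiv.piCongrRight fun _ => Additive.ofMul) ?_
  intro s
  have h1 : Subgroup.closure (Set.range s) = ⊤ ↔ Subgroup.toAddSubgroup (Subgroup.closure (Set.range s)) = ⊤ := by
    constructor
    · intro h; rw [h]; rfl
    · intro h
      have := congrArg Subgroup.toAddSubgroup.symm h
      simpa using this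
  rw [h1, Subgroup.toAddSubgroup_closure]
  have h2 : (Additive.toMul ⁻¹' Set.range s : Set (Additive E)) = Set.range ((Equiv.piCongrRight fun _ => Additive.ofMul) s) := by
    ext x
    simp only [Set.mem_preimage, Set.mem_range, Equiv.piCongrRight_apply, Pi.map_apply]
    constructor
    · rintro ⟨i, hi⟩; exact ⟨i, by rw [hi]; rfl⟩
    · rintro ⟨i, hi⟩; exact ⟨i, by rw [← hi]; rfl⟩
  rw [h2]

/-- Same as `card_generating_tuples_mul` for a `Group` with a commutativity hypothesis. -/
theorem card_generating_tuples_mul' {E : Type*} [Group E] [Finite E] {p : ℕ} [Fact p.Prime]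
    (hc : ∀ a b : E, a * b = b * a)
    (hE : ∀ x : E, x ^ p = 1) {r : ℕ} (hcard : Nat.card E = p ^ r) :
    Nat.card {s : Fin r → E // Subgroup.closure (Set.range s) = ⊤} = ∏ i : Fin r, (p ^ r - p ^ i.val) := by
  let inst : CommGroup E := { (inferInstance : Group E) with mul_comm := hc }
  exact card_generating_tuples_mul (E := E) hE hcard

section PGroup
variable {P : Type*} [Group P]

/-- A maximal subgroup of a finite `p`-group is normal. -/
theorem normal_of_isCoatom_of_isPGroup' [Finite P] {p : ℕ} [hp : Fact p.Prime] (hG : IsPGroup p P)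
    {M : Subgroup P} (hM : IsCoatom M) : M.Normal := by
  have := hG.isNilpotent
  exact Subgroup.NormalizerCondition.normal_of_coatom M (Group.normalizerCondition_of_isNilpotent (G := P)) hM

/-- A maximal subgroup of a finite `p`-group has index `p`. -/
theorem index_of_isCoatom_of_isPGroup' [Finite P] {p : ℕ} [hp : Fact p.Prime] (hG : IsPGroup p P)
    {M : Subgroup P} (hM : IsCoatom M) : M.index = p := by
  obtain ⟨m, hm⟩ := IsPGroup.iff_card.mp hG
  obtain ⟨n, hn⟩ := IsPGroup.iff_card.mp (hG.to_subgroup M)
  have hidx : Nat.card M * M.index = Nat.card P := M.card_mul_index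
  have hlt : n < m := by
    have h1 : Nat.card M ∣ Nat.card P := Subgroup.card_subgroup_dvd_card M
    rw [hm, hn] at h1
    have hle : n ≤ m := (Nat.pow_dvd_pow_iff_le_right hp.out.one_lt).mp h1
    rcases Nat.lt_or_eq_of_le hle with h | h
    · exact h
    · exfalso
      apply hM.1
      apply Subgroup.eq_top_of_card_eq
      rw [hm, hn, h]
  obtain ⟨K, hK, hMK⟩ := Sylow.exists_subgroup_card_pow_succ (G := P) (p := p) (n := n)
    (by rw [hm]; exact pow_dvd_pow p hlt) hn
  have hKtop : K = ⊤ := by
    by_contra hK'
    have hlt' : M < K := by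
      refine lt_of_le_of_ne hMK ?_
      intro h
      rw [← h, hn] at hK
      exact absurd hK (by
        intro h2
        have := Nat.pow_right_injective hp.out.two_le h2
        omega)
    exact hK' (hM.2 K hlt')
  rw [hKtop, Subgroup.card_top, hm] at hK
  rw [hn, hm, hK, pow_succ] at hidx
  exact Nat.eq_of_mul_eq_mul_left (pow_pos hp.out.pos n) hidx

theorem commutator_le_frattini_of_isPGroup' [Finite P] {p : ℕ} [hp : Fact p.Prime]
    (hG : IsPGroup p P) : commutator P ≤ frattini P := by
  unfold frattini Order.radical
  apply le_iInf₂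
  intro M hM
  have hn := normal_of_isCoatom_of_isPGroup' hG hM
  have hi := index_of_isCoatom_of_isPGroup' hG hM
  rw [← Subgroup.Normal.quotient_commutative_iff_commutator_le]
  have hcard : Nat.card (P ⧸ M) = p := by rw [← Subgroup.index_eq_card, hi]
  have := isCyclic_of_prime_card hcard
  exact IsCyclic.isMulCommutative

theorem pow_mem_frattini_of_isPGroup' [Finite P] {p : ℕ} [hp : Fact p.Prime]
    (hG : IsPGroup p P) (x : P) : x ^ p ∈ frattini P := by
  unfold frattini Order.radical
  simp only [Subgroup.mem_iInf]
  intro M hM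
  have hn := normal_of_isCoatom_of_isPGroup' hG hM
  have hi := index_of_isCoatom_of_isPGroup' hG hM
  rw [← hi]
  exact Subgroup.pow_index_mem M x

end PGroup


section PGroupGen
variable {P : Type*} [Group P] [Finite P]

/-- Generation can be tested modulo the Frattini subgroup. -/
theorem closure_eq_top_iff_mod_frattini {ι : Type*} (y : ι → P) :
    Subgroup.closure (Set.range y) = ⊤ ↔
      Subgroup.closure (Set.range fun i => (QuotientGroup.mk (y i) : P ⧸ frattini P)) = ⊤ := by
  have hrange : (Set.range fun i => (QuotientGroup.mk (y i) : P ⧸ frattini P)) =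
      (QuotientGroup.mk' (frattini P)) '' Set.range y := by
    rw [← Set.range_comp]; rfl
  rw [hrange, ← MonoidHom.map_closure]
  constructor
  · intro h
    rw [h, ← MonoidHom.range_eq_map, MonoidHom.range_eq_top]
    exact QuotientGroup.mk'_surjective _
  · intro h
    apply frattini_nongenerating
    have h2 := Subgroup.comap_map_eq (QuotientGroup.mk' (frattini P)) (Subgroup.closure (Set.range y))
    rw [h, Subgroup.comap_top, QuotientGroup.ker_mk'] at h2
    exact h2.symm

/-- A (non-canonical) bijection `P ≃ (P ⧸ N) × N` whose first component is the quotient map. -/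
noncomputable def equivQuotProd (N : Subgroup P) : P ≃ (P ⧸ N) × N where
  toFun y := (QuotientGroup.mk y, ⟨(QuotientGroup.mk y : P ⧸ N).out⁻¹ * y, by
    rw [← QuotientGroup.eq]; exact QuotientGroup.out_eq' _⟩)
  invFun q := q.1.out * q.2
  left_inv y := by simp
  right_inv q := by
    obtain ⟨q, φ⟩ := q
    have h1 : (QuotientGroup.mk (q.out * (φ : P)) : P ⧸ N) = q := by
      have : (QuotientGroup.mk (q.out * (φ : P)) : P ⧸ N) = QuotientGroup.mk q.out := by
        rw [QuotientGroup.eq]; simp
      rw [this]; exact QuotientGroup.out_eq' _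
    apply Prod.ext
    · exact h1
    · apply Subtype.ext
      simp only [h1]
      group

omit [Finite P] in
theorem equivQuotProd_fst (N : Subgroup P) (y : P) : (equivQuotProd N y).1 = QuotientGroup.mk y := rfl

/-- Number of generating `r`-tuples of a `p`-group with Frattini quotient of order `p^r`. -/
theorem card_generating_tuples_pgroup {p : ℕ} [Fact p.Prime] (hP : IsPGroup p P) {r : ℕ}
    (hr : (frattini P).index = p ^ r) :
    Nat.card {y : Fin r → P // Subgroup.closure (Set.range y) = ⊤} =
      (∏ i : Fin r, (p ^ r - p ^ i.val)) * Nat.card (frattini P) ^ r := by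
  classical
  have hcomm := commutator_le_frattini_of_isPGroup' hP
  have hmc : IsMulCommutative (P ⧸ frattini P) :=
    Subgroup.Normal.quotient_commutative_iff_commutator_le.mpr hcomm
  have hc : ∀ a b : P ⧸ frattini P, a * b = b * a := fun a b => hmc.is_comm.comm a b
  have hE : ∀ x : P ⧸ frattini P, x ^ p = 1 := by
    intro x
    obtain ⟨x, rfl⟩ := QuotientGroup.mk_surjective x
    rw [← QuotientGroup.mk_pow, QuotientGroup.eq_one_iff]
    exact pow_mem_frattini_of_isPGroup' hP x
  have hcardE : Nat.card (P ⧸ frattini P) = p ^ r := by rw [← Subgroup.index_eq_card, hr]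
  have h1 := card_generating_tuples_mul' (E := P ⧸ frattini P) hc hE hcardE
  have h2 : Nat.card (Fin r → frattini P) = Nat.card (frattini P) ^ r := by
    rw [Nat.card_fun, Nat.card_eq_fintype_card (α := Fin r), Fintype.card_fin]
  rw [← h1, ← h2, ← Nat.card_prod]
  obtain ⟨e1, he1⟩ : ∃ e1 : (Fin r → P) ≃ (Fin r → P ⧸ frattini P) × (Fin r → frattini P),
      ∀ y : Fin r → P, (e1 y).1 = fun i => (QuotientGroup.mk (y i) : P ⧸ frattini P) :=
    ⟨(Equiv.piCongrRight fun _ => equivQuotProd (frattini P)).trans (Equiv.arrowProdEquivProdArrow _ _ _),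
      fun y => by funext i; rfl⟩
  have eA : {y : Fin r → P // Subgroup.closure (Set.range y) = ⊤} ≃
      {x : (Fin r → P ⧸ frattini P) × (Fin r → frattini P) // Subgroup.closure (Set.range x.1) = ⊤} := by
    refine Equiv.subtypeEquiv e1 ?_
    intro y
    rw [closure_eq_top_iff_mod_frattini, he1]
  have eB : {x : (Fin r → P ⧸ frattini P) × (Fin r → frattini P) // Subgroup.closure (Set.range x.1) = ⊤} ≃
      {s : Fin r → P ⧸ frattini P // Subgroup.closure (Set.range s) = ⊤} × (Fin r → frattini P) :=
    Equiv.prodSubtypeFstEquivSubtypeProd (p := fun s : Fin r → P ⧸ frattini P => Subgroup.closure (Set.range s) = ⊤)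
  exact Nat.card_congr (eA.trans eB)

end PGroupGen

section AutAction
variable {P : Type*} [Group P] [Finite P]

omit [Finite P] in
/-- An automorphism fixing a generating family pointwise is trivial. -/
theorem mulAut_eq_one_of_fix_gen {ι : Type*} (y : ι → P) (hy : Subgroup.closure (Set.range y) = ⊤)
    (α : MulAut P) (h : ∀ i, α (y i) = y i) : α = 1 := by
  have h1 : Set.EqOn (α.toMonoidHom) (MonoidHom.id P) (Subgroup.closure (Set.range y)) := by
    apply MonoidHom.eqOn_closure
    rintro _ ⟨i, rfl⟩
    exact h i
  ext x
  have := h1 (show x ∈ (Subgroup.closure (Set.range y) : Set P) by rw [hy]; trivial)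
  simpa using this

/-- A subgroup `A` of `Aut P` divides the number of generating `r`-tuples. -/
theorem card_subgroup_mulAut_dvd_gen (A : Subgroup (MulAut P)) (r : ℕ) :
    Nat.card A ∣ Nat.card {y : Fin r → P // Subgroup.closure (Set.range y) = ⊤} := by
  classical
  let act : MulAction A {y : Fin r → P // Subgroup.closure (Set.range y) = ⊤} :=
    { smul := fun α y => ⟨fun i => (α : MulAut P) (y.1 i), by
        have h1 : (Set.range fun i => (α : MulAut P) (y.1 i)) = (α : MulAut P).toMonoidHom '' Set.range y.1 := by
          rw [← Set.range_comp]; rfl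
        rw [h1, ← MonoidHom.map_closure, y.2, ← MonoidHom.range_eq_map, MonoidHom.range_eq_top]
        exact (α : MulAut P).surjective⟩
      one_smul := fun y => by apply Subtype.ext; funext i; rfl
      mul_smul := fun α β y => by apply Subtype.ext; funext i; rfl }
  apply card_dvd_of_free
  intro α y hαy
  have h2 : ∀ i, (α : MulAut P) (y.1 i) = y.1 i := by
    intro i
    have := congrArg (fun z : {y : Fin r → P // Subgroup.closure (Set.range y) = ⊤} => z.1 i) hαy
    exact this
  have := mulAut_eq_one_of_fix_gen y.1 y.2 (α : MulAut P) h2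
  exact Subtype.ext this

omit [Finite P] in
theorem card_frattini_of_card {p n r : ℕ} [Fact p.Prime] (hP : Nat.card P = p ^ n)
    (hr : (frattini P).index = p ^ r) : Nat.card (frattini P) = p ^ (n - r) := by
  have h := (frattini P).card_mul_index
  rw [hP, hr] at h
  have hp : 0 < p := (Fact.out : p.Prime).pos
  have hle : r ≤ n := by
    have : p ^ r ∣ p ^ n := Dvd.intro_left _ h
    exact (Nat.pow_dvd_pow_iff_le_right (Fact.out : p.Prime).one_lt).mp this
  have h2 : p ^ n = p ^ (n - r) * p ^ r := by rw [← pow_add, Nat.sub_add_cancel hle]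
  rw [h2] at h
  exact Nat.eq_of_mul_eq_mul_right (pow_pos hp r) h

theorem exists_generating_tuple {p : ℕ} [Fact p.Prime] (hP : IsPGroup p P) {r : ℕ}
    (hr : (frattini P).index = p ^ r) : ∃ x : Fin r → P, Subgroup.closure (Set.range x) = ⊤ := by
  have h := card_generating_tuples_pgroup hP hr
  have hpos : 0 < (∏ i : Fin r, (p ^ r - p ^ i.val)) * Nat.card (frattini P) ^ r := by
    apply Nat.mul_pos
    · apply Finset.prod_pos
      intro i _
      have : p ^ i.val < p ^ r := Nat.pow_lt_pow_right (Fact.out : p.Prime).one_lt i.2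
      omega
    · exact pow_pos Nat.card_pos _
  rw [← h] at hpos
  obtain ⟨x⟩ := (Nat.card_pos_iff.mp hpos).1
  exact ⟨x.1, x.2⟩

omit [Finite P] in
/-- tuples congruent to `x` modulo a subgroup `N` -/
theorem card_congruent_tuples (N : Subgroup P) {r : ℕ} (x : Fin r → P) :
    Nat.card {y : Fin r → P // ∀ i, (x i)⁻¹ * y i ∈ N} = Nat.card N ^ r := by
  have h2 : Nat.card (Fin r → N) = Nat.card N ^ r := by
    rw [Nat.card_fun, Nat.card_eq_fintype_card (α := Fin r), Fintype.card_fin]
  rw [← h2]
  apply Nat.card_congr
  exact
    { toFun := fun y i => ⟨(x i)⁻¹ * y.1 i, y.2 i⟩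
      invFun := fun φ => ⟨fun i => x i * (φ i : P), fun i => by simp⟩
      left_inv := fun y => by apply Subtype.ext; funext i; simp
      right_inv := fun φ => by funext i; apply Subtype.ext; simp }

/-- Automorphisms acting trivially on the Frattini quotient: order divides `|Φ|^r`. -/
theorem card_dvd_of_trivial_on_frattini_quot {p : ℕ} [Fact p.Prime] (hP : IsPGroup p P) {r : ℕ}
    (hr : (frattini P).index = p ^ r) (A : Subgroup (MulAut P))
    (hA : ∀ α ∈ A, ∀ x : P, α x * x⁻¹ ∈ frattini P) :
    Nat.card A ∣ Nat.card (frattini P) ^ r := by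
  classical
  obtain ⟨x, hx⟩ := exists_generating_tuple hP hr
  rw [← card_congruent_tuples (frattini P) x]
  -- elements of Ω generate
  have hgen : ∀ y : Fin r → P, (∀ i, (x i)⁻¹ * y i ∈ frattini P) → Subgroup.closure (Set.range y) = ⊤ := by
    intro y hy
    rw [closure_eq_top_iff_mod_frattini] at hx ⊢
    have : (fun i => (QuotientGroup.mk (y i) : P ⧸ frattini P)) = fun i => (QuotientGroup.mk (x i) : P ⧸ frattini P) := by
      funext i
      exact (QuotientGroup.eq.mpr (hy i)).symm
    rw [this]; exact hx
  let act : MulAction A {y : Fin r → P // ∀ i, (x i)⁻¹ * y i ∈ frattini P} :=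
    { smul := fun α y => ⟨fun i => (α : MulAut P) (y.1 i), fun i => by
        have h1 := hA α α.2 (y.1 i)
        have h2 := y.2 i
        have h3 : (x i)⁻¹ * (α : MulAut P) (y.1 i) = ((x i)⁻¹ * y.1 i) * ((y.1 i)⁻¹ * ((α : MulAut P) (y.1 i) * (y.1 i)⁻¹) * y.1 i) := by group
        rw [h3]
        refine (frattini P).mul_mem h2 ?_
        have hn : (frattini P).Normal := inferInstance
        have := hn.conj_mem _ h1 (y.1 i)⁻¹
        simpa [mul_assoc] using this⟩
      one_smul := fun y => by apply Subtype.ext; funext i; rfl
      mul_smul := fun α β y => by apply Subtype.ext; funext i; rfl }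
  apply card_dvd_of_free
  intro α y hαy
  have h2 : ∀ i, (α : MulAut P) (y.1 i) = y.1 i := by
    intro i
    have := congrArg (fun z : {y : Fin r → P // ∀ i, (x i)⁻¹ * y i ∈ frattini P} => z.1 i) hαy
    exact this
  have := mulAut_eq_one_of_fix_gen y.1 (hgen y.1 y.2) (α : MulAut P) h2
  exact Subtype.ext this

end AutAction

end Cfsg.Agent.Lib.Helper14
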