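import Mathlib
import Cfsg.Agent.Lib.Helper2.CoprimeSylow
import Cfsg.Agent.Lib.Helper14.FrattiniQuot

/-! External coprime actions: invariant Sylow subgroups, Maschke for abelian groups, invariant
complements modulo a normal invariant subgroup with elementary abelian quotient. -/

set_option autoImplicit false
set_option maxHeartbeats 400000
namespace Cfsg.Agent.Lib.Helper14

open SemidirectProduct

/-- External coprime action: there is an invariant Sylow `p`-subgroup. -/
theorem exists_invariant_sylow_ext {A G : Type*} [Group A] [Finite A] [Group G] [Finite G]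
    [MulDistribMulAction A G] (hcop : (Nat.card A).Coprime (Nat.card G))
    (hsol : Group.IsSolvable A ∨ Group.IsSolvable G) (p : ℕ) [Fact p.Prime] :
    ∃ P : Subgroup G, (∀ a : A, ∀ x ∈ P, a • x ∈ P) ∧ Nat.card P = p ^ (Nat.card G).factorization p := by
  classical
  let φ : A →* MulAut G := MulDistribMulAction.toMulAut A G
  let Γ := G ⋊[φ] A
  have : Finite Γ := Finite.of_equiv _ (SemidirectProduct.equivProd (φ := φ)).symm
  let K : Subgroup Γ := (inl : G →* Γ).range
  let A' : Subgroup Γ := (inr : A →* Γ).range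
  have hKn : K.Normal := by
    change ((inl : G →* Γ).range).Normal
    rw [range_inl_eq_ker_rightHom]; infer_instance
  have hcK : Nat.card K = Nat.card G :=
    (Nat.card_congr (MonoidHom.ofInjective (inl_injective (φ := φ))).toEquiv).symm
  have hcA : Nat.card A' = Nat.card A :=
    (Nat.card_congr (MonoidHom.ofInjective (inr_injective (φ := φ))).toEquiv).symm
  have hAK : A' ≤ Subgroup.normalizer (K : Set Γ) := by
    rw [Subgroup.normalizer_eq_top]; exact le_top
  have hcop' : (Nat.card A').Coprime (Nat.card K) := by rw [hcK, hcA]; exact hcop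
  have hsol' : Group.IsSolvable A' ∨ Group.IsSolvable K := by
    rcases hsol with h | h
    · left
      exact Group.isSolvable_of_surjective (f := (inr : A →* Γ).rangeRestrict) (MonoidHom.rangeRestrict_surjective _)
    · right
      exact Group.isSolvable_of_surjective (f := (inl : G →* Γ).rangeRestrict) (MonoidHom.rangeRestrict_surjective _)
  obtain ⟨P, hP⟩ := Cfsg.Agent.Lib.Helper2.exists_invariant_sylow A' K hAK hcop' hsol' p
  set P' : Subgroup Γ := (P : Subgroup K).map K.subtype with hP'
  refine ⟨P'.comap (inl : G →* Γ), ?_, ?_⟩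
  · intro a x hx
    rw [Subgroup.mem_comap] at hx ⊢
    have h1 : (inl (a • x) : Γ) = inr a * inl x * inr a⁻¹ := inl_aut (φ := φ) a x
    rw [h1]
    have ha : (inr a : Γ) ∈ A' := ⟨a, rfl⟩
    have := (Subgroup.mem_normalizer_iff.mp (hP ha) (inl x)).mp hx
    rwa [map_inv]
  · have hle : P' ≤ (inl : G →* Γ).range := Subgroup.map_subtype_le _
    have h1 : (P'.comap (inl : G →* Γ)).map (inl : G →* Γ) = P' := by
      rw [Subgroup.map_comap_eq, inf_eq_right.mpr hle]
    have h2 : Nat.card ((P'.comap (inl : G →* Γ)).map (inl : G →* Γ)) = Nat.card (P'.comap (inl : G →* Γ)) :=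
      Subgroup.card_map_of_injective (inl_injective (φ := φ))
    rw [h1] at h2
    rw [← h2, hP', Subgroup.card_map_of_injective K.subtype_injective, Sylow.card_eq_multiplicity, hcK]


/-- Maschke's theorem for coprime actions on abelian groups: a complemented invariant subgroup has an
invariant complement. -/
theorem maschke_commGroup {V A : Type*} [CommGroup V] [Finite V] [Group A] [Finite A]
    [MulDistribMulAction A V] (hcop : (Nat.card A).Coprime (Nat.card V))
    (U W : Subgroup V) (hU : ∀ a : A, ∀ u ∈ U, a • u ∈ U) (h1 : U ⊓ W = ⊥) (h2 : U ⊔ W = ⊤) :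
    ∃ W' : Subgroup V, (∀ a : A, ∀ w ∈ W', a • w ∈ W') ∧ U ⊓ W' = ⊥ ∧ U ⊔ W' = ⊤ := by
  classical
  have : Fintype A := Fintype.ofFinite A
  -- projection onto U along W
  have hdec : ∀ v : V, ∃ u ∈ U, ∃ w ∈ W, v = u * w := by
    intro v
    have hv : v ∈ U ⊔ W := h2 ▸ Subgroup.mem_top v
    obtain ⟨u, hu, w, hw, rfl⟩ := Subgroup.mem_sup.mp hv
    exact ⟨u, hu, w, hw, rfl⟩
  choose pu hpuU pw hpwW hpuw using hdec
  have huniq : ∀ u ∈ U, ∀ w ∈ W, ∀ u' ∈ U, ∀ w' ∈ W, u * w = u' * w' → u = u' := by
    intro u hu w hw u' hu' w' hw' h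
    have h3 : u'⁻¹ * u = w' * w⁻¹ := by
      rw [inv_mul_eq_iff_eq_mul, ← mul_assoc, ← h, mul_assoc, mul_inv_cancel, mul_one]
    have h4 : u'⁻¹ * u ∈ U ⊓ W := ⟨U.mul_mem (U.inv_mem hu') hu, h3 ▸ W.mul_mem hw' (W.inv_mem hw)⟩
    rw [h1, Subgroup.mem_bot] at h4
    exact (inv_mul_eq_one.mp h4).symm
  have hpu_mul : ∀ v v' : V, pu (v * v') = pu v * pu v' := by
    intro v v'
    apply huniq _ (hpuU _) _ (hpwW _) _ (U.mul_mem (hpuU v) (hpuU v')) (pw v * pw v') (W.mul_mem (hpwW v) (hpwW v'))
    rw [← hpuw (v * v')]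
    nth_rewrite 1 [hpuw v, hpuw v']
    exact mul_mul_mul_comm _ _ _ _
  have hpu_U : ∀ u ∈ U, pu u = u := by
    intro u hu
    exact (huniq u hu 1 W.one_mem _ (hpuU u) _ (hpwW u) (by rw [mul_one]; exact hpuw u)).symm
  let π₀ : V →* V := MonoidHom.mk' pu hpu_mul
  let θ : V →* V := ∏ a : A, (MulDistribMulAction.toMonoidHom V a).comp (π₀.comp (MulDistribMulAction.toMonoidHom V a⁻¹))
  have hθ : ∀ v, θ v = ∏ a : A, a • pu (a⁻¹ • v) := by
    intro v
    simp only [θ, MonoidHom.finsetProd_apply]
    rfl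
  have hθU : ∀ v, θ v ∈ U := by
    intro v
    rw [hθ]
    exact Subgroup.prod_mem _ (fun a _ => hU a _ (hpuU _))
  have hθu : ∀ u ∈ U, θ u = u ^ Nat.card A := by
    intro u hu
    rw [hθ]
    have : ∀ a : A, a • pu (a⁻¹ • u) = u := by
      intro a
      rw [hpu_U _ (hU a⁻¹ u hu), smul_inv_smul]
    simp only [this, Finset.prod_const, Finset.card_univ, Nat.card_eq_fintype_card]
  have hθeq : ∀ (b : A) (v : V), θ (b • v) = b • θ v := by
    intro b v
    rw [hθ, hθ, Finset.smul_prod']
    rw [← Equiv.prod_comp (Equiv.mulLeft b)]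
    apply Finset.prod_congr rfl
    intro a _
    simp only [Equiv.coe_mulLeft, mul_smul, mul_inv_rev, inv_smul_smul]
  -- coprimality: u ↦ u ^ |A| is injective on V
  have hinj : ∀ v : V, v ^ Nat.card A = 1 → v = 1 := by
    intro v hv
    have h3 : orderOf v ∣ Nat.card A := orderOf_dvd_of_pow_eq_one hv
    have h4 : orderOf v ∣ Nat.card V := orderOf_dvd_natCard v
    have := Nat.eq_one_of_dvd_coprimes hcop h3 h4
    exact orderOf_eq_one_iff.mp this
  have hsurj : ∀ u ∈ U, ∃ u' ∈ U, u' ^ Nat.card A = u := by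
    intro u hu
    have hfi : Function.Injective (fun x : U => x ^ Nat.card A) := by
      intro x y hxy
      simp only at hxy
      have h3 : (x * y⁻¹) ^ Nat.card A = 1 := by
        rw [mul_pow, inv_pow, hxy, mul_inv_cancel]
      have h4 : ((x * y⁻¹ : U) : V) ^ Nat.card A = 1 := by
        rw [← Subgroup.coe_pow, h3, Subgroup.coe_one]
      have h5 := hinj _ h4
      have h6 : x * y⁻¹ = 1 := Subtype.ext h5
      exact mul_inv_eq_one.mp h6
    obtain ⟨u', hu'⟩ := Finite.surjective_of_injective hfi ⟨u, hu⟩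
    exact ⟨u'.1, u'.2, by simpa using congrArg Subtype.val hu'⟩
  refine ⟨θ.ker, ?_, ?_, ?_⟩
  · intro a w hw
    rw [MonoidHom.mem_ker] at hw ⊢
    rw [hθeq, hw, smul_one]
  · rw [eq_bot_iff]
    rintro u ⟨huU, huk⟩
    rw [Subgroup.mem_bot]
    apply hinj
    rw [← hθu u huU]
    exact huk
  · rw [eq_top_iff]
    intro v _
    obtain ⟨u, hu, hu'⟩ := hsurj (θ v) (hθU v)
    have : v = u * (u⁻¹ * v) := by group
    rw [this]
    apply Subgroup.mul_mem_sup hu
    rw [MonoidHom.mem_ker, map_mul, map_inv, hθu u hu, hu', inv_mul_cancel]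

theorem exists_compl_addSubgroup_zmod {M : Type*} [AddCommGroup M] {p : ℕ} [Fact p.Prime]
    [Module (ZMod p) M] (U : AddSubgroup M) : ∃ W : AddSubgroup M, U ⊓ W = ⊥ ∧ U ⊔ W = ⊤ := by
  let e := AddSubgroup.toZModSubmodule (M := M) p
  obtain ⟨W', hW'⟩ := Submodule.exists_isCompl (e U)
  refine ⟨e.symm W', ?_, ?_⟩
  · have := hW'.inf_eq_bot
    apply e.injective
    rw [map_inf, OrderIso.apply_symm_apply, this, map_bot]
  · have := hW'.sup_eq_top
    apply e.injective
    rw [map_sup, OrderIso.apply_symm_apply, this, map_top]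

/-- every subgroup of an elementary abelian `p`-group has a complement -/
theorem exists_compl_of_elementary {V : Type*} [CommGroup V] {p : ℕ} [Fact p.Prime]
    (hV : ∀ x : V, x ^ p = 1) (U : Subgroup V) : ∃ W : Subgroup V, U ⊓ W = ⊥ ∧ U ⊔ W = ⊤ := by
  let inst : Module (ZMod p) (Additive V) := AddCommGroup.zmodModule (n := p) (fun x => by
    change Additive.ofMul (x.toMul ^ p) = 0
    rw [hV]; rfl)
  obtain ⟨W, h1, h2⟩ := exists_compl_addSubgroup_zmod (p := p) (Subgroup.toAddSubgroup U)
  refine ⟨AddSubgroup.toSubgroup' W, ?_, ?_⟩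
  · apply (Subgroup.toAddSubgroup (G := V)).injective
    rw [map_inf, map_bot]
    exact h1
  · apply (Subgroup.toAddSubgroup (G := V)).injective
    rw [map_sup, map_top]
    exact h2

/-- Maschke in an elementary abelian `p`-group with a coprime action: every invariant subgroup has an
invariant complement. -/
theorem maschke_elementary {V A : Type*} [CommGroup V] [Finite V] [Group A] [Finite A]
    [MulDistribMulAction A V] {p : ℕ} [Fact p.Prime] (hV : ∀ x : V, x ^ p = 1)
    (hcop : (Nat.card A).Coprime (Nat.card V))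
    (U : Subgroup V) (hU : ∀ a : A, ∀ u ∈ U, a • u ∈ U) :
    ∃ W' : Subgroup V, (∀ a : A, ∀ w ∈ W', a • w ∈ W') ∧ U ⊓ W' = ⊥ ∧ U ⊔ W' = ⊤ := by
  obtain ⟨W, h1, h2⟩ := exists_compl_of_elementary hV U
  exact maschke_commGroup hcop U W hU h1 h2

/-- Transfer of Maschke along an equivariant surjection onto an elementary abelian group. -/
theorem maschke_transfer {G V A : Type*} [Group G] [CommGroup V] [Finite V] [Group A] [Finite A]
    [MulDistribMulAction A G] [MulDistribMulAction A V] {p : ℕ} [Fact p.Prime]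
    (hV : ∀ x : V, x ^ p = 1) (hcop : (Nat.card A).Coprime (Nat.card V))
    (π : G →* V) (heq : ∀ (a : A) (g : G), π (a • g) = a • π g)
    (M : Subgroup G) (hM : ∀ a : A, ∀ x ∈ M, a • x ∈ M) (hker : π.ker ≤ M) :
    ∃ W : Subgroup G, (∀ a : A, ∀ x ∈ W, a • x ∈ W) ∧ π.ker ≤ W ∧ M ⊓ W = π.ker ∧ M ⊔ W = ⊤ := by
  have hU : ∀ a : A, ∀ u ∈ M.map π, a • u ∈ M.map π := by
    rintro a _ ⟨x, hx, rfl⟩
    exact ⟨a • x, hM a x hx, heq a x⟩
  obtain ⟨W', hW', h1, h2⟩ := maschke_elementary hV hcop (M.map π) hU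
  refine ⟨W'.comap π, ?_, ?_, ?_, ?_⟩
  · intro a x hx
    rw [Subgroup.mem_comap] at hx ⊢
    rw [heq]
    exact hW' a _ hx
  · intro x hx
    rw [Subgroup.mem_comap, MonoidHom.mem_ker.mp hx]
    exact W'.one_mem
  · apply le_antisymm
    · rintro x ⟨hxM, hxW⟩
      have : π x ∈ M.map π ⊓ W' := ⟨⟨x, hxM, rfl⟩, hxW⟩
      rw [h1, Subgroup.mem_bot] at this
      exact this
    · intro x hx
      refine ⟨hker hx, ?_⟩
      change π x ∈ W'
      rw [MonoidHom.mem_ker.mp hx]
      exact W'.one_mem
  · rw [eq_top_iff]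
    intro g _
    have hg : π g ∈ M.map π ⊔ W' := h2 ▸ Subgroup.mem_top _
    obtain ⟨u, ⟨m, hm, rfl⟩, w, hw, huw⟩ := Subgroup.mem_sup.mp hg
    have : g = m * (m⁻¹ * g) := by group
    rw [this]
    apply Subgroup.mul_mem_sup hm
    rw [Subgroup.mem_comap, map_mul, map_inv, ← huw, inv_mul_cancel_left]
    exact hw

theorem le_comap_of_invariant {A G : Type*} [Group A] [Group G] [MulDistribMulAction A G]
    (N : Subgroup G) (hN : ∀ a : A, ∀ x ∈ N, a • x ∈ N) (a : A) :
    N ≤ N.comap (MulDistribMulAction.toMonoidHom G a) := fun x hx => hN a x hx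

/-- the induced action on the quotient by an invariant normal subgroup -/
@[reducible] def quotMulDistribMulAction {A G : Type*} [Group A] [Group G] [MulDistribMulAction A G]
    (N : Subgroup G) [N.Normal] (hN : ∀ a : A, ∀ x ∈ N, a • x ∈ N) :
    MulDistribMulAction A (G ⧸ N) where
  smul a := QuotientGroup.map N N (MulDistribMulAction.toMonoidHom G a) (le_comap_of_invariant N hN a)
  one_smul := by
    intro x
    induction x using QuotientGroup.induction_on with
    | H x =>
      change QuotientGroup.map N N _ _ (x : G ⧸ N) = _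
      rw [QuotientGroup.map_mk]
      simp
  mul_smul := by
    intro a b x
    induction x using QuotientGroup.induction_on with
    | H x =>
      change QuotientGroup.map N N _ _ (x : G ⧸ N) =
        QuotientGroup.map N N _ _ (QuotientGroup.map N N _ _ (x : G ⧸ N))
      rw [QuotientGroup.map_mk, QuotientGroup.map_mk, QuotientGroup.map_mk]
      simp [mul_smul]
  smul_mul := fun a x y => map_mul _ x y
  smul_one := fun a => map_one _

theorem quotMulDistribMulAction_mk {A G : Type*} [Group A] [Group G] [MulDistribMulAction A G]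
    (N : Subgroup G) [N.Normal] (hN : ∀ a : A, ∀ x ∈ N, a • x ∈ N) (a : A) (g : G) :
    letI := quotMulDistribMulAction N hN
    a • (g : G ⧸ N) = ((a • g : G) : G ⧸ N) := rfl

/-- In a finite `p`-group with a coprime action, every invariant subgroup containing the Frattini
subgroup has an invariant complement modulo the Frattini subgroup. -/
theorem exists_invariant_compl_mod_frattini {A G : Type*} [Group A] [Finite A] [Group G] [Finite G]
    [MulDistribMulAction A G] (hcop : (Nat.card A).Coprime (Nat.card G)) {p : ℕ} [Fact p.Prime]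
    (hG : IsPGroup p G) (M : Subgroup G) (hM : ∀ a : A, ∀ x ∈ M, a • x ∈ M) (hΦM : frattini G ≤ M) :
    ∃ W : Subgroup G, (∀ a : A, ∀ x ∈ W, a • x ∈ W) ∧ frattini G ≤ W ∧ M ⊓ W = frattini G ∧
      M ⊔ W = ⊤ := by
  have hΦinv : ∀ a : A, ∀ x ∈ frattini G, a • x ∈ frattini G := by
    intro a x hx
    have h1 := (frattini_characteristic (G := G)).fixed (MulDistribMulAction.toMulAut A G a)
    have h2 : x ∈ (frattini G).comap (MulDistribMulAction.toMulAut A G a).toMonoidHom := by
      rw [h1]; exact hx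
    exact h2
  let instC : CommGroup (G ⧸ frattini G) :=
    { (inferInstance : Group (G ⧸ frattini G)) with
      mul_comm := by
        have h := (Subgroup.Normal.quotient_commutative_iff_commutator_le (N := frattini G)).mpr
          (commutator_le_frattini_of_isPGroup' hG)
        intro a b
        exact mul_comm' a b }
  let instA : MulDistribMulAction A (G ⧸ frattini G) := quotMulDistribMulAction (frattini G) hΦinv
  have hV : ∀ x : G ⧸ frattini G, x ^ p = 1 := by
    intro x
    induction x using QuotientGroup.induction_on with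
    | H x =>
      rw [← QuotientGroup.mk_pow, QuotientGroup.eq_one_iff]
      exact pow_mem_frattini_of_isPGroup' hG x
  have hcop' : (Nat.card A).Coprime (Nat.card (G ⧸ frattini G)) := by
    apply Nat.Coprime.coprime_dvd_right _ hcop
    rw [← Subgroup.index_eq_card]
    exact Subgroup.index_dvd_card _
  have hker : (QuotientGroup.mk' (frattini G)).ker = frattini G := QuotientGroup.ker_mk' _
  have key := maschke_transfer (A := A) (p := p) hV hcop' (QuotientGroup.mk' (frattini G))
    (fun a g => rfl) M hM (by rw [hker]; exact hΦM)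
  rw [hker] at key
  exact key

end Cfsg.Agent.Lib.Helper14
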