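import Mathlib
import Cfsg.Agent.Lib.Helper14.HolTransport
import Cfsg.Agent.Lib.Helper14.DualHH
import Cfsg.Agent.Lib.Helper13.Zipper
import Cfsg.Agent.Lib.Helper16.Subnormal
import Cfsg.Agent.Lib.Helper16.PCore
import Cfsg.Agent.Lib.Helper20.PSolvable
import Cfsg.Agent.Lib.Helper20.Transport
import Cfsg.Agent.Lib.Helper15.QuadPSolv

/-!
# The action of a `p`-soluble group on a normal elementary abelian subgroup (helper14)
-/

set_option autoImplicit false

namespace Cfsg.Agent.Lib.Helper14.ThV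

open Cfsg Subgroup Cfsg.Agent.Lib.Helper14.Hol Cfsg.Agent.Lib.Helper14.Off

/-- `O_p` of a relatively subnormal subgroup is trivial if `O_p` of the big group is. -/
theorem pCore_eq_bot_of_relSubn {Γ : Type*} [Group Γ] [Finite Γ] {p : ℕ} [Fact p.Prime]
    (E T : Subgroup Γ) (hTE : T ≤ E) (hTs : (T.subgroupOf E).IsSubnormal)
    (hOp : Cfsg.pCore p ↥E = ⊥) : Cfsg.pCore p ↥T = ⊥ := by
  have hQT : (Cfsg.pCore p ↥T).map T.subtype ≤ T := Subgroup.map_subtype_le _
  have hn := Cfsg.Agent.Lib.Helper16.pCore_normal p ↥T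
  have h1 : (((Cfsg.pCore p ↥T).map T.subtype).subgroupOf T).IsSubnormal := by
    have : ((Cfsg.pCore p ↥T).map T.subtype).subgroupOf T = Cfsg.pCore p ↥T :=
      Subgroup.comap_map_eq_self_of_injective T.subtype_injective _
    rw [this]
    exact hn.isSubnormal
  have h2 := Cfsg.Agent.Lib.Helper13.relSubn_trans hQT hTE h1 hTs
  have h3 : IsPGroup p ((Cfsg.pCore p ↥T).map T.subtype : Subgroup Γ) :=
    (Cfsg.Agent.Lib.Helper16.pCore_isPGroup p ↥T).map _
  have hXE := hQT.trans hTE
  have hp' : IsPGroup p (((Cfsg.pCore p ↥T).map T.subtype).subgroupOf E) := by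
    have : IsPGroup p ((((Cfsg.pCore p ↥T).map T.subtype).subgroupOf E).map E.subtype) := by
      rw [Subgroup.map_subgroupOf_eq_of_le hXE]; exact h3
    exact IsPGroup.of_injective this
      ((((Cfsg.pCore p ↥T).map T.subtype).subgroupOf E).equivMapOfInjective E.subtype
        E.subtype_injective).toMonoidHom
      ((((Cfsg.pCore p ↥T).map T.subtype).subgroupOf E).equivMapOfInjective E.subtype
        E.subtype_injective).injective
  have h4 := Cfsg.Agent.Lib.Helper16.le_pCore_of_isSubnormal_of_isPGroup p h2 hp'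
  rw [hOp, le_bot_iff] at h4
  have h5 := congrArg (Subgroup.map E.subtype) h4
  rw [Subgroup.map_subgroupOf_eq_of_le hXE, Subgroup.map_bot] at h5
  exact (Subgroup.map_eq_bot_iff_of_injective _ T.subtype_injective).mp h5

variable {G : Type*} [Group G] [Finite G] {p : ℕ} [hp : Fact p.Prime]

/-- the image of a normal subgroup in the holomorph satisfies hypothesis (S1) -/
theorem hS1_hat (hsep : Cfsg.IsPSolvable p G) (V : Subgroup G) [V.Normal]
    (hO : Cfsg.pCore p (G ⧸ centralizer (V : Set G)) = ⊥) (N : Subgroup G) [hN : N.Normal] :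
    centralizer (Cfsg.pPrimeCore p ↥(hat V N) : Set ↥(hat V N)) ≤ Cfsg.pPrimeCore p ↥(hat V N) := by
  apply Cfsg.Agent.Lib.Helper14.centralizer_pPrimeCore_le
  · have h1 : Cfsg.IsPSolvable p ↥N :=
      Cfsg.Agent.Lib.Helper15.QuadPSolv.isPSolvable_subgroup hp.out hsep N
    exact Cfsg.Agent.Lib.Helper20.isPSolvable_of_surjective ((rho' V).subgroupMap N)
      ((rho' V).subgroupMap_surjective N) h1
  · have hE : Cfsg.pCore p ↥(hat V ⊤) = ⊥ := by
      rw [← Cfsg.Agent.Lib.Helper20.pCore_map_mulEquiv p (quotEquiv V), hO, Subgroup.map_bot]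
    apply pCore_eq_bot_of_relSubn (hat V ⊤) (hat V N) (hat_mono V le_top) _ hE
    apply Cfsg.Agent.Lib.Helper13.relSubn_of_le_normalizer (hat_mono V le_top)
    have h2 := Subgroup.le_normalizer_map (H := N) (rho' V)
    rw [Subgroup.normalizer_eq_top] at h2
    exact h2

/-- **No over-offenders** for the action of a `p`-soluble group on a normal elementary abelian
subgroup `V` with `O_p(G / C_G(V)) = 1`. -/
theorem card_mul_card_le (hsep : Cfsg.IsPSolvable p G) (V : Subgroup G) [V.Normal]
    (hV : Cfsg.IsElementaryAbelian p V)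
    (hO : Cfsg.pCore p (G ⧸ centralizer (V : Set G)) = ⊥) (A : Subgroup G)
    (hA : Cfsg.IsElementaryAbelian p A) :
    Nat.card A * Nat.card (V ⊓ centralizer (A : Set G) : Subgroup G) ≤
      Nat.card V * Nat.card (A ⊓ centralizer (V : Set G) : Subgroup G) := by
  have hS1' := kk_self_centralizing p (hat V ⊤) (hS1_hat hsep V hO ⊤)
  have hVh := Vh_ea V hV
  have hAh : Cfsg.IsElementaryAbelian p (hat V A) := Cfsg.Agent.Lib.Helper17.ea_map _ hA
  have h := no_over_offender (Vh V) (hat V ⊤) (Cfsg.Agent.Lib.Helper17.ea_isPGroup hVh)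
    (hat_le_normalizer V ⊤) (hat_inf_centralizer V ⊤) hS1' _ (hat V A) rfl (hat_mono V le_top)
    hAh.1 hAh.2
  unfold Cfsg.Agent.S0598.mm Cfsg.Agent.S0598.cv at h
  rw [card_cv_hat, card_Vh] at h
  have c := card_hat V A
  rw [← c]
  calc Nat.card (hat V A) * Nat.card (A ⊓ centralizer (V : Set G) : Subgroup G) *
        Nat.card (V ⊓ centralizer (A : Set G) : Subgroup G)
      = (Nat.card (hat V A) * Nat.card (V ⊓ centralizer (A : Set G) : Subgroup G)) *
        Nat.card (A ⊓ centralizer (V : Set G) : Subgroup G) := by ring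
    _ ≤ Nat.card V * Nat.card (A ⊓ centralizer (V : Set G) : Subgroup G) :=
        Nat.mul_le_mul_right _ h

end Cfsg.Agent.Lib.Helper14.ThV
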