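import Mathlib
import Cfsg.Prelude.Def_LieExceptional

/-!
# Suzuki groups as ovoid stabilizers, part A: the twisted Frobenius, the ovoid (helper14)
-/

set_option autoImplicit false
set_option maxHeartbeats 1000000
set_option linter.unusedSimpArgs false
set_option linter.unusedSectionVars false

namespace Cfsg.Agent.Lib.Helper14.Sz

open Cfsg

section char2

variable {F : Type*} [Field F] [CharP F 2]

theorem c2 : (2 : F) = 0 := CharTwo.two_eq_zero

theorem c4 : (4 : F) = 0 := by
  have : (4 : F) = 2 * 2 := by norm_num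
  rw [this, c2, mul_zero]

theorem c6 : (6 : F) = 0 := by
  have : (6 : F) = 2 * 3 := by norm_num
  rw [this, c2, zero_mul]

theorem c8 : (8 : F) = 0 := by
  have : (8 : F) = 2 * 4 := by norm_num
  rw [this, c2, zero_mul]

theorem c10 : (10 : F) = 0 := by
  have : (10 : F) = 2 * 5 := by norm_num
  rw [this, c2, zero_mul]

theorem c12 : (12 : F) = 0 := by
  have : (12 : F) = 2 * 6 := by norm_num
  rw [this, c2, zero_mul]

theorem sq_injective : Function.Injective (fun t : F => t ^ 2) := by
  intro a b h
  have h1 : (a + b) ^ 2 = 0 := by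
    have : (a + b) ^ 2 = a ^ 2 + b ^ 2 := by
      rw [← CharTwo.add_eq_zero]
      ring_nf
      simp only [c2, c4, mul_zero, add_zero]
    rw [this]
    simp only at h
    rw [h, CharTwo.add_self_eq_zero]
  have h2 : a + b = 0 := by
    exact pow_eq_zero_iff (two_ne_zero) |>.mp h1
  exact CharTwo.add_eq_zero.mp h2

variable (m : ℕ)

/-- the twisted Frobenius `t ↦ t ^ 2 ^ (m + 1)` -/
def sg (t : F) : F := t ^ 2 ^ (m + 1)

theorem sg_add (a b : F) : sg m (a + b) = sg m a + sg m b := by
  unfold sg
  exact add_pow_char_pow a b 2 (m + 1)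

theorem sg_mul (a b : F) : sg m (a * b) = sg m a * sg m b := by
  unfold sg
  exact mul_pow a b _

theorem sg_zero : sg m (0 : F) = 0 := by
  unfold sg
  exact zero_pow (by positivity)

theorem sg_one : sg m (1 : F) = 1 := by
  unfold sg
  exact one_pow _

theorem sg_pow (a : F) (n : ℕ) : sg m (a ^ n) = sg m a ^ n := by
  unfold sg
  rw [← pow_mul, ← pow_mul, mul_comm]

theorem sg_inv (a : F) : sg m a⁻¹ = (sg m a)⁻¹ := by
  unfold sg
  exact inv_pow a _

theorem sg_div (a b : F) : sg m (a / b) = sg m a / sg m b := by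
  unfold sg
  exact div_pow a b _

theorem sg_eq_zero_iff (a : F) : sg m a = 0 ↔ a = 0 := by
  unfold sg
  exact pow_eq_zero_iff (by positivity)

theorem sg_injective : Function.Injective (sg m : F → F) := by
  intro a b h
  have h1 : sg m (a + b) = 0 := by rw [sg_add, h, CharTwo.add_self_eq_zero]
  exact CharTwo.add_eq_zero.mp ((sg_eq_zero_iff m _).mp h1)

/-- the ovoid function -/
def ff (x y : F) : F := x * y + sg m x * x ^ 2 + sg m y

theorem ff_eq (x y : F) :
    x * y + x ^ (2 ^ (m + 1) + 2) + y ^ (2 ^ (m + 1)) = ff m x y := by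
  unfold ff sg
  rw [pow_add]

/-- the affine ovoid vector -/
def vec (x y : F) : Fin 4 → F := ![ff m x y, y, x, 1]

/-- the vector at infinity -/
def vinf (F : Type*) [Field F] : Fin 4 → F := ![1, 0, 0, 0]

theorem vec_ne_zero (x y : F) : vec m x y ≠ 0 := by
  intro h
  have := congrFun h 3
  simp [vec] at this

theorem vinf_ne_zero : vinf F ≠ 0 := by
  intro h
  have := congrFun h 0
  simp [vinf] at this

/-- the affine ovoid point -/
def pt (x y : F) : Projectivization F (Fin 4 → F) := Projectivization.mk F (vec m x y) (vec_ne_zero m x y)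

theorem pinf_eq : suzukiPointInfinity F = Projectivization.mk F (vinf F) vinf_ne_zero := rfl

theorem mem_ovoid_iff (p : Projectivization F (Fin 4 → F)) :
    p ∈ suzukiOvoid F m ↔ p = suzukiPointInfinity F ∨ ∃ x y : F, p = pt m x y := by
  constructor
  · rintro ⟨v, hv, rfl, h | ⟨x, y, h⟩⟩
    · left
      subst h
      rfl
    · right
      refine ⟨x, y, ?_⟩
      subst h
      unfold pt
      congr 1
      unfold vec
      rw [ff_eq]
  · rintro (rfl | ⟨x, y, rfl⟩)
    · exact ⟨vinf F, vinf_ne_zero, rfl, Or.inl rfl⟩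
    · refine ⟨vec m x y, vec_ne_zero m x y, rfl, Or.inr ⟨x, y, ?_⟩⟩
      unfold vec
      rw [ff_eq]

theorem pt_ne_pinf (x y : F) : pt m x y ≠ suzukiPointInfinity F := by
  intro h
  rw [pinf_eq] at h
  unfold pt at h
  rw [Projectivization.mk_eq_mk_iff'] at h
  obtain ⟨a, ha⟩ := h
  have := congrFun ha 3
  simp [vec, vinf] at this

theorem pt_injective {x y x' y' : F} (h : pt m x y = pt m x' y') : x = x' ∧ y = y' := by
  unfold pt at h
  rw [Projectivization.mk_eq_mk_iff'] at h
  obtain ⟨a, ha⟩ := h
  have h3 := congrFun ha 3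
  have h2 := congrFun ha 2
  have h1 := congrFun ha 1
  simp [vec] at h3 h2 h1
  subst h3
  simp at h1 h2
  exact ⟨h2.symm, h1.symm⟩

end char2

section field

variable {F : Type*} [Field F] [Fintype F] {m : ℕ}

theorem charP_two (hF : Fintype.card F = 2 ^ (2 * m + 1)) : CharP F 2 := by
  haveI : Fact (Nat.Prime 2) := ⟨Nat.prime_two⟩
  exact charP_of_card_eq_prime_pow hF

variable [CharP F 2]

theorem sg_sg (hF : Fintype.card F = 2 ^ (2 * m + 1)) (a : F) : sg m (sg m a) = a ^ 2 := by
  unfold sg
  rw [← pow_mul, ← pow_add]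
  have : m + 1 + (m + 1) = (2 * m + 1) + 1 := by ring
  rw [this, pow_succ, pow_mul, ← hF, FiniteField.pow_card]

/-- the ovoid function vanishes only at the origin -/
theorem ff_eq_zero_iff (hF : Fintype.card F = 2 ^ (2 * m + 1)) (x y : F) :
    ff m x y = 0 ↔ x = 0 ∧ y = 0 := by
  constructor
  · intro h
    by_cases hx : x = 0
    · subst hx
      unfold ff at h
      simp only [zero_mul, sg_zero, ne_eq, OfNat.ofNat_ne_zero, not_false_eq_true, zero_pow, mul_zero,
        zero_add] at h
      exact ⟨rfl, (sg_eq_zero_iff m y).mp h⟩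
    · exfalso
      -- `t = y / (x ^ σ x)`
      set t := y / (sg m x * x) with ht
      have hsx : sg m x ≠ 0 := fun h0 => hx ((sg_eq_zero_iff m x).mp h0)
      have hy : y = t * (sg m x * x) := by
        rw [ht]; field_simp
      have h1 : sg m t + t + 1 = 0 := by
        unfold ff at h
        rw [hy, sg_mul, sg_mul, sg_sg hF] at h
        have h2 : sg m x * x ^ 2 * (sg m t + t + 1) = 0 := by
          rw [← h]
          ring
        rcases mul_eq_zero.mp h2 with h3 | h3
        · exact absurd h3 (mul_ne_zero hsx (pow_ne_zero 2 hx))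
        · exact h3
      have h2 : t ^ 2 + sg m t + 1 = 0 := by
        have := congrArg (sg m) h1
        rw [sg_add, sg_add, sg_sg hF, sg_one, sg_zero] at this
        rw [← this]
        try ring
      have h3 : t ^ 2 + t = 0 := by
        have : t ^ 2 + t = (t ^ 2 + sg m t + 1) + (sg m t + t + 1) := by
          rw [← CharTwo.add_eq_zero]
          ring_nf
          simp only [c2, c4, mul_zero, add_zero]
        rw [this, h1, h2, add_zero]
      have h4 : t * (t + 1) = 0 := by rw [← h3]; ring
      rcases mul_eq_zero.mp h4 with h5 | h5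
      · rw [h5, sg_zero] at h1
        simp at h1
      · have h6 : t = 1 := by
          have := CharTwo.add_eq_zero.mp h5
          exact this
        rw [h6, sg_one] at h1
        have : (1 : F) + 1 + 1 = 1 := by
          have : (1 : F) + 1 = 0 := CharTwo.add_self_eq_zero 1
          rw [this, zero_add]
        rw [this] at h1
        exact one_ne_zero h1
  · rintro ⟨rfl, rfl⟩
    unfold ff
    simp [sg_zero]

end field

end Cfsg.Agent.Lib.Helper14.Sz
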