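import Mathlib
import Cfsg.Agent.Lib.Helper14.SzA

/-!
# Suzuki groups as ovoid stabilizers, part B: the standard elements (helper14)
-/

set_option autoImplicit false
set_option maxHeartbeats 2000000
set_option linter.unusedSimpArgs false
set_option linter.unusedSectionVars false

namespace Cfsg.Agent.Lib.Helper14.Sz

open Cfsg

local notation "SL4" => Matrix.SpecialLinearGroup (Fin 4)

section mats

variable {F : Type*} [Field F] [CharP F 2] (m : ℕ)

/-- the translation matrix -/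
def Tmat (a b : F) : Matrix (Fin 4) (Fin 4) F :=
  !![1, a, b + sg m a * a, ff m a b; 0, 1, sg m a, b; 0, 0, 1, a; 0, 0, 0, 1]

theorem Tmat_det (a b : F) : (Tmat m a b).det = 1 := by
  rw [Matrix.det_of_isUpperTriangular]
  · simp [Fin.prod_univ_four, Tmat]
  · intro i j hij
    fin_cases i <;> fin_cases j <;> simp [Tmat] at hij ⊢

/-- the translation as an element of `SL₄` -/
def Tg (a b : F) : SL4 F := ⟨Tmat m a b, Tmat_det m a b⟩

/-- the antidiagonal matrix -/
def Wmat (F : Type*) [Field F] : Matrix (Fin 4) (Fin 4) F :=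
  !![0, 0, 0, 1; 0, 0, 1, 0; 0, 1, 0, 0; 1, 0, 0, 0]

omit [CharP F 2] in
theorem Wmat_det : (Wmat F).det = 1 := by
  simp [Wmat, Matrix.det_succ_row_zero, Fin.sum_univ_succ, Matrix.submatrix, Fin.succAbove]
  norm_num

/-- the Weyl element -/
def Wg (F : Type*) [Field F] : SL4 F := ⟨Wmat F, Wmat_det⟩

/-- `k ^ 2 ^ m` -/
def rho (k : F) : F := k ^ 2 ^ m

theorem sg_eq_rho (k : F) : sg m k = rho m k ^ 2 := by
  unfold sg rho
  rw [← pow_mul, pow_succ]

theorem rho_mul (a b : F) : rho m (a * b) = rho m a * rho m b := by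
  unfold rho
  exact mul_pow a b _

theorem rho_one : rho m (1 : F) = 1 := by
  unfold rho
  exact one_pow _

theorem rho_ne_zero {k : F} (hk : k ≠ 0) : rho m k ≠ 0 := by
  unfold rho
  exact pow_ne_zero _ hk

/-- the diagonal matrix -/
def Hmat (k : F) : Matrix (Fin 4) (Fin 4) F :=
  !![k * rho m k, 0, 0, 0; 0, rho m k, 0, 0; 0, 0, (rho m k)⁻¹, 0; 0, 0, 0, (k * rho m k)⁻¹]

theorem Hmat_det {k : F} (hk : k ≠ 0) : (Hmat m k).det = 1 := by
  rw [Matrix.det_of_isUpperTriangular]
  · simp [Fin.prod_univ_four, Hmat]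
    have := rho_ne_zero m hk
    field_simp
  · intro i j hij
    fin_cases i <;> fin_cases j <;> simp [Hmat] at hij ⊢

/-- the diagonal element -/
def Hg (k : Fˣ) : SL4 F := ⟨Hmat m (k : F), Hmat_det m k.ne_zero⟩

theorem smul4 (g : SL4 F) (v : Fin 4 → F) (i : Fin 4) :
    (g • v) i = g i 0 * v 0 + g i 1 * v 1 + g i 2 * v 2 + g i 3 * v 3 := by
  show ((g : Matrix (Fin 4) (Fin 4) F).mulVec v) i = _
  simp [Matrix.mulVec, dotProduct, Fin.sum_univ_four]

end mats

section acts

variable {F : Type*} [Field F] [Fintype F] [CharP F 2] {m : ℕ}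

theorem Tg_vec (hF : Fintype.card F = 2 ^ (2 * m + 1)) (a b x y : F) :
    Tg m a b • vec m x y = vec m (x + a) (y + b + sg m a * x) := by
  ext i
  rw [smul4]
  fin_cases i
  · simp only [Tg, Tmat, vec, ff, sg_add, sg_mul, sg_sg hF]
    simp
    rw [← CharTwo.add_eq_zero]
    ring_nf
    simp only [c2, c4, c6, c8, mul_zero, add_zero]
  · simp only [Tg, Tmat, vec]
    simp
    ring
  · simp only [Tg, Tmat, vec]
    simp
  · simp only [Tg, Tmat, vec]
    simp

theorem Tg_vinf (a b : F) : Tg m a b • vinf F = vinf F := by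
  ext i
  rw [smul4]
  fin_cases i <;> simp [Tg, Tmat, vinf]

theorem Hg_vec (hF : Fintype.card F = 2 ^ (2 * m + 1)) (k : Fˣ) (x y : F) :
    Hg m k • vec m x y =
      ((k : F) * rho m (k : F))⁻¹ • vec m ((k : F) * x) (sg m (k : F) * (k : F) * y) := by
  have hk : (k : F) ≠ 0 := k.ne_zero
  have hr : rho m (k : F) ≠ 0 := rho_ne_zero m hk
  have hsr : sg m (rho m (k : F)) ^ 2 = (k : F) ^ 2 := by
    rw [← sg_pow, ← sg_eq_rho, sg_sg hF]
  ext i
  rw [smul4]
  fin_cases i
  · simp only [Hg, Hmat, vec, ff, sg_add, sg_mul, sg_sg hF, sg_eq_rho m (k : F), sg_pow]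
    simp
    field_simp
    rw [hsr]
    ring
  · simp only [Hg, Hmat, vec, sg_eq_rho m (k : F)]
    simp
    field_simp
  · simp only [Hg, Hmat, vec]
    simp
    field_simp
  · simp only [Hg, Hmat, vec]
    simp

theorem Hg_vinf (k : Fˣ) : Hg m k • vinf F = ((k : F) * rho m (k : F)) • vinf F := by
  ext i
  rw [smul4]
  fin_cases i <;> simp [Hg, Hmat, vinf]

theorem Wg_vinf : Wg F • vinf F = vec m 0 0 := by
  ext i
  rw [smul4]
  fin_cases i <;> simp [Wg, Wmat, vinf, vec, ff, sg_zero]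

theorem Wg_vec_zero : Wg F • vec m 0 0 = vinf F := by
  ext i
  rw [smul4]
  fin_cases i <;> simp [Wg, Wmat, vinf, vec, ff, sg_zero]

theorem ff_inv (hF : Fintype.card F = 2 ^ (2 * m + 1)) (x y : F) (hz : ff m x y ≠ 0) :
    ff m (y / ff m x y) (x / ff m x y) = (ff m x y)⁻¹ := by
  have hsz : sg m (ff m x y) ≠ 0 := fun h => hz ((sg_eq_zero_iff m _).mp h)
  have e1 : sg m (ff m x y) = sg m x * sg m y + x ^ 2 * sg m x ^ 2 + y ^ 2 := by
    unfold ff
    rw [sg_add, sg_add, sg_mul, sg_mul, sg_sg hF, sg_sg hF, sg_pow]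
    try ring
  have key : x * y * sg m (ff m x y) + sg m y * y ^ 2 + sg m x * ff m x y ^ 2 =
      sg m (ff m x y) * ff m x y := by
    rw [e1]
    unfold ff
    rw [← CharTwo.add_eq_zero]
    ring_nf
    simp only [c2, c4, c6, c8, mul_zero, add_zero]
  set z := ff m x y with hzdef
  have : ff m (y / z) (x / z) = (x * y * sg m z + sg m y * y ^ 2 + sg m x * z ^ 2) / (sg m z * z ^ 2) := by
    unfold ff
    rw [sg_div, sg_div]
    field_simp
    try ring
  rw [this, key]
  field_simp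

theorem Wg_vec (hF : Fintype.card F = 2 ^ (2 * m + 1)) (x y : F) (hz : ff m x y ≠ 0) :
    Wg F • vec m x y = ff m x y • vec m (y / ff m x y) (x / ff m x y) := by
  ext i
  rw [smul4]
  fin_cases i
  · simp only [Wg, Wmat, vec]
    simp
    rw [ff_inv hF x y hz]
    try field_simp
  · simp only [Wg, Wmat, vec]
    simp
    field_simp
  · simp only [Wg, Wmat, vec]
    simp
    field_simp
  · simp only [Wg, Wmat, vec]
    simp

end acts

end Cfsg.Agent.Lib.Helper14.Sz
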