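import Mathlib
import Cfsg.Agent.Lib.Helper14.SzB

/-!
# Suzuki groups as ovoid stabilizers, part C: action on points, the standard elements lie in `Sz` (helper14)
-/

set_option autoImplicit false
set_option maxHeartbeats 2000000
set_option linter.unusedSimpArgs false
set_option linter.unusedSectionVars false

namespace Cfsg.Agent.Lib.Helper14.Sz

open Cfsg

local notation "SL4" => Matrix.SpecialLinearGroup (Fin 4)
local notation "PP" => Projectivization

section pts

variable {F : Type*} [Field F] [Fintype F] [CharP F 2] {m : ℕ}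

theorem smul_pt_of_eq (g : SL4 F) (x y x' y' c : F) (hc : c ≠ 0)
    (h : g • vec m x y = c • vec m x' y') : g • pt m x y = pt m x' y' := by
  unfold pt
  rw [Projectivization.smul_mk, Projectivization.mk_eq_mk_iff']
  exact ⟨c, h.symm⟩

theorem Tg_pt (hF : Fintype.card F = 2 ^ (2 * m + 1)) (a b x y : F) :
    Tg m a b • pt m x y = pt m (x + a) (y + b + sg m a * x) := by
  apply smul_pt_of_eq _ _ _ _ _ 1 one_ne_zero
  rw [Tg_vec hF, one_smul]

theorem Tg_pinf (a b : F) : Tg m a b • suzukiPointInfinity F = suzukiPointInfinity F := by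
  rw [pinf_eq, Projectivization.smul_mk]
  congr 1
  exact Tg_vinf a b

theorem Hg_pt (hF : Fintype.card F = 2 ^ (2 * m + 1)) (k : Fˣ) (x y : F) :
    Hg m k • pt m x y = pt m ((k : F) * x) (sg m (k : F) * (k : F) * y) := by
  apply smul_pt_of_eq _ _ _ _ _ (((k : F) * rho m (k : F))⁻¹)
    (inv_ne_zero (mul_ne_zero k.ne_zero (rho_ne_zero m k.ne_zero)))
  exact Hg_vec hF k x y

theorem Hg_pinf (k : Fˣ) : Hg m k • suzukiPointInfinity F = suzukiPointInfinity F := by
  rw [pinf_eq, Projectivization.smul_mk, Projectivization.mk_eq_mk_iff']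
  exact ⟨(k : F) * rho m (k : F), (Hg_vinf k).symm⟩

theorem Wg_pinf : Wg F • suzukiPointInfinity F = pt m 0 0 := by
  rw [pinf_eq, Projectivization.smul_mk]
  unfold pt
  congr 1
  exact Wg_vinf

theorem Wg_pt_zero : Wg F • pt m 0 0 = suzukiPointInfinity F := by
  rw [pinf_eq]
  unfold pt
  rw [Projectivization.smul_mk]
  congr 1
  exact Wg_vec_zero

theorem Wg_pt (hF : Fintype.card F = 2 ^ (2 * m + 1)) (x y : F) (hz : ff m x y ≠ 0) :
    Wg F • pt m x y = pt m (y / ff m x y) (x / ff m x y) := by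
  apply smul_pt_of_eq _ _ _ _ _ (ff m x y) hz
  exact Wg_vec hF x y hz

theorem pt_zero_eq : pt m (0 : F) 0 = suzukiPointZero F := by
  unfold pt suzukiPointZero
  congr 1
  ext i
  fin_cases i <;> simp [vec, ff, sg_zero]

theorem mem_Sz_of_forall (g : SL4 F) (h : ∀ p ∈ suzukiOvoid F m, g • p ∈ suzukiOvoid F m) :
    g ∈ Sz F m := by
  rw [MulAction.mem_stabilizer_set_iff_smul_set_subset (Set.toFinite _)]
  rintro _ ⟨p, hp, rfl⟩
  exact h p hp

theorem Tg_mem (hF : Fintype.card F = 2 ^ (2 * m + 1)) (a b : F) : Tg m a b ∈ Sz F m := by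
  apply mem_Sz_of_forall
  intro p hp
  rw [mem_ovoid_iff] at hp ⊢
  rcases hp with rfl | ⟨x, y, rfl⟩
  · left; exact Tg_pinf a b
  · right; exact ⟨_, _, Tg_pt hF a b x y⟩

theorem Hg_mem (hF : Fintype.card F = 2 ^ (2 * m + 1)) (k : Fˣ) : Hg m k ∈ Sz F m := by
  apply mem_Sz_of_forall
  intro p hp
  rw [mem_ovoid_iff] at hp ⊢
  rcases hp with rfl | ⟨x, y, rfl⟩
  · left; exact Hg_pinf k
  · right; exact ⟨_, _, Hg_pt hF k x y⟩

theorem Wg_mem (hF : Fintype.card F = 2 ^ (2 * m + 1)) : Wg F ∈ Sz F m := by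
  apply mem_Sz_of_forall
  intro p hp
  rw [mem_ovoid_iff] at hp ⊢
  rcases hp with rfl | ⟨x, y, rfl⟩
  · right; exact ⟨0, 0, Wg_pinf⟩
  · by_cases hz : ff m x y = 0
    · obtain ⟨rfl, rfl⟩ := (ff_eq_zero_iff hF x y).mp hz
      left; exact Wg_pt_zero
    · right; exact ⟨_, _, Wg_pt hF x y hz⟩

/-- the group law of translations -/
theorem Tg_mul (hF : Fintype.card F = 2 ^ (2 * m + 1)) (a b c d : F) :
    Tg m a b * Tg m c d = Tg m (a + c) (b + d + sg m a * c) := by
  apply Subtype.ext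
  show Tmat m a b * Tmat m c d = Tmat m (a + c) (b + d + sg m a * c)
  ext i j
  rw [Matrix.mul_apply, Fin.sum_univ_four]
  fin_cases i <;> fin_cases j <;> simp [Tmat, sg_add]
  all_goals first
    | ring1
    | (rw [← CharTwo.add_eq_zero]
       ring_nf
       simp only [c2, c4, c6, c8, mul_zero, add_zero])
    | (unfold ff
       simp only [sg_add, sg_mul, sg_sg hF]
       rw [← CharTwo.add_eq_zero]
       ring_nf
       simp only [c2, c4, c6, c8, mul_zero, add_zero])

end pts

end Cfsg.Agent.Lib.Helper14.Sz
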