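import Mathlib
import Cfsg.Agent.Lib.Helper14.SzC

/-!
# Suzuki groups as ovoid stabilizers, part D: the two-point stabilizer (helper14)
-/

set_option autoImplicit false
set_option maxHeartbeats 2000000
set_option linter.unusedSimpArgs false
set_option linter.unusedSectionVars false

namespace Cfsg.Agent.Lib.Helper14.Sz

open Cfsg Polynomial
open scoped Pointwise

local notation "SL4" => Matrix.SpecialLinearGroup (Fin 4)

section poly

variable {F : Type*} [Field F] [Fintype F] [CharP F 2] {m : ℕ}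

theorem card_gt (hm : 1 ≤ m) (hF : Fintype.card F = 2 ^ (2 * m + 1)) :
    2 ^ (m + 1) + 2 < Fintype.card F := by
  rw [hF]
  have h1 : 2 ^ (2 * m + 1) = 2 ^ (m + 1) * 2 ^ m := by rw [← pow_add]; congr 1; ring
  have h2 : 2 ≤ 2 ^ m := by
    calc 2 = 2 ^ 1 := by norm_num
      _ ≤ 2 ^ m := Nat.pow_le_pow_right (by norm_num) hm
  have h3 : 4 ≤ 2 ^ (m + 1) := by
    calc 4 = 2 ^ 2 := by norm_num
      _ ≤ 2 ^ (m + 1) := Nat.pow_le_pow_right (by norm_num) (by omega)
  rw [h1]
  nlinarith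

/-- a four-term polynomial function vanishing on `F` vanishes identically -/
theorem poly4 (hm : 1 ≤ m) (hF : Fintype.card F = 2 ^ (2 * m + 1)) (c1 c2 cs ct : F)
    (h : ∀ x : F, ct * (sg m x * x ^ 2) + cs * sg m x + c2 * x ^ 2 + c1 * x = 0) :
    c1 = 0 ∧ c2 = 0 ∧ cs = 0 ∧ ct = 0 := by
  classical
  have hs4 : 4 ≤ 2 ^ (m + 1) := by
    calc 4 = 2 ^ 2 := by norm_num
      _ ≤ 2 ^ (m + 1) := Nat.pow_le_pow_right (by norm_num) (by omega)
  set s := 2 ^ (m + 1) with hs
  set p : F[X] := C ct * X ^ (s + 2) + C cs * X ^ s + C c2 * X ^ 2 + C c1 * X ^ 1 with hp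
  have hdeg : p.natDegree < Fintype.card F := by
    have h1 : p.natDegree ≤ s + 2 := by
      rw [hp]
      compute_degree
    exact lt_of_le_of_lt h1 (card_gt hm hF)
  have heval : ∀ x : F, p.eval x = 0 := by
    intro x
    have := h x
    unfold sg at this
    rw [← hs] at this
    rw [hp]
    simp only [eval_add, eval_mul, eval_C, eval_pow, eval_X]
    rw [pow_add, pow_one]
    exact this
  have hp0 : p = 0 :=
    Polynomial.eq_zero_of_natDegree_lt_card_of_eval_eq_zero p Function.injective_id heval hdeg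
  have k1 := congrArg (fun q : F[X] => q.coeff 1) hp0
  have k2 := congrArg (fun q : F[X] => q.coeff 2) hp0
  have ks := congrArg (fun q : F[X] => q.coeff s) hp0
  have kt := congrArg (fun q : F[X] => q.coeff (s + 2)) hp0
  simp only [hp, coeff_add, coeff_C_mul_X_pow, coeff_zero] at k1 k2 ks kt
  have e1 : ¬ (1 = s + 2) := by omega
  have e2 : ¬ (1 = s) := by omega
  have e3 : ¬ (2 = s + 2) := by omega
  have e4 : ¬ (2 = s) := by omega
  have e5 : ¬ (s = s + 2) := by omega
  have e6 : ¬ (s = 2) := by omega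
  have e7 : ¬ (s = 1) := by omega
  have e8 : ¬ (s + 2 = s) := by omega
  have e9 : ¬ (s + 2 = 2) := by omega
  have e10 : ¬ (s + 2 = 1) := by omega
  have e11 : ¬ (s = 0) := by omega
  simp [e1, e11, e2, e3, e4, e5, e6, e7, e8, e9, e10] at k1 k2 ks kt
  exact ⟨k1, k2, ks, kt⟩

end poly

section stab2

variable {F : Type*} [Field F] [Fintype F] [CharP F 2] {m : ℕ}

theorem smul_mem_ovoid {g : SL4 F} (hg : g ∈ Sz F m) {p : Projectivization F (Fin 4 → F)}
    (hp : p ∈ suzukiOvoid F m) : g • p ∈ suzukiOvoid F m := by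
  have h : g • suzukiOvoid F m = suzukiOvoid F m := hg
  rw [← h]
  exact Set.smul_mem_smul_set hp

/-- entries from fixing the point at infinity -/
theorem entries_of_fix_pinf (g : SL4 F)
    (h : g • suzukiPointInfinity F = suzukiPointInfinity F) :
    g 1 0 = 0 ∧ g 2 0 = 0 ∧ g 3 0 = 0 := by
  rw [pinf_eq, Projectivization.smul_mk, Projectivization.mk_eq_mk_iff'] at h
  obtain ⟨a, ha⟩ := h
  have h1 := congrFun ha 1
  have h2 := congrFun ha 2
  have h3 := congrFun ha 3
  rw [smul4] at h1 h2 h3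
  simp [vinf] at h1 h2 h3
  exact ⟨h1.symm, h2.symm, h3.symm⟩

/-- entries from fixing the point zero -/
theorem entries_of_fix_pzero (g : SL4 F) (h : g • pt m (0 : F) 0 = pt m (0 : F) 0) :
    g 0 3 = 0 ∧ g 1 3 = 0 ∧ g 2 3 = 0 := by
  unfold pt at h
  rw [Projectivization.smul_mk, Projectivization.mk_eq_mk_iff'] at h
  obtain ⟨a, ha⟩ := h
  have h0 := congrFun ha 0
  have h1 := congrFun ha 1
  have h2 := congrFun ha 2
  rw [smul4] at h0 h1 h2
  simp [vec, ff, sg_zero] at h0 h1 h2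
  exact ⟨h0.symm, h1.symm, h2.symm⟩

theorem image_eqs {g : SL4 F} (hg : g ∈ Sz F m)
    (hinf : g • suzukiPointInfinity F = suzukiPointInfinity F) (x y : F) :
    ∃ c x' y' : F, c ≠ 0 ∧ g • vec m x y = c • vec m x' y' := by
  have h1 : g • pt m x y ∈ suzukiOvoid F m :=
    smul_mem_ovoid hg ((mem_ovoid_iff m _).mpr (Or.inr ⟨x, y, rfl⟩))
  rw [mem_ovoid_iff] at h1
  rcases h1 with h1 | ⟨x', y', h1⟩
  · exfalso
    rw [← hinf] at h1
    exact pt_ne_pinf m x y (MulAction.injective g h1)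
  · unfold pt at h1
    rw [Projectivization.smul_mk, Projectivization.mk_eq_mk_iff'] at h1
    obtain ⟨c, hc⟩ := h1
    refine ⟨c, x', y', ?_, hc.symm⟩
    rintro rfl
    rw [zero_smul] at hc
    exact vec_ne_zero m x y ((smul_eq_zero_iff_eq g).mp hc.symm)

/-- the two-point stabilizer consists of the diagonal elements -/
theorem eq_Hg_of_fix (hm : 1 ≤ m) (hF : Fintype.card F = 2 ^ (2 * m + 1)) {g : SL4 F}
    (hg : g ∈ Sz F m) (hinf : g • suzukiPointInfinity F = suzukiPointInfinity F)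
    (hzero : g • pt m (0 : F) 0 = pt m (0 : F) 0) : ∃ k : Fˣ, g = Hg m k := by
  obtain ⟨g10, g20, g30⟩ := entries_of_fix_pinf g hinf
  obtain ⟨g03, g13, g23⟩ := entries_of_fix_pzero g hzero
  -- the equations
  have heq : ∀ x y : F, ∃ c x' y' : F, c ≠ 0 ∧
      c = g 3 1 * y + g 3 2 * x + g 3 3 ∧
      c * x' = g 2 1 * y + g 2 2 * x ∧
      c * y' = g 1 1 * y + g 1 2 * x ∧
      c * ff m x' y' = g 0 0 * ff m x y + g 0 1 * y + g 0 2 * x := by
    intro x y
    obtain ⟨c, x', y', hc, h⟩ := image_eqs hg hinf x y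
    refine ⟨c, x', y', hc, ?_, ?_, ?_, ?_⟩
    · have := congrFun h 3
      rw [smul4] at this
      simp [vec, g30] at this
      rw [← this]
    · have := congrFun h 2
      rw [smul4] at this
      simp [vec, g20, g23] at this
      rw [← this]
    · have := congrFun h 1
      rw [smul4] at this
      simp [vec, g10, g13] at this
      rw [← this]
    · have := congrFun h 0
      rw [smul4] at this
      simp [vec, g03] at this
      rw [← this]
  -- `g 3 3 ≠ 0`
  have hμ : g 3 3 ≠ 0 := by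
    obtain ⟨c, x', y', hc, h3, -⟩ := heq 0 0
    simp at h3
    rw [← h3]; exact hc
  set μ := g 3 3 with hμdef
  have g32 : g 3 2 = 0 := by
    by_contra hne
    obtain ⟨c, x', y', hc, h3, -⟩ := heq (μ / g 3 2) 0
    apply hc
    rw [h3]
    field_simp
    rw [mul_zero, zero_add]
    exact CharTwo.add_self_eq_zero μ
  have g31 : g 3 1 = 0 := by
    by_contra hne
    obtain ⟨c, x', y', hc, h3, -⟩ := heq 0 (μ / g 3 1)
    apply hc
    rw [h3]
    field_simp
    rw [mul_zero, add_zero]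
    exact CharTwo.add_self_eq_zero μ
  have hsμ : sg m μ ≠ 0 := fun h => hμ ((sg_eq_zero_iff m μ).mp h)
  -- the key identity for the image point
  have hkey : ∀ x y : F,
      sg m μ * μ * (g 0 0 * ff m x y + g 0 1 * y + g 0 2 * x) =
        sg m μ * (g 2 1 * y + g 2 2 * x) * (g 1 1 * y + g 1 2 * x) +
          sg m (g 2 1 * y + g 2 2 * x) * (g 2 1 * y + g 2 2 * x) ^ 2 +
          μ ^ 2 * sg m (g 1 1 * y + g 1 2 * x) := by
    intro x y
    obtain ⟨c, x', y', hc, h3, h2, h1, h0⟩ := heq x y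
    rw [g31, g32, zero_mul, zero_mul, zero_add, zero_add] at h3
    subst h3
    rw [← h0, ← h2, ← h1]
    unfold ff
    rw [sg_mul, sg_mul]
    ring
  -- `y = 0`
  have hx := poly4 hm hF (sg m μ * μ * g 0 2) (sg m μ * g 2 2 * g 1 2) (μ ^ 2 * sg m (g 1 2))
    (sg m μ * μ * g 0 0 + sg m (g 2 2) * g 2 2 ^ 2) (by
      intro x
      have := hkey x 0
      unfold ff at this
      simp only [mul_zero, zero_add, add_zero, sg_zero, sg_mul] at this
      rw [← CharTwo.add_eq_zero] at this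
      rw [← this]
      rw [← CharTwo.add_eq_zero]
      ring_nf
      simp only [c2, c4, c6, c8, mul_zero, add_zero])
  obtain ⟨hx1, -, hxs, hxt⟩ := hx
  have g02 : g 0 2 = 0 := by
    rcases mul_eq_zero.mp hx1 with h | h
    · exact absurd h (mul_ne_zero hsμ hμ)
    · exact h
  have g12 : g 1 2 = 0 := by
    rcases mul_eq_zero.mp hxs with h | h
    · exact absurd h (pow_ne_zero 2 hμ)
    · exact (sg_eq_zero_iff m _).mp h
  -- `x = 0`
  have hy := poly4 hm hF (sg m μ * μ * g 0 1) (sg m μ * g 2 1 * g 1 1)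
    (sg m μ * μ * g 0 0 + μ ^ 2 * sg m (g 1 1)) (sg m (g 2 1) * g 2 1 ^ 2) (by
      intro y
      have := hkey 0 y
      unfold ff at this
      simp only [mul_zero, zero_mul, zero_add, add_zero, sg_zero, sg_mul, ne_eq, OfNat.ofNat_ne_zero,
        not_false_eq_true, zero_pow] at this
      rw [← CharTwo.add_eq_zero] at this
      rw [← this]
      rw [← CharTwo.add_eq_zero]
      ring_nf
      simp only [c2, c4, c6, c8, mul_zero, add_zero])
  obtain ⟨hy1, -, hys, hyt⟩ := hy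
  have g01 : g 0 1 = 0 := by
    rcases mul_eq_zero.mp hy1 with h | h
    · exact absurd h (mul_ne_zero hsμ hμ)
    · exact h
  have g21 : g 2 1 = 0 := by
    rcases mul_eq_zero.mp hyt with h | h
    · exact (sg_eq_zero_iff m _).mp h
    · exact pow_eq_zero_iff (two_ne_zero) |>.mp h
  -- relations
  have relA : sg m μ * μ * g 0 0 = sg m (g 2 2) * g 2 2 ^ 2 := CharTwo.add_eq_zero.mp hxt
  have relB : sg m μ * μ * g 0 0 = μ ^ 2 * sg m (g 1 1) := CharTwo.add_eq_zero.mp hys
  -- determinant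
  have hdet : g 0 0 * g 1 1 * g 2 2 * μ = 1 := by
    have h1 := g.det_coe
    rw [Matrix.det_of_isUpperTriangular] at h1
    · rw [Fin.prod_univ_four] at h1
      exact h1
    · intro i j hij
      fin_cases i <;> fin_cases j <;> simp at hij ⊢ <;> assumption
  have h22 : g 2 2 ≠ 0 := by
    intro h
    rw [h] at hdet
    simp at hdet
  set k : F := g 2 2 / μ with hk
  have hk0 : k ≠ 0 := div_ne_zero h22 hμ
  set ρ := rho m k with hρ
  have hρ0 : ρ ≠ 0 := rho_ne_zero m hk0
  have hsk : sg m k = ρ ^ 2 := sg_eq_rho m k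
  have hsρ : sg m ρ ^ 2 = k ^ 2 := by
    rw [← sg_pow, ← hsk, sg_sg hF]
  -- `g 0 0 = ρ² k² μ`
  have e00 : g 0 0 = ρ ^ 2 * k ^ 2 * μ := by
    have h1 : sg m (g 2 2) = sg m k * sg m μ := by rw [hk, sg_div]; field_simp
    rw [h1, hsk] at relA
    have h2 : g 2 2 = k * μ := by rw [hk]; field_simp
    rw [h2] at relA
    have h3 : sg m μ * μ * g 0 0 = sg m μ * μ * (ρ ^ 2 * k ^ 2 * μ) := by rw [relA]; ring
    exact mul_left_cancel₀ (mul_ne_zero hsμ hμ) h3
  -- `g 1 1 = k ρ² μ`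
  have e11 : g 1 1 = k * ρ ^ 2 * μ := by
    have h1 : sg m (g 1 1) = sg m μ * (ρ ^ 2 * k ^ 2) := by
      have : μ ^ 2 * sg m (g 1 1) = μ ^ 2 * (sg m μ * (ρ ^ 2 * k ^ 2)) := by
        rw [← relB, e00]; ring
      exact mul_left_cancel₀ (pow_ne_zero 2 hμ) this
    have h2 : sg m (g 1 1) = sg m (k * ρ ^ 2 * μ) := by
      rw [h1, sg_mul, sg_mul, sg_pow, hsρ, hsk]; ring
    exact sg_injective m h2
  have e22 : g 2 2 = k * μ := by rw [hk]; field_simp
  -- `(μ k ρ)⁴ = 1`
  have h4 : (μ * k * ρ) ^ 4 = 1 := by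
    rw [← hdet, e00, e11, e22]; ring
  have h1' : μ * k * ρ = 1 := by
    have h5 : ((μ * k * ρ) ^ 2) ^ 2 = 1 ^ 2 := by rw [← pow_mul]; simpa using h4
    have h6 : (μ * k * ρ) ^ 2 = 1 := sq_injective h5
    have h7 : (μ * k * ρ) ^ 2 = 1 ^ 2 := by rw [h6]; simp
    exact sq_injective h7
  have eμ : μ = (k * ρ)⁻¹ := by
    apply eq_inv_of_mul_eq_one_left
    rw [← h1']; ring
  refine ⟨Units.mk0 k hk0, ?_⟩
  apply Subtype.ext
  ext i j
  show g i j = Hmat m k i j
  fin_cases i <;> fin_cases j <;> simp [Hmat, g10, g20, g30, g03, g13, g23, g31, g32, g02, g12, g01, g21]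
  · rw [e00, ← hρ, eμ]; field_simp
  · rw [e11, ← hρ, eμ]; field_simp
  · rw [e22, ← hρ, eμ]; field_simp
  · rw [← hμdef, eμ, ← hρ]; field_simp

end stab2

end Cfsg.Agent.Lib.Helper14.Sz
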