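import Mathlib
import Cfsg.Agent.Lib.Helper14.SzD

/-!
# Suzuki groups as ovoid stabilizers, part E: Bruhat decomposition and orders (helper14)
-/

set_option autoImplicit false
set_option maxHeartbeats 2000000
set_option linter.unusedSimpArgs false
set_option linter.unusedSectionVars false

namespace Cfsg.Agent.Lib.Helper14.Sz

open Cfsg
open scoped Pointwise

local notation "SL4" => Matrix.SpecialLinearGroup (Fin 4)

section decomp

variable {F : Type*} [Field F] [Fintype F] [CharP F 2] {m : ℕ}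

theorem Hg_mul (k l : Fˣ) : Hg m (k * l) = Hg m k * Hg m l := by
  apply Subtype.ext
  show Hmat m ((k * l : Fˣ) : F) = Hmat m (k : F) * Hmat m (l : F)
  ext i j
  rw [Matrix.mul_apply, Fin.sum_univ_four]
  fin_cases i <;> fin_cases j <;> simp [Hmat, rho_mul, mul_inv] <;> ring

theorem Hg_one : Hg m (1 : Fˣ) = 1 := by
  apply Subtype.ext
  show Hmat m ((1 : Fˣ) : F) = 1
  ext i j
  fin_cases i <;> fin_cases j <;> simp [Hmat, rho_one]

theorem Hg_injective : Function.Injective (Hg m : Fˣ → SL4 F) := by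
  intro k l h
  have h1 : Hmat m (k : F) = Hmat m (l : F) := congrArg Subtype.val h
  have h00 := congrFun (congrFun h1 0) 0
  have h11 := congrFun (congrFun h1 1) 1
  simp [Hmat] at h00 h11
  rw [h11] at h00
  apply Units.ext
  exact mul_right_cancel₀ (rho_ne_zero m l.ne_zero) h00

theorem Tg_pt_zero (hF : Fintype.card F = 2 ^ (2 * m + 1)) (a b : F) :
    Tg m a b • pt m (0 : F) 0 = pt m a b := by
  rw [Tg_pt hF]
  simp

theorem Hg_pt_zero (hF : Fintype.card F = 2 ^ (2 * m + 1)) (k : Fˣ) :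
    Hg m k • pt m (0 : F) 0 = pt m (0 : F) 0 := by
  rw [Hg_pt hF]
  simp

/-- the point stabilizer is `T H` -/
theorem exists_of_fix_pinf (hm : 1 ≤ m) (hF : Fintype.card F = 2 ^ (2 * m + 1)) {g : SL4 F}
    (hg : g ∈ Sz F m) (hinf : g • suzukiPointInfinity F = suzukiPointInfinity F) :
    ∃ (a b : F) (k : Fˣ), g = Tg m a b * Hg m k := by
  have h1 : g • pt m (0 : F) 0 ∈ suzukiOvoid F m :=
    smul_mem_ovoid hg ((mem_ovoid_iff m _).mpr (Or.inr ⟨0, 0, rfl⟩))
  rw [mem_ovoid_iff] at h1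
  rcases h1 with h1 | ⟨a, b, h1⟩
  · exfalso
    rw [← hinf] at h1
    exact pt_ne_pinf m 0 0 (MulAction.injective g h1)
  · set g' := (Tg m a b)⁻¹ * g with hg'
    have hg'S : g' ∈ Sz F m := (Sz F m).mul_mem ((Sz F m).inv_mem (Tg_mem hF a b)) hg
    have hinf' : g' • suzukiPointInfinity F = suzukiPointInfinity F := by
      rw [hg', mul_smul, hinf, inv_smul_eq_iff, Tg_pinf]
    have hzero' : g' • pt m (0 : F) 0 = pt m (0 : F) 0 := by
      rw [hg', mul_smul, h1, inv_smul_eq_iff, Tg_pt_zero hF]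
    obtain ⟨k, hk⟩ := eq_Hg_of_fix hm hF hg'S hinf' hzero'
    refine ⟨a, b, k, ?_⟩
    rw [← hk, hg']
    group

/-- Bruhat decomposition -/
theorem exists_of_mem (hm : 1 ≤ m) (hF : Fintype.card F = 2 ^ (2 * m + 1)) {g : SL4 F}
    (hg : g ∈ Sz F m) :
    (∃ (a b : F) (k : Fˣ), g = Tg m a b * Hg m k) ∨
      ∃ (c d a b : F) (k : Fˣ), g = Tg m c d * Wg F * (Tg m a b * Hg m k) := by
  have h1 : g • suzukiPointInfinity F ∈ suzukiOvoid F m :=
    smul_mem_ovoid hg ((mem_ovoid_iff m _).mpr (Or.inl rfl))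
  rw [mem_ovoid_iff] at h1
  rcases h1 with h1 | ⟨c, d, h1⟩
  · left
    exact exists_of_fix_pinf hm hF hg h1
  · right
    set g' := (Tg m c d * Wg F)⁻¹ * g with hg'
    have hg'S : g' ∈ Sz F m :=
      (Sz F m).mul_mem ((Sz F m).inv_mem ((Sz F m).mul_mem (Tg_mem hF c d) (Wg_mem hF))) hg
    have hinf' : g' • suzukiPointInfinity F = suzukiPointInfinity F := by
      rw [hg', mul_smul, h1, inv_smul_eq_iff, mul_smul, Wg_pinf (m := m), Tg_pt_zero hF]
    obtain ⟨a, b, k, hk⟩ := exists_of_fix_pinf hm hF hg'S hinf'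
    refine ⟨c, d, a, b, k, ?_⟩
    rw [← hk, hg']
    group

/-- the orbit of the point at infinity is the ovoid -/
theorem exists_smul_pinf (hF : Fintype.card F = 2 ^ (2 * m + 1)) {p : Projectivization F (Fin 4 → F)}
    (hp : p ∈ suzukiOvoid F m) : ∃ g ∈ Sz F m, g • suzukiPointInfinity F = p := by
  rw [mem_ovoid_iff] at hp
  rcases hp with rfl | ⟨a, b, rfl⟩
  · exact ⟨1, (Sz F m).one_mem, one_smul _ _⟩
  · refine ⟨Tg m a b * Wg F, (Sz F m).mul_mem (Tg_mem hF a b) (Wg_mem hF), ?_⟩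
    rw [mul_smul, Wg_pinf (m := m), Tg_pt_zero hF]

end decomp

end Cfsg.Agent.Lib.Helper14.Sz
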