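import Mathlib
import Cfsg.Agent.Lib.Helper14.SzE

/-!
# Suzuki groups as ovoid stabilizers, part F: orders (helper14)
-/

set_option autoImplicit false
set_option maxHeartbeats 2000000
set_option linter.unusedSimpArgs false
set_option linter.unusedSectionVars false

namespace Cfsg.Agent.Lib.Helper14.Sz

open Cfsg
open scoped Pointwise

local notation "SL4" => Matrix.SpecialLinearGroup (Fin 4)

section orders

variable {F : Type*} [Field F] [Fintype F] [CharP F 2] {m : ℕ}

theorem sub_smul_def (g : Sz F m) (p : Projectivization F (Fin 4 → F)) :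
    g • p = (g : SL4 F) • p := rfl

/-- the parametrization of the point stabilizer -/
noncomputable def stabMap (hF : Fintype.card F = 2 ^ (2 * m + 1)) (x : F × F × Fˣ) :
    MulAction.stabilizer (Sz F m) (suzukiPointInfinity F) :=
  ⟨⟨Tg m x.1 x.2.1 * Hg m x.2.2,
    (Sz F m).mul_mem (Tg_mem hF x.1 x.2.1) (Hg_mem hF x.2.2)⟩, by
    rw [MulAction.mem_stabilizer_iff, sub_smul_def]
    show (Tg m x.1 x.2.1 * Hg m x.2.2) • suzukiPointInfinity F = suzukiPointInfinity F
    rw [mul_smul, Hg_pinf, Tg_pinf]⟩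

theorem stabMap_bijective (hm : 1 ≤ m) (hF : Fintype.card F = 2 ^ (2 * m + 1)) :
    Function.Bijective (stabMap (m := m) hF) := by
  constructor
  · rintro ⟨a, b, k⟩ ⟨a', b', k'⟩ h
    have h1 : Tg m a b * Hg m k = Tg m a' b' * Hg m k' := by
      have := congrArg (fun z : MulAction.stabilizer (Sz F m) (suzukiPointInfinity F) =>
        ((z : Sz F m) : SL4 F)) h
      exact this
    have h2 := congrArg (fun g : SL4 F => g • pt m (0 : F) 0) h1
    simp only [mul_smul, Hg_pt_zero hF, Tg_pt_zero hF] at h2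
    obtain ⟨rfl, rfl⟩ := pt_injective m h2
    have h3 : Hg m k = Hg m k' := mul_left_cancel h1
    rw [Hg_injective h3]
  · rintro ⟨⟨g, hg⟩, hfix⟩
    rw [MulAction.mem_stabilizer_iff, sub_smul_def] at hfix
    obtain ⟨a, b, k, rfl⟩ := exists_of_fix_pinf hm hF hg hfix
    exact ⟨(a, b, k), rfl⟩

theorem card_stab_pinf (hm : 1 ≤ m) (hF : Fintype.card F = 2 ^ (2 * m + 1)) :
    Nat.card (MulAction.stabilizer (Sz F m) (suzukiPointInfinity F)) =
      (2 ^ (2 * m + 1)) ^ 2 * (2 ^ (2 * m + 1) - 1) := by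
  rw [← Nat.card_eq_of_bijective _ (stabMap_bijective hm hF), Nat.card_prod, Nat.card_prod,
    Nat.card_units, Nat.card_eq_fintype_card, hF]
  ring

/-- the parametrization of the ovoid -/
def ovoidMap (m : ℕ) (x : Option (F × F)) : suzukiOvoid F m :=
  match x with
  | none => ⟨suzukiPointInfinity F, (mem_ovoid_iff m _).mpr (Or.inl rfl)⟩
  | some (x, y) => ⟨pt m x y, (mem_ovoid_iff m _).mpr (Or.inr ⟨x, y, rfl⟩)⟩

theorem ovoidMap_bijective : Function.Bijective (ovoidMap (F := F) m) := by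
  constructor
  · rintro (_ | ⟨x, y⟩) (_ | ⟨x', y'⟩) h
    · rfl
    · exfalso
      have := congrArg Subtype.val h
      exact pt_ne_pinf m x' y' this.symm
    · exfalso
      have := congrArg Subtype.val h
      exact pt_ne_pinf m x y this
    · have := congrArg Subtype.val h
      obtain ⟨rfl, rfl⟩ := pt_injective m this
      rfl
  · rintro ⟨p, hp⟩
    rw [mem_ovoid_iff] at hp
    rcases hp with rfl | ⟨x, y, rfl⟩
    · exact ⟨none, rfl⟩
    · exact ⟨some (x, y), rfl⟩

theorem card_ovoid (hF : Fintype.card F = 2 ^ (2 * m + 1)) :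
    Nat.card (suzukiOvoid F m) = (2 ^ (2 * m + 1)) ^ 2 + 1 := by
  rw [← Nat.card_eq_of_bijective _ (ovoidMap_bijective (F := F) (m := m)),
    Nat.card_eq_fintype_card, Fintype.card_option, Fintype.card_prod, hF]
  ring

theorem orbit_pinf (hF : Fintype.card F = 2 ^ (2 * m + 1)) :
    MulAction.orbit (Sz F m) (suzukiPointInfinity F) = suzukiOvoid F m := by
  ext p
  constructor
  · rintro ⟨g, rfl⟩
    exact smul_mem_ovoid g.2 ((mem_ovoid_iff m _).mpr (Or.inl rfl))
  · intro hp
    obtain ⟨g, hg, rfl⟩ := exists_smul_pinf hF hp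
    exact ⟨⟨g, hg⟩, rfl⟩

theorem card_Sz (hm : 1 ≤ m) (hF : Fintype.card F = 2 ^ (2 * m + 1)) :
    Nat.card (Sz F m) =
      (2 ^ (2 * m + 1)) ^ 2 * ((2 ^ (2 * m + 1)) ^ 2 + 1) * (2 ^ (2 * m + 1) - 1) := by
  have h1 := Nat.card_congr
    (MulAction.orbitProdStabilizerEquivGroup (Sz F m) (suzukiPointInfinity F))
  rw [Nat.card_prod, card_stab_pinf hm hF] at h1
  have h2 : Nat.card (MulAction.orbit (Sz F m) (suzukiPointInfinity F)) =
      (2 ^ (2 * m + 1)) ^ 2 + 1 := by
    rw [← card_ovoid hF (m := m), orbit_pinf hF]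
  rw [h2] at h1
  rw [← h1]
  ring

end orders

end Cfsg.Agent.Lib.Helper14.Sz
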