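import Mathlib
import Cfsg.Agent.Lib.Helper14.SzF

/-!
# Suzuki groups as ovoid stabilizers, part G: the torus and the symplectic form (helper14)
-/

set_option autoImplicit false
set_option maxHeartbeats 2000000
set_option linter.unusedSimpArgs false
set_option linter.unusedSectionVars false

namespace Cfsg.Agent.Lib.Helper14.Sz

open Cfsg
open scoped Pointwise

local notation "SL4" => Matrix.SpecialLinearGroup (Fin 4)

section torus

variable {F : Type*} [Field F] [Fintype F] [CharP F 2] {m : ℕ}

/-- the torus as a homomorphism into `Sz` -/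
noncomputable def HgHom (hF : Fintype.card F = 2 ^ (2 * m + 1)) : Fˣ →* Sz F m where
  toFun k := ⟨Hg m k, Hg_mem hF k⟩
  map_one' := Subtype.ext Hg_one
  map_mul' k l := Subtype.ext (Hg_mul k l)

theorem HgHom_injective (hF : Fintype.card F = 2 ^ (2 * m + 1)) :
    Function.Injective (HgHom (m := m) hF) := by
  intro k l h
  exact Hg_injective (congrArg Subtype.val h)

theorem HgHom_range (hm : 1 ≤ m) (hF : Fintype.card F = 2 ^ (2 * m + 1)) :
    (HgHom (m := m) hF).range =
      MulAction.stabilizer (Sz F m) (suzukiPointInfinity F) ⊓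
        MulAction.stabilizer (Sz F m) (suzukiPointZero F) := by
  ext x
  rw [MonoidHom.mem_range, Subgroup.mem_inf, MulAction.mem_stabilizer_iff,
    MulAction.mem_stabilizer_iff, sub_smul_def, sub_smul_def, ← pt_zero_eq (m := m)]
  constructor
  · rintro ⟨k, rfl⟩
    exact ⟨Hg_pinf k, Hg_pt_zero hF k⟩
  · rintro ⟨h1, h2⟩
    obtain ⟨k, hk⟩ := eq_Hg_of_fix hm hF x.2 h1 h2
    exact ⟨k, Subtype.ext hk.symm⟩

theorem torus_equiv (hm : 1 ≤ m) (hF : Fintype.card F = 2 ^ (2 * m + 1)) :
    Nonempty (↥(MulAction.stabilizer (Sz F m) (suzukiPointInfinity F) ⊓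
        MulAction.stabilizer (Sz F m) (suzukiPointZero F)) ≃* Fˣ) :=
  ⟨((MonoidHom.ofInjective (HgHom_injective hF)).trans
    (MulEquiv.subgroupCongr (HgHom_range hm hF))).symm⟩

end torus

section form

variable {F : Type*} [Field F] [Fintype F] [CharP F 2] {m : ℕ}

/-- preservation of the symplectic form -/
def FormPres (M : Matrix (Fin 4) (Fin 4) F) : Prop :=
  M.transpose * suzukiForm F * M = suzukiForm F

theorem FormPres.mul {M N : Matrix (Fin 4) (Fin 4) F} (hM : FormPres M) (hN : FormPres N) :
    FormPres (M * N) := by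
  unfold FormPres at *
  rw [Matrix.transpose_mul]
  calc N.transpose * M.transpose * suzukiForm F * (M * N)
      = N.transpose * (M.transpose * suzukiForm F * M) * N := by
        simp only [Matrix.mul_assoc]
    _ = suzukiForm F := by rw [hM, hN]

theorem formPres_Tmat (a b : F) : FormPres (Tmat m a b) := by
  unfold FormPres
  ext i j
  rw [Matrix.mul_apply, Fin.sum_univ_four]
  simp only [Matrix.mul_apply, Fin.sum_univ_four, Matrix.transpose_apply]
  fin_cases i <;> fin_cases j <;> simp [Tmat, suzukiForm]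
  all_goals first
    | ring1
    | (rw [← CharTwo.add_eq_zero]
       ring_nf
       simp only [c2, c4, c6, c8, mul_zero, add_zero])

theorem formPres_Hmat {k : F} (hk : k ≠ 0) : FormPres (Hmat m k) := by
  have hr := rho_ne_zero m hk
  unfold FormPres
  ext i j
  rw [Matrix.mul_apply, Fin.sum_univ_four]
  simp only [Matrix.mul_apply, Fin.sum_univ_four, Matrix.transpose_apply]
  fin_cases i <;> fin_cases j <;> simp [Hmat, suzukiForm]
  all_goals field_simp

theorem formPres_Wmat : FormPres (Wmat F) := by
  unfold FormPres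
  ext i j
  rw [Matrix.mul_apply, Fin.sum_univ_four]
  simp only [Matrix.mul_apply, Fin.sum_univ_four, Matrix.transpose_apply]
  fin_cases i <;> fin_cases j <;> simp [Wmat, suzukiForm]

theorem formPres_of_mem (hm : 1 ≤ m) (hF : Fintype.card F = 2 ^ (2 * m + 1)) {g : SL4 F}
    (hg : g ∈ Sz F m) : FormPres (g : Matrix (Fin 4) (Fin 4) F) := by
  rcases exists_of_mem hm hF hg with ⟨a, b, k, rfl⟩ | ⟨c, d, a, b, k, rfl⟩
  · show FormPres (Tmat m a b * Hmat m (k : F))
    exact (formPres_Tmat a b).mul (formPres_Hmat k.ne_zero)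
  · show FormPres (Tmat m c d * Wmat F * (Tmat m a b * Hmat m (k : F)))
    exact ((formPres_Tmat c d).mul formPres_Wmat).mul
      ((formPres_Tmat a b).mul (formPres_Hmat k.ne_zero))

end form

end Cfsg.Agent.Lib.Helper14.Sz
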