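import Mathlib
import Cfsg.Agent.Lib.Helper14.SzG

/-!
# Suzuki 2-groups `A(q, σ)`: order, exponent, centre, derived subgroup (helper14)
-/

set_option autoImplicit false
set_option maxHeartbeats 2000000
set_option linter.unusedSimpArgs false
set_option linter.unusedSectionVars false

namespace Cfsg.Agent.Lib.Helper14.Sz

open Cfsg
open scoped commutatorElement

section sigma

variable {F : Type*} [Field F] [Fintype F] [CharP F 2] {m : ℕ}

/-- `σ` is not the identity -/
theorem exists_sg_ne (hm : 1 ≤ m) (hF : Fintype.card F = 2 ^ (2 * m + 1)) : ∃ c : F, sg m c ≠ c := by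
  by_contra h
  push Not at h
  have h1 : ∀ c : F, c ^ 2 = c := by
    intro c
    rw [← sg_sg hF, h, h]
  -- then `F` has at most two elements
  have h2 : ∀ c : F, c = 0 ∨ c = 1 := by
    intro c
    have : c * (c - 1) = 0 := by
      have := h1 c
      linear_combination this
    rcases mul_eq_zero.mp this with h3 | h3
    · exact Or.inl h3
    · exact Or.inr (by linear_combination h3)
  have h3 : Fintype.card F ≤ 2 := by
    classical
    have : (Finset.univ : Finset F) ⊆ {0, 1} := by
      intro c _
      rcases h2 c with rfl | rfl <;> simp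
    calc Fintype.card F = (Finset.univ : Finset F).card := rfl
      _ ≤ ({0, 1} : Finset F).card := Finset.card_le_card this
      _ ≤ 2 := Finset.card_le_two
  rw [hF] at h3
  have : 2 ^ 2 ≤ 2 ^ (2 * m + 1) := Nat.pow_le_pow_right (by norm_num) (by omega)
  omega

/-- `k ↦ k ^ (σ + 1)` is surjective -/
theorem sg_mul_self_surjective (hF : Fintype.card F = 2 ^ (2 * m + 1)) :
    Function.Surjective (fun k : F => sg m k * k) := by
  apply Finite.injective_iff_surjective.mp
  intro k l h
  simp only at h
  by_cases hl : l = 0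
  · subst hl
    rw [sg_zero, zero_mul] at h
    rcases mul_eq_zero.mp h with h1 | h1
    · exact (sg_eq_zero_iff m k).mp h1
    · exact h1
  · have hk : k ≠ 0 := by
      rintro rfl
      rw [sg_zero, zero_mul] at h
      rcases mul_eq_zero.mp h.symm with h1 | h1
      · exact hl ((sg_eq_zero_iff m l).mp h1)
      · exact hl h1
    set t := k / l with ht
    have ht0 : t ≠ 0 := div_ne_zero hk hl
    have hsl : sg m l ≠ 0 := fun h0 => hl ((sg_eq_zero_iff m l).mp h0)
    have h1 : sg m t * t = 1 := by
      rw [ht, sg_div]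
      field_simp
      exact h
    have h2 : sg m t = t⁻¹ := eq_inv_of_mul_eq_one_left h1
    have h3 : t ^ 2 = t := by
      have := congrArg (sg m) h2
      rw [sg_sg hF, sg_inv, h2, inv_inv] at this
      exact this
    have h4 : t = 1 := by
      have : t * (t - 1) = 0 := by linear_combination h3
      rcases mul_eq_zero.mp this with h5 | h5
      · exact absurd h5 ht0
      · linear_combination h5
    rw [ht] at h4
    field_simp at h4
    exact h4

end sigma

section abstract

variable {F : Type*} [Field F] [Fintype F] [CharP F 2] {m : ℕ}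
variable {G : Type*} [Group G]

/-- structure of a group parametrized as a Suzuki 2-group -/
theorem suzuki_two_group (hm : 1 ≤ m) (hF : Fintype.card F = 2 ^ (2 * m + 1)) (τ : F × F → G)
    (hτ : Function.Bijective τ)
    (hmul : ∀ a b c d : F, τ (a, b) * τ (c, d) = τ (a + c, b + d + sg m a * c)) :
    Nat.card G = (2 ^ (2 * m + 1)) ^ 2 ∧ Monoid.exponent G = 4 ∧
      Subgroup.center G = commutator G ∧ Nat.card (Subgroup.center G) = 2 ^ (2 * m + 1) := by
  have hone : τ (0, 0) = 1 := by
    have := hmul 0 0 0 0
    simp only [add_zero, sg_zero, mul_zero] at this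
    exact mul_left_cancel (a := τ (0, 0)) (by rw [this, mul_one])
  have hsq : ∀ a b : F, τ (a, b) ^ 2 = τ (0, sg m a * a) := by
    intro a b
    rw [pow_two, hmul, CharTwo.add_self_eq_zero, CharTwo.add_self_eq_zero, zero_add]
  have hsq0 : ∀ c : F, τ (0, c) ^ 2 = 1 := by
    intro c
    rw [hsq, sg_zero, zero_mul, hone]
  have hpow4 : ∀ g : G, g ^ 4 = 1 := by
    intro g
    obtain ⟨⟨a, b⟩, rfl⟩ := hτ.2 g
    have : τ (a, b) ^ 4 = (τ (a, b) ^ 2) ^ 2 := by rw [← pow_mul]
    rw [this, hsq, hsq0]
  -- the commutator formula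
  have hcomm : ∀ a b c d : F, ⁅τ (a, b), τ (c, d)⁆ = τ (0, sg m a * c + sg m c * a) := by
    intro a b c d
    have h1 : τ (0, sg m a * c + sg m c * a) * (τ (c, d) * τ (a, b)) = τ (a, b) * τ (c, d) := by
      rw [hmul, hmul, hmul]
      congr 2
      · rw [zero_add, add_comm]
      · rw [sg_zero, zero_mul, add_zero]
        rw [← CharTwo.add_eq_zero]
        ring_nf
        simp only [c2, c4, c6, c8, mul_zero, add_zero]
    rw [commutatorElement_def, ← h1]
    group
  -- the subgroup `Z`
  let Z : Subgroup G :=
    { carrier := {g | ∃ b : F, g = τ (0, b)}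
      one_mem' := ⟨0, hone.symm⟩
      mul_mem' := by
        rintro _ _ ⟨b, rfl⟩ ⟨d, rfl⟩
        refine ⟨b + d, ?_⟩
        rw [hmul, sg_zero, zero_mul, add_zero, add_zero]
      inv_mem' := by
        rintro _ ⟨b, rfl⟩
        refine ⟨b, ?_⟩
        rw [inv_eq_iff_mul_eq_one, ← pow_two, hsq0] }
  have hZmem : ∀ g : G, g ∈ Z ↔ ∃ b : F, g = τ (0, b) := fun g => Iff.rfl
  have hcenter : Subgroup.center G = Z := by
    ext g
    rw [Subgroup.mem_center_iff, hZmem]
    constructor
    · intro h
      obtain ⟨⟨a, b⟩, rfl⟩ := hτ.2 g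
      obtain ⟨c, hc⟩ := exists_sg_ne (m := m) hm hF
      have h1 := h (τ (1, 0))
      rw [hmul, hmul] at h1
      have h2 := (Prod.mk.inj (hτ.1 h1)).2
      simp only [sg_one, one_mul, zero_add, add_zero] at h2
      -- `a = sg a`
      have h3 : sg m a = a := by
        have : (b + sg m a * 1) + (b + a) = 0 := by
          rw [← h2]
          exact CharTwo.add_self_eq_zero _
        have h4 : sg m a + a = 0 := by
          rw [← this]
          rw [← CharTwo.add_eq_zero]
          ring_nf
          simp only [c2, c4, c6, c8, mul_zero, add_zero]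
        exact CharTwo.add_eq_zero.mp h4
      have h5 := h (τ (c, 0))
      rw [hmul, hmul] at h5
      have h6 := (Prod.mk.inj (hτ.1 h5)).2
      simp only [zero_add, add_zero] at h6
      -- `sg c * a = sg a * c`
      have h7 : a * (sg m c + c) = 0 := by
        have : (b + sg m c * a) + (b + sg m a * c) = 0 := by
          rw [h6]
          exact CharTwo.add_self_eq_zero _
        rw [h3] at this
        rw [← this]
        rw [← CharTwo.add_eq_zero]
        ring_nf
        simp only [c2, c4, c6, c8, mul_zero, add_zero]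
      have ha : a = 0 := by
        rcases mul_eq_zero.mp h7 with h8 | h8
        · exact h8
        · exact absurd (CharTwo.add_eq_zero.mp h8) hc
      exact ⟨b, by rw [ha]⟩
    · rintro ⟨b, rfl⟩ h
      obtain ⟨⟨c, d⟩, rfl⟩ := hτ.2 h
      rw [hmul, hmul, sg_zero, zero_mul, mul_zero, add_zero, add_zero, zero_add, add_zero,
        add_comm d b]
  have hcommutator : commutator G = Z := by
    apply le_antisymm
    · rw [_root_.commutator_def, Subgroup.commutator_le]
      intro g _ h _
      obtain ⟨⟨a, b⟩, rfl⟩ := hτ.2 g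
      obtain ⟨⟨c, d⟩, rfl⟩ := hτ.2 h
      rw [hcomm]
      exact ⟨_, rfl⟩
    · rintro _ ⟨e, rfl⟩
      obtain ⟨c₀, hc₀⟩ := exists_sg_ne (m := m) hm hF
      set e₀ := sg m c₀ + c₀ with he₀
      have he₀0 : e₀ ≠ 0 := fun h => hc₀ (CharTwo.add_eq_zero.mp h)
      obtain ⟨k, hk⟩ := sg_mul_self_surjective (m := m) hF (e / e₀)
      simp only at hk
      have h1 : ⁅τ (k * c₀, 0), τ (k, 0)⁆ = τ (0, e) := by
        rw [hcomm]
        congr 2
        rw [sg_mul]
        have : sg m k * sg m c₀ * k + sg m k * (k * c₀) = sg m k * k * e₀ := by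
          rw [he₀]; ring
        rw [this, hk]
        field_simp
      rw [← h1, _root_.commutator_def]
      exact Subgroup.commutator_mem_commutator (Subgroup.mem_top _) (Subgroup.mem_top _)
  refine ⟨?_, ?_, ?_, ?_⟩
  · rw [← Nat.card_eq_of_bijective τ hτ, Nat.card_prod, Nat.card_eq_fintype_card, hF]
    ring
  · have hdvd : Monoid.exponent G ∣ 4 := Monoid.exponent_dvd_of_forall_pow_eq_one hpow4
    have h4 : (4 : ℕ) = 2 ^ 2 := by norm_num
    rw [h4] at hdvd
    obtain ⟨j, hj, hexp⟩ := (Nat.dvd_prime_pow Nat.prime_two).mp hdvd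
    have hne : τ (1, 0) ^ 2 ≠ 1 := by
      rw [hsq, sg_one, one_mul, ← hone]
      intro h
      have := (Prod.mk.inj (hτ.1 h)).2
      exact one_ne_zero this
    have hpe := Monoid.pow_exponent_eq_one (τ (1, 0))
    rw [hexp] at hpe
    interval_cases j
    · exfalso
      apply hne
      simp only [pow_zero, pow_one] at hpe
      rw [hpe, one_pow]
    · exfalso
      apply hne
      simpa using hpe
    · rw [hexp]; norm_num
  · rw [hcenter, hcommutator]
  · rw [hcenter]
    have hbij : Function.Bijective (fun b : F => (⟨τ (0, b), ⟨b, rfl⟩⟩ : Z)) := by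
      constructor
      · intro b d h
        have := congrArg Subtype.val h
        exact (Prod.mk.inj (hτ.1 this)).2
      · rintro ⟨_, ⟨b, rfl⟩⟩
        exact ⟨b, rfl⟩
    rw [← Nat.card_eq_of_bijective _ hbij, Nat.card_eq_fintype_card, hF]

end abstract

end Cfsg.Agent.Lib.Helper14.Sz
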