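import Mathlib
import Cfsg.Agent.Lib.Helper14.SzH

/-!
# Sylow 2-subgroups of the Suzuki groups (helper14)
-/

set_option autoImplicit false
set_option maxHeartbeats 2000000
set_option linter.unusedSimpArgs false
set_option linter.unusedSectionVars false

namespace Cfsg.Agent.Lib.Helper14.Sz

open Cfsg
open scoped Pointwise

local notation "SL4" => Matrix.SpecialLinearGroup (Fin 4)

section syl

variable {F : Type*} [Field F] [Fintype F] [CharP F 2] {m : ℕ}

theorem Tg_zero : Tg m (0 : F) 0 = 1 := by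
  apply Subtype.ext
  show Tmat m (0 : F) 0 = 1
  ext i j
  fin_cases i <;> fin_cases j <;> simp [Tmat, ff, sg_zero]

theorem Tg_inv (hF : Fintype.card F = 2 ^ (2 * m + 1)) (a b : F) :
    (Tg m a b)⁻¹ = Tg m a (b + sg m a * a) := by
  rw [inv_eq_iff_mul_eq_one, Tg_mul hF]
  rw [← Tg_zero (m := m)]
  congr 1
  · exact CharTwo.add_self_eq_zero a
  · rw [← CharTwo.add_eq_zero]
    ring_nf
    simp only [c2, c4, c6, c8, mul_zero, add_zero]

theorem Tg_injective {a b c d : F} (h : Tg m a b = Tg m c d) : a = c ∧ b = d := by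
  have h1 : Tmat m a b = Tmat m c d := congrArg Subtype.val h
  have h23 := congrFun (congrFun h1 2) 3
  have h13 := congrFun (congrFun h1 1) 3
  simp [Tmat] at h23 h13
  exact ⟨h23, h13⟩

/-- the unipotent subgroup -/
def TSub (hF : Fintype.card F = 2 ^ (2 * m + 1)) : Subgroup (Sz F m) where
  carrier := {x | ∃ a b : F, (x : SL4 F) = Tg m a b}
  one_mem' := ⟨0, 0, Tg_zero.symm⟩
  mul_mem' := by
    rintro x y ⟨a, b, hx⟩ ⟨c, d, hy⟩
    refine ⟨a + c, b + d + sg m a * c, ?_⟩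
    rw [Subgroup.coe_mul, hx, hy, Tg_mul hF]
  inv_mem' := by
    rintro x ⟨a, b, hx⟩
    refine ⟨a, b + sg m a * a, ?_⟩
    rw [Subgroup.coe_inv, hx, Tg_inv hF]

/-- the parametrization of the unipotent subgroup -/
def tauT (hF : Fintype.card F = 2 ^ (2 * m + 1)) (x : F × F) : TSub (m := m) hF :=
  ⟨⟨Tg m x.1 x.2, Tg_mem hF x.1 x.2⟩, ⟨x.1, x.2, rfl⟩⟩

theorem tauT_bijective (hF : Fintype.card F = 2 ^ (2 * m + 1)) :
    Function.Bijective (tauT (m := m) hF) := by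
  constructor
  · rintro ⟨a, b⟩ ⟨c, d⟩ h
    have h1 : Tg m a b = Tg m c d := by
      have := congrArg (fun z : TSub (m := m) hF => ((z : Sz F m) : SL4 F)) h
      exact this
    obtain ⟨rfl, rfl⟩ := Tg_injective h1
    rfl
  · rintro ⟨⟨g, hg⟩, ⟨a, b, h⟩⟩
    refine ⟨(a, b), ?_⟩
    apply Subtype.ext
    apply Subtype.ext
    exact h.symm

theorem tauT_mul (hF : Fintype.card F = 2 ^ (2 * m + 1)) (a b c d : F) :
    tauT (m := m) hF (a, b) * tauT hF (c, d) = tauT hF (a + c, b + d + sg m a * c) := by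
  apply Subtype.ext
  apply Subtype.ext
  exact Tg_mul hF a b c d

theorem card_TSub (hF : Fintype.card F = 2 ^ (2 * m + 1)) :
    Nat.card (TSub (m := m) hF) = (2 ^ (2 * m + 1)) ^ 2 := by
  rw [← Nat.card_eq_of_bijective _ (tauT_bijective hF), Nat.card_prod, Nat.card_eq_fintype_card, hF]
  ring

/-- every Sylow 2-subgroup has order `q²` -/
theorem card_sylow (hm : 1 ≤ m) (hF : Fintype.card F = 2 ^ (2 * m + 1)) (P : Sylow 2 (Sz F m)) :
    Nat.card P = (2 ^ (2 * m + 1)) ^ 2 := by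
  haveI : Fact (Nat.Prime 2) := ⟨Nat.prime_two⟩
  have hTp : IsPGroup 2 (TSub (m := m) hF) := by
    apply IsPGroup.of_card (n := 2 * (2 * m + 1))
    rw [card_TSub hF, ← pow_mul, mul_comm]
  obtain ⟨P₀, hP₀⟩ := hTp.exists_le_sylow
  have hle : (2 ^ (2 * m + 1)) ^ 2 ≤ Nat.card P₀ := by
    rw [← card_TSub hF (m := m)]
    exact Subgroup.card_le_of_le hP₀
  obtain ⟨n, hn⟩ := IsPGroup.iff_card.mp P₀.2
  have hdvd : Nat.card P₀ ∣ Nat.card (Sz F m) := Subgroup.card_subgroup_dvd_card _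
  rw [card_Sz hm hF, hn] at hdvd
  have hodd : Nat.Coprime (2 ^ n) (((2 ^ (2 * m + 1)) ^ 2 + 1) * (2 ^ (2 * m + 1) - 1)) := by
    apply Nat.Coprime.pow_left
    rw [Nat.coprime_two_left]
    have ho1 : Odd ((2 ^ (2 * m + 1)) ^ 2 + 1) := Even.add_one (by
      rw [← pow_mul]
      exact (Nat.even_pow.mpr ⟨even_two, by omega⟩))
    have ho2 : Odd (2 ^ (2 * m + 1) - 1) := by
      have h1 : 1 ≤ 2 ^ (2 * m + 1) := Nat.one_le_two_pow
      have h2 : Even (2 ^ (2 * m + 1)) := (Nat.even_pow.mpr ⟨even_two, by omega⟩)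
      obtain ⟨c, hc⟩ := h2
      exact ⟨c - 1, by omega⟩
    exact ho1.mul ho2
  have hdvd2 : 2 ^ n ∣ (2 ^ (2 * m + 1)) ^ 2 := by
    have : (2 ^ (2 * m + 1)) ^ 2 * ((2 ^ (2 * m + 1)) ^ 2 + 1) * (2 ^ (2 * m + 1) - 1) =
        (2 ^ (2 * m + 1)) ^ 2 * (((2 ^ (2 * m + 1)) ^ 2 + 1) * (2 ^ (2 * m + 1) - 1)) := by ring
    rw [this] at hdvd
    exact hodd.dvd_of_dvd_mul_right hdvd
  have hle2 : Nat.card P₀ ≤ (2 ^ (2 * m + 1)) ^ 2 := by
    rw [hn]
    exact Nat.le_of_dvd (by positivity) hdvd2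
  have hP₀card : Nat.card P₀ = (2 ^ (2 * m + 1)) ^ 2 := le_antisymm hle2 hle
  rw [Nat.card_congr (P.equiv P₀).toEquiv, hP₀card]

/-- a Sylow 2-subgroup containing the unipotent subgroup equals it -/
theorem exists_sylow_eq (hm : 1 ≤ m) (hF : Fintype.card F = 2 ^ (2 * m + 1)) :
    ∃ P₀ : Sylow 2 (Sz F m), (P₀ : Subgroup (Sz F m)) = TSub (m := m) hF := by
  haveI : Fact (Nat.Prime 2) := ⟨Nat.prime_two⟩
  have hTp : IsPGroup 2 (TSub (m := m) hF) := by
    apply IsPGroup.of_card (n := 2 * (2 * m + 1))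
    rw [card_TSub hF, ← pow_mul, mul_comm]
  obtain ⟨P₀, hP₀⟩ := hTp.exists_le_sylow
  refine ⟨P₀, ?_⟩
  symm
  apply Subgroup.eq_of_le_of_card_ge hP₀
  rw [card_TSub hF]
  exact (card_sylow hm hF P₀).le

/-- structure of the Sylow 2-subgroups -/
theorem sylow_structure (hm : 1 ≤ m) (hF : Fintype.card F = 2 ^ (2 * m + 1))
    (P : Sylow 2 (Sz F m)) :
    Nat.card P = (2 ^ (2 * m + 1)) ^ 2 ∧ Monoid.exponent P = 4 ∧
      Subgroup.center P = commutator P ∧ Nat.card (Subgroup.center P) = 2 ^ (2 * m + 1) := by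
  haveI : Fact (Nat.Prime 2) := ⟨Nat.prime_two⟩
  obtain ⟨P₀, hP₀⟩ := exists_sylow_eq hm hF
  let e : TSub (m := m) hF ≃* P := (MulEquiv.subgroupCongr hP₀.symm).trans (P₀.equiv P)
  let τ : F × F → P := fun x => e (tauT hF x)
  have hτ : Function.Bijective τ := e.bijective.comp (tauT_bijective hF)
  have hmul : ∀ a b c d : F, τ (a, b) * τ (c, d) = τ (a + c, b + d + sg m a * c) := by
    intro a b c d
    show e (tauT hF (a, b)) * e (tauT hF (c, d)) = e (tauT hF (a + c, b + d + sg m a * c))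
    rw [← map_mul, tauT_mul]
  exact suzuki_two_group hm hF τ hτ hmul

end syl

end Cfsg.Agent.Lib.Helper14.Sz
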