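import Mathlib
import Cfsg.Agent.Lib.Helper14.SzI

/-!
# Suzuki groups: relations between the standard elements (helper14)
-/

set_option autoImplicit false
set_option maxHeartbeats 2000000
set_option linter.unusedSimpArgs false
set_option linter.unusedSectionVars false

namespace Cfsg.Agent.Lib.Helper14.Sz

open Cfsg
open scoped Pointwise

local notation "SL4" => Matrix.SpecialLinearGroup (Fin 4)

section rels

variable {F : Type*} [Field F] [Fintype F] [CharP F 2] {m : ℕ}

theorem Wg_mul_self : Wg F * Wg F = 1 := by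
  apply Subtype.ext
  show Wmat F * Wmat F = 1
  ext i j
  rw [Matrix.mul_apply, Fin.sum_univ_four]
  fin_cases i <;> fin_cases j <;> simp [Wmat]

theorem Wg_inv : (Wg F)⁻¹ = Wg F := inv_eq_of_mul_eq_one_left Wg_mul_self

/-- the torus normalizes the unipotent subgroup -/
theorem Hg_mul_Tg (hF : Fintype.card F = 2 ^ (2 * m + 1)) (k : Fˣ) (a b : F) :
    Hg m k * Tg m a b = Tg m ((k : F) * a) (sg m (k : F) * (k : F) * b) * Hg m k := by
  have hk : (k : F) ≠ 0 := k.ne_zero
  have hr : rho m (k : F) ≠ 0 := rho_ne_zero m hk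
  have hsr : sg m (rho m (k : F)) ^ 2 = (k : F) ^ 2 := by
    rw [← sg_pow, ← sg_eq_rho, sg_sg hF]
  apply Subtype.ext
  show Hmat m (k : F) * Tmat m a b =
    Tmat m ((k : F) * a) (sg m (k : F) * (k : F) * b) * Hmat m (k : F)
  ext i j
  rw [Matrix.mul_apply, Matrix.mul_apply, Fin.sum_univ_four, Fin.sum_univ_four]
  fin_cases i <;> fin_cases j <;> simp [Hmat, Tmat]
  all_goals first
    | ring1
    | (field_simp
       done)
    | (field_simp
       ring1)
    | (simp only [sg_mul, sg_eq_rho m (k : F), sg_pow]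
       field_simp
       done)
    | (simp only [sg_mul, sg_eq_rho m (k : F), sg_pow]
       field_simp
       ring1)
    | (unfold ff
       simp only [sg_mul, sg_eq_rho m (k : F), sg_pow]
       field_simp
       rw [hsr]
       ring1)

/-- the Weyl element inverts the torus -/
theorem Wg_Hg (k : Fˣ) : Wg F * Hg m k * Wg F = Hg m k⁻¹ := by
  have hk : (k : F) ≠ 0 := k.ne_zero
  have hr : rho m (k : F) ≠ 0 := rho_ne_zero m hk
  apply Subtype.ext
  show Wmat F * Hmat m (k : F) * Wmat F = Hmat m ((k⁻¹ : Fˣ) : F)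
  have hrinv : ∀ a : F, rho m (a⁻¹) = (rho m a)⁻¹ := by
    intro a
    unfold rho
    rw [inv_pow]
  ext i j
  rw [Matrix.mul_apply, Fin.sum_univ_four]
  simp only [Matrix.mul_apply, Fin.sum_univ_four]
  fin_cases i <;> fin_cases j <;> simp [Hmat, Wmat, hrinv, one_div]
  all_goals field_simp

end rels

end Cfsg.Agent.Lib.Helper14.Sz
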