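import Mathlib
import Cfsg.Agent.Lib.Helper14.SzJ

/-!
# Suzuki groups are Zassenhaus groups (helper14)
-/

set_option autoImplicit false
set_option maxHeartbeats 2000000
set_option linter.unusedSimpArgs false
set_option linter.unusedSectionVars false

namespace Cfsg.Agent.Lib.Helper14.Sz

open Cfsg
open scoped Pointwise

local notation "SL4" => Matrix.SpecialLinearGroup (Fin 4)

section zass

variable {F : Type*} [Field F] [Fintype F] [CharP F 2] {m : ℕ}

/-- `k ↦ k ^ (σ + 1)` is injective -/
theorem sg_mul_self_injective (hF : Fintype.card F = 2 ^ (2 * m + 1)) :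
    Function.Injective (fun k : F => sg m k * k) :=
  Finite.injective_iff_surjective.mpr (sg_mul_self_surjective hF)

/-- standard elements of `Sz` -/
def TS (hF : Fintype.card F = 2 ^ (2 * m + 1)) (a b : F) : Sz F m := ⟨Tg m a b, Tg_mem hF a b⟩

/-- the torus elements of `Sz` -/
def HS (hF : Fintype.card F = 2 ^ (2 * m + 1)) (k : Fˣ) : Sz F m := ⟨Hg m k, Hg_mem hF k⟩

/-- the Weyl element of `Sz` -/
def WS (hF : Fintype.card F = 2 ^ (2 * m + 1)) : Sz F m := ⟨Wg F, Wg_mem hF⟩

/-- the point at infinity of the ovoid -/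
def oinf (F : Type*) [Field F] [CharP F 2] (m : ℕ) : suzukiOvoid F m :=
  ⟨suzukiPointInfinity F, (mem_ovoid_iff m _).mpr (Or.inl rfl)⟩

/-- the affine points of the ovoid -/
def opt (m : ℕ) (x y : F) : suzukiOvoid F m :=
  ⟨pt m x y, (mem_ovoid_iff m _).mpr (Or.inr ⟨x, y, rfl⟩)⟩

theorem ovoid_cases (p : suzukiOvoid F m) : p = oinf F m ∨ ∃ x y : F, p = opt m x y := by
  obtain ⟨p, hp⟩ := p
  rw [mem_ovoid_iff] at hp
  rcases hp with rfl | ⟨x, y, rfl⟩
  · left; rfl
  · right; exact ⟨x, y, rfl⟩

theorem opt_ne_oinf (x y : F) : opt m x y ≠ oinf F m := by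
  intro h
  exact pt_ne_pinf m x y (congrArg Subtype.val h)

theorem opt_injective {x y x' y' : F} (h : opt m x y = opt m x' y') : x = x' ∧ y = y' :=
  pt_injective m (congrArg Subtype.val h)

theorem TS_oinf (hF : Fintype.card F = 2 ^ (2 * m + 1)) (a b : F) :
    TS hF a b • oinf F m = oinf F m := Subtype.ext (Tg_pinf a b)

theorem TS_opt (hF : Fintype.card F = 2 ^ (2 * m + 1)) (a b x y : F) :
    TS hF a b • opt m x y = opt m (x + a) (y + b + sg m a * x) := Subtype.ext (Tg_pt hF a b x y)

theorem HS_oinf (hF : Fintype.card F = 2 ^ (2 * m + 1)) (k : Fˣ) :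
    HS hF k • oinf F m = oinf F m := Subtype.ext (Hg_pinf k)

theorem HS_opt (hF : Fintype.card F = 2 ^ (2 * m + 1)) (k : Fˣ) (x y : F) :
    HS hF k • opt m x y = opt m ((k : F) * x) (sg m (k : F) * (k : F) * y) :=
  Subtype.ext (Hg_pt hF k x y)

theorem WS_oinf (hF : Fintype.card F = 2 ^ (2 * m + 1)) :
    WS hF • oinf F m = opt m 0 0 := Subtype.ext Wg_pinf

theorem exists_smul_oinf (hF : Fintype.card F = 2 ^ (2 * m + 1)) (p : suzukiOvoid F m) :
    ∃ g : Sz F m, g • oinf F m = p := by
  obtain ⟨g, hg, h⟩ := exists_smul_pinf hF p.2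
  exact ⟨⟨g, hg⟩, Subtype.ext h⟩

/-- any pair of distinct points can be moved to the standard pair -/
theorem to_std (hF : Fintype.card F = 2 ^ (2 * m + 1)) (a b : suzukiOvoid F m) (hab : a ≠ b) :
    ∃ g : Sz F m, g • a = oinf F m ∧ g • b = opt m 0 0 := by
  obtain ⟨g₁, hg₁⟩ := exists_smul_oinf hF a
  have ha : g₁⁻¹ • a = oinf F m := by rw [← hg₁, inv_smul_smul]
  have hb : g₁⁻¹ • b ≠ oinf F m := by
    intro h
    rw [← ha] at h
    exact hab (MulAction.injective g₁⁻¹ h).symm
  rcases ovoid_cases (g₁⁻¹ • b) with h | ⟨x, y, h⟩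
  · exact absurd h hb
  · refine ⟨(TS hF x y)⁻¹ * g₁⁻¹, ?_, ?_⟩
    · rw [mul_smul, ha, inv_smul_eq_iff, TS_oinf]
    · rw [mul_smul, h, inv_smul_eq_iff, TS_opt]
      simp

/-- the two-point stabilizer -/
theorem eq_HS_of_fix (hm : 1 ≤ m) (hF : Fintype.card F = 2 ^ (2 * m + 1)) (g : Sz F m)
    (h1 : g • oinf F m = oinf F m) (h2 : g • opt m (0 : F) 0 = opt m 0 0) :
    ∃ k : Fˣ, g = HS hF k := by
  obtain ⟨k, hk⟩ := eq_Hg_of_fix hm hF g.2 (congrArg Subtype.val h1) (congrArg Subtype.val h2)
  exact ⟨k, Subtype.ext hk⟩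

theorem HS_one (hF : Fintype.card F = 2 ^ (2 * m + 1)) : HS (m := m) hF 1 = 1 :=
  Subtype.ext Hg_one

theorem HS_injective (hF : Fintype.card F = 2 ^ (2 * m + 1)) :
    Function.Injective (HS (m := m) hF) := by
  intro k l h
  exact Hg_injective (congrArg Subtype.val h)

/-- a torus element fixing a third point is trivial -/
theorem HS_fix_third (hF : Fintype.card F = 2 ^ (2 * m + 1)) (k : Fˣ) (x y : F)
    (hxy : ¬ (x = 0 ∧ y = 0)) (h : HS hF k • opt m x y = opt m x y) : k = 1 := by
  rw [HS_opt] at h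
  obtain ⟨h1, h2⟩ := opt_injective h
  apply Units.ext
  by_cases hx : x = 0
  · have hy : y ≠ 0 := fun hy => hxy ⟨hx, hy⟩
    have h3 : sg m (k : F) * (k : F) = 1 := by
      have : (sg m (k : F) * (k : F)) * y = 1 * y := by rw [h2, one_mul]
      exact mul_right_cancel₀ hy this
    have := sg_mul_self_injective (m := m) hF (a₁ := (k : F)) (a₂ := 1) (by
      simp only [sg_one, one_mul]
      rw [h3])
    exact this
  · have : (k : F) * x = 1 * x := by rw [h1, one_mul]
    exact mul_right_cancel₀ hx this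

theorem zassenhaus (hm : 1 ≤ m) (hF : Fintype.card F = 2 ^ (2 * m + 1)) :
    IsZassenhausGroup (Sz F m) (suzukiOvoid F m) := by
  classical
  have hfix3 : ∀ g : Sz F m, ∀ a b c : suzukiOvoid F m, a ≠ b → b ≠ c → a ≠ c →
      g • a = a → g • b = b → g • c = c → g = 1 := by
    intro g a b c hab hbc hac ha hb hc
    obtain ⟨h, h1, h2⟩ := to_std hF a b hab
    set g' := h * g * h⁻¹ with hg'
    have f1 : g' • oinf F m = oinf F m := by
      rw [hg', mul_smul, mul_smul, ← h1, inv_smul_smul, ha]
    have f2 : g' • opt m (0 : F) 0 = opt m 0 0 := by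
      rw [hg', mul_smul, mul_smul, ← h2, inv_smul_smul, hb]
    have f3 : g' • (h • c) = h • c := by
      rw [hg', mul_smul, mul_smul, inv_smul_smul, hc]
    obtain ⟨k, hk⟩ := eq_HS_of_fix hm hF g' f1 f2
    have hc1 : h • c ≠ oinf F m := by
      rw [← h1]
      intro e
      exact hac (MulAction.injective h e).symm
    have hc2 : h • c ≠ opt m 0 0 := by
      rw [← h2]
      intro e
      exact hbc (MulAction.injective h e).symm
    rcases ovoid_cases (h • c) with e | ⟨x, y, e⟩
    · exact absurd e hc1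
    · rw [e, hk] at f3
      have hxy : ¬ (x = 0 ∧ y = 0) := by
        rintro ⟨rfl, rfl⟩
        exact hc2 e
      have hk1 := HS_fix_third hF k x y hxy f3
      rw [hk1, HS_one] at hk
      have : g = h⁻¹ * g' * h := by rw [hg']; group
      rw [this, hk]
      group
  refine ⟨⟨?_⟩, ?_, hfix3, ?_, ?_⟩
  · -- faithful
    intro g₁ g₂ h
    have h1 : ∀ a : suzukiOvoid F m, (g₂⁻¹ * g₁) • a = a := by
      intro a
      rw [mul_smul, h a, inv_smul_smul]
    have h2 : g₂⁻¹ * g₁ = 1 := by
      apply hfix3 (g₂⁻¹ * g₁) (oinf F m) (opt m 0 0) (opt m 1 0)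
      · exact (opt_ne_oinf 0 0).symm
      · intro e
        exact zero_ne_one (opt_injective e).1
      · exact (opt_ne_oinf 1 0).symm
      · exact h1 _
      · exact h1 _
      · exact h1 _
    exact (inv_mul_eq_one.mp h2).symm
  · -- two-transitive
    rw [MulAction.is_two_pretransitive_iff]
    intro a b c d hab hcd
    obtain ⟨g₁, h1, h2⟩ := to_std hF a b hab
    obtain ⟨g₂, h3, h4⟩ := to_std hF c d hcd
    refine ⟨g₂⁻¹ * g₁, ?_, ?_⟩
    · rw [mul_smul, h1, ← h3, inv_smul_smul]
    · rw [mul_smul, h2, ← h4, inv_smul_smul]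
  · -- an element fixing two points
    have hcard : 1 < Fintype.card Fˣ := by
      rw [Fintype.card_units, hF]
      have : 2 ^ 2 ≤ 2 ^ (2 * m + 1) := Nat.pow_le_pow_right (by norm_num) (by omega)
      omega
    obtain ⟨k, hk⟩ := Fintype.exists_ne_of_one_lt_card hcard (1 : Fˣ)
    refine ⟨HS hF k, ?_, oinf F m, opt m 0 0, (opt_ne_oinf 0 0).symm, HS_oinf hF k, ?_⟩
    · intro h
      rw [← HS_one hF] at h
      exact hk (HS_injective hF h)
    · rw [HS_opt]
      simp
  · -- no regular normal subgroup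
    intro N hN htrans
    by_contra hreg
    push Not at hreg
    haveI := hN
    -- involutions in the centre of the unipotent group
    have hinv : ∀ b : F, TS hF 0 b * TS hF 0 b = 1 := by
      intro b
      apply Subtype.ext
      show Tg m 0 b * Tg m 0 b = 1
      rw [Tg_mul hF, ← Tg_zero (m := m)]
      congr 1
      · exact add_zero 0
      · rw [sg_zero, zero_mul, add_zero]
        exact CharTwo.add_self_eq_zero b
    have hfixonly : ∀ b : F, b ≠ 0 → ∀ p : suzukiOvoid F m, TS hF 0 b • p = p → p = oinf F m := by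
      intro b hb p hp
      rcases ovoid_cases p with e | ⟨x, y, e⟩
      · exact e
      · exfalso
        rw [e, TS_opt] at hp
        have := (opt_injective hp).2
        rw [sg_zero, zero_mul, add_zero] at this
        apply hb
        have h5 : y + b + y = y + y := by rw [this]
        rw [CharTwo.add_self_eq_zero] at h5
        rw [← h5]
        rw [← CharTwo.add_eq_zero]
        ring_nf
        simp only [c2, c4, c6, c8, mul_zero, add_zero]
    -- each such involution inverts `N`
    have hinverts : ∀ b : F, b ≠ 0 → ∀ n : N,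
        TS hF 0 b * (n : Sz F m) * (TS hF 0 b)⁻¹ = (n : Sz F m)⁻¹ := by
      intro b hb n
      set t := TS hF 0 b with ht
      have htinv : t⁻¹ = t := inv_eq_of_mul_eq_one_left (hinv b)
      have hfpf : MonoidHom.FixedPointFree (MulAut.conjNormal t : MulAut N) := by
        intro n hn
        have h1 : t * (n : Sz F m) * t⁻¹ = n := by
          rw [← MulAut.conjNormal_apply, hn]
        have h2 : t • ((n : Sz F m) • oinf F m) = (n : Sz F m) • oinf F m := by
          have : t * (n : Sz F m) = (n : Sz F m) * t := by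
            calc t * (n : Sz F m) = (t * (n : Sz F m) * t⁻¹) * t := by group
              _ = (n : Sz F m) * t := by rw [h1]
          rw [← mul_smul, this, mul_smul, ht, TS_oinf]
        have h3 := hfixonly b hb _ h2
        have h4 : n ∈ MulAction.stabilizer N (oinf F m) := h3
        rw [hreg] at h4
        exact h4
      have hinvol : Function.Involutive (MulAut.conjNormal t : MulAut N) := by
        intro n
        apply Subtype.ext
        rw [MulAut.conjNormal_apply, MulAut.conjNormal_apply, htinv]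
        have := hinv b
        rw [← ht] at this
        calc t * (t * (n : Sz F m) * t) * t = (t * t) * (n : Sz F m) * (t * t) := by group
          _ = n := by rw [this, one_mul, mul_one]
      have := MonoidHom.FixedPointFree.coe_eq_inv_of_involutive hfpf hinvol
      have h5 := congrFun this n
      have h6 := congrArg (Subtype.val) h5
      rw [MulAut.conjNormal_apply] at h6
      exact h6
    -- choose `c ≠ 0, 1`
    obtain ⟨c, hc0, hc1⟩ : ∃ c : F, c ≠ 0 ∧ c ≠ 1 := by
      by_contra h
      push Not at h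
      obtain ⟨c, hc⟩ := exists_sg_ne (m := m) hm hF
      by_cases h0 : c = 0
      · rw [h0, sg_zero] at hc
        exact hc rfl
      · rw [h c h0, sg_one] at hc
        exact hc rfl
    have hN1 : ∀ n : N, n = 1 := by
      intro n
      have e1 := hinverts 1 one_ne_zero n
      have e2 := hinverts c hc0 n
      have hc2 : (1 : F) + c ≠ 0 := fun h => hc1 (CharTwo.add_eq_zero.mp h).symm
      have e3 := hinverts (1 + c) hc2 n
      have hprod : TS hF 0 (1 + c) = TS hF 0 1 * TS hF 0 c := by
        apply Subtype.ext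
        show Tg m 0 (1 + c) = Tg m 0 1 * Tg m 0 c
        rw [Tg_mul hF]
        congr 1
        · exact (add_zero 0).symm
        · rw [sg_zero, zero_mul, add_zero]
      -- `n⁻¹ = n`
      have h7 : (n : Sz F m)⁻¹ = n := by
        rw [← e3, hprod]
        have : TS hF 0 1 * TS hF 0 c * (n : Sz F m) * (TS hF 0 1 * TS hF 0 c)⁻¹ =
            TS hF 0 1 * (TS hF 0 c * (n : Sz F m) * (TS hF 0 c)⁻¹) * (TS hF 0 1)⁻¹ := by group
        rw [this, e2]
        have e1' := hinverts 1 one_ne_zero (n⁻¹)
        rw [Subgroup.coe_inv, inv_inv] at e1'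
        exact e1'
      -- then `n` commutes with the involution, hence is fixed, hence trivial
      rw [h7] at e1
      have h2 : TS hF 0 1 • ((n : Sz F m) • oinf F m) = (n : Sz F m) • oinf F m := by
        have : TS hF 0 1 * (n : Sz F m) = (n : Sz F m) * TS hF 0 1 := by
          calc TS hF 0 1 * (n : Sz F m)
              = (TS hF 0 1 * (n : Sz F m) * (TS hF 0 1)⁻¹) * TS hF 0 1 := by group
            _ = (n : Sz F m) * TS hF 0 1 := by rw [e1]
        rw [← mul_smul, this, mul_smul, TS_oinf]
      have h3 := hfixonly 1 one_ne_zero _ h2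
      have h4 : n ∈ MulAction.stabilizer N (oinf F m) := h3
      rw [hreg] at h4
      exact h4
    obtain ⟨n, hn⟩ := htrans.exists_smul_eq (oinf F m) (opt m 0 0)
    rw [hN1 n, one_smul] at hn
    exact opt_ne_oinf 0 0 hn.symm

end zass

end Cfsg.Agent.Lib.Helper14.Sz
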