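import Mathlib
import Cfsg.Agent.Lib.Helper14.SzK

/-!
# Suzuki groups are simple (helper14)
-/

set_option autoImplicit false
set_option maxHeartbeats 2000000
set_option linter.unusedSimpArgs false
set_option linter.unusedSectionVars false

namespace Cfsg.Agent.Lib.Helper14.Sz

open Cfsg
open scoped Pointwise

local notation "SL4" => Matrix.SpecialLinearGroup (Fin 4)

section simple

variable {F : Type*} [Field F] [Fintype F] [CharP F 2] {m : ℕ}

theorem TS_mul (hF : Fintype.card F = 2 ^ (2 * m + 1)) (a b c d : F) :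
    TS hF a b * TS hF c d = TS hF (a + c) (b + d + sg m a * c) :=
  Subtype.ext (Tg_mul hF a b c d)

theorem TS_zero (hF : Fintype.card F = 2 ^ (2 * m + 1)) : TS (m := m) hF 0 0 = 1 :=
  Subtype.ext Tg_zero

theorem TS_inv (hF : Fintype.card F = 2 ^ (2 * m + 1)) (a b : F) :
    (TS hF a b)⁻¹ = TS hF a (b + sg m a * a) :=
  Subtype.ext (Tg_inv hF a b)

theorem TS_injective (hF : Fintype.card F = 2 ^ (2 * m + 1)) {a b c d : F}
    (h : TS (m := m) hF a b = TS hF c d) : a = c ∧ b = d :=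
  Tg_injective (congrArg Subtype.val h)

theorem HS_mul_TS (hF : Fintype.card F = 2 ^ (2 * m + 1)) (k : Fˣ) (a b : F) :
    HS hF k * TS hF a b = TS hF ((k : F) * a) (sg m (k : F) * (k : F) * b) * HS hF k :=
  Subtype.ext (Hg_mul_Tg hF k a b)

theorem HS_mul (hF : Fintype.card F = 2 ^ (2 * m + 1)) (k l : Fˣ) :
    HS (m := m) hF (k * l) = HS hF k * HS hF l :=
  Subtype.ext (Hg_mul k l)

theorem HS_inv (hF : Fintype.card F = 2 ^ (2 * m + 1)) (k : Fˣ) :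
    (HS (m := m) hF k)⁻¹ = HS hF k⁻¹ := by
  rw [inv_eq_iff_mul_eq_one, ← HS_mul, mul_inv_cancel, HS_one]

theorem conj_HS_TS (hF : Fintype.card F = 2 ^ (2 * m + 1)) (k : Fˣ) (a b : F) :
    HS hF k * TS hF a b * (HS hF k)⁻¹ = TS hF ((k : F) * a) (sg m (k : F) * (k : F) * b) := by
  rw [HS_mul_TS, mul_inv_cancel_right]

theorem WS_mul_self (hF : Fintype.card F = 2 ^ (2 * m + 1)) : WS (m := m) hF * WS hF = 1 :=
  Subtype.ext Wg_mul_self

theorem WS_inv (hF : Fintype.card F = 2 ^ (2 * m + 1)) : (WS (m := m) hF)⁻¹ = WS hF :=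
  inv_eq_of_mul_eq_one_left (WS_mul_self hF)

theorem WS_HS (hF : Fintype.card F = 2 ^ (2 * m + 1)) (k : Fˣ) :
    WS hF * HS hF k * WS hF = HS (m := m) hF k⁻¹ :=
  Subtype.ext (Wg_Hg k)

theorem bruhat (hm : 1 ≤ m) (hF : Fintype.card F = 2 ^ (2 * m + 1)) (g : Sz F m) :
    (∃ (a b : F) (k : Fˣ), g = TS hF a b * HS hF k) ∨
      ∃ (c d a b : F) (k : Fˣ), g = TS hF c d * WS hF * (TS hF a b * HS hF k) := by
  rcases exists_of_mem hm hF g.2 with ⟨a, b, k, h⟩ | ⟨c, d, a, b, k, h⟩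
  · exact Or.inl ⟨a, b, k, Subtype.ext h⟩
  · exact Or.inr ⟨c, d, a, b, k, Subtype.ext h⟩

theorem fix_oinf (hm : 1 ≤ m) (hF : Fintype.card F = 2 ^ (2 * m + 1)) (g : Sz F m)
    (h : g • oinf F m = oinf F m) : ∃ (a b : F) (k : Fˣ), g = TS hF a b * HS hF k := by
  obtain ⟨a, b, k, h⟩ := exists_of_fix_pinf hm hF g.2 (congrArg Subtype.val h)
  exact ⟨a, b, k, Subtype.ext h⟩

/-- `g` lies in the Borel subgroup with torus part `k` -/
def InB (hF : Fintype.card F = 2 ^ (2 * m + 1)) (g : Sz F m) (k : Fˣ) : Prop :=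
  ∃ a b : F, g = TS hF a b * HS hF k

theorem InB_TS (hF : Fintype.card F = 2 ^ (2 * m + 1)) (a b : F) : InB hF (TS hF a b) 1 :=
  ⟨a, b, by rw [HS_one, mul_one]⟩

theorem InB_HS (hF : Fintype.card F = 2 ^ (2 * m + 1)) (k : Fˣ) : InB hF (HS (m := m) hF k) k :=
  ⟨0, 0, by rw [TS_zero, one_mul]⟩

theorem InB_mul (hF : Fintype.card F = 2 ^ (2 * m + 1)) {g g' : Sz F m} {k l : Fˣ}
    (hg : InB hF g k) (hg' : InB hF g' l) : InB hF (g * g') (k * l) := by
  obtain ⟨a, b, rfl⟩ := hg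
  obtain ⟨c, d, rfl⟩ := hg'
  refine ⟨a + (k : F) * c, b + sg m (k : F) * (k : F) * d + sg m a * ((k : F) * c), ?_⟩
  calc TS hF a b * HS hF k * (TS hF c d * HS hF l)
      = TS hF a b * (HS hF k * TS hF c d) * HS hF l := by group
    _ = TS hF a b * (TS hF ((k : F) * c) (sg m (k : F) * (k : F) * d) * HS hF k) * HS hF l := by
        rw [HS_mul_TS]
    _ = (TS hF a b * TS hF ((k : F) * c) (sg m (k : F) * (k : F) * d)) * (HS hF k * HS hF l) := by
        group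
    _ = _ := by rw [TS_mul, ← HS_mul]

theorem InB_inv (hF : Fintype.card F = 2 ^ (2 * m + 1)) {g : Sz F m} {k : Fˣ}
    (hg : InB hF g k) : InB hF g⁻¹ k⁻¹ := by
  obtain ⟨a, b, rfl⟩ := hg
  rw [mul_inv_rev, HS_inv, TS_inv, HS_mul_TS]
  exact ⟨_, _, rfl⟩

theorem sq_surj_units (k : Fˣ) : ∃ l : Fˣ, l * l = k := by
  obtain ⟨s, hs⟩ := (Finite.injective_iff_surjective.mp (sq_injective (F := F))) (k : F)
  simp only at hs
  have hs0 : s ≠ 0 := by
    rintro rfl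
    rw [zero_pow (by norm_num)] at hs
    exact k.ne_zero hs.symm
  refine ⟨Units.mk0 s hs0, ?_⟩
  apply Units.ext
  rw [Units.val_mul, Units.val_mk0, ← hs, sq]

/-- central translations in a normal subgroup -/
theorem normal_center (hF : Fintype.card F = 2 ^ (2 * m + 1)) (N : Subgroup (Sz F m))
    (hN : N.Normal) {b₀ : F} (hb₀ : b₀ ≠ 0) (h : TS hF 0 b₀ ∈ N) (b : F) : TS hF 0 b ∈ N := by
  by_cases hb : b = 0
  · rw [hb, TS_zero]
    exact N.one_mem
  · obtain ⟨k', hk'⟩ := sg_mul_self_surjective (m := m) hF (b / b₀)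
    simp only at hk'
    have hk0 : k' ≠ 0 := by
      rintro rfl
      rw [sg_zero, zero_mul] at hk'
      exact (div_ne_zero hb hb₀) hk'.symm
    have h1 := hN.conj_mem _ h (HS hF (Units.mk0 k' hk0))
    rw [conj_HS_TS, Units.val_mk0, hk', mul_zero, div_mul_cancel₀ b hb₀] at h1
    exact h1

theorem normal_center' (hF : Fintype.card F = 2 ^ (2 * m + 1)) (N : Subgroup (Sz F m))
    (hN : N.Normal) {a₀ b₀ : F} (hne : TS hF a₀ b₀ ≠ 1) (h : TS hF a₀ b₀ ∈ N) (b : F) :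
    TS hF 0 b ∈ N := by
  by_cases ha : a₀ = 0
  · subst ha
    have hb₀ : b₀ ≠ 0 := by
      rintro rfl
      exact hne (TS_zero hF)
    exact normal_center hF N hN hb₀ h b
  · have h1 := N.mul_mem h h
    rw [TS_mul, CharTwo.add_self_eq_zero, CharTwo.add_self_eq_zero, zero_add] at h1
    have h2 : sg m a₀ * a₀ ≠ 0 := mul_ne_zero (fun e => ha ((sg_eq_zero_iff m a₀).mp e)) ha
    exact normal_center hF N hN h2 h1 b

theorem normal_unip (hF : Fintype.card F = 2 ^ (2 * m + 1)) (N : Subgroup (Sz F m))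
    (hN : N.Normal) (hZ : ∀ b : F, TS hF 0 b ∈ N) {a₀ b₀ : F} (ha₀ : a₀ ≠ 0)
    (h : TS hF a₀ b₀ ∈ N) (a b : F) : TS hF a b ∈ N := by
  by_cases ha : a = 0
  · rw [ha]
    exact hZ b
  · have hk0 : a / a₀ ≠ 0 := div_ne_zero ha ha₀
    have h1 := hN.conj_mem _ h (HS hF (Units.mk0 (a / a₀) hk0))
    rw [conj_HS_TS, Units.val_mk0, div_mul_cancel₀ a ha₀] at h1
    have h2 := N.mul_mem h1 (hZ (sg m (a / a₀) * (a / a₀) * b₀ + b))
    rw [TS_mul, add_zero, mul_zero, add_zero, ← add_assoc, CharTwo.add_self_eq_zero,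
      zero_add] at h2
    exact h2

theorem normal_comm (hF : Fintype.card F = 2 ^ (2 * m + 1)) (N : Subgroup (Sz F m))
    (hN : N.Normal) {a b : F} {k : Fˣ} (hk : k ≠ 1) (h : TS hF a b * HS hF k ∈ N) :
    ∃ a' b' : F, a' ≠ 0 ∧ TS hF a' b' ∈ N := by
  set n := TS hF a b * HS hF k with hn
  set u := TS (m := m) hF 1 0 with hu
  have h1 : n * (u * n⁻¹ * u⁻¹) ∈ N := N.mul_mem h (hN.conj_mem _ (N.inv_mem h) u)
  have h2 : n * (u * n⁻¹ * u⁻¹) =
      TS hF a b * (HS hF k * u * (HS hF k)⁻¹) * (TS hF a b)⁻¹ * u⁻¹ := by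
    rw [hn]; group
  rw [h2, hu, conj_HS_TS, TS_inv, TS_inv, TS_mul, TS_mul, TS_mul] at h1
  refine ⟨_, _, ?_, h1⟩
  have : a + (k : F) * 1 + a + 1 = (k : F) + 1 + (a + a) := by ring
  rw [this, CharTwo.add_self_eq_zero, add_zero]
  intro e
  apply hk
  apply Units.ext
  rw [Units.val_one]
  exact CharTwo.add_eq_zero.mp e

theorem simple (hm : 1 ≤ m) (hF : Fintype.card F = 2 ^ (2 * m + 1)) :
    IsSimpleGroup (Sz F m) := by
  classical
  obtain ⟨hfaith, h2t, -, -, hreg⟩ := zassenhaus hm hF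
  rw [MulAction.is_two_pretransitive_iff] at h2t
  haveI : Nontrivial (Sz F m) := by
    refine ⟨⟨TS hF 0 1, 1, ?_⟩⟩
    rw [← TS_zero hF]
    intro e
    exact one_ne_zero (TS_injective hF e).2
  refine ⟨?_⟩
  intro N hN
  by_cases hbot : N = ⊥
  · exact Or.inl hbot
  right
  -- `N` is transitive
  have htrans : MulAction.IsPretransitive N (suzukiOvoid F m) := by
    obtain ⟨⟨n, hnN⟩, hn1⟩ := (Subgroup.ne_bot_iff_exists_ne_one).mp hbot
    have hn1' : n ≠ 1 := fun e => hn1 (Subtype.ext e)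
    obtain ⟨p, hp⟩ : ∃ p : suzukiOvoid F m, n • p ≠ p := by
      by_contra h
      push Not at h
      apply hn1'
      exact hfaith.eq_of_smul_eq_smul (fun a => by rw [h a, one_smul])
    have key : ∀ x y : suzukiOvoid F m, ∃ n' ∈ N, n' • x = y := by
      intro x y
      by_cases hxy : x = y
      · exact ⟨1, N.one_mem, by rw [one_smul, hxy]⟩
      · obtain ⟨g, hg1, hg2⟩ := h2t (Ne.symm hp) hxy
        refine ⟨g * n * g⁻¹, hN.conj_mem n hnN g, ?_⟩
        rw [mul_smul, mul_smul, ← hg1, inv_smul_smul, hg2]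
    refine ⟨fun x y => ?_⟩
    obtain ⟨n', hn', h⟩ := key x y
    exact ⟨⟨n', hn'⟩, h⟩
  -- a non-trivial element of `N` fixing the point at infinity
  obtain ⟨n₁, hn₁N, hn₁1, hn₁fix⟩ : ∃ n₁ ∈ N, n₁ ≠ 1 ∧ n₁ • oinf F m = oinf F m := by
    obtain ⟨p, hp⟩ := hreg N hN htrans
    obtain ⟨⟨⟨n, hnN⟩, hnfix⟩, hn1⟩ := (Subgroup.ne_bot_iff_exists_ne_one).mp hp
    have hnfix' : n • p = p := hnfix
    have hn1' : n ≠ 1 := fun e => hn1 (Subtype.ext (Subtype.ext e))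
    obtain ⟨g, hg⟩ := exists_smul_oinf hF p
    refine ⟨g⁻¹ * n * g, ?_, ?_, ?_⟩
    · have := hN.conj_mem n hnN g⁻¹
      rwa [inv_inv] at this
    · intro e
      apply hn1'
      have : n = g * (g⁻¹ * n * g) * g⁻¹ := by group
      rw [this, e]
      group
    · rw [mul_smul, mul_smul, hg, hnfix', ← hg, inv_smul_smul]
  -- the centre of the unipotent subgroup lies in `N`
  have hZ : ∀ b : F, TS hF 0 b ∈ N := by
    obtain ⟨a, b, k, e⟩ := fix_oinf hm hF n₁ hn₁fix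
    by_cases hk : k = 1
    · rw [hk, HS_one, mul_one] at e
      rw [e] at hn₁N hn₁1
      exact normal_center' hF N hN hn₁1 hn₁N
    · rw [e] at hn₁N
      obtain ⟨a', b', ha', h'⟩ := normal_comm hF N hN hk hn₁N
      have hne : TS hF a' b' ≠ 1 := by
        rw [← TS_zero hF]
        intro e'
        exact ha' (TS_injective hF e').1
      exact normal_center' hF N hN hne h'
  -- an element of `N` in the big cell, of the form `W * β`
  obtain ⟨a₀, b₀, k₀, hn₀⟩ : ∃ (a₀ b₀ : F) (k₀ : Fˣ), WS hF * (TS hF a₀ b₀ * HS hF k₀) ∈ N := by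
    obtain ⟨⟨n, hnN⟩, hn⟩ := htrans.exists_smul_eq (oinf F m) (WS hF • oinf F m)
    have hn' : n • oinf F m = WS hF • oinf F m := hn
    have hfix : (n⁻¹ * WS hF) • oinf F m = oinf F m := by
      rw [mul_smul, ← hn', inv_smul_smul]
    obtain ⟨a, b, k, e⟩ := fix_oinf hm hF _ hfix
    obtain ⟨a', b', e'⟩ := InB_inv hF ⟨a, b, e⟩
    refine ⟨a', b', k⁻¹, ?_⟩
    rw [← e']
    have : WS hF * (n⁻¹ * WS hF)⁻¹ = n := by group
    rw [this]
    exact hnN
  -- the torus projection of `N ∩ B` is onto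
  have hproj : ∀ k : Fˣ, ∃ a b : F, TS hF a b * HS hF k ∈ N := by
    intro k
    obtain ⟨l', hl'⟩ := sq_surj_units k⁻¹
    set W := WS (m := m) hF with hW
    set t := TS hF a₀ b₀ with ht
    set h := HS hF k₀ with hh
    set x := HS (m := m) hF l' with hx
    set n₀ := W * (t * h) with hn₀def
    have h1 : x * n₀ * x⁻¹ * n₀⁻¹ ∈ N := N.mul_mem (hN.conj_mem _ hn₀ x) (N.inv_mem hn₀)
    have h2 := hN.conj_mem _ h1 W
    have e1 : W * x * W = HS hF l'⁻¹ := WS_HS hF l'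
    have e2 : h * x⁻¹ * h⁻¹ = x⁻¹ := by
      rw [hh, hx, HS_inv, HS_inv, ← HS_mul, ← HS_mul]
      congr 1
      rw [mul_comm k₀ l'⁻¹, mul_inv_cancel_right]
    have e3 : W⁻¹ = W := WS_inv hF
    have e4 : W * (x * n₀ * x⁻¹ * n₀⁻¹) * W⁻¹ = HS hF l'⁻¹ * t * HS hF l'⁻¹ * t⁻¹ := by
      calc W * (x * n₀ * x⁻¹ * n₀⁻¹) * W⁻¹
          = (W * x * W) * t * (h * x⁻¹ * h⁻¹) * t⁻¹ * (W⁻¹ * W⁻¹) := by rw [hn₀def]; group
        _ = HS hF l'⁻¹ * t * x⁻¹ * t⁻¹ * (W * W) := by rw [e1, e2, e3]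
        _ = HS hF l'⁻¹ * t * HS hF l'⁻¹ * t⁻¹ := by rw [hW, WS_mul_self, mul_one, hx, HS_inv]
    rw [e4] at h2
    have h3 : InB hF (HS hF l'⁻¹ * t * HS hF l'⁻¹ * t⁻¹) (l'⁻¹ * 1 * l'⁻¹ * 1⁻¹) :=
      InB_mul hF (InB_mul hF (InB_mul hF (InB_HS hF l'⁻¹) (InB_TS hF a₀ b₀)) (InB_HS hF l'⁻¹))
        (InB_inv hF (InB_TS hF a₀ b₀))
    have h4 : l'⁻¹ * 1 * l'⁻¹ * 1⁻¹ = k := by
      rw [mul_one, inv_one, mul_one, ← mul_inv, hl', inv_inv]
    rw [h4] at h3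
    obtain ⟨a, b, e⟩ := h3
    exact ⟨a, b, e ▸ h2⟩
  -- the unipotent subgroup lies in `N`
  have hT : ∀ a b : F, TS hF a b ∈ N := by
    have hcard : 1 < Fintype.card Fˣ := by
      rw [Fintype.card_units, hF]
      have : 2 ^ 2 ≤ 2 ^ (2 * m + 1) := Nat.pow_le_pow_right (by norm_num) (by omega)
      omega
    obtain ⟨k, hk⟩ := Fintype.exists_ne_of_one_lt_card hcard (1 : Fˣ)
    obtain ⟨a, b, h⟩ := hproj k
    obtain ⟨a', b', ha', h'⟩ := normal_comm hF N hN hk h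
    exact normal_unip hF N hN hZ ha' h'
  -- the torus lies in `N`
  have hH : ∀ k : Fˣ, HS hF k ∈ N := by
    intro k
    obtain ⟨a, b, h⟩ := hproj k
    have := N.mul_mem (N.inv_mem (hT a b)) h
    rwa [inv_mul_cancel_left] at this
  -- the Weyl element lies in `N`
  have hWN : WS hF ∈ N := by
    have := N.mul_mem hn₀ (N.inv_mem (N.mul_mem (hT a₀ b₀) (hH k₀)))
    rwa [mul_inv_cancel_right] at this
  rw [eq_top_iff]
  intro g _
  rcases bruhat hm hF g with ⟨a, b, k, e⟩ | ⟨c, d, a, b, k, e⟩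
  · rw [e]
    exact N.mul_mem (hT a b) (hH k)
  · rw [e]
    exact N.mul_mem (N.mul_mem (hT c d) hWN) (N.mul_mem (hT a b) (hH k))

end simple

end Cfsg.Agent.Lib.Helper14.Sz
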