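import Mathlib

/-!
# Matrices without invariant subspaces (helper14)

A `4 × 4` matrix over a finite field without invariant subspaces has a commutative
centralizer without zero divisors; finite groups inside that centralizer are cyclic.
A matrix of prime order `p` is of this kind when `p` divides none of `q`, `q - 1`, `q ^ 2 - 1`,
`q ^ 3 - 1`.
-/

set_option autoImplicit false
set_option maxHeartbeats 2000000
set_option linter.unusedSimpArgs false
set_option linter.unusedSectionVars false

namespace Cfsg.Agent.Lib.Helper14.Sz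

open Polynomial

section irr

variable {F : Type*} [Field F]

/-- no invariant subspaces -/
def Irr (A : Matrix (Fin 4) (Fin 4) F) : Prop :=
  ∀ W : Submodule F (Fin 4 → F), (∀ w ∈ W, A.mulVec w ∈ W) → W = ⊥ ∨ W = ⊤

/-- the cyclic subspace generated by a vector -/
def cycSub (A : Matrix (Fin 4) (Fin 4) F) (v : Fin 4 → F) : Submodule F (Fin 4 → F) where
  carrier := {u | ∃ P : F[X], u = (aeval A P).mulVec v}
  zero_mem' := ⟨0, by simp⟩
  add_mem' := by
    rintro _ _ ⟨P, rfl⟩ ⟨Q, rfl⟩
    exact ⟨P + Q, by rw [map_add, Matrix.add_mulVec]⟩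
  smul_mem' := by
    rintro c _ ⟨P, rfl⟩
    exact ⟨c • P, by rw [map_smul, Matrix.smul_mulVec]⟩

theorem cycSub_inv (A : Matrix (Fin 4) (Fin 4) F) (v : Fin 4 → F) :
    ∀ w ∈ cycSub A v, A.mulVec w ∈ cycSub A v := by
  rintro _ ⟨P, rfl⟩
  refine ⟨X * P, ?_⟩
  rw [map_mul, aeval_X, Matrix.mulVec_mulVec]

theorem mem_cycSub_self (A : Matrix (Fin 4) (Fin 4) F) (v : Fin 4 → F) : v ∈ cycSub A v :=
  ⟨1, by simp⟩

theorem cycSub_eq_top {A : Matrix (Fin 4) (Fin 4) F} (hA : Irr A) {v : Fin 4 → F} (hv : v ≠ 0) :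
    cycSub A v = ⊤ := by
  rcases hA _ (cycSub_inv A v) with h | h
  · exfalso
    apply hv
    have := mem_cycSub_self A v
    rw [h] at this
    exact (Submodule.mem_bot F).mp this
  · exact h

theorem commute_aeval (c A : Matrix (Fin 4) (Fin 4) F) (hc : Commute c A) (Q : F[X]) :
    Commute c (aeval A Q) := by
  induction Q using Polynomial.induction_on' with
  | add p q hp hq =>
    rw [map_add]
    exact hp.add_right hq
  | monomial n a =>
    rw [aeval_monomial]
    exact (Algebra.commute_algebraMap_right a c).mul_right (hc.pow_right n)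

theorem eq_aeval_of_commute {A : Matrix (Fin 4) (Fin 4) F} (hA : Irr A)
    (c : Matrix (Fin 4) (Fin 4) F) (hc : c * A = A * c) : ∃ P : F[X], c = aeval A P := by
  have hv : (Pi.single 0 1 : Fin 4 → F) ≠ 0 := by
    intro h
    have := congrFun h 0
    simp at this
  set v : Fin 4 → F := Pi.single 0 1 with hvdef
  have htop := cycSub_eq_top hA hv
  have h1 : c.mulVec v ∈ cycSub A v := by
    rw [htop]
    trivial
  obtain ⟨P, hP⟩ := h1
  refine ⟨P, ?_⟩
  rw [Matrix.ext_iff_mulVec]
  intro u
  have h2 : u ∈ cycSub A v := by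
    rw [htop]
    trivial
  obtain ⟨Q, rfl⟩ := h2
  have h3 : c * aeval A Q = aeval A Q * c := commute_aeval c A hc Q
  rw [Matrix.mulVec_mulVec, h3, ← Matrix.mulVec_mulVec, hP, Matrix.mulVec_mulVec,
    Matrix.mulVec_mulVec, ← map_mul, ← map_mul, mul_comm]

theorem commute_of_irr {A : Matrix (Fin 4) (Fin 4) F} (hA : Irr A)
    (c₁ c₂ : Matrix (Fin 4) (Fin 4) F) (h₁ : c₁ * A = A * c₁) (h₂ : c₂ * A = A * c₂) :
    c₁ * c₂ = c₂ * c₁ := by
  obtain ⟨P₁, rfl⟩ := eq_aeval_of_commute hA c₁ h₁
  obtain ⟨P₂, rfl⟩ := eq_aeval_of_commute hA c₂ h₂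
  rw [← map_mul, ← map_mul, mul_comm]

theorem eq_zero_of_irr {A : Matrix (Fin 4) (Fin 4) F} (hA : Irr A)
    (c₁ c₂ : Matrix (Fin 4) (Fin 4) F) (h₁ : c₁ * A = A * c₁)
    (h : c₁ * c₂ = 0) : c₁ = 0 ∨ c₂ = 0 := by
  let W : Submodule F (Fin 4 → F) := LinearMap.ker (Matrix.mulVecLin c₁)
  have hW : ∀ w ∈ W, A.mulVec w ∈ W := by
    intro w hw
    have hw' : c₁.mulVec w = 0 := hw
    show c₁.mulVec (A.mulVec w) = 0
    rw [Matrix.mulVec_mulVec, h₁, ← Matrix.mulVec_mulVec, hw', Matrix.mulVec_zero]
  rcases hA W hW with hb | ht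
  · right
    rw [Matrix.ext_iff_mulVec]
    intro u
    have : c₂.mulVec u ∈ W := by
      show c₁.mulVec (c₂.mulVec u) = 0
      rw [Matrix.mulVec_mulVec, h, Matrix.zero_mulVec]
    rw [hb] at this
    rw [(Submodule.mem_bot F).mp this, Matrix.zero_mulVec]
  · left
    rw [Matrix.ext_iff_mulVec]
    intro u
    have : u ∈ W := by
      rw [ht]
      trivial
    rw [Matrix.zero_mulVec]
    exact this

/-- finite groups of matrices commuting with a matrix without invariant subspaces are cyclic -/
theorem isCyclic_of_irr {G : Type*} [Group G] [Finite G] {A : Matrix (Fin 4) (Fin 4) F}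
    (hA : Irr A) (ρ : G →* Matrix (Fin 4) (Fin 4) F) (hρ : Function.Injective ρ)
    (hcomm : ∀ g : G, ρ g * A = A * ρ g) : IsCyclic G := by
  let S : Subalgebra F (Matrix (Fin 4) (Fin 4) F) := Subalgebra.centralizer F {A}
  have hS : ∀ c : S, (c : Matrix (Fin 4) (Fin 4) F) * A = A * c := by
    intro c
    have := (Subalgebra.mem_centralizer_iff F).mp c.2 A (Set.mem_singleton A)
    exact this.symm
  letI instCR : CommRing S :=
    { (inferInstance : Ring S) with
      mul_comm := fun a b => Subtype.ext (commute_of_irr hA a b (hS a) (hS b)) }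
  haveI : NoZeroDivisors S := ⟨by
    intro a b hab
    have h := congrArg Subtype.val hab
    rcases eq_zero_of_irr hA a b (hS a) h with h0 | h0
    · exact Or.inl (Subtype.ext h0)
    · exact Or.inr (Subtype.ext h0)⟩
  haveI : Nontrivial S := inferInstance
  haveI : IsDomain S := NoZeroDivisors.to_isDomain S
  let f : G →* S :=
    { toFun := fun g => ⟨ρ g, (Subalgebra.mem_centralizer_iff F).mpr (by
        intro x hx
        rw [Set.mem_singleton_iff.mp hx]
        exact (hcomm g).symm)⟩
      map_one' := Subtype.ext (map_one ρ)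
      map_mul' := fun a b => Subtype.ext (map_mul ρ a b) }
  have hf : Function.Injective f := by
    intro a b hab
    exact hρ (congrArg Subtype.val hab)
  exact isCyclic_of_injective_ringHom f hf

end irr

section order

variable {F : Type*} [Field F] [Fintype F]

/-- the fixed space of a matrix -/
def fixSub (A : Matrix (Fin 4) (Fin 4) F) : Submodule F (Fin 4 → F) where
  carrier := {v | A.mulVec v = v}
  zero_mem' := Matrix.mulVec_zero A
  add_mem' := by
    intro a b ha hb
    show A.mulVec (a + b) = a + b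
    rw [Matrix.mulVec_add, ha, hb]
  smul_mem' := by
    intro c a ha
    show A.mulVec (c • a) = c • a
    rw [Matrix.mulVec_smul, ha]

theorem card_modEq_of_invariant {p : ℕ} [Fact p.Prime] (A : Matrix (Fin 4) (Fin 4) F)
    (hAp : A ^ p = 1) (W : Submodule F (Fin 4 → F)) (hW : ∀ w ∈ W, A.mulVec w ∈ W) :
    Nat.card W ≡ Nat.card (W ⊓ fixSub A : Submodule F (Fin 4 → F)) [MOD p] := by
  classical
  let f : Function.End W := fun w => ⟨A.mulVec w, hW w w.2⟩
  have hiter : ∀ (k : ℕ) (w : W), ((f ^ k) w : Fin 4 → F) = (A ^ k).mulVec w := by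
    intro k
    induction k with
    | zero =>
      intro w
      rw [pow_zero, pow_zero, Matrix.one_mulVec]
      rfl
    | succ k ih =>
      intro w
      rw [pow_succ', pow_succ']
      show A.mulVec ((f ^ k) w : Fin 4 → F) = _
      rw [ih, Matrix.mulVec_mulVec]
  have hf : f ^ p ^ 1 = 1 := by
    rw [pow_one]
    funext w
    apply Subtype.ext
    rw [hiter, hAp, Matrix.one_mulVec]
    rfl
  have h1 := Equiv.Perm.card_fixedPoints_modEq (p := p) (n := 1) hf
  rw [← Nat.card_eq_fintype_card, ← Nat.card_eq_fintype_card] at h1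
  have h2 : Nat.card (Function.fixedPoints f) =
      Nat.card (W ⊓ fixSub A : Submodule F (Fin 4 → F)) := by
    apply Nat.card_congr
    refine ⟨fun x => ⟨x.1.1, x.1.2, ?_⟩, fun y => ⟨⟨y.1, y.2.1⟩, ?_⟩, ?_, ?_⟩
    · have := x.2
      exact congrArg Subtype.val this
    · apply Subtype.ext
      exact y.2.2
    · intro x; rfl
    · intro y; rfl
  rw [h2] at h1
  exact h1

theorem irr_of_order {p : ℕ} [Fact p.Prime] (A : Matrix (Fin 4) (Fin 4) F)
    (hAp : A ^ p = 1) (hA1 : A ≠ 1)
    (hx0 : ((Fintype.card F : ℕ) : ZMod p) ≠ 0)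
    (hx1 : ((Fintype.card F : ℕ) : ZMod p) ≠ 1)
    (hx2 : ((Fintype.card F : ℕ) : ZMod p) ^ 2 ≠ 1)
    (hx3 : ((Fintype.card F : ℕ) : ZMod p) ^ 3 ≠ 1) : Irr A := by
  classical
  have hcardW : ∀ W : Submodule F (Fin 4 → F),
      Nat.card W = Fintype.card F ^ Module.finrank F W := by
    intro W
    rw [Nat.card_eq_fintype_card]
    exact Module.card_eq_pow_finrank
  have hle : ∀ W : Submodule F (Fin 4 → F), Module.finrank F W ≤ 4 := by
    intro W
    have := Submodule.finrank_le W
    rwa [Module.finrank_fin_fun] at this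
  -- the fixed space is trivial
  have hfix : fixSub A = ⊥ := by
    have h1 := card_modEq_of_invariant A hAp ⊤ (fun w _ => trivial)
    rw [top_inf_eq, hcardW, hcardW, finrank_top, Module.finrank_fin_fun] at h1
    have h2 := (ZMod.natCast_eq_natCast_iff _ _ p).mpr h1
    push_cast at h2
    have he := hle (fixSub A)
    set e := Module.finrank F (fixSub A) with hedef
    set x := ((Fintype.card F : ℕ) : ZMod p) with hxdef
    have he4 : e ≠ 4 := by
      intro he4
      apply hA1
      have htop : fixSub A = ⊤ := by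
        apply Submodule.eq_top_of_finrank_eq
        rw [Module.finrank_fin_fun, ← hedef, he4]
      rw [Matrix.ext_iff_mulVec]
      intro v
      have : v ∈ fixSub A := by rw [htop]; trivial
      rw [Matrix.one_mulVec]
      exact this
    have he0 : e = 0 := by
      interval_cases e
      · rfl
      · exfalso
        apply hx3
        have : x * x ^ 3 = x * 1 := by rw [mul_one]; rw [← pow_succ']; simpa using h2
        exact mul_left_cancel₀ hx0 this
      · exfalso
        apply hx2
        have : x ^ 2 * x ^ 2 = x ^ 2 * 1 := by rw [mul_one, ← pow_add]; exact h2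
        exact mul_left_cancel₀ (pow_ne_zero 2 hx0) this
      · exfalso
        apply hx1
        have : x ^ 3 * x = x ^ 3 * 1 := by rw [mul_one, ← pow_succ]; exact h2
        exact mul_left_cancel₀ (pow_ne_zero 3 hx0) this
      · exact absurd rfl he4
    exact Submodule.finrank_eq_zero.mp he0
  intro W hW
  have h1 := card_modEq_of_invariant A hAp W hW
  rw [hfix, inf_bot_eq, hcardW, hcardW, finrank_bot, pow_zero] at h1
  have h2 := (ZMod.natCast_eq_natCast_iff _ _ p).mpr h1
  push_cast at h2
  have hd := hle W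
  set d := Module.finrank F W with hddef
  set x := ((Fintype.card F : ℕ) : ZMod p) with hxdef
  interval_cases d
  · left
    exact Submodule.finrank_eq_zero.mp hddef.symm
  · exfalso
    apply hx1
    simpa using h2
  · exact absurd h2 hx2
  · exact absurd h2 hx3
  · right
    apply Submodule.eq_top_of_finrank_eq
    rw [Module.finrank_fin_fun, ← hddef]

end order

end Cfsg.Agent.Lib.Helper14.Sz
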