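import Mathlib
import Cfsg.Agent.Lib.Helper14.SzL
import Cfsg.Agent.Lib.Helper14.SzM

/-!
# Suzuki groups: Sylow subgroups for odd primes are cyclic (helper14)
-/

set_option autoImplicit false
set_option maxHeartbeats 2000000
set_option linter.unusedSimpArgs false
set_option linter.unusedSectionVars false

namespace Cfsg.Agent.Lib.Helper14.Sz

open Cfsg
open scoped Pointwise

local notation "SL4" => Matrix.SpecialLinearGroup (Fin 4)

section numth

/-- the arithmetic conditions for an odd prime divisor of `q ^ 2 + 1` -/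
theorem zmod_conds {p : ℕ} [Fact p.Prime] (hp2 : p ≠ 2) (q : ℕ) (h : p ∣ q ^ 2 + 1) :
    ((q : ℕ) : ZMod p) ≠ 0 ∧ ((q : ℕ) : ZMod p) ≠ 1 ∧ ((q : ℕ) : ZMod p) ^ 2 ≠ 1 ∧
      ((q : ℕ) : ZMod p) ^ 3 ≠ 1 := by
  have h1 : ((q : ℕ) : ZMod p) ^ 2 + 1 = 0 := by
    have := (ZMod.natCast_eq_zero_iff (q ^ 2 + 1) p).mpr h
    push_cast at this
    exact this
  have h2 : (2 : ZMod p) ≠ 0 := by
    intro h2
    have : ((2 : ℕ) : ZMod p) = 0 := by exact_mod_cast h2
    rw [ZMod.natCast_eq_zero_iff] at this
    have := (Nat.prime_dvd_prime_iff_eq (Fact.out : p.Prime) Nat.prime_two).mp this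
    exact hp2 this
  set x := ((q : ℕ) : ZMod p) with hx
  have h11 : (1 : ZMod p) + 1 = 2 := by norm_num
  refine ⟨?_, ?_, ?_, ?_⟩
  · intro e
    rw [e] at h1
    simp at h1
  · intro e
    rw [e, one_pow, h11] at h1
    exact h2 h1
  · intro e
    rw [e, h11] at h1
    exact h2 h1
  · intro e
    have h3 : x ^ 2 = -1 := eq_neg_of_add_eq_zero_left h1
    have h4 : x ^ 3 = -x := by rw [pow_succ, h3]; ring
    rw [h4] at e
    have h5 : x = -1 := by rw [← e]; ring
    rw [h5] at h3
    have : (1 : ZMod p) = -1 := by rw [← h3]; ring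
    apply h2
    rw [← h11]
    nth_rewrite 2 [this]
    ring

end numth

section sylow

variable {F : Type*} [Field F] [Fintype F] [CharP F 2] {m : ℕ}

/-- the underlying matrix -/
def matHom (F : Type*) [Field F] (m : ℕ) : Sz F m →* Matrix (Fin 4) (Fin 4) F where
  toFun g := (g : SL4 F).val
  map_one' := rfl
  map_mul' _ _ := rfl

theorem matHom_injective : Function.Injective (matHom F m) := by
  intro a b h
  exact Subtype.ext (Subtype.ext h)

theorem isCyclic_of_fix_two (hm : 1 ≤ m) (hF : Fintype.card F = 2 ^ (2 * m + 1))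
    (Q : Subgroup (Sz F m)) (a b : suzukiOvoid F m) (hab : a ≠ b)
    (ha : ∀ x ∈ Q, x • a = a) (hb : ∀ x ∈ Q, x • b = b) : IsCyclic Q := by
  classical
  obtain ⟨g, hga, hgb⟩ := to_std hF a b hab
  have hex : ∀ x : Q, ∃ k : Fˣ, g * (x : Sz F m) * g⁻¹ = HS hF k := by
    intro x
    apply eq_HS_of_fix hm hF
    · rw [mul_smul, mul_smul, ← hga, inv_smul_smul, ha x x.2]
    · rw [mul_smul, mul_smul, ← hgb, inv_smul_smul, hb x x.2]
  choose ψ hψ using hex
  let ψh : Q →* Fˣ := MonoidHom.mk' ψ (by
    intro x y
    apply HS_injective hF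
    rw [HS_mul, ← hψ, ← hψ, ← hψ, Subgroup.coe_mul]
    group)
  have hinj : Function.Injective ψh := by
    intro x y hxy
    have h1 : ψ x = ψ y := hxy
    have h2 : g * (x : Sz F m) * g⁻¹ = g * (y : Sz F m) * g⁻¹ := by rw [hψ, hψ, h1]
    apply Subtype.ext
    have h3 := mul_right_cancel h2
    exact mul_left_cancel h3
  exact isCyclic_of_injective ψh hinj

theorem sylow_cyclic (hm : 1 ≤ m) (hF : Fintype.card F = 2 ^ (2 * m + 1)) {p : ℕ}
    [Fact p.Prime] (hp : p ≠ 2) (P : Sylow p (Sz F m)) : IsCyclic P := by
  classical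
  have hpp : p.Prime := Fact.out
  have hPp : IsPGroup p P := P.isPGroup'
  set q : ℕ := 2 ^ (2 * m + 1) with hq
  by_cases hdiv : p ∣ q - 1
  · -- `P` fixes two points
    have h1 := hPp.card_modEq_card_fixedPoints (suzukiOvoid F m)
    rw [card_ovoid hF, ← hq] at h1
    have hq1 : 1 ≤ q := Nat.one_le_two_pow
    have h2 : q ≡ 1 [MOD p] := ((Nat.modEq_iff_dvd' hq1).mpr hdiv).symm
    have h3 : q ^ 2 + 1 ≡ 2 [MOD p] := by
      have := (h2.pow 2).add_right 1
      simpa using this
    have h4 : 2 ≡ Nat.card (MulAction.fixedPoints P (suzukiOvoid F m)) [MOD p] :=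
      h3.symm.trans h1
    have hp3 : 3 ≤ p := by
      have := hpp.two_le
      omega
    have h5 : 1 < Nat.card (MulAction.fixedPoints P (suzukiOvoid F m)) := by
      by_contra hle
      push Not at hle
      interval_cases hc : Nat.card (MulAction.fixedPoints P (suzukiOvoid F m))
      · have := (Nat.modEq_zero_iff_dvd.mp h4)
        have := Nat.le_of_dvd (by norm_num) this
        omega
      · have := (Nat.modEq_iff_dvd' (by norm_num : 1 ≤ 2)).mp h4.symm
        have := Nat.le_of_dvd (by norm_num) this
        omega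
    haveI : Nontrivial (MulAction.fixedPoints P (suzukiOvoid F m)) :=
      Finite.one_lt_card_iff_nontrivial.mp h5
    obtain ⟨a, b, hab⟩ := exists_pair_ne (MulAction.fixedPoints P (suzukiOvoid F m))
    apply isCyclic_of_fix_two hm hF (P : Subgroup (Sz F m)) a.1 b.1
    · intro e
      exact hab (Subtype.ext e)
    · intro x hx
      exact a.2 ⟨x, hx⟩
    · intro x hx
      exact b.2 ⟨x, hx⟩
  · by_cases hnt : Nontrivial P
    · -- `p` divides `q ^ 2 + 1`
      have hdvd : p ∣ Nat.card (Sz F m) := by
        rcases hPp.card_eq_or_dvd with h1 | h1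
        · exfalso
          have := Finite.one_lt_card_iff_nontrivial.mpr hnt
          omega
        · exact h1.trans (Subgroup.card_subgroup_dvd_card _)
      rw [card_Sz hm hF, ← hq] at hdvd
      have hdvd2 : p ∣ q ^ 2 + 1 := by
        rcases (Nat.Prime.dvd_mul hpp).mp hdvd with h1 | h1
        · rcases (Nat.Prime.dvd_mul hpp).mp h1 with h2 | h2
          · exfalso
            have h3 := hpp.dvd_of_dvd_pow h2
            have h4 := hpp.dvd_of_dvd_pow h3
            exact hp ((Nat.prime_dvd_prime_iff_eq hpp Nat.prime_two).mp h4)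
          · exact h2
        · exact absurd h1 hdiv
      obtain ⟨hx0, hx1, hx2, hx3⟩ := zmod_conds hp q hdvd2
      -- a central element of order `p`
      haveI := hnt
      haveI : Nontrivial (Subgroup.center P) := hPp.center_nontrivial
      have hZp : IsPGroup p (Subgroup.center P) := hPp.to_subgroup _
      have hdvdZ : p ∣ Nat.card (Subgroup.center P) := by
        rcases hZp.card_eq_or_dvd with h1 | h1
        · exfalso
          have := Finite.one_lt_card_iff_nontrivial.mpr
            (inferInstance : Nontrivial (Subgroup.center P))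
          omega
        · exact h1
      obtain ⟨z, hz⟩ := exists_prime_orderOf_dvd_card' p hdvdZ
      let ρ : P →* Matrix (Fin 4) (Fin 4) F := (matHom F m).comp (P : Subgroup (Sz F m)).subtype
      have hρ : Function.Injective ρ := by
        intro a b hab
        exact Subtype.ext (matHom_injective hab)
      set A := ρ (z : P) with hA
      have hzp : (z : P) ^ p = 1 := by
        have := pow_orderOf_eq_one z
        rw [hz] at this
        have := congrArg Subtype.val this
        simpa using this
      have hAp : A ^ p = 1 := by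
        rw [hA, ← map_pow, hzp, map_one]
      have hA1 : A ≠ 1 := by
        intro e
        rw [hA, ← map_one ρ] at e
        have h1 := hρ e
        have h2 : z = 1 := Subtype.ext h1
        rw [h2, orderOf_one] at hz
        exact hpp.one_lt.ne hz
      have hirr : Irr A := by
        apply irr_of_order A hAp hA1
        · rw [hF]; exact hx0
        · rw [hF]; exact hx1
        · rw [hF]; exact hx2
        · rw [hF]; exact hx3
      apply isCyclic_of_irr hirr ρ hρ
      intro x
      have := Subgroup.mem_center_iff.mp z.2 x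
      rw [hA, ← map_mul, ← map_mul, this]
    · rw [not_nontrivial_iff_subsingleton] at hnt
      haveI := hnt
      exact isCyclic_of_subsingleton

end sylow

end Cfsg.Agent.Lib.Helper14.Sz
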