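import Mathlib
import Cfsg.Agent.Lib.Helper14.SzN

/-!
# Suzuki groups are CN-groups (helper14)
-/

set_option autoImplicit false
set_option maxHeartbeats 2000000
set_option linter.unusedSimpArgs false
set_option linter.unusedSectionVars false

namespace Cfsg.Agent.Lib.Helper14.Sz

open Cfsg
open scoped Pointwise

local notation "SL4" => Matrix.SpecialLinearGroup (Fin 4)

section general

theorem nilpotent_of_comm {K : Type*} [Group K] (h : ∀ a b : K, a * b = b * a) :
    Group.IsNilpotent K :=
  ⟨⟨1, Subgroup.upperCentralSeries_one_eq_top_iff.mpr ⟨⟨h⟩⟩⟩⟩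

theorem nilpotent_of_le {G : Type*} [Group G] {H K : Subgroup G} (h : H ≤ K)
    (hK : Group.IsNilpotent K) : Group.IsNilpotent H := by
  haveI := hK
  exact (Group.isNilpotent_congr (Subgroup.subgroupOfEquivOfLe h)).mp inferInstance

theorem nilpotent_centralizer_conj {G : Type*} [Group G] (x g : G)
    (h : Group.IsNilpotent (Subgroup.centralizer ({x⁻¹ * g * x} : Set G))) :
    Group.IsNilpotent (Subgroup.centralizer ({g} : Set G)) := by
  let φ : Subgroup.centralizer ({g} : Set G) →* Subgroup.centralizer ({x⁻¹ * g * x} : Set G) :=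
    MonoidHom.mk' (fun c => ⟨x⁻¹ * c * x, by
      rw [Subgroup.mem_centralizer_singleton_iff]
      have := Subgroup.mem_centralizer_singleton_iff.mp c.2
      calc x⁻¹ * (c : G) * x * (x⁻¹ * g * x) = x⁻¹ * ((c : G) * g) * x := by group
        _ = x⁻¹ * (g * (c : G)) * x := by rw [this]
        _ = _ := by group⟩) (by
      intro a b
      apply Subtype.ext
      show x⁻¹ * ((a : G) * (b : G)) * x = (x⁻¹ * a * x) * (x⁻¹ * b * x)
      group)
  have hφ : Function.Injective φ := by
    intro a b hab
    have h1 : x⁻¹ * (a : G) * x = x⁻¹ * (b : G) * x := congrArg Subtype.val hab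
    exact Subtype.ext (mul_left_cancel (mul_right_cancel h1))
  haveI := h
  exact (Group.isNilpotent_congr (MonoidHom.ofInjective hφ)).mpr inferInstance

end general

section cn

variable {F : Type*} [Field F] [Fintype F] [CharP F 2] {m : ℕ}

theorem TSHS_inj (hF : Fintype.card F = 2 ^ (2 * m + 1)) {a b a' b' : F} {k k' : Fˣ}
    (h : TS hF a b * HS hF k = TS hF a' b' * HS hF k') : a = a' ∧ b = b' ∧ k = k' := by
  have h1 := congrArg (fun g : Sz F m => g • opt m (0 : F) 0) h
  simp only [mul_smul, HS_opt, TS_opt, mul_zero, zero_add] at h1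
  obtain ⟨ha, hb⟩ := opt_injective h1
  have hb' : b = b' := by simpa using hb
  subst ha
  subst hb'
  exact ⟨rfl, rfl, HS_injective hF (mul_left_cancel h)⟩

theorem TS_fix_only (hF : Fintype.card F = 2 ^ (2 * m + 1)) {a b : F} (hne : TS hF a b ≠ 1)
    (p : suzukiOvoid F m) (hp : TS hF a b • p = p) : p = oinf F m := by
  rcases ovoid_cases p with e | ⟨x, y, e⟩
  · exact e
  · exfalso
    rw [e, TS_opt] at hp
    obtain ⟨h1, h2⟩ := opt_injective hp
    have ha : a = 0 := by
      have : x + a = x + 0 := by rw [h1, add_zero]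
      exact add_left_cancel this
    subst ha
    rw [sg_zero, zero_mul, add_zero] at h2
    have hb : b = 0 := by
      have : y + b = y + 0 := by rw [h2, add_zero]
      exact add_left_cancel this
    subst hb
    exact hne (TS_zero hF)

theorem isPGroup_TSub (hF : Fintype.card F = 2 ^ (2 * m + 1)) : IsPGroup 2 (TSub (m := m) hF) := by
  apply IsPGroup.of_card (n := 2 * (2 * m + 1))
  rw [card_TSub hF, ← pow_mul, mul_comm]

/-- centralizers of non-trivial unipotent elements are 2-groups -/
theorem centralizer_TS (hm : 1 ≤ m) (hF : Fintype.card F = 2 ^ (2 * m + 1)) {a b : F}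
    (hne : TS hF a b ≠ 1) : Subgroup.centralizer ({TS hF a b} : Set (Sz F m)) ≤ TSub hF := by
  intro c hc
  rw [Subgroup.mem_centralizer_singleton_iff] at hc
  have h1 : c • oinf F m = oinf F m := by
    apply TS_fix_only hF hne
    rw [← mul_smul, ← hc, mul_smul, TS_oinf]
  obtain ⟨a', b', k', rfl⟩ := fix_oinf hm hF c h1
  have h2 : TS hF a' b' * HS hF k' * TS hF a b =
      TS hF (a' + (k' : F) * a) (b' + sg m (k' : F) * (k' : F) * b + sg m a' * ((k' : F) * a)) *
        HS hF k' := by
    rw [mul_assoc, HS_mul_TS, ← mul_assoc, TS_mul]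
  have h3 : TS hF a b * (TS hF a' b' * HS hF k') =
      TS hF (a + a') (b + b' + sg m a * a') * HS hF k' := by
    rw [← mul_assoc, TS_mul]
  rw [h2, h3] at hc
  obtain ⟨e1, e2, -⟩ := TSHS_inj hF hc
  have hk : k' = 1 := by
    have e1' : (k' : F) * a = a := by
      have : a' + (k' : F) * a = a' + a := by rw [e1, add_comm]
      exact add_left_cancel this
    by_cases ha : a = 0
    · subst ha
      have hb : b ≠ 0 := by
        rintro rfl
        exact hne (TS_zero hF)
      rw [mul_zero, mul_zero, add_zero, sg_zero, zero_mul, add_zero] at e2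
      have e2' : sg m (k' : F) * (k' : F) * b = b := by
        have : b' + sg m (k' : F) * (k' : F) * b = b' + b := by rw [e2, add_comm]
        exact add_left_cancel this
      have e3 : sg m (k' : F) * (k' : F) = 1 := by
        have : sg m (k' : F) * (k' : F) * b = 1 * b := by rw [e2', one_mul]
        exact mul_right_cancel₀ hb this
      apply Units.ext
      have := sg_mul_self_injective (m := m) hF (a₁ := (k' : F)) (a₂ := 1) (by
        simp only [sg_one, one_mul]
        rw [e3])
      exact this
    · apply Units.ext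
      have : (k' : F) * a = 1 * a := by rw [e1', one_mul]
      exact mul_right_cancel₀ ha this
  subst hk
  rw [HS_one, mul_one]
  exact ⟨a', b', rfl⟩

theorem WS_opt_zero (hF : Fintype.card F = 2 ^ (2 * m + 1)) :
    WS hF • opt m (0 : F) 0 = oinf F m := by
  rw [← WS_oinf hF, ← mul_smul, WS_mul_self, one_smul]

/-- centralizers of non-trivial torus elements lie in the torus -/
theorem centralizer_HS (hm : 1 ≤ m) (hF : Fintype.card F = 2 ^ (2 * m + 1)) {k : Fˣ}
    (hk : k ≠ 1) (c : Sz F m) (hc : c ∈ Subgroup.centralizer ({HS hF k} : Set (Sz F m))) :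
    ∃ l : Fˣ, c = HS hF l := by
  rw [Subgroup.mem_centralizer_singleton_iff] at hc
  have hfixed : ∀ p : suzukiOvoid F m, HS hF k • p = p → p = oinf F m ∨ p = opt m 0 0 := by
    intro p hp
    rcases ovoid_cases p with e | ⟨x, y, e⟩
    · exact Or.inl e
    · right
      rw [e] at hp ⊢
      by_contra hne
      have hxy : ¬ (x = 0 ∧ y = 0) := by
        rintro ⟨rfl, rfl⟩
        exact hne rfl
      exact hk (HS_fix_third hF k x y hxy hp)
  have hperm : ∀ p : suzukiOvoid F m, HS hF k • p = p → HS hF k • (c • p) = c • p := by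
    intro p hp
    rw [← mul_smul, ← hc, mul_smul, hp]
  have h0 : HS hF k • opt m (0 : F) 0 = opt m 0 0 := by
    rw [HS_opt]
    simp
  have hne : c • oinf F m ≠ c • opt m (0 : F) 0 := by
    intro e
    exact opt_ne_oinf 0 0 (MulAction.injective c e).symm
  rcases hfixed _ (hperm _ (HS_oinf hF k)) with e1 | e1
  · rcases hfixed _ (hperm _ h0) with e2 | e2
    · exact absurd (e1.trans e2.symm) hne
    · exact eq_HS_of_fix hm hF c e1 e2
  · rcases hfixed _ (hperm _ h0) with e2 | e2
    · exfalso
      have f1 : (WS hF * c) • oinf F m = oinf F m := by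
        rw [mul_smul, e1, WS_opt_zero]
      have f2 : (WS hF * c) • opt m (0 : F) 0 = opt m 0 0 := by
        rw [mul_smul, e2, WS_oinf]
      obtain ⟨l, hl⟩ := eq_HS_of_fix hm hF _ f1 f2
      have hc' : c = WS hF * HS hF l := by
        rw [← hl, ← mul_assoc, WS_mul_self, one_mul]
      rw [hc'] at hc
      have h3 : WS hF * (WS hF * HS hF l * HS hF k) = WS hF * (HS hF k * (WS hF * HS hF l)) := by
        rw [hc]
      have h4 : WS hF * (WS hF * HS hF l * HS hF k) = HS hF (l * k) := by
        rw [← mul_assoc, ← mul_assoc, WS_mul_self, one_mul, HS_mul]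
      have h5 : WS hF * (HS hF k * (WS hF * HS hF l)) = HS hF (k⁻¹ * l) := by
        rw [← mul_assoc, ← mul_assoc, WS_HS, HS_mul]
      rw [h4, h5] at h3
      have h6 := HS_injective hF h3
      have h7 : k * k = 1 := by
        have : l * k = l * k⁻¹ := by rw [h6, mul_comm]
        have := mul_left_cancel this
        nth_rewrite 2 [this]
        exact mul_inv_cancel k
      apply hk
      apply Units.ext
      have h8 : (k : F) ^ 2 = (1 : F) ^ 2 := by
        rw [one_pow, sq, ← Units.val_mul, h7, Units.val_one]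
      exact sq_injective h8
    · exact absurd (e1.trans e2.symm) hne

/-- a Borel element with non-trivial torus part fixes an affine point -/
theorem exists_fix_affine (hF : Fintype.card F = 2 ^ (2 * m + 1)) (a b : F) {k : Fˣ}
    (hk : k ≠ 1) : ∃ x y : F, (TS hF a b * HS hF k) • opt m x y = opt m x y := by
  have hk1 : (k : F) + 1 ≠ 0 := by
    intro e
    apply hk
    apply Units.ext
    rw [Units.val_one]
    exact CharTwo.add_eq_zero.mp e
  have hκ : sg m (k : F) * (k : F) + 1 ≠ 0 := by
    intro e
    apply hk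
    apply Units.ext
    have e' := CharTwo.add_eq_zero.mp e
    have := sg_mul_self_injective (m := m) hF (a₁ := (k : F)) (a₂ := 1) (by
      simp only [sg_one, one_mul]
      rw [e'])
    exact this
  set x : F := a / ((k : F) + 1) with hx
  set w : F := b + sg m a * ((k : F) * x) with hw
  set y : F := w / (sg m (k : F) * (k : F) + 1) with hy
  refine ⟨x, y, ?_⟩
  rw [mul_smul, HS_opt, TS_opt]
  have ha : a = ((k : F) + 1) * x := by
    rw [hx]
    field_simp
  have hwy : w = (sg m (k : F) * (k : F) + 1) * y := by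
    rw [hy]
    field_simp
  congr 1
  · have : (k : F) * x + a = x + ((k : F) * x + (k : F) * x) := by
      rw [ha]
      ring
    rw [this, CharTwo.add_self_eq_zero, add_zero]
  · have : sg m (k : F) * (k : F) * y + b + sg m a * ((k : F) * x) =
        sg m (k : F) * (k : F) * y + w := by
      rw [hw]
      ring
    rw [this, hwy]
    have : sg m (k : F) * (k : F) * y + (sg m (k : F) * (k : F) + 1) * y =
        y + (sg m (k : F) * (k : F) * y + sg m (k : F) * (k : F) * y) := by ring
    rw [this, CharTwo.add_self_eq_zero, add_zero]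

theorem nilpotent_centralizer_HS (hm : 1 ≤ m) (hF : Fintype.card F = 2 ^ (2 * m + 1)) {k : Fˣ}
    (hk : k ≠ 1) : Group.IsNilpotent (Subgroup.centralizer ({HS hF k} : Set (Sz F m))) := by
  apply nilpotent_of_comm
  intro c₁ c₂
  obtain ⟨l₁, h₁⟩ := centralizer_HS hm hF hk c₁.1 c₁.2
  obtain ⟨l₂, h₂⟩ := centralizer_HS hm hF hk c₂.1 c₂.2
  apply Subtype.ext
  show (c₁ : Sz F m) * c₂ = c₂ * c₁
  rw [h₁, h₂, ← HS_mul, ← HS_mul, mul_comm]

/-- non-trivial elements fixing the point at infinity have nilpotent centralizers -/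
theorem nilpotent_centralizer_of_fix_oinf (hm : 1 ≤ m) (hF : Fintype.card F = 2 ^ (2 * m + 1))
    (g : Sz F m) (hg : g ≠ 1) (hfix : g • oinf F m = oinf F m) :
    Group.IsNilpotent (Subgroup.centralizer ({g} : Set (Sz F m))) := by
  haveI : Fact (Nat.Prime 2) := ⟨Nat.prime_two⟩
  obtain ⟨a, b, k, rfl⟩ := fix_oinf hm hF g hfix
  by_cases hk : k = 1
  · subst hk
    rw [HS_one, mul_one] at hg ⊢
    exact nilpotent_of_le (centralizer_TS hm hF hg) (isPGroup_TSub hF).isNilpotent
  · obtain ⟨x, y, hxy⟩ := exists_fix_affine hF a b hk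
    set g := TS hF a b * HS hF k with hgdef
    apply nilpotent_centralizer_conj (TS hF x y)
    have f1 : ((TS hF x y)⁻¹ * g * TS hF x y) • oinf F m = oinf F m := by
      rw [mul_smul, mul_smul, TS_oinf, hfix, inv_smul_eq_iff, TS_oinf]
    have f2 : ((TS hF x y)⁻¹ * g * TS hF x y) • opt m (0 : F) 0 = opt m 0 0 := by
      have : TS hF x y • opt m (0 : F) 0 = opt m x y := by
        rw [TS_opt]
        simp
      rw [mul_smul, mul_smul, this, hxy, inv_smul_eq_iff, this]
    obtain ⟨l, hl⟩ := eq_HS_of_fix hm hF _ f1 f2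
    rw [hl]
    apply nilpotent_centralizer_HS hm hF
    rintro rfl
    rw [HS_one] at hl
    apply hg
    have : g = TS hF x y * ((TS hF x y)⁻¹ * g * TS hF x y) * (TS hF x y)⁻¹ := by group
    rw [this, hl]
    group

theorem nilpotent_centralizer_of_fix (hm : 1 ≤ m) (hF : Fintype.card F = 2 ^ (2 * m + 1))
    (g : Sz F m) (hg : g ≠ 1) (p : suzukiOvoid F m) (hfix : g • p = p) :
    Group.IsNilpotent (Subgroup.centralizer ({g} : Set (Sz F m))) := by
  obtain ⟨x, hx⟩ := exists_smul_oinf hF p
  apply nilpotent_centralizer_conj x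
  apply nilpotent_centralizer_of_fix_oinf hm hF
  · intro e
    apply hg
    have : g = x * (x⁻¹ * g * x) * x⁻¹ := by group
    rw [this, e]
    group
  · rw [mul_smul, mul_smul, hx, hfix, ← hx, inv_smul_smul]

theorem nilpotent_centralizer_of_no_fix (hm : 1 ≤ m) (hF : Fintype.card F = 2 ^ (2 * m + 1))
    (g : Sz F m) {p : ℕ} [Fact p.Prime] (hord : orderOf g = p)
    (hnofix : ∀ a : suzukiOvoid F m, g • a ≠ a) :
    Group.IsNilpotent (Subgroup.centralizer ({g} : Set (Sz F m))) := by
  classical
  have hpp : p.Prime := Fact.out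
  set q : ℕ := 2 ^ (2 * m + 1) with hq
  -- `p` divides `q ^ 2 + 1`
  have hpg : IsPGroup p (Subgroup.zpowers g) :=
    IsPGroup.of_card (n := 1) (by rw [Nat.card_zpowers, hord, pow_one])
  have h1 := hpg.card_modEq_card_fixedPoints (suzukiOvoid F m)
  haveI : IsEmpty (MulAction.fixedPoints (Subgroup.zpowers g) (suzukiOvoid F m)) :=
    ⟨fun a => hnofix a.1 (a.2 ⟨g, Subgroup.mem_zpowers g⟩)⟩
  have hcard0 : Nat.card (MulAction.fixedPoints (Subgroup.zpowers g) (suzukiOvoid F m)) = 0 :=
    Nat.card_of_isEmpty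
  rw [hcard0, card_ovoid hF, ← hq] at h1
  have hdvd : p ∣ q ^ 2 + 1 := (Nat.modEq_zero_iff_dvd).mp h1
  have hp2 : p ≠ 2 := by
    rintro rfl
    have h2 : 2 ∣ q ^ 2 := by
      rw [hq]
      exact dvd_pow (dvd_pow_self 2 (by omega)) (by norm_num)
    have := (Nat.dvd_add_right h2).mp hdvd
    omega
  obtain ⟨hx0, hx1, hx2, hx3⟩ := zmod_conds hp2 q hdvd
  let ρ : Subgroup.centralizer ({g} : Set (Sz F m)) →* Matrix (Fin 4) (Fin 4) F :=
    (matHom F m).comp (Subgroup.centralizer ({g} : Set (Sz F m))).subtype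
  have hρ : Function.Injective ρ := by
    intro a b hab
    exact Subtype.ext (matHom_injective hab)
  set A := matHom F m g with hA
  have hAp : A ^ p = 1 := by
    rw [hA, ← map_pow, ← hord, pow_orderOf_eq_one, map_one]
  have hA1 : A ≠ 1 := by
    intro e
    rw [hA, ← map_one (matHom F m)] at e
    have h2 := matHom_injective e
    rw [h2, orderOf_one] at hord
    exact hpp.one_lt.ne hord
  have hirr : Irr A := by
    apply irr_of_order A hAp hA1
    · rw [hF]; exact hx0
    · rw [hF]; exact hx1
    · rw [hF]; exact hx2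
    · rw [hF]; exact hx3
  haveI : IsCyclic (Subgroup.centralizer ({g} : Set (Sz F m))) := by
    apply isCyclic_of_irr hirr ρ hρ
    intro c
    have := Subgroup.mem_centralizer_singleton_iff.mp c.2
    show matHom F m c * matHom F m g = matHom F m g * matHom F m c
    rw [← map_mul, ← map_mul, this]
  apply nilpotent_of_comm
  intro a b
  exact (IsCyclic.commutative (α := Subgroup.centralizer ({g} : Set (Sz F m)))).is_comm.comm a b

theorem cn_group (hm : 1 ≤ m) (hF : Fintype.card F = 2 ^ (2 * m + 1)) :
    IsCNGroup (Sz F m) := by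
  intro g hg
  have hn0 : orderOf g ≠ 0 := (orderOf_pos g).ne'
  have hn1 : orderOf g ≠ 1 := fun e => hg (orderOf_eq_one_iff.mp e)
  obtain ⟨p, hpp, hpdvd⟩ := Nat.exists_prime_and_dvd hn1
  haveI : Fact p.Prime := ⟨hpp⟩
  set g' := g ^ (orderOf g / p) with hg'
  have hord : orderOf g' = p := orderOf_pow_orderOf_div hn0 hpdvd
  have hle : Subgroup.centralizer ({g} : Set (Sz F m)) ≤ Subgroup.centralizer {g'} := by
    intro c hc
    rw [Subgroup.mem_centralizer_singleton_iff] at hc ⊢
    have : Commute c g := hc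
    exact (this.pow_right _).eq
  apply nilpotent_of_le hle
  have hg'1 : g' ≠ 1 := by
    intro e
    rw [e, orderOf_one] at hord
    exact hpp.one_lt.ne hord
  by_cases hfix : ∃ a : suzukiOvoid F m, g' • a = a
  · obtain ⟨a, ha⟩ := hfix
    exact nilpotent_centralizer_of_fix hm hF g' hg'1 a ha
  · push Not at hfix
    exact nilpotent_centralizer_of_no_fix hm hF g' hord hfix

end cn

end Cfsg.Agent.Lib.Helper14.Sz
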