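import Mathlib
import Cfsg.Agent.Lib.Helper14.SzO

/-!
# Suzuki groups: generation, Sylow normalizers, real 2-elements (helper14)
-/

set_option autoImplicit false
set_option maxHeartbeats 2000000
set_option linter.unusedSimpArgs false
set_option linter.unusedSectionVars false

namespace Cfsg.Agent.Lib.Helper14.Sz

open Cfsg
open scoped Pointwise

local notation "SL4" => Matrix.SpecialLinearGroup (Fin 4)

section hinv

variable {F : Type*} [Field F] [Fintype F] [CharP F 2] {m : ℕ}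

theorem sub_conj (hF : Fintype.card F = 2 ^ (2 * m + 1)) (M : Subgroup (Sz F m))
    (hH : ∀ k : Fˣ, HS hF k ∈ M) {x : Sz F m} (hx : x ∈ M) (k : Fˣ) :
    HS hF k * x * (HS hF k)⁻¹ ∈ M :=
  M.mul_mem (M.mul_mem (hH k) hx) (M.inv_mem (hH k))

theorem sub_center (hF : Fintype.card F = 2 ^ (2 * m + 1)) (M : Subgroup (Sz F m))
    (hH : ∀ k : Fˣ, HS hF k ∈ M) {b₀ : F} (hb₀ : b₀ ≠ 0) (h : TS hF 0 b₀ ∈ M) (b : F) :
    TS hF 0 b ∈ M := by
  by_cases hb : b = 0
  · rw [hb, TS_zero]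
    exact M.one_mem
  · obtain ⟨k', hk'⟩ := sg_mul_self_surjective (m := m) hF (b / b₀)
    simp only at hk'
    have hk0 : k' ≠ 0 := by
      rintro rfl
      rw [sg_zero, zero_mul] at hk'
      exact (div_ne_zero hb hb₀) hk'.symm
    have h1 := sub_conj hF M hH h (Units.mk0 k' hk0)
    rw [conj_HS_TS, Units.val_mk0, hk', mul_zero, div_mul_cancel₀ b hb₀] at h1
    exact h1

theorem sub_center' (hF : Fintype.card F = 2 ^ (2 * m + 1)) (M : Subgroup (Sz F m))
    (hH : ∀ k : Fˣ, HS hF k ∈ M) {a₀ b₀ : F} (hne : TS hF a₀ b₀ ≠ 1) (h : TS hF a₀ b₀ ∈ M)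
    (b : F) : TS hF 0 b ∈ M := by
  by_cases ha : a₀ = 0
  · subst ha
    have hb₀ : b₀ ≠ 0 := by
      rintro rfl
      exact hne (TS_zero hF)
    exact sub_center hF M hH hb₀ h b
  · have h1 := M.mul_mem h h
    rw [TS_mul, CharTwo.add_self_eq_zero, CharTwo.add_self_eq_zero, zero_add] at h1
    have h2 : sg m a₀ * a₀ ≠ 0 := mul_ne_zero (fun e => ha ((sg_eq_zero_iff m a₀).mp e)) ha
    exact sub_center hF M hH h2 h1 b

theorem sub_unip (hF : Fintype.card F = 2 ^ (2 * m + 1)) (M : Subgroup (Sz F m))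
    (hH : ∀ k : Fˣ, HS hF k ∈ M) {a₀ b₀ : F} (ha₀ : a₀ ≠ 0)
    (h : TS hF a₀ b₀ ∈ M) (a b : F) : TS hF a b ∈ M := by
  have hne : TS hF a₀ b₀ ≠ 1 := by
    rw [← TS_zero hF]
    intro e
    exact ha₀ (TS_injective hF e).1
  have hZ := sub_center' hF M hH hne h
  by_cases ha : a = 0
  · rw [ha]
    exact hZ b
  · have hk0 : a / a₀ ≠ 0 := div_ne_zero ha ha₀
    have h1 := sub_conj hF M hH h (Units.mk0 (a / a₀) hk0)
    rw [conj_HS_TS, Units.val_mk0, div_mul_cancel₀ a ha₀] at h1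
    have h2 := M.mul_mem h1 (hZ (sg m (a / a₀) * (a / a₀) * b₀ + b))
    rw [TS_mul, add_zero, mul_zero, add_zero, ← add_assoc, CharTwo.add_self_eq_zero,
      zero_add] at h2
    exact h2

/-- the torus as a homomorphism -/
def HSh (hF : Fintype.card F = 2 ^ (2 * m + 1)) : Fˣ →* Sz F m :=
  MonoidHom.mk' (HS hF) (fun k l => HS_mul hF k l)

theorem two_generated (hm : 1 ≤ m) (hF : Fintype.card F = 2 ^ (2 * m + 1)) :
    ∃ a b : Sz F m, Subgroup.closure ({a, b} : Set (Sz F m)) = ⊤ := by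
  classical
  obtain ⟨ζ, hζ⟩ := IsCyclic.exists_generator (α := Fˣ)
  refine ⟨HS hF ζ, TS hF 1 0 * WS hF, ?_⟩
  set M := Subgroup.closure ({HS hF ζ, TS hF 1 0 * WS hF} : Set (Sz F m)) with hM
  have ha : HS hF ζ ∈ M := Subgroup.subset_closure (by simp)
  have hb : TS hF 1 0 * WS hF ∈ M := Subgroup.subset_closure (by simp)
  have hH : ∀ k : Fˣ, HS hF k ∈ M := by
    intro k
    obtain ⟨n, hn⟩ := Subgroup.mem_zpowers_iff.mp (hζ k)
    have : HS hF k = (HS hF ζ) ^ n := by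
      rw [← hn]
      exact map_zpow (HSh hF) ζ n
    rw [this]
    exact M.zpow_mem ha n
  have hζ1 : ζ ≠ 1 := by
    rintro rfl
    have hcard : 1 < Fintype.card Fˣ := by
      rw [Fintype.card_units, hF]
      have : 2 ^ 2 ≤ 2 ^ (2 * m + 1) := Nat.pow_le_pow_right (by norm_num) (by omega)
      omega
    obtain ⟨k, hk⟩ := Fintype.exists_ne_of_one_lt_card hcard (1 : Fˣ)
    have := hζ k
    rw [Subgroup.zpowers_one_eq_bot, Subgroup.mem_bot] at this
    exact hk this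
  -- an element of the unipotent group
  have he : (TS hF 1 0 * WS hF) * HS hF ζ * (TS hF 1 0 * WS hF)⁻¹ * HS hF ζ ∈ M :=
    M.mul_mem (M.mul_mem (M.mul_mem hb ha) (M.inv_mem hb)) ha
  have he2 : (TS hF 1 0 * WS hF) * HS hF ζ * (TS hF 1 0 * WS hF)⁻¹ * HS hF ζ =
      TS hF 1 0 * (HS hF ζ⁻¹ * (TS hF 1 0)⁻¹ * (HS hF ζ⁻¹)⁻¹) := by
    have e1 : WS hF * HS hF ζ * WS hF = HS hF ζ⁻¹ := WS_HS hF ζ
    have e3 : (WS hF)⁻¹ = WS (m := m) hF := WS_inv hF
    have e4 : (HS hF ζ⁻¹)⁻¹ = HS (m := m) hF ζ := by rw [HS_inv, inv_inv]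
    calc (TS hF 1 0 * WS hF) * HS hF ζ * (TS hF 1 0 * WS hF)⁻¹ * HS hF ζ
        = TS hF 1 0 * (WS hF * HS hF ζ * (WS hF)⁻¹) * (TS hF 1 0)⁻¹ * HS hF ζ := by group
      _ = TS hF 1 0 * (HS hF ζ⁻¹ * (TS hF 1 0)⁻¹ * (HS hF ζ⁻¹)⁻¹) := by
        rw [e3, e1, e4]
        group
  rw [he2, TS_inv, conj_HS_TS, TS_mul] at he
  have hT : ∀ a b : F, TS hF a b ∈ M := by
    apply sub_unip hF M hH _ he
    intro e
    apply hζ1
    have h1 : (1 : F) = ((ζ⁻¹ : Fˣ) : F) * 1 := CharTwo.add_eq_zero.mp e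
    rw [mul_one] at h1
    have h2 : (ζ⁻¹ : Fˣ) = 1 := Units.ext h1.symm
    exact inv_eq_one.mp h2
  have hW : WS hF ∈ M := by
    have := M.mul_mem (M.inv_mem (hT 1 0)) hb
    rwa [inv_mul_cancel_left] at this
  rw [eq_top_iff]
  intro g _
  rcases bruhat hm hF g with ⟨a, b, k, e⟩ | ⟨c, d, a, b, k, e⟩
  · rw [e]
    exact M.mul_mem (hT a b) (hH k)
  · rw [e]
    exact M.mul_mem (M.mul_mem (hT c d) hW) (M.mul_mem (hT a b) (hH k))

end hinv

section maximal

variable {F : Type*} [Field F] [Fintype F] [CharP F 2] {m : ℕ}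

theorem mem_TSub_iff (hF : Fintype.card F = 2 ^ (2 * m + 1)) (x : Sz F m) :
    x ∈ TSub hF ↔ ∃ a b : F, x = TS hF a b := by
  constructor
  · rintro ⟨a, b, h⟩
    exact ⟨a, b, Subtype.ext h⟩
  · rintro ⟨a, b, rfl⟩
    exact ⟨a, b, rfl⟩

/-- a subgroup containing the unipotent group either fixes the point at infinity or is everything -/
theorem overgroup_T (hm : 1 ≤ m) (hF : Fintype.card F = 2 ^ (2 * m + 1)) (M : Subgroup (Sz F m))
    (hT : ∀ a b : F, TS hF a b ∈ M) (g : Sz F m) (hg : g ∈ M) (hmove : g • oinf F m ≠ oinf F m) :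
    M = ⊤ := by
  rcases bruhat hm hF g with ⟨a, b, k, e⟩ | ⟨c, d, a, b, k, e⟩
  · exfalso
    apply hmove
    rw [e, mul_smul, HS_oinf, TS_oinf]
  -- `W * h` lies in `M`
  have hn : WS hF * HS hF k ∈ M := by
    have h1 : WS hF * HS hF k =
        (TS hF c d)⁻¹ * g * ((HS hF k)⁻¹ * (TS hF a b)⁻¹ * ((HS hF k)⁻¹)⁻¹) := by
      rw [e]
      group
    rw [h1, HS_inv, TS_inv hF a b, conj_HS_TS]
    exact M.mul_mem (M.mul_mem (M.inv_mem (hT c d)) hg) (hT _ _)
  -- hence the opposite unipotent group lies in `M`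
  have hopp : ∀ a b : F, WS hF * TS hF a b * WS hF ∈ M := by
    intro a b
    have h1 : WS hF * TS hF a b * WS hF =
        (WS hF * HS hF k) * ((HS hF k)⁻¹ * TS hF a b * ((HS hF k)⁻¹)⁻¹) * (WS hF * HS hF k)⁻¹ := by
      have e3 : (WS hF)⁻¹ = WS (m := m) hF := WS_inv hF
      rw [mul_inv_rev, e3]
      group
    rw [h1, HS_inv, conj_HS_TS]
    exact M.mul_mem (M.mul_mem hn (hT _ _)) (M.inv_mem hn)
  -- the normal closure of the unipotent group is everything
  haveI := simple hm hF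
  have hnc : Subgroup.normalClosure ((TSub (m := m) hF : Subgroup (Sz F m)) : Set (Sz F m)) = ⊤ := by
    have hnorm : (Subgroup.normalClosure
        ((TSub (m := m) hF : Subgroup (Sz F m)) : Set (Sz F m))).Normal :=
      Subgroup.normalClosure_normal
    rcases hnorm.eq_bot_or_eq_top with h | h
    · exfalso
      have h1 : TS hF 0 1 ∈ Subgroup.normalClosure
          ((TSub (m := m) hF : Subgroup (Sz F m)) : Set (Sz F m)) :=
        Subgroup.subset_normalClosure ((mem_TSub_iff hF _).mpr ⟨0, 1, rfl⟩)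
      rw [h, Subgroup.mem_bot, ← TS_zero hF] at h1
      exact one_ne_zero (TS_injective hF h1).2
    · exact h
  rw [eq_top_iff, ← hnc]
  show Subgroup.closure (Group.conjugatesOfSet
    ((TSub (m := m) hF : Subgroup (Sz F m)) : Set (Sz F m))) ≤ M
  refine (Subgroup.closure_le M).mpr ?_
  intro y hy
  rw [Group.mem_conjugatesOfSet_iff] at hy
  obtain ⟨t, ht, hconj⟩ := hy
  obtain ⟨x, hx⟩ := isConj_iff.mp hconj
  obtain ⟨a₁, b₁, rfl⟩ := (mem_TSub_iff hF t).mp ht
  rw [← hx]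
  show x * TS hF a₁ b₁ * x⁻¹ ∈ M
  rcases bruhat hm hF x with ⟨a, b, k, e⟩ | ⟨c, d, a, b, k, e⟩
  · have h1 : x * TS hF a₁ b₁ * x⁻¹ =
        TS hF a b * (HS hF k * TS hF a₁ b₁ * (HS hF k)⁻¹) * (TS hF a b)⁻¹ := by
      rw [e]
      group
    rw [h1, conj_HS_TS]
    exact M.mul_mem (M.mul_mem (hT _ _) (hT _ _)) (M.inv_mem (hT _ _))
  · have e3 : (WS hF)⁻¹ = WS (m := m) hF := WS_inv hF
    have h1 : x * TS hF a₁ b₁ * x⁻¹ =
        TS hF c d * (WS hF * (TS hF a b * (HS hF k * TS hF a₁ b₁ * (HS hF k)⁻¹) * (TS hF a b)⁻¹) *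
          WS hF) * (TS hF c d)⁻¹ := by
      rw [e]
      nth_rewrite 4 [← e3]
      group
    rw [h1, conj_HS_TS, TS_inv, TS_mul, TS_mul]
    exact M.mul_mem (M.mul_mem (hT _ _) (hopp _ _)) (M.inv_mem (hT _ _))

/-- the Borel subgroup -/
def BS (F : Type*) [Field F] [CharP F 2] (m : ℕ) : Subgroup (Sz F m) :=
  MulAction.stabilizer (Sz F m) (oinf F m)

theorem normalizer_TSub (hm : 1 ≤ m) (hF : Fintype.card F = 2 ^ (2 * m + 1)) :
    Subgroup.normalizer ((TSub (m := m) hF : Subgroup (Sz F m)) : Set (Sz F m)) = BS F m := by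
  have hconj : ∀ g : Sz F m, g • oinf F m = oinf F m → ∀ t ∈ TSub (m := m) hF,
      g * t * g⁻¹ ∈ TSub hF := by
    intro g hg t ht
    obtain ⟨a, b, k, rfl⟩ := fix_oinf hm hF g hg
    obtain ⟨x, y, rfl⟩ := (mem_TSub_iff hF t).mp ht
    have h1 : TS hF a b * HS hF k * TS hF x y * (TS hF a b * HS hF k)⁻¹ =
        TS hF a b * (HS hF k * TS hF x y * (HS hF k)⁻¹) * (TS hF a b)⁻¹ := by group
    rw [h1, conj_HS_TS, TS_inv, TS_mul, TS_mul]
    exact (mem_TSub_iff hF _).mpr ⟨_, _, rfl⟩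
  ext n
  constructor
  · intro hn
    rw [Subgroup.mem_normalizer_iff] at hn
    have h1 : n * TS hF 0 1 * n⁻¹ ∈ TSub hF :=
      (hn (TS hF 0 1)).mp ((mem_TSub_iff hF _).mpr ⟨0, 1, rfl⟩)
    obtain ⟨a, b, hab⟩ := (mem_TSub_iff hF _).mp h1
    have hne : TS hF a b ≠ 1 := by
      rw [← hab]
      intro e
      have : TS hF 0 1 = 1 := by
        have h2 : TS hF 0 1 = n⁻¹ * (n * TS hF 0 1 * n⁻¹) * n := by group
        rw [h2, e]
        group
      rw [← TS_zero hF] at this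
      exact one_ne_zero (TS_injective hF this).2
    show n • oinf F m = oinf F m
    apply TS_fix_only hF hne
    rw [← hab, mul_smul, mul_smul, inv_smul_smul, TS_oinf]
  · intro hn
    have hn' : n • oinf F m = oinf F m := hn
    have hn'' : n⁻¹ • oinf F m = oinf F m := by
      rw [inv_smul_eq_iff, hn']
    rw [Subgroup.mem_normalizer_iff]
    intro t
    constructor
    · exact hconj n hn' t
    · intro h
      have := hconj n⁻¹ hn'' _ h
      rw [inv_inv] at this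
      have h2 : n⁻¹ * (n * t * n⁻¹) * n = t := by group
      rwa [h2] at this

theorem sylow_std (hm : 1 ≤ m) (hF : Fintype.card F = 2 ^ (2 * m + 1))
    (P : Sylow 2 (Sz F m)) : ∃ y : Sz F m,
    (P : Subgroup (Sz F m)) = (TSub (m := m) hF).map (MulAut.conj y).toMonoidHom := by
  haveI : Fact (Nat.Prime 2) := ⟨Nat.prime_two⟩
  obtain ⟨P₀, hP₀⟩ := exists_sylow_eq hm hF
  obtain ⟨y, hy⟩ := MulAction.exists_smul_eq (Sz F m) P₀ P
  refine ⟨y, ?_⟩
  rw [← hy, ← hP₀]
  rfl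

/-- the statement about Sylow normalizers for the standard Sylow subgroup -/
theorem normalizer_max_std (hm : 1 ≤ m) (hF : Fintype.card F = 2 ^ (2 * m + 1)) :
    IsCoatom (Subgroup.normalizer ((TSub (m := m) hF : Subgroup (Sz F m)) : Set (Sz F m))) ∧
    ∀ M : Subgroup (Sz F m), IsCoatom M → TSub hF ≤ M →
      M = Subgroup.normalizer ((TSub (m := m) hF : Subgroup (Sz F m)) : Set (Sz F m)) := by
  rw [normalizer_TSub hm hF]
  have hBT : ∀ a b : F, TS hF a b ∈ BS F m := fun a b => TS_oinf hF a b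
  have hBne : BS F m ≠ ⊤ := by
    intro e
    have : WS hF ∈ BS F m := by rw [e]; trivial
    have h1 : WS hF • oinf F m = oinf F m := this
    rw [WS_oinf] at h1
    exact opt_ne_oinf 0 0 h1
  have key : ∀ M : Subgroup (Sz F m), (∀ a b : F, TS hF a b ∈ M) → M ≠ ⊤ → M ≤ BS F m := by
    intro M hT hne g hg
    by_contra hmove
    exact hne (overgroup_T hm hF M hT g hg hmove)
  constructor
  · refine ⟨hBne, ?_⟩
    intro M hM
    by_contra hne
    have := key M (fun a b => hM.le (hBT a b)) hne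
    exact (lt_irrefl _ (lt_of_lt_of_le hM this))
  · intro M hM hTM
    have hT : ∀ a b : F, TS hF a b ∈ M := fun a b => hTM ((mem_TSub_iff hF _).mpr ⟨a, b, rfl⟩)
    have hle := key M hT hM.1
    rcases eq_or_lt_of_le hle with h | h
    · exact h
    · exact absurd (hM.2 _ h) hBne

theorem normalizer_max (hm : 1 ≤ m) (hF : Fintype.card F = 2 ^ (2 * m + 1))
    (P : Sylow 2 (Sz F m)) :
    IsCoatom (Subgroup.normalizer ((P : Subgroup (Sz F m)) : Set (Sz F m))) ∧
    ∀ M : Subgroup (Sz F m), IsCoatom M → (P : Subgroup (Sz F m)) ≤ M →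
      M = Subgroup.normalizer ((P : Subgroup (Sz F m)) : Set (Sz F m)) := by
  obtain ⟨y, hy⟩ := sylow_std hm hF P
  obtain ⟨h1, h2⟩ := normalizer_max_std hm hF
  set ψ : Subgroup (Sz F m) ≃o Subgroup (Sz F m) := (MulAut.conj y).mapSubgroup with hψ
  have hnorm : Subgroup.normalizer ((P : Subgroup (Sz F m)) : Set (Sz F m)) =
      ψ (Subgroup.normalizer ((TSub (m := m) hF : Subgroup (Sz F m)) : Set (Sz F m))) := by
    rw [hy]
    exact (Subgroup.map_equiv_normalizer_eq (TSub (m := m) hF) (MulAut.conj y)).symm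
  have hP : (P : Subgroup (Sz F m)) = ψ (TSub hF) := hy
  rw [hnorm]
  constructor
  · exact (ψ.isCoatom_iff _).mpr h1
  · intro M hM hPM
    have hM' : IsCoatom (ψ.symm M) := (ψ.symm.isCoatom_iff _).mpr hM
    have hle : TSub hF ≤ ψ.symm M := by
      rw [← ψ.le_iff_le, OrderIso.apply_symm_apply, ← hP]
      exact hPM
    have := h2 _ hM' hle
    rw [← this, OrderIso.apply_symm_apply]

end maximal

section real

variable {F : Type*} [Field F] [Fintype F] [CharP F 2] {m : ℕ}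

theorem TS_not_real (hm : 1 ≤ m) (hF : Fintype.card F = 2 ^ (2 * m + 1)) {a b : F}
    (ha : a ≠ 0) : ¬ IsConj (TS hF a b) (TS hF a b)⁻¹ := by
  intro hconj
  obtain ⟨c, hc⟩ := isConj_iff.mp hconj
  have hne : (TS hF a b)⁻¹ ≠ 1 := by
    rw [TS_inv, ← TS_zero hF]
    intro e
    exact ha (TS_injective hF e).1
  have hc' : c * TS hF a b = (TS hF a b)⁻¹ * c := by
    rw [← hc]
    group
  have h1 : c • oinf F m = oinf F m := by
    rw [TS_inv] at hne
    apply TS_fix_only hF hne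
    rw [← TS_inv, ← mul_smul, ← hc', mul_smul, TS_oinf]
  obtain ⟨a', b', k', rfl⟩ := fix_oinf hm hF c h1
  have h2 : TS hF a' b' * HS hF k' * TS hF a b =
      TS hF (a' + (k' : F) * a) (b' + sg m (k' : F) * (k' : F) * b + sg m a' * ((k' : F) * a)) *
        HS hF k' := by
    rw [mul_assoc, HS_mul_TS, ← mul_assoc, TS_mul]
  have h3 : (TS hF a b)⁻¹ * (TS hF a' b' * HS hF k') =
      TS hF (a + a') (b + sg m a * a + b' + sg m a * a') * HS hF k' := by
    rw [TS_inv, ← mul_assoc, TS_mul]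
  rw [h2, h3] at hc'
  obtain ⟨e1, e2, -⟩ := TSHS_inj hF hc'
  have hk : (k' : F) = 1 := by
    have e1' : (k' : F) * a = a := by
      have : a' + (k' : F) * a = a' + a := by rw [e1, add_comm]
      exact add_left_cancel this
    have : (k' : F) * a = 1 * a := by rw [e1', one_mul]
    exact mul_right_cancel₀ ha this
  rw [hk, sg_one, one_mul, one_mul, one_mul] at e2
  -- `sg a' * a = sg a * a + sg a * a'`
  have e3 : sg m a' * a = sg m a * a + sg m a * a' := by
    have : b' + b + sg m a' * a = b' + b + (sg m a * a + sg m a * a') := by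
      rw [e2]
      ring
    exact add_left_cancel this
  set c₀ : F := a' / a with hc₀
  have hsa : sg m a ≠ 0 := fun e => ha ((sg_eq_zero_iff m a).mp e)
  have e4 : sg m c₀ = 1 + c₀ := by
    rw [hc₀, sg_div]
    field_simp
    rw [e3]
    ring
  have e5 : sg m (sg m c₀) = c₀ := by
    rw [e4, sg_add, sg_one, e4, ← add_assoc, CharTwo.add_self_eq_zero, zero_add]
  rw [sg_sg hF] at e5
  have e6 : c₀ * (c₀ + 1) = 0 := by
    have : c₀ * (c₀ + 1) = c₀ ^ 2 + c₀ := by ring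
    rw [this, e5, CharTwo.add_self_eq_zero]
  rcases mul_eq_zero.mp e6 with h0 | h0
  · rw [h0, sg_zero, add_zero] at e4
    exact zero_ne_one e4
  · have h1' : c₀ = 1 := CharTwo.add_eq_zero.mp h0
    rw [h1', sg_one, CharTwo.add_self_eq_zero] at e4
    exact one_ne_zero e4

theorem real_iff (hm : 1 ≤ m) (hF : Fintype.card F = 2 ^ (2 * m + 1)) (P : Sylow 2 (Sz F m))
    (g : Sz F m) (hg : g ∈ (P : Subgroup (Sz F m))) (h1 : g ≠ 1) :
    IsConj g g⁻¹ ↔ orderOf g = 2 := by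
  constructor
  · intro hconj
    obtain ⟨y, hy⟩ := sylow_std hm hF P
    rw [hy] at hg
    obtain ⟨t, ht, hty⟩ := Subgroup.mem_map.mp hg
    obtain ⟨a, b, rfl⟩ := (mem_TSub_iff hF t).mp ht
    have hty' : y * TS hF a b * y⁻¹ = g := hty
    have hne : TS hF a b ≠ 1 := by
      intro e
      apply h1
      rw [← hty', e]
      group
    have ha : a = 0 := by
      by_contra ha
      apply TS_not_real hm hF (b := b) ha
      obtain ⟨c, hc⟩ := isConj_iff.mp hconj
      rw [isConj_iff]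
      refine ⟨y⁻¹ * c * y, ?_⟩
      have h2 : TS hF a b = y⁻¹ * g * y := by
        rw [← hty']
        group
      rw [h2]
      have h3 : (y⁻¹ * g * y)⁻¹ = y⁻¹ * g⁻¹ * y := by group
      rw [h3, ← hc]
      group
    subst ha
    have hsq : g ^ 2 = 1 := by
      rw [← hty', sq]
      have : y * TS hF 0 b * y⁻¹ * (y * TS hF 0 b * y⁻¹) = y * (TS hF 0 b * TS hF 0 b) * y⁻¹ := by
        group
      rw [this, TS_mul, CharTwo.add_self_eq_zero, CharTwo.add_self_eq_zero, sg_zero, zero_mul,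
        add_zero, TS_zero]
      group
    exact orderOf_eq_prime hsq h1
  · intro hord
    have hsq : g ^ 2 = 1 := by
      rw [← hord]
      exact pow_orderOf_eq_one g
    have : g⁻¹ = g := by
      rw [inv_eq_iff_mul_eq_one, ← sq, hsq]
    rw [this]

end real

end Cfsg.Agent.Lib.Helper14.Sz
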