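import Mathlib

/-!
# Tools for maximality of subfield subgroups of `PSL₂(q)` (helper14)

* `dihedral_metabelian`: commutators commute in a dihedral group.
* `false_of_perfect_le_metabelian`, `false_of_perfect_le_comm`,
  `false_of_perfect_of_commutator_pgroup`: a nontrivial perfect subgroup cannot live in such groups.
* `dvd_of_pow_dvd`: `(x^(2a) - 1) ∣ 2 (x^(2b) - 1) → a ∣ b`.
* `subfield_order_cases`.
-/

set_option autoImplicit false

namespace Cfsg.Agent.Lib.Helper14.DkSub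

open Subgroup
open scoped commutatorElement

theorem dihedral_comm_r {k : ℕ} (a b : DihedralGroup k) : ∃ i : ZMod k, ⁅a, b⁆ = DihedralGroup.r i := by
  rcases a with i | i <;> rcases b with j | j <;>
  · refine ⟨?_, ?_⟩
    rotate_left
    · simp only [commutatorElement_def, DihedralGroup.inv_r, DihedralGroup.inv_sr,
        DihedralGroup.r_mul_r, DihedralGroup.r_mul_sr, DihedralGroup.sr_mul_r,
        DihedralGroup.sr_mul_sr]
      rfl

theorem dihedral_metabelian {k : ℕ} (a b c d : DihedralGroup k) : ⁅a, b⁆ * ⁅c, d⁆ = ⁅c, d⁆ * ⁅a, b⁆ := by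
  obtain ⟨i, hi⟩ := dihedral_comm_r a b
  obtain ⟨j, hj⟩ := dihedral_comm_r c d
  rw [hi, hj, DihedralGroup.r_mul_r, DihedralGroup.r_mul_r, add_comm]

variable {G : Type*} [Group G]

/-- a perfect subgroup inside a subgroup in which commutators commute is trivial -/
theorem eq_bot_of_perfect_le_metabelian (M L : Subgroup G) (hLM : L ≤ M) (hperf : ⁅L, L⁆ = L)
    (hmet : ∀ a ∈ M, ∀ b ∈ M, ∀ c ∈ M, ∀ d ∈ M, ⁅a, b⁆ * ⁅c, d⁆ = ⁅c, d⁆ * ⁅a, b⁆) : L = ⊥ := by
  set S : Set G := {g | ∃ g₁ ∈ L, ∃ g₂ ∈ L, ⁅g₁, g₂⁆ = g} with hS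
  have hcomm : ∀ x ∈ S, ∀ y ∈ S, x * y = y * x := by
    rintro _ ⟨a, ha, b, hb, rfl⟩ _ ⟨c, hc, d, hd, rfl⟩
    exact hmet a (hLM ha) b (hLM hb) c (hLM hc) d (hLM hd)
  have hcl : ⁅L, L⁆ = closure S := Subgroup.commutator_def L L
  have hab : IsMulCommutative ↥(closure S) := Subgroup.isMulCommutative_closure hcomm
  rw [← hcl, hperf] at hab
  have h2 : ⁅L, L⁆ = ⊥ := by
    rw [Subgroup.commutator_eq_bot_iff_le_centralizer]
    intro x hx
    rw [mem_centralizer_iff]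
    intro y hy
    have := hab.is_comm.comm (⟨y, hy⟩ : ↥L) ⟨x, hx⟩
    exact congrArg Subtype.val this
  rw [← hperf, h2]

/-- a perfect `p`-subgroup of a finite group is trivial -/
theorem eq_bot_of_perfect_of_isPGroup [Finite G] {p : ℕ} [Fact p.Prime] (L : Subgroup G)
    (hperf : ⁅L, L⁆ = L) (hL : IsPGroup p L) : L = ⊥ := by
  have hnil : Group.IsNilpotent L := hL.isNilpotent
  have hsol : Group.IsSolvable L := inferInstance
  obtain ⟨n, hn⟩ := hsol
  have hperf' : ⁅(⊤ : Subgroup ↥L), (⊤ : Subgroup ↥L)⁆ = (⊤ : Subgroup ↥L) := by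
    have h1 : (⁅(⊤ : Subgroup ↥L), (⊤ : Subgroup ↥L)⁆).map L.subtype = ⁅L, L⁆ := by
      rw [Subgroup.map_commutator, ← MonoidHom.range_eq_map, Subgroup.range_subtype]
    rw [hperf] at h1
    rw [eq_top_iff]
    intro x _
    have hx : (x : G) ∈ (⁅(⊤ : Subgroup ↥L), (⊤ : Subgroup ↥L)⁆).map L.subtype := by rw [h1]; exact x.2
    obtain ⟨y, hy, hyx⟩ := hx
    have : y = x := Subtype.ext hyx
    rw [← this]; exact hy
  have key : ∀ k, derivedSeries L k = ⊤ := by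
    intro k
    induction k with
    | zero => rfl
    | succ k ih => rw [derivedSeries_succ, ih, hperf']
  rw [key n] at hn
  rw [eq_bot_iff]
  intro x hx
  have : (⟨x, hx⟩ : L) ∈ (⊥ : Subgroup L) := by rw [← hn]; trivial
  rw [mem_bot] at this
  rw [mem_bot]
  exact congrArg Subtype.val this

/-- number theory: `(x^(2a) - 1) ∣ 2 (x^(2b) - 1)` forces `a ∣ b` -/
theorem dvd_of_pow_dvd {x a b : ℕ} (hx : 2 ≤ x) (ha : 1 ≤ a) (hb : 1 ≤ b)
    (h : x ^ (2 * a) - 1 ∣ 2 * (x ^ (2 * b) - 1)) : a ∣ b := by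
  set g := Nat.gcd a b with hg
  have hg1 : 1 ≤ g := Nat.gcd_pos_of_pos_left _ ha
  have h1 : x ^ (2 * a) - 1 ∣ 2 * (x ^ (2 * a) - 1) := Dvd.intro_left _ rfl
  have h2 : x ^ (2 * a) - 1 ∣ Nat.gcd (2 * (x ^ (2 * a) - 1)) (2 * (x ^ (2 * b) - 1)) :=
    Nat.dvd_gcd h1 h
  rw [Nat.gcd_mul_left, Nat.pow_sub_one_gcd_pow_sub_one, Nat.gcd_mul_left, ← hg] at h2
  by_contra hab
  have hga : g ∣ a := Nat.gcd_dvd_left a b
  have hgne : g ≠ a := by
    intro h3
    apply hab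
    rw [← h3]
    exact Nat.gcd_dvd_right a b
  obtain ⟨c, hc⟩ := hga
  have hc2 : 2 ≤ c := by
    rcases c with _ | _ | c
    · omega
    · exfalso; apply hgne; rw [hc]; ring
    · omega
  have h2g : 2 * g ≤ a := by rw [hc]; nlinarith
  have hxa : 2 ≤ x ^ a := by
    calc 2 ≤ x := hx
      _ = x ^ 1 := (pow_one x).symm
      _ ≤ x ^ a := Nat.pow_le_pow_right (by omega) ha
  have hx2g : x ^ (2 * g) ≤ x ^ a := Nat.pow_le_pow_right (by omega) h2g
  have hpos : 0 < 2 * (x ^ (2 * g) - 1) := by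
    have : 2 ≤ x ^ (2 * g) := by
      calc 2 ≤ x := hx
        _ = x ^ 1 := (pow_one x).symm
        _ ≤ x ^ (2 * g) := Nat.pow_le_pow_right (by omega) (by omega)
    omega
  have hle := Nat.le_of_dvd hpos h2
  have e : x ^ (2 * a) = x ^ a * x ^ a := by rw [two_mul, pow_add]
  rw [e] at hle
  have h5 : x ^ a * x ^ a - 1 ≤ 2 * (x ^ a - 1) := hle.trans (by omega)
  have h6 : 2 * x ^ a ≤ x ^ a * x ^ a := Nat.mul_le_mul_right _ hxa
  generalize x ^ a * x ^ a = Y at h5 h6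
  omega

/-- the possible orders of intermediate subfield-type groups -/
theorem subfield_order_cases {p a b m r : ℕ} (hp : p.Prime) (ha : 1 ≤ a) (hb : 1 ≤ b)
    (hr : r.Prime) (hsm : (p ^ b) ^ m = (p ^ a) ^ r)
    (hdvd : p ^ a * (p ^ a - 1) * (p ^ a + 1) ∣ 2 * (p ^ b * (p ^ b - 1) * (p ^ b + 1))) :
    p ^ b = p ^ a ∨ p ^ b = (p ^ a) ^ r := by
  have hp2 : 2 ≤ p := hp.two_le
  have e1 : ∀ n, 1 ≤ n → (p ^ n - 1) * (p ^ n + 1) = p ^ (2 * n) - 1 := by
    intro n hn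
    have h1 : 1 ≤ p ^ n := Nat.one_le_pow _ _ (by omega)
    obtain ⟨y, hy⟩ : ∃ y, p ^ n = y + 1 := ⟨p ^ n - 1, by omega⟩
    rw [two_mul, pow_add, hy, Nat.add_sub_cancel]
    have : (y + 1) * (y + 1) = y * (y + 1 + 1) + 1 := by ring
    rw [this, Nat.add_sub_cancel]
  have h1 : p ^ (2 * a) - 1 ∣ 2 * (p ^ b * (p ^ (2 * b) - 1)) := by
    rw [← e1 a ha, ← e1 b hb]
    refine Dvd.dvd.trans ?_ (hdvd.trans (by rw [mul_assoc (p ^ b)]))
    rw [mul_assoc]
    exact Dvd.intro_left _ rfl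
  have hcop : Nat.Coprime (p ^ (2 * a) - 1) (p ^ b) := by
    apply Nat.Coprime.pow_right
    rw [Nat.coprime_comm, Nat.Prime.coprime_iff_not_dvd hp]
    intro h
    have h2 : p ∣ p ^ (2 * a) := dvd_pow_self p (by omega)
    have h3 : 1 ≤ p ^ (2 * a) := Nat.one_le_pow _ _ (by omega)
    have h4 := Nat.dvd_sub h2 h
    rw [Nat.sub_sub_self h3] at h4
    exact hp.one_lt.ne' (Nat.dvd_one.mp h4)
  have h2 : p ^ (2 * a) - 1 ∣ 2 * (p ^ (2 * b) - 1) := by
    have : p ^ (2 * a) - 1 ∣ p ^ b * (2 * (p ^ (2 * b) - 1)) := by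
      convert h1 using 1; ring
    exact hcop.dvd_of_dvd_mul_left this
  have hab : a ∣ b := dvd_of_pow_dvd hp2 ha hb h2
  obtain ⟨c, rfl⟩ := hab
  rw [← pow_mul, ← pow_mul] at hsm
  have h3 : a * c * m = a * r := Nat.pow_right_injective hp2 hsm
  have h4 : c * m = r := by
    have : a * (c * m) = a * r := by rw [← mul_assoc]; exact h3
    exact Nat.eq_of_mul_eq_mul_left (by omega) this
  have hc : c ∣ r := Dvd.intro _ h4
  rcases (Nat.dvd_prime hr).mp hc with rfl | rfl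
  · left; rw [mul_one]
  · right; rw [← pow_mul]

end Cfsg.Agent.Lib.Helper14.DkSub
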