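import Mathlib
import Cfsg.Agent.Lib.Helper1.DkOrders
import Cfsg.Agent.Lib.Helper14.DkSub1

/-!
# Normalizers of Sylow `p`-subgroups of `PSL₂(F)` have a `p`-group as derived subgroup (helper14)
-/

set_option autoImplicit false

namespace Cfsg.Agent.Lib.Helper14.DkSub

open Subgroup
open scoped commutatorElement Pointwise
open Cfsg.Agent.Lib.Helper12 Cfsg.Agent.Lib.Helper12.SL2 Cfsg.Agent.S0805 Cfsg.Agent.S0807
open Cfsg.Agent.Lib.Helper1.DkOrders

variable {F : Type*} [Field F]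

local notation "SL2" => Matrix.SpecialLinearGroup (Fin 2)
local notation "PSL2" => Matrix.ProjectiveSpecialLinearGroup (Fin 2)
local notation "PGL2" => Matrix.ProjGenLinGroup (Fin 2)

theorem comm_Bor_mem_Upp (x y : SL2 F) (hx : x ∈ Bor F) (hy : y ∈ Bor F) : ⁅x, y⁆ ∈ Upp F := by
  rw [mem_Bor] at hx hy
  have hdx := SL2.det_eq x
  have hdy := SL2.det_eq y
  rw [hx, mul_zero, sub_zero] at hdx
  rw [hy, mul_zero, sub_zero] at hdy
  rw [commutatorElement_def, mem_Upp]
  refine ⟨?_, ?_, ?_⟩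
  · simp only [SL2.mul_apply', inv_00, inv_01, inv_10, inv_11, hx, hy]
    linear_combination (y 0 0 * y 1 1) * hdx + hdy
  · simp only [SL2.mul_apply', inv_00, inv_01, inv_10, inv_11, hx, hy]
    ring
  · simp only [SL2.mul_apply', inv_00, inv_01, inv_10, inv_11, hx, hy]
    linear_combination (y 0 0 * y 1 1) * hdx + hdy

theorem comm_BorP_mem_UppP (x y : PSL2 F) (hx : x ∈ BorP F) (hy : y ∈ BorP F) :
    ⁅x, y⁆ ∈ UppP F := by
  obtain ⟨a, ha, rfl⟩ := hx
  obtain ⟨b, hb, rfl⟩ := hy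
  rw [← map_commutatorElement]
  exact ⟨⁅a, b⁆, comm_Bor_mem_Upp a b ha hb, rfl⟩

section general

variable {G : Type*} [Group G]

theorem mem_conj_smul_iff (g z : G) (S : Subgroup G) :
    z ∈ MulAut.conj g • S ↔ g⁻¹ * z * g ∈ S := by
  rw [Subgroup.mem_pointwise_smul_iff_inv_smul_mem, MulAut.smul_def, ← map_inv, MulAut.conj_apply,
    inv_inv]

theorem comm_mem_conj_of_normalizer (g : G) (S : Subgroup G)
    (h : ∀ x ∈ normalizer (S : Set G), ∀ y ∈ normalizer (S : Set G), ⁅x, y⁆ ∈ S)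
    (x y : G) (hx : x ∈ normalizer ((MulAut.conj g • S : Subgroup G) : Set G))
    (hy : y ∈ normalizer ((MulAut.conj g • S : Subgroup G) : Set G)) :
    ⁅x, y⁆ ∈ MulAut.conj g • S := by
  have key : ∀ x ∈ normalizer ((MulAut.conj g • S : Subgroup G) : Set G),
      g⁻¹ * x * g ∈ normalizer (S : Set G) := by
    intro x hx
    rw [mem_normalizer_iff] at hx ⊢
    intro s
    have h1 := hx (g * s * g⁻¹)
    rw [mem_conj_smul_iff, mem_conj_smul_iff] at h1
    have e1 : g⁻¹ * (g * s * g⁻¹) * g = s := by group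
    have e2 : g⁻¹ * (x * (g * s * g⁻¹) * x⁻¹) * g = g⁻¹ * x * g * s * (g⁻¹ * x * g)⁻¹ := by group
    rw [e1, e2] at h1
    exact h1
  have h1 := h _ (key x hx) _ (key y hy)
  rw [mem_conj_smul_iff]
  have e : g⁻¹ * ⁅x, y⁆ * g = ⁅g⁻¹ * x * g, g⁻¹ * y * g⁆ := by
    rw [commutatorElement_def, commutatorElement_def]; group
  rw [e]
  exact h1

end general

theorem comm_normalizer_sylow_mem [Fintype F] (p : ℕ) [Fact p.Prime] [CharP F p]
    (P : Sylow p (PSL2 F)) (x y : PSL2 F)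
    (hx : x ∈ normalizer ((P : Subgroup (PSL2 F)) : Set (PSL2 F)))
    (hy : y ∈ normalizer ((P : Subgroup (PSL2 F)) : Set (PSL2 F))) :
    ⁅x, y⁆ ∈ (P : Subgroup (PSL2 F)) := by
  obtain ⟨g, hg⟩ := MulAction.exists_smul_eq (PSL2 F) (sylUppP (F := F) p) P
  have h0 : ∀ x ∈ normalizer ((UppP F : Subgroup (PSL2 F)) : Set (PSL2 F)),
      ∀ y ∈ normalizer ((UppP F : Subgroup (PSL2 F)) : Set (PSL2 F)), ⁅x, y⁆ ∈ UppP F := by
    intro x hx y hy
    exact comm_BorP_mem_UppP x y (normalizer_UppP_le hx) (normalizer_UppP_le hy)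
  have hP : (P : Subgroup (PSL2 F)) = MulAut.conj g • UppP F := by
    rw [← hg, Sylow.coe_subgroup_smul, coe_sylUppP]
  rw [hP] at hx hy ⊢
  exact comm_mem_conj_of_normalizer g (UppP F) h0 x y hx hy

/-- a nontrivial perfect subgroup is not isomorphic to a subgroup of a Sylow normalizer -/
theorem eq_bot_of_perfect_of_iso_le_normalizer [Fintype F] (p : ℕ) [Fact p.Prime] [CharP F p]
    (P : Sylow p (PSL2 F)) (M K : Subgroup (PSL2 F))
    (hK : K ≤ normalizer ((P : Subgroup (PSL2 F)) : Set (PSL2 F))) (e : M ≃* K)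
    (L : Subgroup (PSL2 F)) (hLM : L ≤ M) (hperf : ⁅L, L⁆ = L) : L = ⊥ := by
  -- transport `L` into `K`
  set f : ↥M →* PSL2 F := K.subtype.comp e.toMonoidHom with hf
  have hfinj : Function.Injective f := by
    intro a b hab
    have : e a = e b := Subtype.ext hab
    exact e.injective this
  set L' : Subgroup (PSL2 F) := (L.subgroupOf M).map f with hL'
  have hL'K : L' ≤ K := by
    rintro _ ⟨a, _, rfl⟩
    exact (e a).2
  have hperf' : ⁅L', L'⁆ = L' := by
    rw [hL', ← Subgroup.map_commutator]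
    congr 1
    have h1 : (⁅L.subgroupOf M, L.subgroupOf M⁆).map M.subtype = ⁅L, L⁆ := by
      rw [Subgroup.map_commutator, Subgroup.map_subgroupOf_eq_of_le hLM]
    apply Subgroup.map_injective M.subtype_injective
    rw [h1, hperf, Subgroup.map_subgroupOf_eq_of_le hLM]
  have hL'P : L' ≤ (P : Subgroup (PSL2 F)) := by
    rw [← hperf', Subgroup.commutator_le]
    intro a ha b hb
    exact comm_normalizer_sylow_mem p P a b (hK (hL'K ha)) (hK (hL'K hb))
  have hL'bot : L' = ⊥ := eq_bot_of_perfect_of_isPGroup L' hperf' (P.2.to_le hL'P)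
  rw [eq_bot_iff]
  intro x hx
  have h1 : f ⟨x, hLM hx⟩ ∈ L' := ⟨⟨x, hLM hx⟩, Subgroup.mem_subgroupOf.mpr hx, rfl⟩
  rw [hL'bot, mem_bot] at h1
  have h2 : (⟨x, hLM hx⟩ : ↥M) = 1 := hfinj (by rw [h1, map_one])
  rw [mem_bot]
  exact congrArg Subtype.val h2

end Cfsg.Agent.Lib.Helper14.DkSub
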