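import Mathlib
import Cfsg.Agent.Lib.Helper1.DkMinIndex
import Cfsg.Agent.Lib.Helper1.ThompsonAxB
import Cfsg.Agent.Lib.Helper14.DkSub2

/-!
# Subfield subgroups `PSL₂(K) < PSL₂(F)`, `|F| = |K|^r`, `r` prime, are maximal (helper14)
-/

set_option autoImplicit false
set_option maxHeartbeats 1000000

namespace Cfsg.Agent.Lib.Helper14.DkSub

open Subgroup
open scoped commutatorElement
open Cfsg.Agent.Lib.Helper12 Cfsg.Agent.Lib.Helper12.SL2 Cfsg.Agent.S0805 Cfsg.Agent.S0807
open Cfsg.Agent.Lib.Helper1.DkOrders Cfsg.Agent.Lib.Helper1.DkMinIndex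

local notation "SL2" => Matrix.SpecialLinearGroup (Fin 2)
local notation "PSL2" => Matrix.ProjectiveSpecialLinearGroup (Fin 2)
local notation "PGL2" => Matrix.ProjGenLinGroup (Fin 2)

/-- the number `s (s - 1) (s + 1)` -/
def NN (s : ℕ) : ℕ := s * (s - 1) * (s + 1)

theorem NN_strictMono {s t : ℕ} (hs : 2 ≤ s) (h : s < t) : NN s < NN t := by
  unfold NN
  have h1 : s * (s - 1) < t * (t - 1) := by
    apply Nat.mul_lt_mul_of_lt_of_le h (by omega) (by omega)
  exact Nat.mul_lt_mul_of_lt_of_le h1 (by omega) (by omega)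

theorem field_cond {K : Type*} [Field K] [Fintype K] (h : 4 ≤ Fintype.card K) :
    ∃ a : K, a ≠ 0 ∧ a ^ 2 ≠ 1 := by
  classical
  have hcard : ({0, 1, -1} : Finset K).card < (Finset.univ : Finset K).card := by
    rw [Finset.card_univ]
    exact lt_of_le_of_lt (Finset.card_le_three) (by omega)
  obtain ⟨a, -, ha⟩ := Finset.exists_mem_notMem_of_card_lt_card hcard
  simp only [Finset.mem_insert, Finset.mem_singleton, not_or] at ha
  refine ⟨a, ha.1, ?_⟩
  intro h2
  have : (a - 1) * (a + 1) = 0 := by linear_combination h2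
  rcases mul_eq_zero.mp this with h3 | h3
  · exact ha.2.1 (by linear_combination h3)
  · exact ha.2.2 (by linear_combination h3)

theorem card_PGL2_eq {K : Type*} [Field K] [Fintype K] : Nat.card (PGL2 K) = NN (Fintype.card K) := by
  have h := card_PGL2 (K := K)
  have hs : 2 ≤ Fintype.card K := Fintype.one_lt_card
  set s := Fintype.card K with hsdef
  obtain ⟨t, ht⟩ : ∃ t, s = t + 1 := ⟨s - 1, by omega⟩
  have e1 : s ^ 2 - 1 = (s - 1) * (s + 1) := by
    rw [ht, Nat.add_sub_cancel]
    have : (t + 1) ^ 2 = t * (t + 1 + 1) + 1 := by ring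
    rw [this, Nat.add_sub_cancel]
  have e2 : s ^ 2 - s = s * (s - 1) := by rw [pow_two, Nat.mul_sub, mul_one]
  rw [e1, e2] at h
  unfold NN
  apply Nat.eq_of_mul_eq_mul_right (show 0 < s - 1 by omega)
  rw [h]; ring

theorem card_PSL2_eq {K : Type*} [Field K] [Fintype K] :
    Nat.card (PSL2 K) * Nat.gcd 2 (Fintype.card K - 1) = NN (Fintype.card K) :=
  card_PSL2_mul

theorem gcd_pow_eq {q r : ℕ} (hq : 2 ≤ q) (hr : 1 ≤ r) :
    Nat.gcd 2 (q ^ r - 1) = Nat.gcd 2 (q - 1) := by
  have h1 : 1 ≤ q ^ r := Nat.one_le_pow _ _ (by omega)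
  rcases Nat.even_or_odd q with he | ho
  · have h2 : Even (q ^ r) := (Nat.even_pow.mpr ⟨he, by omega⟩)
    obtain ⟨a, ha⟩ := he
    obtain ⟨b, hb⟩ := h2
    have e1 : q - 1 = 2 * (a - 1) + 1 := by omega
    have e2 : q ^ r - 1 = 2 * (b - 1) + 1 := by omega
    rw [e1, e2]; simp
  · have h2 : Odd (q ^ r) := ho.pow
    obtain ⟨a, ha⟩ := ho
    obtain ⟨b, hb⟩ := h2
    have e1 : q - 1 = 2 * a := by omega
    have e2 : q ^ r - 1 = 2 * b := by omega
    rw [e1, e2]; simp

/-- in a subgroup isomorphic to a cyclic or dihedral group commutators commute -/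
theorem metabelian_of_cyclic_or_dihedral {G : Type*} [Group G] (M : Subgroup G) (k : ℕ)
    (h : IsCyclic M ∨ Nonempty (M ≃* DihedralGroup k)) :
    ∀ a ∈ M, ∀ b ∈ M, ∀ c ∈ M, ∀ d ∈ M, ⁅a, b⁆ * ⁅c, d⁆ = ⁅c, d⁆ * ⁅a, b⁆ := by
  intro a ha b hb c hc d hd
  rcases h with hcyc | ⟨⟨e⟩⟩
  · haveI := hcyc
    have hcomm : ∀ x y : ↥M, x * y = y * x := fun x y =>
      (IsCyclic.isMulCommutative (α := ↥M)).is_comm.comm x y
    have h1 : ⁅a, b⁆ = 1 := by
      rw [commutatorElement_eq_one_iff_mul_comm]
      exact congrArg Subtype.val (hcomm ⟨a, ha⟩ ⟨b, hb⟩)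
    have h2 : ⁅c, d⁆ = 1 := by
      rw [commutatorElement_eq_one_iff_mul_comm]
      exact congrArg Subtype.val (hcomm ⟨c, hc⟩ ⟨d, hd⟩)
    rw [h1, h2]
  · have h1 := dihedral_metabelian (e ⟨a, ha⟩) (e ⟨b, hb⟩) (e ⟨c, hc⟩) (e ⟨d, hd⟩)
    rw [← map_commutatorElement, ← map_commutatorElement, ← map_mul, ← map_mul] at h1
    have h2 := e.injective h1
    exact congrArg Subtype.val h2

/-- generic part: the subfield alternative of Dickson's list; the other alternatives are
hypotheses -/
theorem subfield_coatom_aux {F K : Type*} [Field F] [Fintype F] [Field K] [Fintype K]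
    (ι : K →+* F) (p : ℕ) [hp : Fact p.Prime] [CharP K p] [CharP F p] (r : ℕ) (hr : r.Prime)
    (hFK : Fintype.card F = Fintype.card K ^ r)
    (hr2 : Odd (Fintype.card K) → r ≠ 2)
    (hD : ∀ M : Subgroup (PSL2 F), Concl (Fintype.card F) p M)
    (hA : ∀ (M : Subgroup (PSL2 F)) (k : ℕ), (pslMap ι).range ≤ M →
      (IsCyclic M ∨ Nonempty (M ≃* DihedralGroup k)) → False)
    (hB : ∀ (M : Subgroup (PSL2 F)) (P : Sylow p (PSL2 F)) (K' : Subgroup (PSL2 F)),
      (pslMap ι).range ≤ M →
      K' ≤ normalizer ((P : Subgroup (PSL2 F)) : Set (PSL2 F)) → (M ≃* K') → False)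
    (hC : ∀ (M : Subgroup (PSL2 F)), (pslMap ι).range < M →
      (Nonempty (M ≃* alternatingGroup (Fin 4)) ∨ Nonempty (M ≃* Equiv.Perm (Fin 4)) ∨
        Nonempty (M ≃* alternatingGroup (Fin 5))) → False) :
    IsCoatom (pslMap ι).range := by
  classical
  obtain ⟨a, -, hqa⟩ := FiniteField.card K p
  have ha1 : 1 ≤ (a : ℕ) := a.pos
  have hq2 : 2 ≤ Fintype.card K := Fintype.one_lt_card
  set q := Fintype.card K with hq
  set Q := Fintype.card F with hQ
  have hr1 : 2 ≤ r := hr.two_le
  have hqQ : q < Q := by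
    rw [hFK]
    calc q = q ^ 1 := (pow_one q).symm
      _ < q ^ r := Nat.pow_lt_pow_right (by omega) (by omega)
  set H := (pslMap ι).range with hH
  have eH : PSL2 K ≃* H := MonoidHom.ofInjective (pslMap_injective ι)
  have hcardH : Nat.card H = Nat.card (PSL2 K) := (Nat.card_congr eH.toEquiv).symm
  set d := Nat.gcd 2 (q - 1) with hd
  have hdQ : Nat.gcd 2 (Q - 1) = d := by rw [hFK]; exact gcd_pow_eq (by omega) (by omega)
  have hd2 : d ≤ 2 := gcd_le_two q
  have hd0 : 0 < d := gcd_pos' q
  have hdd : d ∣ 2 := Nat.gcd_dvd_left 2 (q - 1)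
  have hHN : Nat.card H * d = NN q := by rw [hcardH]; exact card_PSL2_eq
  have hGN : Nat.card (PSL2 F) * d = NN Q := by rw [← hdQ]; exact card_PSL2_eq
  refine ⟨?_, ?_⟩
  · intro h
    have h1 : Nat.card H = Nat.card (PSL2 F) := by rw [h, Subgroup.card_top]
    have h2 : NN q = NN Q := by rw [← hHN, ← hGN, h1]
    exact (NN_strictMono (by omega) hqQ).ne h2
  · intro M hHM
    have hlt : Nat.card H < Nat.card M := Cfsg.Agent.Lib.Helper1.natCard_lt_of_lt hHM
    have hdvd : Nat.card H ∣ Nat.card M := Subgroup.card_dvd_of_le hHM.le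
    have hMG : Nat.card M ≤ Nat.card (PSL2 F) := Subgroup.card_le_card_group M
    rcases hD M with ⟨k, -, hk⟩ | ⟨P, K', hK', ⟨e⟩⟩ | h1 | h1 | h1 |
      ⟨K', _, _, m, hK'm, hiso⟩
    · exfalso
      apply hA M k hHM.le
      rcases hk with ⟨hc, -⟩ | h
      · exact Or.inl hc
      · exact Or.inr h
    · exact (hB M P K' hHM.le hK' e).elim
    · exact (hC M hHM (Or.inl h1)).elim
    · exact (hC M hHM (Or.inr (Or.inl h1))).elim
    · exact (hC M hHM (Or.inr (Or.inr h1))).elim
    · -- subfield type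
      set s := Fintype.card K' with hs
      have hs2 : 2 ≤ s := Fintype.one_lt_card
      have hm0 : m ≠ 0 := by
        rintro rfl
        rw [pow_zero] at hK'm
        omega
      obtain ⟨p', hp'⟩ := CharP.exists K'
      haveI := hp'
      obtain ⟨b, hp'prime, hsb⟩ := FiniteField.card K' p'
      rw [← hs] at hsb
      have hb1 : 1 ≤ (b : ℕ) := b.pos
      have hpp : p' = p := by
        have h1 : p' ∣ s := by rw [hsb]; exact dvd_pow_self p' (by omega)
        have h2 : p' ∣ Q := by rw [← hK'm]; exact h1.trans (dvd_pow_self s hm0)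
        rw [hFK, hqa, ← pow_mul] at h2
        exact (Nat.prime_dvd_prime_iff_eq hp'prime hp.out).mp (hp'prime.dvd_of_dvd_pow h2)
      rw [hpp] at hsb
      have hsm : (p ^ (b : ℕ)) ^ m = (p ^ (a : ℕ)) ^ r := by
        rw [← hsb, ← hqa, ← hFK]; exact hK'm
      have hMN : Nat.card M ∣ NN s ∧ (Nat.card M * Nat.gcd 2 (s - 1) = NN s ∨ Nat.card M = NN s) := by
        rcases hiso with ⟨⟨e⟩⟩ | ⟨⟨e⟩⟩
        · have h1 : Nat.card M * Nat.gcd 2 (s - 1) = NN s := by
            rw [Nat.card_congr e.toEquiv]; exact card_PSL2_eq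
          exact ⟨Dvd.intro _ h1, Or.inl h1⟩
        · have h1 : Nat.card M = NN s := by
            rw [Nat.card_congr e.toEquiv]; exact card_PGL2_eq
          exact ⟨by rw [h1], Or.inr h1⟩
      have hdiv : NN q ∣ 2 * NN s := by
        rw [← hHN]
        calc Nat.card H * d ∣ Nat.card M * 2 := Nat.mul_dvd_mul hdvd hdd
          _ ∣ NN s * 2 := Nat.mul_dvd_mul_right hMN.1 2
          _ = 2 * NN s := mul_comm _ _
      have hcases := subfield_order_cases (p := p) (a := a) (b := b) (m := m) (r := r) hp.out ha1 hb1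
        hr hsm (by
          have := hdiv
          unfold NN at this
          rw [hqa, hsb] at this
          exact this)
      rw [← hsb, ← hqa, ← hFK] at hcases
      rcases hcases with hsq | hsQ
      · -- `s = q`
        exfalso
        rcases hMN.2 with h1 | h1
        · have hg : Nat.gcd 2 (s - 1) = d := by rw [hsq]
          rw [hg, hsq, ← hHN] at h1
          have := Nat.eq_of_mul_eq_mul_right hd0 h1
          omega
        · rw [hsq, ← hHN] at h1
          rcases Nat.even_or_odd q with he | ho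
          · have hd1 : d = 1 := by
              obtain ⟨c, hc⟩ := he
              have e1 : q - 1 = 2 * (c - 1) + 1 := by omega
              rw [hd, e1]; simp
            rw [hd1, mul_one] at h1
            omega
          · -- `PGL₂(K')` inside `PSL₂(F)` forces `r` even
            have hoddQ : Odd Q := by rw [hFK]; exact ho.pow
            have hK'r : Fintype.card K' ^ r = Q := by rw [← hs, hsq, hFK]
            have h3 := (Cfsg.Agent.S0805.result (F := F) (K := K') (q := Q) rfl hoddQ r
              (by omega) hK'r).2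
            rcases hiso with ⟨⟨e⟩⟩ | ⟨⟨e⟩⟩
            · have h5 : Nat.card M * Nat.gcd 2 (s - 1) = NN s := by
                rw [Nat.card_congr e.toEquiv]; exact card_PSL2_eq
              have hg : Nat.gcd 2 (s - 1) = d := by rw [hsq]
              rw [hg, hsq, ← hHN] at h5
              have := Nat.eq_of_mul_eq_mul_right hd0 h5
              omega
            · have hev : Even r := h3.mp ⟨M, ⟨e⟩⟩
              have : r = 2 := by
                rcases hr.eq_two_or_odd' with h | h
                · exact h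
                · exact absurd hev (Nat.not_even_iff_odd.mpr h)
              exact hr2 ho this
      · -- `s = Q`
        have hge : Nat.card (PSL2 F) ≤ Nat.card M := by
          rcases hMN.2 with h1 | h1
          · have hg : Nat.gcd 2 (s - 1) = d := by rw [hsQ]; exact hdQ
            rw [hg, hsQ, ← hGN] at h1
            exact (Nat.eq_of_mul_eq_mul_right hd0 h1).ge
          · rw [hsQ, ← hGN] at h1
            rw [h1]
            exact Nat.le_mul_of_pos_right _ hd0
        exact (Subgroup.card_eq_iff_eq_top M).mp (le_antisymm hMG hge)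

theorem subfield_coatom {F K : Type*} [Field F] [Fintype F] [Field K] [Fintype K]
    (ι : K →+* F) (p : ℕ) [hp : Fact p.Prime] [CharP K p] [CharP F p] (r : ℕ) (hr : r.Prime)
    (hFK : Fintype.card F = Fintype.card K ^ r) (h4 : 4 ≤ Fintype.card K)
    (hr2 : Odd (Fintype.card K) → r ≠ 2)
    (hD : ∀ M : Subgroup (PSL2 F), Concl (Fintype.card F) p M) :
    IsCoatom (pslMap ι).range := by
  classical
  set q := Fintype.card K with hq
  set H := (pslMap ι).range with hH
  have eH : PSL2 K ≃* H := MonoidHom.ofInjective (pslMap_injective ι)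
  have hcardH : Nat.card H = Nat.card (PSL2 K) := (Nat.card_congr eH.toEquiv).symm
  set d := Nat.gcd 2 (q - 1) with hd
  have hd2 : d ≤ 2 := gcd_le_two q
  have hd0 : 0 < d := gcd_pos' q
  have hHN : Nat.card H * d = NN q := by rw [hcardH]; exact card_PSL2_eq
  have h60 : 60 ≤ Nat.card H := by
    rcases Nat.lt_or_ge q 5 with h5 | h5
    · have h4' : q = 4 := by omega
      have : d = 1 := by rw [hd, h4']; decide
      rw [this, h4', mul_one] at hHN
      rw [hHN]; decide
    · have h120 : NN 5 ≤ NN q := by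
        rcases Nat.eq_or_lt_of_le h5 with h | h
        · rw [← h]
        · exact (NN_strictMono (by omega) h).le
      have : NN 5 = 120 := by decide
      rw [this, ← hHN] at h120
      nlinarith
  have hperf : ⁅H, H⁆ = H := by
    have hc : commutator (PSL2 K) = ⊤ := SL2Simple.PSL_commutator_eq_top (field_cond h4)
    rw [_root_.commutator_def] at hc
    have h1 : H = (⊤ : Subgroup (PSL2 K)).map (pslMap ι) := MonoidHom.range_eq_map _
    rw [h1, ← Subgroup.map_commutator, hc]
  have hHne : H ≠ ⊥ := by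
    intro h
    rw [h, Subgroup.card_bot] at h60
    omega
  apply subfield_coatom_aux ι p r hr hFK hr2 hD
  · intro M k hHM hk
    apply hHne
    apply eq_bot_of_perfect_le_metabelian M H hHM hperf
    exact metabelian_of_cyclic_or_dihedral M k hk
  · intro M P K' hHM hK' e
    exact hHne (eq_bot_of_perfect_of_iso_le_normalizer p P M K' hK' e H hHM hperf)
  · intro M hHM hM
    have hlt : Nat.card H < Nat.card M := Cfsg.Agent.Lib.Helper1.natCard_lt_of_lt hHM
    rcases hM with ⟨⟨e⟩⟩ | ⟨⟨e⟩⟩ | ⟨⟨e⟩⟩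
    · have := Nat.card_congr e.toEquiv
      rw [card_A4] at this
      omega
    · have := Nat.card_congr e.toEquiv
      rw [card_S4] at this
      omega
    · have := Nat.card_congr e.toEquiv
      rw [card_A5] at this
      omega

end Cfsg.Agent.Lib.Helper14.DkSub
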