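import Mathlib
import Cfsg.Agent.S0803
import Cfsg.Agent.S0804
import Cfsg.Agent.Lib.Helper14.DkSub3

/-!
# `PSL₂(3) < PSL₂(3^r)`, `r` an odd prime, is maximal (helper14)
-/

set_option autoImplicit false
set_option maxHeartbeats 1000000

namespace Cfsg.Agent.Lib.Helper14.DkSub

open Subgroup
open scoped commutatorElement
open Cfsg.Agent.Lib.Helper12 Cfsg.Agent.Lib.Helper12.SL2 Cfsg.Agent.S0805 Cfsg.Agent.S0807
open Cfsg.Agent.Lib.Helper1.DkOrders Cfsg.Agent.Lib.Helper1.DkMinIndex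

local notation "SL2" => Matrix.SpecialLinearGroup (Fin 2)
local notation "PSL2" => Matrix.ProjectiveSpecialLinearGroup (Fin 2)
local notation "PGL2" => Matrix.ProjGenLinGroup (Fin 2)

theorem dihedral_sq_comm {k : ℕ} (a b : DihedralGroup k) : a ^ 2 * b ^ 2 = b ^ 2 * a ^ 2 := by
  have hsq : ∀ a : DihedralGroup k, ∃ i : ZMod k, a ^ 2 = DihedralGroup.r i := by
    intro a
    rcases a with i | i
    · exact ⟨i + i, by rw [pow_two, DihedralGroup.r_mul_r]⟩
    · exact ⟨0, by rw [pow_two, DihedralGroup.sr_mul_sr, sub_self]⟩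
  obtain ⟨i, hi⟩ := hsq a
  obtain ⟨j, hj⟩ := hsq b
  rw [hi, hj, DihedralGroup.r_mul_r, DihedralGroup.r_mul_r, add_comm]

/-- squares commute in a subgroup isomorphic to a cyclic or dihedral group -/
theorem sq_comm_of_cyclic_or_dihedral {G : Type*} [Group G] (M : Subgroup G) (k : ℕ)
    (h : IsCyclic M ∨ Nonempty (M ≃* DihedralGroup k)) :
    ∀ a ∈ M, ∀ b ∈ M, a ^ 2 * b ^ 2 = b ^ 2 * a ^ 2 := by
  intro a ha b hb
  rcases h with hcyc | ⟨⟨e⟩⟩
  · haveI := hcyc
    have hcomm : ∀ x y : ↥M, x * y = y * x := fun x y =>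
      (IsCyclic.isMulCommutative (α := ↥M)).is_comm.comm x y
    have := hcomm (⟨a, ha⟩ ^ 2) (⟨b, hb⟩ ^ 2)
    exact congrArg Subtype.val this
  · have h1 := dihedral_sq_comm (e ⟨a, ha⟩) (e ⟨b, hb⟩)
    rw [← map_pow, ← map_pow, ← map_mul, ← map_mul] at h1
    exact congrArg Subtype.val (e.injective h1)

section elements

variable {F : Type*} [Field F]

theorem mkH_eq_iff (A B : SL2 F) : (mkH A : PSL2 F) = mkH B ↔
    ∃ c : F, c ^ 2 = 1 ∧ ∀ i j, B i j = c * A i j := by
  rw [QuotientGroup.mk'_eq_mk']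
  constructor
  · rintro ⟨z, hz, rfl⟩
    rw [Matrix.SpecialLinearGroup.mem_center_iff] at hz
    obtain ⟨c, hc, h⟩ := hz
    refine ⟨c, ?_, ?_⟩
    · simpa using hc
    · intro i j
      rw [SL2.mul_apply', ← h]
      fin_cases i <;> fin_cases j <;> simp [mul_comm]
  · rintro ⟨c, hc, h⟩
    refine ⟨A⁻¹ * B, ?_, by group⟩
    rw [Matrix.SpecialLinearGroup.mem_center_iff]
    refine ⟨c, by simpa using hc, ?_⟩
    have hd := SL2.det_eq A
    ext i j
    fin_cases i <;> fin_cases j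
    · simp [SL2.mul_apply', inv_00, inv_01, h]
      linear_combination (-c) * hd
    · simp [SL2.mul_apply', inv_00, inv_01, h]
      ring
    · simp [SL2.mul_apply', inv_10, inv_11, h]
      ring
    · simp [SL2.mul_apply', inv_10, inv_11, h]
      linear_combination (-c) * hd

theorem sq_not_comm (h2 : (2 : F) ≠ 0) :
    (mkH (up (1 : F)) : PSL2 F) ^ 2 * (mkH (lo (1 : F))) ^ 2 ≠
      (mkH (lo (1 : F))) ^ 2 * (mkH (up (1 : F)) : PSL2 F) ^ 2 := by
  intro h
  rw [← map_pow, ← map_pow, ← map_mul, ← map_mul, mkH_eq_iff] at h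
  obtain ⟨c, hc, h⟩ := h
  have h01 := h 0 1
  have h00 := h 0 0
  simp only [pow_two, SL2.mul_apply', up, lo, SL2.mk_00, SL2.mk_01, SL2.mk_10, SL2.mk_11] at h01 h00
  have hc1 : c = 1 := by
    have : (2 : F) * (c - 1) = 0 := by linear_combination -h01
    rcases mul_eq_zero.mp this with h3 | h3
    · exact absurd h3 h2
    · linear_combination h3
  rw [hc1] at h00
  have : (2 : F) * 2 = 0 := by linear_combination -h00
  rcases mul_eq_zero.mp this with h3 | h3 <;> exact h2 h3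

theorem comm_sq_eq_one (h3 : (3 : F) = 0) :
    (⁅(mkH (up (1 : F)) : PSL2 F), mkH (lo (1 : F))⁆) ^ 2 = 1 := by
  rw [← map_commutatorElement, ← map_pow, ← map_one (mkH : SL2 F →* PSL2 F), mkH_eq_iff]
  refine ⟨-1, by ring, ?_⟩
  intro i j
  fin_cases i <;> fin_cases j <;>
    simp only [pow_two, commutatorElement_def, SL2.mul_apply', inv_00, inv_01, inv_10, inv_11,
      up, lo, SL2.mk_00, SL2.mk_01, SL2.mk_10, SL2.mk_11, Fin.zero_eta, Fin.mk_one,
      Matrix.SpecialLinearGroup.coe_one, Matrix.one_apply_eq, Matrix.one_apply_ne, ne_eq,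
      zero_ne_one, one_ne_zero, not_false_eq_true, Fin.isValue]
  · linear_combination (3 : F) * h3
  · linear_combination (-1 : F) * h3
  · linear_combination (1 : F) * h3
  · ring

theorem comm_ne_one (F : Type*) [Field F] :
    ⁅(mkH (up (1 : F)) : PSL2 F), mkH (lo (1 : F))⁆ ≠ 1 := by
  intro h
  rw [← map_commutatorElement, ← map_one (mkH : SL2 F →* PSL2 F), mkH_eq_iff] at h
  obtain ⟨c, hc, h⟩ := h
  have h01 := h 0 1
  simp only [commutatorElement_def, SL2.mul_apply', inv_00, inv_01, inv_10, inv_11,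
    up, lo, SL2.mk_00, SL2.mk_01, SL2.mk_10, SL2.mk_11,
    Matrix.SpecialLinearGroup.coe_one] at h01
  have hc0 : c = 0 := by
    have h5 : (1 : Matrix (Fin 2) (Fin 2) F) 0 1 = 0 := by simp
    rw [h5] at h01
    linear_combination h01
  rw [hc0] at hc
  simp at hc

end elements

section three

variable {F K : Type*} [Field F] [Field K]

theorem pslMap_mkH (ι : K →+* F) (g : SL2 K) :
    pslMap ι (mkH g) = mkH (Matrix.SpecialLinearGroup.map ι g) := rfl

theorem map_up (ι : K →+* F) (b : K) : Matrix.SpecialLinearGroup.map ι (up b) = up (ι b) := by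
  apply SL2.ext4 <;> simp [slmap_apply, up]

theorem map_lo (ι : K →+* F) (b : K) : Matrix.SpecialLinearGroup.map ι (lo b) = lo (ι b) := by
  apply SL2.ext4 <;> simp [slmap_apply, lo]

theorem up_one_mem_range (ι : K →+* F) : (mkH (up (1 : F)) : PSL2 F) ∈ (pslMap ι).range :=
  ⟨mkH (up (1 : K)), by rw [pslMap_mkH, map_up, map_one]⟩

theorem lo_one_mem_range (ι : K →+* F) : (mkH (lo (1 : F)) : PSL2 F) ∈ (pslMap ι).range :=
  ⟨mkH (lo (1 : K)), by rw [pslMap_mkH, map_lo, map_one]⟩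

theorem nine_pow_mod_sixteen (t : ℕ) : 9 ^ (2 * t + 1) % 16 = 9 := by
  induction t with
  | zero => rfl
  | succ t ih =>
    have : 9 ^ (2 * (t + 1) + 1) = 9 ^ (2 * t + 1) * 81 := by ring
    rw [this, Nat.mul_mod, ih]

theorem nine_pow_mod_five (t : ℕ) : 9 ^ (2 * t + 1) % 5 = 4 := by
  induction t with
  | zero => rfl
  | succ t ih =>
    have : 9 ^ (2 * (t + 1) + 1) = 9 ^ (2 * t + 1) * 81 := by ring
    rw [this, Nat.mul_mod, ih]

theorem subfield_coatom_three [Fintype F] [Fintype K]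
    (ι : K →+* F) [CharP K 3] [CharP F 3] (r : ℕ) (hr : r.Prime) (hr2 : r ≠ 2)
    (hK3 : Fintype.card K = 3)
    (hFK : Fintype.card F = Fintype.card K ^ r)
    (hD : ∀ M : Subgroup (PSL2 F), Concl (Fintype.card F) 3 M) :
    IsCoatom (pslMap ι).range := by
  classical
  haveI : Fact (Nat.Prime 3) := ⟨Nat.prime_three⟩
  have h3 : (3 : F) = 0 := by
    have := CharP.cast_eq_zero F 3
    exact_mod_cast this
  have h2 : (2 : F) ≠ 0 := by
    intro h
    have h1 : ((2 : ℕ) : F) = 0 := by exact_mod_cast h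
    rw [CharP.cast_eq_zero_iff F 3] at h1
    omega
  obtain ⟨t, ht⟩ : ∃ t, r = 2 * t + 1 := by
    rcases hr.eq_two_or_odd' with h | ⟨t, ht⟩
    · exact absurd h hr2
    · exact ⟨t, ht⟩
  set H := (pslMap ι).range with hH
  have hX : (mkH (up (1 : F)) : PSL2 F) ∈ H := up_one_mem_range ι
  have hY : (mkH (lo (1 : F)) : PSL2 F) ∈ H := lo_one_mem_range ι
  have eH : PSL2 K ≃* H := MonoidHom.ofInjective (pslMap_injective ι)
  have hcardH : Nat.card H = 12 := by
    have h1 : Nat.card H = Nat.card (PSL2 K) := (Nat.card_congr eH.toEquiv).symm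
    have h2' := card_PSL2_eq (K := K)
    rw [hK3] at h2'
    have : Nat.gcd 2 (3 - 1) = 2 := by decide
    rw [this] at h2'
    have : NN 3 = 24 := by decide
    rw [this] at h2'
    omega
  have hQ : Fintype.card F = 3 ^ r := by rw [hFK, hK3]
  apply subfield_coatom_aux ι 3 r hr hFK (fun _ => hr2) hD
  · intro M k hHM hk
    exact sq_not_comm h2 (sq_comm_of_cyclic_or_dihedral M k hk _ (hHM hX) _ (hHM hY))
  · intro M P K' hHM hK' e
    set c : PSL2 F := ⁅(mkH (up (1 : F)) : PSL2 F), mkH (lo (1 : F))⁆ with hc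
    have hcM : c ∈ M := by
      rw [hc, commutatorElement_def]
      exact M.mul_mem (M.mul_mem (M.mul_mem (hHM hX) (hHM hY)) (M.inv_mem (hHM hX)))
        (M.inv_mem (hHM hY))
    set x' : ↥M := ⟨_, hHM hX⟩ with hx'
    set y' : ↥M := ⟨_, hHM hY⟩ with hy'
    have hcc : (⟨c, hcM⟩ : ↥M) = ⁅x', y'⁆ := by
      apply Subtype.ext
      simp [hc, hx', hy', commutatorElement_def]
    set z : PSL2 F := ((e ⟨c, hcM⟩ : ↥K') : PSL2 F) with hz
    have hzP : z ∈ (P : Subgroup (PSL2 F)) := by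
      rw [hz, hcc, map_commutatorElement]
      have : ((⁅e x', e y'⁆ : ↥K') : PSL2 F) = ⁅((e x' : ↥K') : PSL2 F), ((e y' : ↥K') : PSL2 F)⁆ := by
        simp [commutatorElement_def]
      rw [this]
      exact comm_normalizer_sylow_mem 3 P _ _ (hK' (e x').2) (hK' (e y').2)
    have hz2 : z ^ 2 = 1 := by
      have h1 : (⟨c, hcM⟩ : ↥M) ^ 2 = 1 := by
        apply Subtype.ext
        rw [Subgroup.coe_pow]
        exact comm_sq_eq_one h3
      have h2' : (e ⟨c, hcM⟩) ^ 2 = 1 := by rw [← map_pow, h1, map_one]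
      have := congrArg (fun y : ↥K' => (y : PSL2 F)) h2'
      simpa using this
    obtain ⟨j, hj⟩ := (P.2 ⟨z, hzP⟩)
    have hj' : z ^ (3 ^ j) = 1 := by
      have := congrArg Subtype.val hj
      simpa using this
    have hz1 : z = 1 := by
      have h4 : orderOf z ∣ Nat.gcd 2 (3 ^ j) :=
        Nat.dvd_gcd (orderOf_dvd_of_pow_eq_one hz2) (orderOf_dvd_of_pow_eq_one hj')
      have h5 : Nat.gcd 2 (3 ^ j) = 1 := by
        apply Nat.Coprime.pow_right
        decide
      rw [h5, Nat.dvd_one, orderOf_eq_one_iff] at h4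
      exact h4
    have h6 : e ⟨c, hcM⟩ = 1 := Subtype.ext hz1
    have h7 : (⟨c, hcM⟩ : ↥M) = 1 := by
      apply e.injective
      rw [h6, map_one]
    exact comm_ne_one F (congrArg Subtype.val h7)
  · intro M hHM hM
    have hlt : Nat.card H < Nat.card M := Cfsg.Agent.Lib.Helper1.natCard_lt_of_lt hHM
    rcases hM with ⟨⟨e⟩⟩ | ⟨⟨e⟩⟩ | ⟨⟨e⟩⟩
    · have := Nat.card_congr e.toEquiv
      rw [card_A4] at this
      omega
    · have h1 := (Cfsg.Agent.S0803.result (F := F) hQ).mp ⟨M, ⟨e⟩⟩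
      rw [ht, ← pow_mul, mul_comm, pow_mul] at h1
      have : (3 : ℕ) ^ 2 = 9 := by norm_num
      rw [this, nine_pow_mod_sixteen] at h1
      omega
    · have h1 := (Cfsg.Agent.S0804.result (F := F) hQ).mp ⟨M, ⟨e⟩⟩
      have h5 : Nat.Coprime 5 (3 ^ r) := by
        apply Nat.Coprime.pow_right
        decide
      have h6 := h5.dvd_of_dvd_mul_left h1
      have h7 : (3 ^ r) ^ 2 = 9 ^ (2 * t + 1) := by
        rw [ht, ← pow_mul, mul_comm, pow_mul]; norm_num
      rw [h7] at h6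
      have h8 := nine_pow_mod_five t
      have h9 : 1 ≤ 9 ^ (2 * t + 1) := Nat.one_le_pow _ _ (by norm_num)
      omega

end three

end Cfsg.Agent.Lib.Helper14.DkSub
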