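import Mathlib

/-!
# Counting classes of p-elements (helper14)

An orbit counting bound for a group acting on a p-group by automorphisms.
-/

set_option autoImplicit false
set_option maxHeartbeats 1000000

namespace Cfsg.Agent.Lib.Helper14.KpClasses

open scoped Classical in
/-- if `H` acts nontrivially on the `p`-group `Q` by automorphisms then there are at most
`(p + 1) |Q| / (2 p)` orbits -/
theorem orbit_bound {H Q : Type*} [Group H] [Group Q] [Finite H] [Finite Q]
    [MulDistribMulAction H Q] {p : ℕ} [hp : Fact p.Prime] (hQ : IsPGroup p Q)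
    (hnt : ∃ h : H, ∃ x : Q, h • x ≠ x) :
    2 * p * Nat.card (MulAction.orbitRel.Quotient H Q) ≤ (p + 1) * Nat.card Q := by
  haveI : Fintype H := Fintype.ofFinite H
  haveI : Fintype Q := Fintype.ofFinite Q
  haveI : Fintype (MulAction.orbitRel.Quotient H Q) := Fintype.ofFinite _
  -- the kernel of the action
  obtain ⟨Kr, hKr⟩ : ∃ Kr : Subgroup H, ∀ h, h ∈ Kr ↔ ∀ x : Q, h • x = x := by
    refine ⟨(MulDistribMulAction.toMulAut H Q).ker, ?_⟩
    intro h
    rw [MonoidHom.mem_ker, DFunLike.ext_iff]
    rfl
  -- fixed points form a subgroup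
  have hfix : ∀ h : H, ∃ S : Subgroup Q, ∀ x, x ∈ S ↔ h • x = x := by
    intro h
    refine ⟨{ carrier := {x | h • x = x}
              mul_mem' := ?_
              one_mem' := ?_
              inv_mem' := ?_ }, fun x => Iff.rfl⟩
    · intro a b ha hb
      show h • (a * b) = a * b
      rw [smul_mul', ha, hb]
    · exact smul_one h
    · intro a ha
      show h • a⁻¹ = a⁻¹
      rw [smul_inv', ha]
  have hpos : 0 < Nat.card H := Nat.card_pos
  have hp2 : 2 ≤ p := hp.out.two_le
  -- bound on each fixed point set
  have hbound : ∀ h : H, p * Fintype.card (MulAction.fixedBy Q h) ≤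
      if h ∈ Kr then p * Nat.card Q else Nat.card Q := by
    intro h
    obtain ⟨S, hS⟩ := hfix h
    have hcard : Fintype.card (MulAction.fixedBy Q h) = Nat.card S := by
      rw [← Nat.card_eq_fintype_card]
      apply Nat.card_congr
      exact Equiv.subtypeEquivRight (fun x => by rw [MulAction.mem_fixedBy, hS])
    rw [hcard]
    by_cases hh : h ∈ Kr
    · rw [if_pos hh]
      exact Nat.mul_le_mul_left p (Subgroup.card_le_card_group S)
    · rw [if_neg hh]
      have hne : S ≠ ⊤ := by
        intro htop
        apply hh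
        rw [hKr]
        intro x
        rw [← hS, htop]
        trivial
      obtain ⟨n, hn⟩ := hQ.index S
      have hn0 : n ≠ 0 := by
        intro h0
        rw [h0, pow_zero] at hn
        exact hne (Subgroup.index_eq_one.mp hn)
      have hdvd : p ∣ S.index := by
        rw [hn]
        exact dvd_pow_self p hn0
      have hmul := S.card_mul_index
      obtain ⟨m, hm⟩ := hdvd
      have hm0 : 0 < m := by
        rcases Nat.eq_zero_or_pos m with h0 | h0
        · rw [h0, mul_zero] at hm
          exact absurd hm S.index_ne_zero_of_finite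
        · exact h0
      calc p * Nat.card S ≤ p * Nat.card S * m := Nat.le_mul_of_pos_right _ hm0
        _ = Nat.card S * S.index := by rw [hm]; ring
        _ = Nat.card Q := hmul
  -- Burnside's lemma
  have hburn := MulAction.sum_card_fixedBy_eq_card_orbits_mul_card_group H Q
  have hsum : p * (Fintype.card (MulAction.orbitRel.Quotient H Q) * Fintype.card H) ≤
      Nat.card Kr * (p * Nat.card Q) + (Fintype.card H - Nat.card Kr) * Nat.card Q := by
    rw [← hburn, Finset.mul_sum]
    calc ∑ h : H, p * Fintype.card (MulAction.fixedBy Q h)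
        ≤ ∑ h : H, (if h ∈ Kr then p * Nat.card Q else Nat.card Q) :=
          Finset.sum_le_sum (fun h _ => hbound h)
      _ = Nat.card Kr * (p * Nat.card Q) + (Fintype.card H - Nat.card Kr) * Nat.card Q := by
          rw [Finset.sum_ite, Finset.sum_const, Finset.sum_const, smul_eq_mul, smul_eq_mul]
          have h1 : (Finset.univ.filter (fun h : H => h ∈ Kr)).card = Nat.card Kr := by
            rw [Nat.card_eq_fintype_card, Fintype.card_subtype]
          have h2 : (Finset.univ.filter (fun h : H => ¬ h ∈ Kr)).card =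
              Fintype.card H - Nat.card Kr := by
            rw [← h1, Finset.filter_not, Finset.card_sdiff_of_subset (Finset.filter_subset _ _),
              Finset.card_univ]
          rw [h1, h2]
  -- the kernel is proper
  have hKr2 : 2 * Nat.card Kr ≤ Nat.card H := by
    obtain ⟨h, x, hx⟩ := hnt
    have hne : Kr ≠ ⊤ := by
      intro htop
      apply hx
      have : h ∈ Kr := by rw [htop]; trivial
      exact (hKr h).mp this x
    have hidx : 2 ≤ Kr.index := by
      have h0 : Kr.index ≠ 0 := Kr.index_ne_zero_of_finite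
      have h1 : Kr.index ≠ 1 := fun h1 => hne (Subgroup.index_eq_one.mp h1)
      omega
    calc 2 * Nat.card Kr ≤ Kr.index * Nat.card Kr := Nat.mul_le_mul_right _ hidx
      _ = Nat.card H := by rw [mul_comm]; exact Kr.card_mul_index
  rw [← Nat.card_eq_fintype_card (α := H), ← Nat.card_eq_fintype_card
    (α := MulAction.orbitRel.Quotient H Q)] at hsum
  obtain ⟨a, ha⟩ : ∃ a, a = Nat.card Kr := ⟨_, rfl⟩
  obtain ⟨b, hb⟩ : ∃ b, b = Nat.card H := ⟨_, rfl⟩
  obtain ⟨q, hq⟩ : ∃ q, q = Nat.card Q := ⟨_, rfl⟩
  obtain ⟨o, ho⟩ : ∃ o, o = Nat.card (MulAction.orbitRel.Quotient H Q) := ⟨_, rfl⟩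
  rw [← ha, ← hb, ← hq, ← ho] at hsum
  rw [← ha, ← hb] at hKr2
  rw [← hb] at hpos
  rw [← hq, ← ho]
  obtain ⟨c, rfl⟩ : ∃ c, b = a + c := ⟨b - a, by omega⟩
  rw [Nat.add_sub_cancel_left] at hsum
  have hca : a ≤ c := by omega
  obtain ⟨p', rfl⟩ : ∃ p', p = p' + 1 := ⟨p - 1, by omega⟩
  apply Nat.le_of_mul_le_mul_right _ hpos
  have h3 : q * p' * a ≤ q * p' * c := Nat.mul_le_mul_left _ hca
  nlinarith [hsum, h3]

end Cfsg.Agent.Lib.Helper14.KpClasses
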