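import Mathlib
import Cfsg.Prelude.Def_Transfer
import Cfsg.Agent.Lib.Helper11.Burnside
import Cfsg.Agent.Lib.Helper14.KpClassesA

/-!
# Counting classes of p-elements, part B (helper14)

Many classes of `p`-elements force a normal `p`-complement and abelian Sylow `p`-subgroups.
-/

set_option autoImplicit false
set_option maxHeartbeats 1000000

namespace Cfsg.Agent.Lib.Helper14.KpClasses

variable {G : Type*} [Group G] {p : ℕ} [hp : Fact p.Prime]

/-- the classes of `p`-elements -/
abbrev PCls (p : ℕ) (G : Type*) [Group G] : Type _ :=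
  {c : ConjClasses G // ∀ x ∈ c.carrier, ∃ k : ℕ, orderOf x = p ^ k}

theorem orderOf_of_isConj {a b : G} (h : IsConj a b) : orderOf a = orderOf b := by
  obtain ⟨c, hc⟩ := isConj_iff.mp h
  rw [← hc]
  have := MulEquiv.orderOf_eq (MulAut.conj c) a
  rw [MulAut.conj_apply] at this
  exact this.symm

theorem mk_mem (P : Sylow p G) (x : ↥(P : Subgroup G)) :
    ∀ y ∈ (ConjClasses.mk (x : G)).carrier, ∃ k : ℕ, orderOf y = p ^ k := by
  intro y hy
  rw [ConjClasses.mem_carrier_iff_mk_eq, ConjClasses.mk_eq_mk_iff_isConj] at hy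
  obtain ⟨k, hk⟩ := (IsPGroup.iff_orderOf.mp P.isPGroup') x
  refine ⟨k, ?_⟩
  rw [orderOf_of_isConj hy, ← hk, Subgroup.orderOf_coe]

/-- the class of an element of the Sylow subgroup -/
def clsMap (P : Sylow p G) (x : ↥(P : Subgroup G)) : PCls p G :=
  ⟨ConjClasses.mk (x : G), mk_mem P x⟩

theorem clsMap_surjective [Finite G] (P : Sylow p G) : Function.Surjective (clsMap P) := by
  rintro ⟨c, hc⟩
  obtain ⟨g, rfl⟩ := ConjClasses.exists_rep c
  obtain ⟨k, hk⟩ := hc g ConjClasses.mem_carrier_mk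
  have hpg : IsPGroup p (Subgroup.zpowers g) := by
    apply IsPGroup.of_card (n := k)
    rw [Nat.card_zpowers, hk]
  obtain ⟨Q, hQ⟩ := hpg.exists_le_sylow
  obtain ⟨a, ha⟩ := MulAction.exists_smul_eq G Q P
  have hgQ : g ∈ (Q : Subgroup G) := hQ (Subgroup.mem_zpowers g)
  have hmem : a * g * a⁻¹ ∈ (P : Subgroup G) := by
    rw [← ha, Sylow.smul_def, Sylow.pointwise_smul_def]
    have := Subgroup.smul_mem_pointwise_smul g (MulAut.conj a) (Q : Subgroup G) hgQ
    rwa [MulAut.smul_def, MulAut.conj_apply] at this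
  refine ⟨⟨a * g * a⁻¹, hmem⟩, ?_⟩
  apply Subtype.ext
  show ConjClasses.mk (a * g * a⁻¹) = ConjClasses.mk g
  rw [ConjClasses.mk_eq_mk_iff_isConj, isConj_comm, isConj_iff]
  exact ⟨a, rfl⟩

theorem card_cls_le [Finite G] {H : Type*} [Group H] (P : Sylow p G)
    [MulDistribMulAction H ↥(P : Subgroup G)]
    (hconj : ∀ (h : H) (x : ↥(P : Subgroup G)),
      IsConj (x : G) ((h • x : ↥(P : Subgroup G)) : G)) :
    Nat.card (PCls p G) ≤ Nat.card (MulAction.orbitRel.Quotient H ↥(P : Subgroup G)) := by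
  have hwd : ∀ a b : ↥(P : Subgroup G), (MulAction.orbitRel H ↥(P : Subgroup G)) a b →
      clsMap P a = clsMap P b := by
    intro a b hab
    rw [MulAction.orbitRel_apply] at hab
    obtain ⟨h, hh⟩ := hab
    apply Subtype.ext
    show ConjClasses.mk (a : G) = ConjClasses.mk (b : G)
    rw [ConjClasses.mk_eq_mk_iff_isConj, isConj_comm]
    have := hconj h b
    have e : h • b = a := hh
    rwa [e] at this
  apply Nat.card_le_card_of_surjective
    (Quotient.lift (s := MulAction.orbitRel H ↥(P : Subgroup G)) (clsMap P) hwd)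
  intro c
  obtain ⟨x, hx⟩ := clsMap_surjective P c
  exact ⟨Quotient.mk _ x, hx⟩

/-- many classes of `p`-elements: the normalizer of the Sylow subgroup acts trivially on it -/
theorem normalizer_acts_trivially [Finite G] (P : Sylow p G)
    (h : (p + 1) * Nat.card ↥(P : Subgroup G) < 2 * p * Nat.card (PCls p G))
    (n : G) (hn : n ∈ Subgroup.normalizer ((P : Subgroup G) : Set G))
    (x : G) (hx : x ∈ (P : Subgroup G)) : n * x * n⁻¹ = x := by
  by_contra hne
  have hnt : ∃ h : ↥(Subgroup.normalizer ((P : Subgroup G) : Set G)),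
      ∃ x : ↥(P : Subgroup G), h • x ≠ x := by
    refine ⟨⟨n, hn⟩, ⟨x, hx⟩, ?_⟩
    intro he
    apply hne
    exact congrArg Subtype.val he
  have h1 := orbit_bound (H := ↥(Subgroup.normalizer ((P : Subgroup G) : Set G)))
    (Q := ↥(P : Subgroup G)) P.isPGroup' hnt
  have h2 := card_cls_le (H := ↥(Subgroup.normalizer ((P : Subgroup G) : Set G))) P (by
    intro m y
    rw [isConj_iff]
    exact ⟨(m : G), rfl⟩)
  have h3 : 2 * p * Nat.card (PCls p G) ≤ 2 * p * Nat.card (MulAction.orbitRel.Quotient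
      ↥(Subgroup.normalizer ((P : Subgroup G) : Set G)) ↥(P : Subgroup G)) :=
    Nat.mul_le_mul_left _ h2
  omega

theorem forward [Finite G] (P : Sylow p G)
    (h : (p + 1) * Nat.card ↥(P : Subgroup G) < 2 * p * Nat.card (PCls p G)) :
    Cfsg.HasNormalPComplement p G ∧ IsMulCommutative ↥(P : Subgroup G) := by
  have key := normalizer_acts_trivially P h
  constructor
  · apply Cfsg.Agent.Lib.Helper11.hasNormalPComplement_of_normalizer_le_centralizer P
    intro n hn
    rw [Subgroup.mem_centralizer_iff]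
    intro x hx
    have := key n hn x hx
    rw [mul_inv_eq_iff_eq_mul] at this
    exact this.symm
  · refine ⟨⟨fun a b => ?_⟩⟩
    apply Subtype.ext
    have := key a (Subgroup.le_normalizer a.2) b b.2
    rw [mul_inv_eq_iff_eq_mul] at this
    exact this

theorem backward [Finite G] (P : Sylow p G) (hN : Cfsg.HasNormalPComplement p G)
    (hcomm : IsMulCommutative ↥(P : Subgroup G)) :
    (p + 1) * Nat.card ↥(P : Subgroup G) < 2 * p * Nat.card (PCls p G) := by
  obtain ⟨P₀, N, hNn, hc⟩ := hN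
  have hcard : Nat.card ↥(P : Subgroup G) = Nat.card ↥(P₀ : Subgroup G) := by
    rw [Sylow.card_eq_multiplicity, Sylow.card_eq_multiplicity]
  have h1 : Nat.card N * Nat.card ↥(P : Subgroup G) = Nat.card G := by
    rw [hcard]
    exact hc.card_mul_card
  have h2 : (Nat.card N).Coprime (Nat.card ↥(P : Subgroup G)) := by
    obtain ⟨k, hk⟩ := IsPGroup.iff_card.mp P.isPGroup'
    rw [hk]
    apply Nat.Coprime.pow_right
    rw [← hc.index_eq_card]
    exact ((Nat.Prime.coprime_iff_not_dvd hp.out).mpr P₀.not_dvd_index).symm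
  have hc' : N.IsComplement' (P : Subgroup G) := Subgroup.isComplement'_of_coprime h1 h2
  have hdisj := hc'.disjoint
  have hinj : Function.Injective (clsMap P) := by
    intro x y hxy
    have h3 : ConjClasses.mk (x : G) = ConjClasses.mk (y : G) := congrArg Subtype.val hxy
    rw [ConjClasses.mk_eq_mk_iff_isConj, isConj_iff] at h3
    obtain ⟨g, hg⟩ := h3
    obtain ⟨⟨n, z⟩, hnz, _⟩ := hc'.existsUnique g
    simp only at hnz
    have hzx : (z : G) * (x : G) * (z : G)⁻¹ = (x : G) := by
      have := hcomm.is_comm.comm (⟨z, z.2⟩ : ↥(P : Subgroup G)) x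
      have h4 : (z : G) * (x : G) = (x : G) * (z : G) := congrArg Subtype.val this
      rw [h4, mul_inv_cancel_right]
    have hy : (y : G) = (n : G) * (x : G) * (n : G)⁻¹ := by
      rw [← hg, ← hnz, mul_inv_rev]
      calc (n : G) * (z : G) * (x : G) * ((z : G)⁻¹ * (n : G)⁻¹)
          = (n : G) * ((z : G) * (x : G) * (z : G)⁻¹) * (n : G)⁻¹ := by group
        _ = (n : G) * (x : G) * (n : G)⁻¹ := by rw [hzx]
    have hmemN : (y : G) * (x : G)⁻¹ ∈ N := by
      rw [hy]
      have h5 : (x : G) * (n : G)⁻¹ * (x : G)⁻¹ ∈ N := hNn.conj_mem _ (N.inv_mem n.2) _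
      have := N.mul_mem n.2 h5
      have e : (n : G) * ((x : G) * (n : G)⁻¹ * (x : G)⁻¹) =
          (n : G) * (x : G) * (n : G)⁻¹ * (x : G)⁻¹ := by group
      rwa [e] at this
    have hmemP : (y : G) * (x : G)⁻¹ ∈ (P : Subgroup G) :=
      (P : Subgroup G).mul_mem y.2 ((P : Subgroup G).inv_mem x.2)
    have h6 := Subgroup.disjoint_def.mp hdisj hmemN hmemP
    apply Subtype.ext
    exact (mul_inv_eq_one.mp h6).symm
  haveI : Finite (PCls p G) := inferInstance
  have h7 : Nat.card ↥(P : Subgroup G) ≤ Nat.card (PCls p G) :=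
    Nat.card_le_card_of_injective _ hinj
  have hpos : 0 < Nat.card ↥(P : Subgroup G) := Nat.card_pos
  have hp2 : 2 ≤ p := hp.out.two_le
  have h8 : 2 * p * Nat.card ↥(P : Subgroup G) ≤ 2 * p * Nat.card (PCls p G) :=
    Nat.mul_le_mul_left _ h7
  nlinarith

end Cfsg.Agent.Lib.Helper14.KpClasses
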