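import Mathlib
import Cfsg.Agent.Lib.Helper14.ExtCoprime

/-! Abstract actions `MulDistribMulAction A R`: the commutator subgroup `[R, A]`, fixed points,
and the coprime decomposition for abelian groups. -/

set_option autoImplicit false
namespace Cfsg.Agent.Lib.Helper14
open scoped commutatorElement

section Basic
variable {A R : Type*} [Group A] [Group R] [MulDistribMulAction A R]

/-- `[R, A]` for an abstract action -/
def actComm (A R : Type*) [Group A] [Group R] [MulDistribMulAction A R] : Subgroup R :=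
  Subgroup.closure {r | ∃ (a : A) (x : R), r = a • x * x⁻¹}

theorem smul_mul_inv_mem_actComm (a : A) (x : R) : a • x * x⁻¹ ∈ actComm A R :=
  Subgroup.subset_closure ⟨a, x, rfl⟩

theorem smul_commutatorElement (a : A) (x y : R) : a • ⁅x, y⁆ = ⁅a • x, a • y⁆ := by
  simp only [commutatorElement_def, smul_mul', smul_inv']

theorem smul_mem_center (a : A) {z : R} (hz : z ∈ Subgroup.center R) : a • z ∈ Subgroup.center R := by
  rw [Subgroup.mem_center_iff] at hz ⊢
  intro g
  have h1 := hz (a⁻¹ • g)
  have h2 := congrArg (fun t => a • t) h1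
  simp only [smul_mul', smul_inv_smul] at h2
  exact h2

theorem smul_mem_commutator (a : A) {d : R} (hd : d ∈ commutator R) : a • d ∈ commutator R := by
  rw [commutator_def] at hd ⊢
  have h1 : Subgroup.map (MulDistribMulAction.toMonoidHom R a) ⁅(⊤ : Subgroup R), (⊤ : Subgroup R)⁆ ≤
      ⁅(⊤ : Subgroup R), (⊤ : Subgroup R)⁆ := by
    rw [Subgroup.map_commutator]
    exact Subgroup.commutator_mono le_top le_top
  exact h1 ⟨d, hd, rfl⟩

/-- the action on a quotient: `[R/N, A] = ⊤` if `[R, A] = ⊤` -/
theorem actComm_quot_eq_top (N : Subgroup R) [N.Normal] (hN : ∀ a : A, ∀ x ∈ N, a • x ∈ N)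
    (h : actComm A R = ⊤) :
    letI := quotMulDistribMulAction N hN
    actComm A (R ⧸ N) = ⊤ := by
  letI := quotMulDistribMulAction N hN
  rw [eq_top_iff]
  have h1 : (actComm A R).map (QuotientGroup.mk' N) = ⊤ := by
    rw [h, ← MonoidHom.range_eq_map, MonoidHom.range_eq_top]
    exact QuotientGroup.mk'_surjective N
  rw [← h1, actComm, MonoidHom.map_closure, Subgroup.closure_le]
  rintro _ ⟨_, ⟨a, x, rfl⟩, rfl⟩
  have : (QuotientGroup.mk' N) (a • x * x⁻¹) = a • (x : R ⧸ N) * (x : R ⧸ N)⁻¹ := by
    rw [map_mul, map_inv]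
    rfl
  rw [this]
  exact smul_mul_inv_mem_actComm a _

end Basic

section Abelian
variable {A V : Type*} [Group A] [Finite A] [CommGroup V] [MulDistribMulAction A V]

/-- averaging: a fixed element of `[V, A]`, `V` abelian, is killed by `|A|`. -/
theorem pow_card_eq_one_of_mem_actComm_of_fixed {v : V} (hv : v ∈ actComm A V)
    (hfix : ∀ a : A, a • v = v) : v ^ Nat.card A = 1 := by
  classical
  have : Fintype A := Fintype.ofFinite A
  let τ : V →* V := ∏ a : A, MulDistribMulAction.toMonoidHom V a
  have hτ : ∀ x, τ x = ∏ a : A, a • x := by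
    intro x
    simp only [τ, MonoidHom.finsetProd_apply]
    rfl
  have hτa : ∀ (b : A) (x : V), τ (b • x) = τ x := by
    intro b x
    rw [hτ, hτ]
    have h1 := Equiv.prod_comp (Equiv.mulRight b) (fun a : A => a • x)
    rw [← h1]
    apply Finset.prod_congr rfl
    intro a _
    simp only [Equiv.coe_mulRight, mul_smul]
  have hker : actComm A V ≤ τ.ker := by
    rw [actComm, Subgroup.closure_le]
    rintro _ ⟨a, x, rfl⟩
    rw [SetLike.mem_coe, MonoidHom.mem_ker, map_mul, map_inv, hτa, mul_inv_cancel]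
  have h1 := hker hv
  rw [MonoidHom.mem_ker, hτ] at h1
  simp only [hfix, Finset.prod_const, Finset.card_univ] at h1
  rw [Nat.card_eq_fintype_card]
  exact h1

end Abelian

end Cfsg.Agent.Lib.Helper14

namespace Cfsg.Agent.Lib.Helper14

/-- version of `pow_card_eq_one_of_mem_actComm_of_fixed` for a group known to be commutative -/
theorem pow_card_eq_one_of_mem_actComm_of_fixed' {A V : Type*} [Group A] [Finite A] [Group V]
    [MulDistribMulAction A V] (hc : ∀ x y : V, x * y = y * x) {v : V} (hv : v ∈ actComm A V)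
    (hfix : ∀ a : A, a • v = v) : v ^ Nat.card A = 1 := by
  let inst : CommGroup V := { (inferInstance : Group V) with mul_comm := hc }
  exact @pow_card_eq_one_of_mem_actComm_of_fixed A V _ _ inst _ v hv hfix

/-- a group of order `p²`, exponent `p`: a proper subgroup containing `u ≠ 1` is `⟨u⟩`. -/
theorem eq_zpowers_of_card_sq {V : Type*} [Group V] {p : ℕ} [hp : Fact p.Prime]
    (hV : Nat.card V = p ^ 2) (hexp : ∀ v : V, v ^ p = 1) (H : Subgroup V) (hH : H ≠ ⊤) {u : V}
    (hu : u ∈ H) (hu1 : u ≠ 1) : H = Subgroup.zpowers u := by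
  have hfin : Finite V := Nat.finite_of_card_ne_zero (by rw [hV]; exact pow_ne_zero _ hp.out.pos.ne')
  have hou : orderOf u = p := by
    have h1 : orderOf u ∣ p := orderOf_dvd_of_pow_eq_one (hexp u)
    rcases (Nat.dvd_prime hp.out).mp h1 with h | h
    · exact absurd (orderOf_eq_one_iff.mp h) hu1
    · exact h
  have hle : Subgroup.zpowers u ≤ H := by rw [Subgroup.zpowers_le]; exact hu
  have hcz : Nat.card (Subgroup.zpowers u) = p := by rw [Nat.card_zpowers, hou]
  have hdvd : Nat.card H ∣ p ^ 2 := hV ▸ Subgroup.card_subgroup_dvd_card H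
  obtain ⟨k, hk2, hk⟩ := (Nat.dvd_prime_pow hp.out).mp hdvd
  have hk' : k = 1 := by
    interval_cases k
    · exfalso
      rw [pow_zero, Subgroup.card_eq_one] at hk
      rw [hk, Subgroup.mem_bot] at hu
      exact hu1 hu
    · rfl
    · exfalso
      exact hH (Subgroup.eq_top_of_card_eq H (by rw [hk, hV]))
  symm
  apply Subgroup.eq_of_le_of_card_ge hle
  rw [hcz, hk, hk', pow_one]

end Cfsg.Agent.Lib.Helper14
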