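import Mathlib
import Cfsg.Agent.Lib.Helper14.FrattiniQuot
set_option autoImplicit false
set_option maxHeartbeats 400000
namespace Cfsg.Agent.Lib.Helper14

theorem exists_fin_subfamily_span {K V ι : Type*} [Field K] [AddCommGroup V] [Module K V]
    [FiniteDimensional K V] (s : ι → V) (hs : Submodule.span K (Set.range s) = ⊤) :
    ∃ f : Fin (Module.finrank K V) → ι, Function.Injective (s ∘ f) ∧
      Submodule.span K (Set.range (s ∘ f)) = ⊤ := by
  classical
  obtain ⟨b, hb, hspan, hli⟩ := exists_linearIndependent K (Set.range s)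
  have htop : ⊤ ≤ Submodule.span K (Set.range (Subtype.val : b → V)) := by
    rw [Subtype.range_coe, hspan, hs]
  let B := Module.Basis.mk hli htop
  have hfin : Finite b := Module.Finite.finite_basis B
  have : Fintype b := Fintype.ofFinite b
  have hcard : Fintype.card b = Module.finrank K V := (Module.finrank_eq_card_basis B).symm
  let e : Fin (Module.finrank K V) ≃ b := (Fintype.equivFinOfCardEq hcard).symm
  have hidx : ∀ x : b, ∃ i, s i = x.1 := fun x => hb x.2
  choose idx hidx' using hidx
  refine ⟨idx ∘ e, ?_, ?_⟩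
  · intro i j hij
    simp only [Function.comp_apply, hidx'] at hij
    exact e.injective (Subtype.ext hij)
  · have : Set.range (s ∘ (idx ∘ e)) = b := by
      ext v
      constructor
      · rintro ⟨i, rfl⟩
        simp only [Function.comp_apply, hidx']
        exact (e i).2
      · intro hv
        refine ⟨e.symm ⟨v, hv⟩, ?_⟩
        simp [hidx']
    rw [this, hspan, hs]

theorem closure_eq_top_iff_span_additive {E : Type*} [CommGroup E] {p : ℕ} [Fact p.Prime]
    [Module (ZMod p) (Additive E)] {ι : Type*} (s : ι → E) :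
    Subgroup.closure (Set.range s) = ⊤ ↔
      Submodule.span (ZMod p) (Set.range (fun i => Additive.ofMul (s i))) = ⊤ := by
  rw [← closure_eq_top_iff_span]
  have h1 : Subgroup.closure (Set.range s) = ⊤ ↔ Subgroup.toAddSubgroup (Subgroup.closure (Set.range s)) = ⊤ := by
    constructor
    · intro h; rw [h]; rfl
    · intro h
      have := congrArg Subgroup.toAddSubgroup.symm h
      simpa using this
  rw [h1, Subgroup.toAddSubgroup_closure]
  have h2 : (Additive.toMul ⁻¹' Set.range s : Set (Additive E)) = Set.range (fun i => Additive.ofMul (s i)) := by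
    ext x
    simp only [Set.mem_preimage, Set.mem_range]
    constructor
    · rintro ⟨i, hi⟩; exact ⟨i, by rw [hi]; rfl⟩
    · rintro ⟨i, hi⟩; exact ⟨i, by rw [← hi]; rfl⟩
  rw [h2]


theorem exists_fin_subfamily_gen {E : Type*} [CommGroup E] [Finite E] {p : ℕ} [Fact p.Prime]
    (hE : ∀ x : E, x ^ p = 1) {n : ℕ} (hcard : Nat.card E = p ^ n) {ι : Type*} (s : ι → E)
    (hs : Subgroup.closure (Set.range s) = ⊤) :
    ∃ f : Fin n → ι, Function.Injective (s ∘ f) ∧ Subgroup.closure (Set.range (s ∘ f)) = ⊤ := by
  let _ : Module (ZMod p) (Additive E) := AddCommGroup.zmodModule (n := p) (fun x => by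
    change Additive.ofMul (x.toMul ^ p) = 0
    rw [hE]; rfl)
  have hV : Nat.card (Additive E) = p ^ n := hcard
  have hfr : Module.finrank (ZMod p) (Additive E) = n := finrank_eq_of_card hV
  have hfd : FiniteDimensional (ZMod p) (Additive E) := Module.Finite.of_finite
  rw [closure_eq_top_iff_span_additive (p := p)] at hs
  have h3 := @exists_fin_subfamily_span (ZMod p) (Additive E) ι _ _ _ hfd
    (fun i => Additive.ofMul (s i)) hs
  rw [hfr] at h3
  obtain ⟨f, hinj, hspan⟩ := h3
  refine ⟨f, ?_, ?_⟩
  · intro i j hij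
    apply hinj
    simp only [Function.comp_apply] at hij ⊢
    rw [hij]
  · rw [closure_eq_top_iff_span_additive (p := p)]
    exact hspan

theorem le_card_of_gen {E : Type*} [CommGroup E] [Finite E] {p : ℕ} [Fact p.Prime]
    (hE : ∀ x : E, x ^ p = 1) {n : ℕ} (hcard : Nat.card E = p ^ n) {ι : Type*} [Fintype ι] (s : ι → E)
    (hs : Subgroup.closure (Set.range s) = ⊤) : n ≤ Fintype.card ι := by
  let _ : Module (ZMod p) (Additive E) := AddCommGroup.zmodModule (n := p) (fun x => by
    change Additive.ofMul (x.toMul ^ p) = 0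
    rw [hE]; rfl)
  have hV : Nat.card (Additive E) = p ^ n := hcard
  have hfr : Module.finrank (ZMod p) (Additive E) = n := finrank_eq_of_card hV
  have hfd : FiniteDimensional (ZMod p) (Additive E) := Module.Finite.of_finite
  rw [closure_eq_top_iff_span_additive (p := p)] at hs
  have h2 := finrank_range_le_card (R := ZMod p) (fun i : ι => Additive.ofMul (s i))
  rw [Set.finrank, hs, finrank_top, hfr] at h2
  exact h2

end Cfsg.Agent.Lib.Helper14
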