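import Mathlib
import Cfsg.Prelude.Def_PLocal
import Cfsg.Agent.Lib.Helper14.FrattiniQuot
set_option autoImplicit false
set_option maxHeartbeats 400000
namespace Cfsg.Agent.Lib.Helper14
open Cfsg
open scoped commutatorElement

universe u

/-- image of a power closure under a homomorphism -/
theorem powerClosure_map {G H : Type*} [Group G] [Group H] (f : G →* H) (p n : ℕ) (L : Subgroup G) :
    powerClosure p n (L.map f) = (powerClosure p n L).map f := by
  unfold powerClosure
  rw [MonoidHom.map_closure]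
  congr 1
  ext y
  constructor
  · rintro ⟨x, ⟨x0, hx0, rfl⟩, rfl⟩
    exact ⟨x0 ^ p ^ n, ⟨x0, hx0, rfl⟩, by rw [map_pow]⟩
  · rintro ⟨y0, ⟨x0, hx0, rfl⟩, rfl⟩
    exact ⟨f x0, ⟨x0, hx0, rfl⟩, by rw [map_pow]⟩

/-- subgroups of regular `p`-groups are regular -/
theorem isRegularPGroup_subgroup {K : Type*} [Group K] {p : ℕ} (hK : IsRegularPGroup p K) (M : Subgroup K) :
    IsRegularPGroup p ↥M := by
  refine ⟨hK.1.to_subgroup M, ?_⟩
  intro a b n
  obtain ⟨c₀, hc₀, hc⟩ := hK.2 (a : K) (b : K) n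
  have hcl : Subgroup.closure ({(a : K), (b : K)} : Set K) = (Subgroup.closure ({a, b} : Set ↥M)).map M.subtype := by
    rw [MonoidHom.map_closure]
    congr 1
    ext z
    simp [Set.image_pair]
  rw [hcl, ← Subgroup.map_commutator, powerClosure_map] at hc₀
  obtain ⟨c, hcmem, rfl⟩ := hc₀
  refine ⟨c, hcmem, ?_⟩
  apply Subtype.ext
  simpa using hc

/-- In a group generated by `x` and `y`, the commutator subgroup is the normal closure of `⁅x, y⁆`. -/
theorem commutator_le_normalClosure_of_gen {K : Type*} [Group K] (x y : K)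
    (hgen : Subgroup.closure ({x, y} : Set K) = ⊤) :
    commutator K ≤ Subgroup.normalClosure ({⁅x, y⁆} : Set K) := by
  set N := Subgroup.normalClosure ({⁅x, y⁆} : Set K) with hN
  rw [← Subgroup.Normal.quotient_commutative_iff_commutator_le]
  have hxy : (QuotientGroup.mk' N x) * (QuotientGroup.mk' N y) = (QuotientGroup.mk' N y) * (QuotientGroup.mk' N x) := by
    rw [← commutatorElement_eq_one_iff_mul_comm, ← map_commutatorElement, QuotientGroup.mk'_apply,
      QuotientGroup.eq_one_iff]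
    exact Subgroup.subset_normalClosure (Set.mem_singleton _)
  have htop : (⊤ : Subgroup (K ⧸ N)) = Subgroup.closure ((QuotientGroup.mk' N) '' ({x, y} : Set K)) := by
    rw [← MonoidHom.map_closure, hgen, ← MonoidHom.range_eq_map]
    exact (MonoidHom.range_eq_top.mpr (QuotientGroup.mk'_surjective N)).symm
  have hc : IsMulCommutative (Subgroup.closure ((QuotientGroup.mk' N) '' ({x, y} : Set K))) := by
    apply Subgroup.isMulCommutative_closure
    rintro _ ⟨u, hu, rfl⟩ _ ⟨v, hv, rfl⟩
    rcases hu with rfl | rfl <;> rcases hv with rfl | rfl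
    · rfl
    · exact hxy
    · exact hxy.symm
    · rfl
  rw [← htop] at hc
  constructor
  constructor
  intro u v
  have := hc.is_comm.comm ⟨u, Subgroup.mem_top u⟩ ⟨v, Subgroup.mem_top v⟩
  exact congrArg Subtype.val this

/-- a finite `p`-group which is cyclic modulo its commutator subgroup is commutative -/
theorem comm_of_zpowers_sup_commutator {K : Type*} [Group K] [Finite K] {p : ℕ} [Fact p.Prime]
    (hK : IsPGroup p K) (x : K) (h : Subgroup.zpowers x ⊔ commutator K = ⊤) (a b : K) : a * b = b * a := by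
  have h1 : Subgroup.zpowers x ⊔ frattini K = ⊤ := by
    rw [eq_top_iff, ← h]
    exact sup_le_sup_left (commutator_le_frattini_of_isPGroup' hK) _
  have h2 : Subgroup.zpowers x = ⊤ := frattini_nongenerating h1
  have ha : a ∈ Subgroup.zpowers x := h2 ▸ Subgroup.mem_top a
  have hb : b ∈ Subgroup.zpowers x := h2 ▸ Subgroup.mem_top b
  obtain ⟨i, rfl⟩ := Subgroup.mem_zpowers_iff.mp ha
  obtain ⟨j, rfl⟩ := Subgroup.mem_zpowers_iff.mp hb
  rw [← zpow_add, ← zpow_add, add_comm]


/-- if all elements of `L` have trivial `p^n`-th power, the power closure is trivial -/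
theorem powerClosure_eq_bot {G : Type*} [Group G] (p n : ℕ) (L : Subgroup G) (h : ∀ x ∈ L, x ^ p ^ n = 1) :
    powerClosure p n L = ⊥ := by
  unfold powerClosure
  rw [Subgroup.closure_eq_bot_iff]
  rintro y ⟨x, hx, rfl⟩
  exact h x hx

theorem regular_pow_eq_iff (p : ℕ) [Fact p.Prime] (k : ℕ) :
    ∀ n : ℕ, ∀ (K : Type u) [Group K] [Finite K], Nat.card K = n → IsRegularPGroup p K →
      ∀ a b : K, a ^ p ^ k = b ^ p ^ k ↔ (a * b⁻¹) ^ p ^ k = 1 := by
  intro n
  induction n using Nat.strong_induction_on with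
  | _ n ih =>
  intro K _ _ hcard hreg a b
  -- induction hypothesis for proper subgroups
  have IH : ∀ M : Subgroup K, M ≠ ⊤ → ∀ u ∈ M, ∀ v ∈ M, u ^ p ^ k = v ^ p ^ k ↔ (u * v⁻¹) ^ p ^ k = 1 := by
    intro M hM u hu v hv
    have hlt : Nat.card M < n := by
      rw [← hcard]
      have hle : Nat.card M ≤ Nat.card K := Subgroup.card_le_card_group M
      rcases Nat.lt_or_ge (Nat.card M) (Nat.card K) with h | h
      · exact h
      · exact absurd (Subgroup.eq_top_of_card_eq M (le_antisymm hle h)) hM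
    have := ih (Nat.card M) hlt ↥M rfl (isRegularPGroup_subgroup hreg M) ⟨u, hu⟩ ⟨v, hv⟩
    simpa [Subtype.ext_iff] using this
  by_cases hcomm : a * b = b * a
  · have hc : Commute a b⁻¹ := (show Commute a b from hcomm).inv_right
    rw [hc.mul_pow, inv_pow, mul_inv_eq_one]
  by_cases hgen : Subgroup.closure ({a, b} : Set K) = ⊤
  swap
  · exact IH _ hgen a (Subgroup.subset_closure (by simp)) b (Subgroup.subset_closure (by simp))
  -- main case
  have hKp : IsPGroup p K := hreg.1
  have hM : ∀ x : K, Subgroup.zpowers x ⊔ commutator K ≠ ⊤ := by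
    intro x h
    exact hcomm (comm_of_zpowers_sup_commutator hKp x h a b)
  have hcn : (commutator K).Normal := by
    rw [commutator_def]; infer_instance
  -- key step
  have key : ∀ x y : K, Subgroup.closure ({x, y} : Set K) = ⊤ → ⁅y⁻¹, x⁆ ^ p ^ k = 1 →
      ∀ z ∈ commutator K, z ^ p ^ k = 1 := by
    intro x y hxy hw
    set M := Subgroup.zpowers x ⊔ commutator K with hMdef
    have hMne := hM x
    let Ω : Subgroup K :=
      { carrier := {z | z ∈ M ∧ z ^ p ^ k = 1}
        mul_mem' := by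
          rintro z₁ z₂ ⟨h1, h1'⟩ ⟨h2, h2'⟩
          refine ⟨M.mul_mem h1 h2, ?_⟩
          have := (IH M hMne z₁ h1 z₂⁻¹ (M.inv_mem h2)).mp (by rw [h1', inv_pow, h2', inv_one])
          rwa [inv_inv] at this
        one_mem' := ⟨M.one_mem, one_pow _⟩
        inv_mem' := by
          rintro z ⟨h1, h1'⟩
          exact ⟨M.inv_mem h1, by rw [inv_pow, h1', inv_one]⟩ }
    have hgen' : Subgroup.closure ({y⁻¹, x} : Set K) = ⊤ := by
      rw [eq_top_iff, ← hxy, Subgroup.closure_le]
      rintro z (rfl | rfl)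
      · exact Subgroup.subset_closure (by simp)
      · have : z⁻¹ ∈ Subgroup.closure ({z⁻¹, x} : Set K) := Subgroup.subset_closure (by simp)
        simpa using Subgroup.inv_mem _ this
    have h1 := commutator_le_normalClosure_of_gen y⁻¹ x hgen'
    have h2 : Subgroup.normalClosure ({⁅y⁻¹, x⁆} : Set K) ≤ Ω := by
      unfold Subgroup.normalClosure
      rw [Subgroup.closure_le]
      intro z hz
      rw [Group.mem_conjugatesOfSet_iff] at hz
      obtain ⟨w, hw', hconj⟩ := hz
      rw [Set.mem_singleton_iff] at hw'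
      subst hw'
      obtain ⟨g, hg⟩ := isConj_iff.mp hconj
      have hwc : ⁅y⁻¹, x⁆ ∈ commutator K := by
        rw [commutator_def]
        exact Subgroup.commutator_mem_commutator (Subgroup.mem_top _) (Subgroup.mem_top _)
      refine ⟨?_, ?_⟩
      · rw [← hg]
        exact le_sup_right (a := Subgroup.zpowers x) (hcn.conj_mem _ hwc g)
      · rw [← hg, conj_pow, hw, mul_one, mul_inv_cancel]
    intro z hz
    exact (h2 (h1 hz)).2
  -- consequence: regularity with trivial correction term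
  have reg : ∀ x y : K, (∀ z ∈ commutator K, z ^ p ^ k = 1) → (x * y) ^ p ^ k = x ^ p ^ k * y ^ p ^ k := by
    intro x y hz
    obtain ⟨c, hc, hxy⟩ := hreg.2 x y k
    rw [powerClosure_eq_bot p k _ (fun z hz' => hz z ?_), Subgroup.mem_bot] at hc
    · rw [hxy, hc, mul_one]
    · rw [commutator_def]
      exact Subgroup.commutator_mono le_top le_top hz'
  -- conjugation helper
  have conj_mem : ∀ x y : K, y⁻¹ * x * y ∈ Subgroup.zpowers x ⊔ commutator K := by
    intro x y
    have : y⁻¹ * x * y = ⁅y⁻¹, x⁆ * x := by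
      rw [commutatorElement_def]; group
    rw [this]
    apply Subgroup.mul_mem
    · apply le_sup_right (a := Subgroup.zpowers x)
      rw [commutator_def]
      exact Subgroup.commutator_mem_commutator (Subgroup.mem_top _) (Subgroup.mem_top _)
    · exact le_sup_left (b := commutator K) (Subgroup.mem_zpowers x)
  have comm_eq : ∀ x y : K, ⁅y⁻¹, x⁆ = (y⁻¹ * x * y) * x⁻¹ := by
    intro x y
    rw [commutatorElement_def]; group
  constructor
  · intro hab
    have h1 : (b⁻¹ * a * b) ^ p ^ k = a ^ p ^ k := by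
      have : b⁻¹ * a * b = b⁻¹ * a * b⁻¹⁻¹ := by rw [inv_inv]
      rw [this, conj_pow, hab, inv_inv]
      have hc : Commute b⁻¹ (b ^ p ^ k) := ((Commute.refl b).inv_left).pow_right _
      rw [hc.eq, mul_assoc, inv_mul_cancel, mul_one]
    have h2 := (IH _ (hM a) (b⁻¹ * a * b) (conj_mem a b) a
      (le_sup_left (b := commutator K) (Subgroup.mem_zpowers a))).mp h1
    rw [← comm_eq] at h2
    have h3 := key a b hgen h2
    rw [reg a b⁻¹ h3, inv_pow, hab, mul_inv_cancel]
  · intro hab
    set c₁ := a * b⁻¹ with hc₁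
    have ha : a = c₁ * b := by rw [hc₁]; group
    have hgen₁ : Subgroup.closure ({c₁, b} : Set K) = ⊤ := by
      rw [eq_top_iff, ← hgen, Subgroup.closure_le]
      rintro z (rfl | rfl)
      · rw [ha]
        exact Subgroup.mul_mem _ (Subgroup.subset_closure (by simp)) (Subgroup.subset_closure (by simp))
      · exact Subgroup.subset_closure (by simp)
    have h1 : (b⁻¹ * c₁ * b) ^ p ^ k = c₁ ^ p ^ k := by
      have : b⁻¹ * c₁ * b = b⁻¹ * c₁ * b⁻¹⁻¹ := by rw [inv_inv]
      rw [this, conj_pow, hab, mul_one, mul_inv_cancel]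
    have h2 := (IH _ (hM c₁) (b⁻¹ * c₁ * b) (conj_mem c₁ b) c₁
      (le_sup_left (b := commutator K) (Subgroup.mem_zpowers c₁))).mp h1
    rw [← comm_eq] at h2
    have h3 := key c₁ b hgen₁ h2
    rw [ha, reg c₁ b h3, hab, one_mul]

/-- if `p^n`-th powers of elements of `M` are closed under products, the power closure consists of powers -/
theorem mem_powerClosure_of_mul_closed {G : Type*} [Group G] (p n : ℕ) (M : Subgroup G)
    (h : ∀ u ∈ M, ∀ v ∈ M, ∃ c ∈ M, u ^ p ^ n * v ^ p ^ n = c ^ p ^ n) :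
    ∀ y ∈ powerClosure p n M, ∃ x ∈ M, y = x ^ p ^ n := by
  intro y hy
  unfold powerClosure at hy
  induction hy using Subgroup.closure_induction with
  | mem y hy => exact hy
  | one => exact ⟨1, M.one_mem, (one_pow _).symm⟩
  | mul y₁ y₂ _ _ h₁ h₂ =>
    obtain ⟨x₁, hx₁, rfl⟩ := h₁
    obtain ⟨x₂, hx₂, rfl⟩ := h₂
    obtain ⟨c, hc, hc'⟩ := h x₁ hx₁ x₂ hx₂
    exact ⟨c, hc, hc'⟩
  | inv y _ h₁ =>
    obtain ⟨x₁, hx₁, rfl⟩ := h₁
    exact ⟨x₁⁻¹, M.inv_mem hx₁, (inv_pow _ _).symm⟩

theorem regular_pow_mul_pow (p : ℕ) [Fact p.Prime] (k : ℕ) :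
    ∀ n : ℕ, ∀ (K : Type u) [Group K] [Finite K], Nat.card K = n → IsRegularPGroup p K →
      ∀ a b : K, ∃ c : K, a ^ p ^ k * b ^ p ^ k = c ^ p ^ k := by
  intro n
  induction n using Nat.strong_induction_on with
  | _ n ih =>
  intro K _ _ hcard hreg a b
  have IH : ∀ M : Subgroup K, M ≠ ⊤ → ∀ u ∈ M, ∀ v ∈ M, ∃ c ∈ M, u ^ p ^ k * v ^ p ^ k = c ^ p ^ k := by
    intro M hM u hu v hv
    have hlt : Nat.card M < n := by
      rw [← hcard]
      have hle : Nat.card M ≤ Nat.card K := Subgroup.card_le_card_group M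
      rcases Nat.lt_or_ge (Nat.card M) (Nat.card K) with h | h
      · exact h
      · exact absurd (Subgroup.eq_top_of_card_eq M (le_antisymm hle h)) hM
    obtain ⟨c, hc⟩ := ih (Nat.card M) hlt ↥M rfl (isRegularPGroup_subgroup hreg M) ⟨u, hu⟩ ⟨v, hv⟩
    refine ⟨c.1, c.2, ?_⟩
    simpa [Subtype.ext_iff] using hc
  by_cases hcomm : a * b = b * a
  · exact ⟨a * b, ((show Commute a b from hcomm).mul_pow _).symm⟩
  by_cases hgen : Subgroup.closure ({a, b} : Set K) = ⊤
  swap
  · obtain ⟨c, -, hc⟩ := IH _ hgen a (Subgroup.subset_closure (by simp)) b (Subgroup.subset_closure (by simp))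
    exact ⟨c, hc⟩
  have hKp : IsPGroup p K := hreg.1
  have hM : ∀ x : K, Subgroup.zpowers x ⊔ commutator K ≠ ⊤ := by
    intro x h
    exact hcomm (comm_of_zpowers_sup_commutator hKp x h a b)
  have hM₀ : commutator K ≠ ⊤ := by
    intro h
    apply hM 1
    rw [h, sup_top_eq]
  obtain ⟨d, hd, hab⟩ := hreg.2 a b k
  rw [hgen, ← commutator_def] at hd
  have hd' : d⁻¹ ∈ powerClosure p k (commutator K) := Subgroup.inv_mem _ hd
  obtain ⟨z, hz, hdz⟩ := mem_powerClosure_of_mul_closed p k (commutator K) (IH _ hM₀) d⁻¹ hd'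
  obtain ⟨c, -, hc⟩ := IH _ (hM (a * b)) (a * b) (le_sup_left (b := commutator K) (Subgroup.mem_zpowers _))
    z (le_sup_right (a := Subgroup.zpowers (a * b)) hz)
  refine ⟨c, ?_⟩
  rw [← hc, ← hdz, hab, mul_assoc, mul_inv_cancel, mul_one]


end Cfsg.Agent.Lib.Helper14
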