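import Mathlib
import Cfsg.Prelude.Def_PLocal
import Cfsg.Agent.Lib.Helper2.NilpotentBasic
import Cfsg.Agent.Lib.Helper14.RegularP

/-! A finite `p`-group (`p` odd) with cyclic derived subgroup is regular. -/

set_option autoImplicit false
set_option maxHeartbeats 400000
namespace Cfsg.Agent.Lib.Helper14
open Cfsg
open scoped commutatorElement

universe u

/-- power of a product when the commutator is central -/
theorem mul_pow_of_central_commutator {K : Type*} [Group K] (X Y : K)
    (hc : ∀ g : K, ⁅Y, X⁆ * g = g * ⁅Y, X⁆) (m : ℕ) :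
    (X * Y) ^ m = X ^ m * Y ^ m * ⁅Y, X⁆ ^ (m.choose 2) := by
  have hYX : ∀ k : ℕ, Y ^ k * X = X * Y ^ k * ⁅Y, X⁆ ^ k := by
    intro k
    induction k with
    | zero => simp
    | succ k ih =>
      have h1 : Y * X = X * Y * ⁅Y, X⁆ := by
        rw [← hc (X * Y), commutatorElement_def]; group
      calc Y ^ (k + 1) * X = Y ^ k * (Y * X) := by rw [pow_succ]; group
        _ = Y ^ k * (X * Y * ⁅Y, X⁆) := by rw [h1]
        _ = (Y ^ k * X) * Y * ⁅Y, X⁆ := by group
        _ = (X * Y ^ k * ⁅Y, X⁆ ^ k) * Y * ⁅Y, X⁆ := by rw [ih]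
        _ = X * Y ^ k * (⁅Y, X⁆ ^ k * Y) * ⁅Y, X⁆ := by group
        _ = X * Y ^ k * (Y * ⁅Y, X⁆ ^ k) * ⁅Y, X⁆ := by
            have : ⁅Y, X⁆ ^ k * Y = Y * ⁅Y, X⁆ ^ k := by
              have hcomm : Commute ⁅Y, X⁆ Y := hc Y
              exact (hcomm.pow_left k).eq
            rw [this]
        _ = X * Y ^ (k + 1) * ⁅Y, X⁆ ^ (k + 1) := by rw [pow_succ, pow_succ]; group
  induction m with
  | zero => simp
  | succ m ih =>
    have hcm : ∀ g : K, ⁅Y, X⁆ ^ (m.choose 2) * g = g * ⁅Y, X⁆ ^ (m.choose 2) := by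
      intro g
      have hcomm : Commute ⁅Y, X⁆ g := hc g
      exact (hcomm.pow_left _).eq
    calc (X * Y) ^ (m + 1) = (X * Y) ^ m * (X * Y) := pow_succ _ _
      _ = X ^ m * Y ^ m * ⁅Y, X⁆ ^ (m.choose 2) * (X * Y) := by rw [ih]
      _ = X ^ m * Y ^ m * ((X * Y) * ⁅Y, X⁆ ^ (m.choose 2)) := by rw [mul_assoc, hcm]
      _ = X ^ m * (Y ^ m * X) * Y * ⁅Y, X⁆ ^ (m.choose 2) := by group
      _ = X ^ m * (X * Y ^ m * ⁅Y, X⁆ ^ m) * Y * ⁅Y, X⁆ ^ (m.choose 2) := by rw [hYX]
      _ = X ^ m * X * Y ^ m * (⁅Y, X⁆ ^ m * Y) * ⁅Y, X⁆ ^ (m.choose 2) := by group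
      _ = X ^ m * X * Y ^ m * (Y * ⁅Y, X⁆ ^ m) * ⁅Y, X⁆ ^ (m.choose 2) := by
          have : ⁅Y, X⁆ ^ m * Y = Y * ⁅Y, X⁆ ^ m := by
            have hcomm : Commute ⁅Y, X⁆ Y := hc Y
            exact (hcomm.pow_left m).eq
          rw [this]
      _ = X ^ (m + 1) * Y ^ (m + 1) * ⁅Y, X⁆ ^ ((m + 1).choose 2) := by
          have h2 : (m + 1).choose 2 = m + m.choose 2 := by
            rw [Nat.choose_succ_succ, Nat.choose_one_right]
          rw [h2, pow_add, pow_succ, pow_succ]; group

/-- odd prime: if the commutator is central of order dividing `p`, then the `p`-th power map is multiplicative on the pair -/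
theorem mul_pow_prime_of_central_commutator {K : Type*} [Group K] {p : ℕ} [hp : Fact p.Prime] (hp2 : p ≠ 2)
    (X Y : K) (hc : ∀ g : K, ⁅Y, X⁆ * g = g * ⁅Y, X⁆) (hcp : ⁅Y, X⁆ ^ p = 1) :
    (X * Y) ^ p = X ^ p * Y ^ p := by
  rw [mul_pow_of_central_commutator X Y hc p]
  have h2 : p ∣ p.choose 2 := by
    apply hp.out.dvd_choose_self (by norm_num)
    have := hp.out.two_le
    omega
  obtain ⟨k, hk⟩ := h2
  rw [hk, pow_mul, hcp, one_pow, mul_one]

/-- In a finite `p`-group (`p` odd) whose derived subgroup is cyclic of exponent dividing `p ^ n`, the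
`p ^ n`-th power map is multiplicative. -/
theorem pow_mul_of_cyclic_commutator (p : ℕ) [hp : Fact p.Prime] (hp2 : p ≠ 2) :
    ∀ n : ℕ, ∀ (K : Type u) [Group K] [Finite K], IsPGroup p K → IsCyclic (commutator K) →
      (∀ d ∈ commutator K, d ^ p ^ n = 1) → ∀ x y : K, (x * y) ^ p ^ n = x ^ p ^ n * y ^ p ^ n := by
  intro n
  induction n with
  | zero =>
    intro K _ _ _ _ _ x y
    simp
  | succ n ih =>
    intro K _ _ hK hcyc hexp x y
    have hcn : (commutator K).Normal := by rw [commutator_def]; infer_instance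
    have hab : ∀ d₁ ∈ commutator K, ∀ d₂ ∈ commutator K, d₁ * d₂ = d₂ * d₁ := by
      intro d₁ h1 d₂ h2
      have hmc : IsMulCommutative ↥(commutator K) := IsCyclic.isMulCommutative
      have := mul_comm' (⟨d₁, h1⟩ : ↥(commutator K)) ⟨d₂, h2⟩
      exact congrArg Subtype.val this
    -- the subgroup of elements of order dividing p in the derived subgroup
    let Z₁ : Subgroup K :=
      { carrier := {d | d ∈ commutator K ∧ d ^ p = 1}
        mul_mem' := by
          rintro d₁ d₂ ⟨h1, h1'⟩ ⟨h2, h2'⟩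
          refine ⟨(commutator K).mul_mem h1 h2, ?_⟩
          have hc : Commute d₁ d₂ := hab d₁ h1 d₂ h2
          rw [hc.mul_pow, h1', h2', one_mul]
        one_mem' := ⟨(commutator K).one_mem, one_pow _⟩
        inv_mem' := by
          rintro d ⟨h1, h1'⟩
          exact ⟨(commutator K).inv_mem h1, by rw [inv_pow, h1', inv_one]⟩ }
    have hZ₁mem : ∀ d : K, d ∈ Z₁ ↔ d ∈ commutator K ∧ d ^ p = 1 := fun d => Iff.rfl
    have hZ₁le : Z₁ ≤ commutator K := fun d hd => hd.1
    have hZ₁n : Z₁.Normal := by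
      constructor
      intro d hd g
      refine ⟨hcn.conj_mem d hd.1 g, ?_⟩
      rw [conj_pow, hd.2]; simp
    have hZ₁cyc : IsCyclic Z₁ := Subgroup.isCyclic_of_le hZ₁le
    have hZ₁card : Nat.card Z₁ ∣ p := by
      rw [← IsCyclic.exponent_eq_card]
      apply Monoid.exponent_dvd_of_forall_pow_eq_one
      intro d
      apply Subtype.ext
      rw [Subgroup.coe_pow, Subgroup.coe_one]
      exact d.2.2
    have hnil : Group.IsNilpotent K := hK.isNilpotent
    have hZ₁c : Z₁ ≤ Subgroup.center K := by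
      by_cases hbot : Z₁ = ⊥
      · rw [hbot]; exact bot_le
      have h1 := Cfsg.Agent.Lib.Helper2.normal_inf_center_ne_bot Z₁ hbot
      have h2 : Nat.card ↥(Z₁ ⊓ Subgroup.center K) ∣ Nat.card Z₁ := Subgroup.card_dvd_of_le inf_le_left
      have h3 : Nat.card ↥(Z₁ ⊓ Subgroup.center K) ≠ 1 := by
        intro h
        exact h1 (Subgroup.card_eq_one.mp h)
      have h4 : Nat.card ↥(Z₁ ⊓ Subgroup.center K) = p := by
        rcases (Nat.dvd_prime hp.out).mp (h2.trans hZ₁card) with h | h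
        · exact absurd h h3
        · exact h
      have h5 : Nat.card Z₁ ≤ Nat.card ↥(Z₁ ⊓ Subgroup.center K) := by
        rw [h4]; exact Nat.le_of_dvd hp.out.pos hZ₁card
      have h6 : Z₁ ⊓ Subgroup.center K = Z₁ := Subgroup.eq_of_le_of_card_ge inf_le_left h5
      rw [← h6]; exact inf_le_right
    -- the quotient
    have hq1 : IsPGroup p (K ⧸ Z₁) := hK.to_quotient Z₁
    have hqc : commutator (K ⧸ Z₁) = (commutator K).map (QuotientGroup.mk' Z₁) := by
      rw [commutator_def, commutator_def, Subgroup.map_commutator,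
        Subgroup.map_top_of_surjective _ (QuotientGroup.mk'_surjective Z₁)]
    have hq2 : IsCyclic (commutator (K ⧸ Z₁)) := by
      rw [hqc]
      exact isCyclic_of_surjective ((QuotientGroup.mk' Z₁).subgroupMap (commutator K))
        (MonoidHom.subgroupMap_surjective _ _)
    have hq3 : ∀ d ∈ commutator (K ⧸ Z₁), d ^ p ^ n = 1 := by
      intro d hd
      rw [hqc] at hd
      obtain ⟨d₀, hd₀, rfl⟩ := hd
      rw [← map_pow, QuotientGroup.mk'_apply, QuotientGroup.eq_one_iff, hZ₁mem]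
      refine ⟨(commutator K).pow_mem hd₀ _, ?_⟩
      rw [← pow_mul, ← pow_succ]
      exact hexp d₀ hd₀
    have IH := ih (K ⧸ Z₁) hq1 hq2 hq3
    -- the power map on the quotient as a homomorphism
    let φ : (K ⧸ Z₁) →* (K ⧸ Z₁) := MonoidHom.mk' (fun u => u ^ p ^ n) IH
    set X := x ^ p ^ n with hX
    set Y := y ^ p ^ n with hY
    have hYX : ⁅Y, X⁆ ∈ Z₁ := by
      rw [← QuotientGroup.eq_one_iff, ← QuotientGroup.mk'_apply, map_commutatorElement]
      have h1 : QuotientGroup.mk' Z₁ Y = φ (QuotientGroup.mk' Z₁ y) := by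
        rw [hY, map_pow]; rfl
      have h2 : QuotientGroup.mk' Z₁ X = φ (QuotientGroup.mk' Z₁ x) := by
        rw [hX, map_pow]; rfl
      rw [h1, h2, ← map_commutatorElement]
      change ⁅(QuotientGroup.mk' Z₁ y), (QuotientGroup.mk' Z₁ x)⁆ ^ p ^ n = 1
      apply hq3
      rw [commutator_def]
      exact Subgroup.commutator_mem_commutator (Subgroup.mem_top _) (Subgroup.mem_top _)
    have hz : (X * Y)⁻¹ * (x * y) ^ p ^ n ∈ Z₁ := by
      rw [← QuotientGroup.eq_one_iff, ← QuotientGroup.mk'_apply]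
      have e1 : QuotientGroup.mk' Z₁ ((x * y) ^ p ^ n) =
          (QuotientGroup.mk' Z₁ x) ^ p ^ n * (QuotientGroup.mk' Z₁ y) ^ p ^ n := by
        rw [map_pow, map_mul, IH]
      have e2 : QuotientGroup.mk' Z₁ (X * Y) =
          (QuotientGroup.mk' Z₁ x) ^ p ^ n * (QuotientGroup.mk' Z₁ y) ^ p ^ n := by
        rw [map_mul, hX, hY, map_pow, map_pow]
      rw [map_mul, map_inv, e1, e2, inv_mul_cancel]

    set z := (X * Y)⁻¹ * (x * y) ^ p ^ n with hzdef
    have hxy : (x * y) ^ p ^ n = X * Y * z := by rw [hzdef]; group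
    have hzc : Commute (X * Y) z := by
      have := Subgroup.mem_center_iff.mp (hZ₁c hz) (X * Y)
      exact this
    rw [pow_succ, pow_mul, hxy, hzc.mul_pow, hz.2, mul_one]
    have hcc : ∀ g : K, ⁅Y, X⁆ * g = g * ⁅Y, X⁆ := by
      intro g
      exact (Subgroup.mem_center_iff.mp (hZ₁c hYX) g).symm
    rw [mul_pow_prime_of_central_commutator hp2 X Y hcc hYX.2, hX, hY, ← pow_mul, ← pow_mul]

theorem powerClosure_normal {G : Type*} [Group G] (p n : ℕ) (L : Subgroup G) [hL : L.Normal] :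
    (powerClosure p n L).Normal := by
  constructor
  intro y hy g
  unfold powerClosure at hy ⊢
  induction hy using Subgroup.closure_induction with
  | mem y hy =>
    obtain ⟨x, hx, rfl⟩ := hy
    apply Subgroup.subset_closure
    exact ⟨g * x * g⁻¹, hL.conj_mem x hx g, by rw [conj_pow]⟩
  | one => simp
  | mul a b _ _ iha ihb =>
    have : g * (a * b) * g⁻¹ = (g * a * g⁻¹) * (g * b * g⁻¹) := by group
    rw [this]
    exact Subgroup.mul_mem _ iha ihb
  | inv a _ iha =>
    have : g * a⁻¹ * g⁻¹ = (g * a * g⁻¹)⁻¹ := by group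
    rw [this]
    exact Subgroup.inv_mem _ iha

theorem pow_mem_powerClosure {G : Type*} [Group G] (p n : ℕ) (L : Subgroup G) {x : G} (hx : x ∈ L) :
    x ^ p ^ n ∈ powerClosure p n L := Subgroup.subset_closure ⟨x, hx, rfl⟩

/-- A finite `p`-group, `p` odd, with cyclic derived subgroup is regular. -/
theorem isRegularPGroup_of_cyclic_commutator {G : Type u} [Group G] [Finite G] {p : ℕ} [hp : Fact p.Prime]
    (hp2 : p ≠ 2) (hG : IsPGroup p G) (hc : IsCyclic (commutator G)) : IsRegularPGroup p G := by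
  refine ⟨hG, fun a b n => ?_⟩
  set H := Subgroup.closure ({a, b} : Set G) with hH
  have haH : a ∈ H := Subgroup.subset_closure (by simp)
  have hbH : b ∈ H := Subgroup.subset_closure (by simp)
  have hcn : (commutator ↥H).Normal := by rw [commutator_def]; infer_instance
  have hMn : (powerClosure p n (commutator ↥H)).Normal := powerClosure_normal p n _
  set M := powerClosure p n (commutator ↥H) with hM
  have hHle : (commutator ↥H).map H.subtype ≤ commutator G := by
    rw [Subgroup.map_subtype_commutator, commutator_def]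
    exact Subgroup.commutator_mono le_top le_top
  have hcycH : IsCyclic (commutator ↥H) := by
    have h1 : IsCyclic ((commutator ↥H).map H.subtype) := Subgroup.isCyclic_of_le hHle
    exact isCyclic_of_injective ((H.subtype).subgroupMap (commutator ↥H))
      (by
        intro u v huv
        have := congrArg Subtype.val huv
        simp only [MonoidHom.subgroupMap_apply_coe, Subgroup.coe_subtype] at this
        exact Subtype.ext (Subtype.ext this))
  have hq1 : IsPGroup p (↥H ⧸ M) := (hG.to_subgroup H).to_quotient M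
  have hqc : commutator (↥H ⧸ M) = (commutator ↥H).map (QuotientGroup.mk' M) := by
    rw [commutator_def, commutator_def, Subgroup.map_commutator,
      Subgroup.map_top_of_surjective _ (QuotientGroup.mk'_surjective M)]
  have hq2 : IsCyclic (commutator (↥H ⧸ M)) := by
    rw [hqc]
    exact isCyclic_of_surjective ((QuotientGroup.mk' M).subgroupMap (commutator ↥H))
      (MonoidHom.subgroupMap_surjective _ _)
  have hq3 : ∀ d ∈ commutator (↥H ⧸ M), d ^ p ^ n = 1 := by
    intro d hd
    rw [hqc] at hd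
    obtain ⟨d₀, hd₀, rfl⟩ := hd
    rw [← map_pow, QuotientGroup.mk'_apply, QuotientGroup.eq_one_iff]
    exact pow_mem_powerClosure p n _ hd₀
  have key := pow_mul_of_cyclic_commutator p hp2 n (↥H ⧸ M) hq1 hq2 hq3
    (QuotientGroup.mk' M ⟨a, haH⟩) (QuotientGroup.mk' M ⟨b, hbH⟩)
  set a' : ↥H := ⟨a, haH⟩ with ha'
  set b' : ↥H := ⟨b, hbH⟩ with hb'
  have hz : (a' ^ p ^ n * b' ^ p ^ n)⁻¹ * (a' * b') ^ p ^ n ∈ M := by
    rw [← QuotientGroup.eq_one_iff, ← QuotientGroup.mk'_apply]
    have e1 : QuotientGroup.mk' M ((a' * b') ^ p ^ n) =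
        (QuotientGroup.mk' M a') ^ p ^ n * (QuotientGroup.mk' M b') ^ p ^ n := by
      rw [map_pow, map_mul, key]
    have e2 : QuotientGroup.mk' M (a' ^ p ^ n * b' ^ p ^ n) =
        (QuotientGroup.mk' M a') ^ p ^ n * (QuotientGroup.mk' M b') ^ p ^ n := by
      rw [map_mul, map_pow, map_pow]
    rw [map_mul, map_inv, e1, e2, inv_mul_cancel]
  refine ⟨H.subtype ((a' ^ p ^ n * b' ^ p ^ n)⁻¹ * (a' * b') ^ p ^ n), ?_, ?_⟩
  · rw [← Subgroup.map_subtype_commutator, powerClosure_map]
    exact Subgroup.mem_map_of_mem _ hz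
  · simp only [map_mul, map_inv, map_pow, Subgroup.coe_subtype, ha', hb']
    group

end Cfsg.Agent.Lib.Helper14
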