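import Mathlib
import Cfsg.Agent.Lib.Helper14.FrattiniQuot
import Cfsg.Agent.Lib.Helper2.NilpotentBasic
set_option autoImplicit false
set_option maxHeartbeats 400000
namespace Cfsg.Agent.Lib.Helper14
open scoped commutatorElement

theorem card_sup_of_inf_eq_bot {G : Type*} [Group G] [Finite G] (H K : Subgroup G) [K.Normal] (h : H ⊓ K = ⊥) :
    Nat.card (H ⊔ K : Subgroup G) = Nat.card H * Nat.card K := by
  have h1 : K.relIndex (H ⊔ K) = Nat.card H := by
    rw [Subgroup.relIndex_sup_right, ← Subgroup.inf_relIndex_right, inf_comm, h, Subgroup.relIndex_bot_left]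
  have h2 := Subgroup.card_mul_index (K.subgroupOf (H ⊔ K))
  have h3 : Nat.card (K.subgroupOf (H ⊔ K)) = Nat.card K :=
    Nat.card_congr (Subgroup.subgroupOfEquivOfLe le_sup_right).toEquiv
  rw [h3] at h2
  rw [← h2, ← h1, Subgroup.relIndex, mul_comm]

theorem sq_dvd_index_frattini {P : Type*} [Group P] [Finite P] {p : ℕ} [Fact p.Prime] (hP : IsPGroup p P)
    (hnc : ¬ IsMulCommutative P) : p ^ 2 ∣ (frattini P).index := by
  obtain ⟨n, hn⟩ := IsPGroup.iff_card.mp hP
  have hdvd : (frattini P).index ∣ p ^ n := hn ▸ Subgroup.index_dvd_card _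
  obtain ⟨r, hr, hidx⟩ := (Nat.dvd_prime_pow (Fact.out : p.Prime)).mp hdvd
  rw [hidx]
  apply pow_dvd_pow
  by_contra hlt
  push Not at hlt
  obtain ⟨x, hx⟩ := exists_generating_tuple hP hidx
  apply hnc
  have hc : IsMulCommutative (Subgroup.closure (Set.range x)) := by
    apply Subgroup.isMulCommutative_closure
    rintro _ ⟨i, rfl⟩ _ ⟨j, rfl⟩
    have : i = j := by
      apply Fin.ext
      have := i.isLt
      have := j.isLt
      omega
    rw [this]
  rw [hx] at hc
  constructor
  constructor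
  intro a b
  have := hc.is_comm.comm ⟨a, Subgroup.mem_top a⟩ ⟨b, Subgroup.mem_top b⟩
  exact congrArg Subtype.val this

theorem mem_center_map_iff {S : Type*} [Group S] (P : Subgroup S)
    (hZP : Nat.card ↥(Subgroup.center ↥P) = 2) (z : S) (hzP : z ∈ P) (hz1 : z ≠ 1)
    (hzc : ∀ a ∈ P, a * z = z * a) (w : S) :
    w ∈ (Subgroup.center ↥P).map P.subtype ↔ (w = 1 ∨ w = z) := by
  have hzZ : (⟨z, hzP⟩ : P) ∈ Subgroup.center ↥P := by
    rw [Subgroup.mem_center_iff]
    intro a
    apply Subtype.ext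
    exact hzc a a.2
  obtain ⟨y, hy, huniq⟩ := (Nat.card_eq_two_iff' (1 : Subgroup.center ↥P)).mp hZP
  have hzy : (⟨⟨z, hzP⟩, hzZ⟩ : Subgroup.center ↥P) = y := by
    apply huniq
    intro h
    apply hz1
    have := congrArg (fun t : Subgroup.center ↥P => ((t : P) : S)) h
    simpa using this
  constructor
  · rintro ⟨a, ha, rfl⟩
    by_cases h1 : (⟨a, ha⟩ : Subgroup.center ↥P) = 1
    · left
      have := congrArg (fun t : Subgroup.center ↥P => ((t : P) : S)) h1
      simpa using this
    · right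
      have h2 := huniq _ h1
      rw [← hzy] at h2
      have := congrArg (fun t : Subgroup.center ↥P => ((t : P) : S)) h2
      simpa using this
  · rintro (rfl | rfl)
    · exact Subgroup.one_mem _
    · exact ⟨⟨w, hzP⟩, hzZ, rfl⟩

/-- In a nilpotent group `S`, a normal non-abelian subgroup `P` with centre of order two has
`Z(P) ≤ Φ(P)`. -/
theorem center_le_frattini {S : Type*} [Group S] [Finite S] {p : ℕ} [Fact p.Prime] (hS : IsPGroup p S)
    (P : Subgroup S) [P.Normal] (hP : ¬ IsMulCommutative ↥P)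
    (hZP : Nat.card ↥(Subgroup.center ↥P) = 2) :
    (Subgroup.center ↥P).map P.subtype ≤ (frattini ↥P).map P.subtype := by
  haveI : Group.IsNilpotent S := hS.isNilpotent
  have hPp : IsPGroup p P := hS.to_subgroup P
  have hfr : frattini ↥P ≠ ⊥ := by
    intro h
    apply hP
    have hc := commutator_le_frattini_of_isPGroup' hPp
    rw [h, le_bot_iff] at hc
    constructor
    constructor
    intro a b
    have : ⁅a, b⁆ ∈ commutator ↥P := by
      rw [commutator_def]
      exact Subgroup.commutator_mem_commutator (Subgroup.mem_top a) (Subgroup.mem_top b)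
    rw [hc, Subgroup.mem_bot, commutatorElement_eq_one_iff_mul_comm] at this
    exact this
  have hΦ : (frattini ↥P).map P.subtype ≠ ⊥ := by
    rw [Ne, Subgroup.map_eq_bot_iff_of_injective _ P.subtype_injective]
    exact hfr
  have h1 := Cfsg.Agent.Lib.Helper2.normal_inf_center_ne_bot ((frattini ↥P).map P.subtype) hΦ
  obtain ⟨⟨z, hz⟩, hz1⟩ := (Subgroup.ne_bot_iff_exists_ne_one).mp h1
  have hz1' : z ≠ 1 := fun h => hz1 (Subtype.ext h)
  obtain ⟨hzΦ, hzZ⟩ := Subgroup.mem_inf.mp hz
  have hzP : z ∈ P := Subgroup.map_subtype_le _ hzΦ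
  intro w hw
  rw [mem_center_map_iff P hZP z hzP hz1' (fun a _ => (Subgroup.mem_center_iff.mp hzZ a)) w] at hw
  rcases hw with rfl | rfl
  · exact Subgroup.one_mem _
  · exact hzΦ

end Cfsg.Agent.Lib.Helper14
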