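import Mathlib
import Cfsg.Prelude.Def_PLocal
import Cfsg.Agent.Lib.Helper14.RegularP

/-! Consequences of regularity for finite `p`-groups: the subgroups `Ω_s` and `℧_s`. -/

set_option autoImplicit false
set_option maxHeartbeats 400000
namespace Cfsg.Agent.Lib.Helper14
open Cfsg
open scoped commutatorElement

universe u

section
variable {G : Type u} [Group G] [Finite G] {p : ℕ} [Fact p.Prime]

theorem reg_pow_eq_iff (hreg : IsRegularPGroup p G) (k : ℕ) (a b : G) :
    a ^ p ^ k = b ^ p ^ k ↔ (a * b⁻¹) ^ p ^ k = 1 :=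
  regular_pow_eq_iff p k _ G rfl hreg a b

theorem reg_pow_eq_iff' (hreg : IsRegularPGroup p G) (k : ℕ) (a b : G) :
    a ^ p ^ k = b ^ p ^ k ↔ (a⁻¹ * b) ^ p ^ k = 1 := by
  have := reg_pow_eq_iff hreg k a⁻¹ b⁻¹
  rw [inv_pow, inv_pow, inv_inj, inv_inv] at this
  exact this

theorem reg_pow_mul_pow (hreg : IsRegularPGroup p G) (k : ℕ) (a b : G) :
    ∃ c : G, a ^ p ^ k * b ^ p ^ k = c ^ p ^ k :=
  regular_pow_mul_pow p k _ G rfl hreg a b

/-- `Ω_s(G)`: in a regular `p`-group, the elements of order dividing `p ^ s` form a subgroup. -/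
def regOmega (hreg : IsRegularPGroup p G) (s : ℕ) : Subgroup G where
  carrier := {x | x ^ p ^ s = 1}
  mul_mem' := by
    intro a b ha hb
    have := (reg_pow_eq_iff hreg s a b⁻¹).mp (by
      rw [inv_pow]
      simp only [Set.mem_setOf_eq] at ha hb
      rw [ha, hb, inv_one])
    rwa [inv_inv] at this
  one_mem' := one_pow _
  inv_mem' := by
    intro a ha
    simp only [Set.mem_setOf_eq] at ha ⊢
    rw [inv_pow, ha, inv_one]

theorem mem_regOmega (hreg : IsRegularPGroup p G) (s : ℕ) (x : G) :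
    x ∈ regOmega hreg s ↔ x ^ p ^ s = 1 := Iff.rfl

/-- `℧_s(G)`: in a regular `p`-group, the `p ^ s`-th powers form a subgroup. -/
def regAgemo (hreg : IsRegularPGroup p G) (s : ℕ) : Subgroup G where
  carrier := {x | ∃ y : G, y ^ p ^ s = x}
  mul_mem' := by
    rintro _ _ ⟨a, rfl⟩ ⟨b, rfl⟩
    obtain ⟨c, hc⟩ := reg_pow_mul_pow hreg s a b
    exact ⟨c, hc.symm⟩
  one_mem' := ⟨1, one_pow _⟩
  inv_mem' := by
    rintro _ ⟨a, rfl⟩
    exact ⟨a⁻¹, inv_pow _ _⟩

theorem mem_regAgemo (hreg : IsRegularPGroup p G) (s : ℕ) (x : G) :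
    x ∈ regAgemo hreg s ↔ ∃ y : G, y ^ p ^ s = x := Iff.rfl

theorem regAgemo_eq_closure (hreg : IsRegularPGroup p G) (s : ℕ) :
    regAgemo hreg s = Subgroup.closure {x : G | ∃ y : G, y ^ p ^ s = x} := by
  apply le_antisymm
  · intro x hx
    exact Subgroup.subset_closure hx
  · rw [Subgroup.closure_le]
    intro x hx
    exact hx

instance regOmega_normal (hreg : IsRegularPGroup p G) (s : ℕ) : (regOmega hreg s).Normal := by
  constructor
  intro x hx g
  rw [mem_regOmega] at hx ⊢
  rw [conj_pow, hx]; simp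

instance regAgemo_normal (hreg : IsRegularPGroup p G) (s : ℕ) : (regAgemo hreg s).Normal := by
  constructor
  rintro _ ⟨y, rfl⟩ g
  exact ⟨g * y * g⁻¹, conj_pow⟩

/-- `|G| = |Ω_s(G)| · |℧_s(G)|` -/
theorem card_regOmega_mul_card_regAgemo (hreg : IsRegularPGroup p G) (s : ℕ) :
    Nat.card (regOmega hreg s) * Nat.card (regAgemo hreg s) = Nat.card G := by
  let f : G ⧸ regOmega hreg s → regAgemo hreg s :=
    Quotient.lift (fun x : G => (⟨x ^ p ^ s, x, rfl⟩ : regAgemo hreg s)) (by
      intro a b hab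
      apply Subtype.ext
      change a ^ p ^ s = b ^ p ^ s
      rw [reg_pow_eq_iff' hreg]
      exact (QuotientGroup.leftRel_apply.mp hab))
  have hf : Function.Bijective f := by
    constructor
    · intro x y
      induction x using QuotientGroup.induction_on with
      | H a =>
      induction y using QuotientGroup.induction_on with
      | H b =>
      intro h
      have h' : a ^ p ^ s = b ^ p ^ s := congrArg Subtype.val h
      rw [reg_pow_eq_iff' hreg] at h'
      exact QuotientGroup.eq.mpr h'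
    · rintro ⟨_, y, rfl⟩
      exact ⟨(y : G ⧸ regOmega hreg s), rfl⟩
  rw [← Nat.card_congr (Equiv.ofBijective f hf), mul_comm]
  exact (Subgroup.card_eq_card_quotient_mul_card_subgroup _).symm

/-- commutation of a `p ^ s`-th power -/
theorem reg_commute_pow_iff (hreg : IsRegularPGroup p G) (s : ℕ) (x y : G) :
    Commute (x ^ p ^ s) y ↔ ⁅x, y⁆ ^ p ^ s = 1 := by
  have h1 : Commute (x ^ p ^ s) y ↔ x ^ p ^ s = (y * x * y⁻¹) ^ p ^ s := by
    rw [conj_pow]
    constructor
    · intro h
      rw [← h.eq, mul_inv_cancel_right]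
    · intro h
      change x ^ p ^ s * y = y * x ^ p ^ s
      conv_lhs => rw [h]
      group
  rw [h1, reg_pow_eq_iff hreg]
  have : x * (y * x * y⁻¹)⁻¹ = ⁅x, y⁆ := by rw [commutatorElement_def]; group
  rw [this]

theorem reg_commute_pow_iff' (hreg : IsRegularPGroup p G) (s : ℕ) (x y : G) :
    Commute x (y ^ p ^ s) ↔ ⁅x, y⁆ ^ p ^ s = 1 := by
  have h1 : Commute x (y ^ p ^ s) ↔ Commute (y ^ p ^ s) x := ⟨Commute.symm, Commute.symm⟩
  rw [h1, reg_commute_pow_iff hreg, ← commutatorElement_inv x y, inv_pow, inv_eq_one]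

/-- `|Ω_m| ≤ |Ω_t| · |Ω_(m-t)|` -/
theorem card_regOmega_le_mul (hreg : IsRegularPGroup p G) (m t : ℕ) (ht : t ≤ m) :
    Nat.card (regOmega hreg m) ≤ Nat.card (regOmega hreg t) * Nat.card (regOmega hreg (m - t)) := by
  -- the map x ↦ (x mod Ω_t, ...) : use x ↦ x ^ p ^ t on cosets
  have hle : regOmega hreg t ≤ regOmega hreg m := by
    intro x hx
    rw [mem_regOmega] at hx ⊢
    obtain ⟨k, rfl⟩ := Nat.exists_eq_add_of_le ht
    rw [pow_add, pow_mul, hx, one_pow]
  let f : regOmega hreg m → (G ⧸ regOmega hreg t) := fun x => (x.1 : G ⧸ regOmega hreg t)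
  -- card Ω_m = card (Ω_t) * card (image in G/Ω_t)
  let g : (regOmega hreg m) ⧸ ((regOmega hreg t).subgroupOf (regOmega hreg m)) → regOmega hreg (m - t) :=
    Quotient.lift (fun x : regOmega hreg m => (⟨x.1 ^ p ^ t, by
      rw [mem_regOmega, ← pow_mul, ← pow_add, Nat.add_sub_cancel' ht]
      exact x.2⟩ : regOmega hreg (m - t))) (by
      intro a b hab
      apply Subtype.ext
      change a.1 ^ p ^ t = b.1 ^ p ^ t
      rw [reg_pow_eq_iff' hreg]
      have := QuotientGroup.leftRel_apply.mp hab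
      rw [Subgroup.mem_subgroupOf] at this
      exact this)
  have hg : Function.Injective g := by
    intro x y
    induction x using QuotientGroup.induction_on with
    | H a =>
    induction y using QuotientGroup.induction_on with
    | H b =>
    intro h
    have h' : a.1 ^ p ^ t = b.1 ^ p ^ t := congrArg Subtype.val h
    rw [reg_pow_eq_iff' hreg] at h'
    apply QuotientGroup.eq.mpr
    rw [Subgroup.mem_subgroupOf]
    exact h'
  have h1 := Nat.card_le_card_of_injective g hg
  have h2 := Subgroup.card_eq_card_quotient_mul_card_subgroup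
    ((regOmega hreg t).subgroupOf (regOmega hreg m))
  have h3 : Nat.card ((regOmega hreg t).subgroupOf (regOmega hreg m)) = Nat.card (regOmega hreg t) :=
    Nat.card_congr (Subgroup.subgroupOfEquivOfLe hle).toEquiv
  rw [h2, h3, mul_comm]
  exact Nat.mul_le_mul_left _ h1

end

end Cfsg.Agent.Lib.Helper14
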