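import Mathlib
import Cfsg.Prelude.Def_PLocal
import Cfsg.Prelude.Def_OddOrderLocal
import Cfsg.Agent.Lib.Helper14.RegularMore
import Cfsg.Agent.Lib.Helper14.CyclicDerived
import Cfsg.Agent.Lib.Helper14.PGroupMisc

/-! Metacyclic `p`-groups for odd `p`. -/

set_option autoImplicit false
set_option maxHeartbeats 400000
namespace Cfsg.Agent.Lib.Helper14
open Cfsg
open scoped commutatorElement

universe u

section General
variable {G : Type u} [Group G]

theorem isMetacyclic_subgroup (hmc : IsMetacyclic G) (L : Subgroup G) : IsMetacyclic ↥L := by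
  obtain ⟨N, hN, hNc, hQc⟩ := hmc
  refine ⟨N.subgroupOf L, inferInstance, ?_, ?_⟩
  · exact isCyclic_of_injective (L.subtype.subgroupComap N) (by
      intro x y hxy
      have : ((L.subtype.subgroupComap N x : N) : G) = (L.subtype.subgroupComap N y : N) :=
        congrArg Subtype.val hxy
      exact Subtype.ext (Subtype.ext this))
  · have hle : N.subgroupOf L ≤ N.comap L.subtype := fun x hx => hx
    let f : (↥L ⧸ N.subgroupOf L) →* (G ⧸ N) :=
      QuotientGroup.map (N.subgroupOf L) N L.subtype hle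
    apply isCyclic_of_injective f
    rw [injective_iff_map_eq_one]
    intro q
    induction q using QuotientGroup.induction_on with
    | H x =>
      intro hx
      change QuotientGroup.map (N.subgroupOf L) N L.subtype hle (x : ↥L ⧸ N.subgroupOf L) = 1 at hx
      rw [QuotientGroup.map_mk, QuotientGroup.eq_one_iff] at hx
      rw [QuotientGroup.eq_one_iff, Subgroup.mem_subgroupOf]
      exact hx

theorem isMetacyclic_quotient (hmc : IsMetacyclic G) (K : Subgroup G) [K.Normal] :
    IsMetacyclic (G ⧸ K) := by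
  obtain ⟨N, hN, hNc, hQc⟩ := hmc
  have hNn : (N.map (QuotientGroup.mk' K)).Normal :=
    Subgroup.Normal.map hN _ (QuotientGroup.mk'_surjective K)
  refine ⟨N.map (QuotientGroup.mk' K), hNn, ?_, ?_⟩
  · exact isCyclic_of_surjective ((QuotientGroup.mk' K).subgroupMap N)
      (MonoidHom.subgroupMap_surjective _ _)
  · let f : (G ⧸ N) →* ((G ⧸ K) ⧸ N.map (QuotientGroup.mk' K)) :=
      QuotientGroup.map N (N.map (QuotientGroup.mk' K)) (QuotientGroup.mk' K) (Subgroup.le_comap_map _ _)
    apply isCyclic_of_surjective f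
    intro q
    induction q using QuotientGroup.induction_on with
    | H x =>
      induction x using QuotientGroup.induction_on with
      | H g =>
        exact ⟨(g : G ⧸ N), rfl⟩

theorem commutator_le_of_isCyclic_quotient (N : Subgroup G) [N.Normal] [hc : IsCyclic (G ⧸ N)] :
    commutator G ≤ N := by
  rw [← Subgroup.Normal.quotient_commutative_iff_commutator_le]
  exact IsCyclic.isMulCommutative

theorem isCyclic_commutator_of_isMetacyclic (hmc : IsMetacyclic G) : IsCyclic (commutator G) := by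
  obtain ⟨N, hN, hNc, hQc⟩ := hmc
  exact Subgroup.isCyclic_of_le (commutator_le_of_isCyclic_quotient N)

theorem isRegularPGroup_of_isMetacyclic [Finite G] {p : ℕ} [Fact p.Prime] (hp2 : p ≠ 2)
    (hG : IsPGroup p G) (hmc : IsMetacyclic G) : IsRegularPGroup p G :=
  isRegularPGroup_of_cyclic_commutator hp2 hG (isCyclic_commutator_of_isMetacyclic hmc)

end General

section Pair
variable {G : Type u} [Group G]

/-- a "metacyclic pair": `N = ⟨a⟩` and `bN` generates `G/N`. -/
structure IsMetaPair (N : Subgroup G) (a b : G) : Prop where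
  hN : N = Subgroup.zpowers a
  hb : ∀ g : G, ∃ k : ℤ, ∃ x ∈ N, g = b ^ k * x

theorem exists_isMetaPair (N : Subgroup G) [N.Normal] [hNc : IsCyclic N] [hQc : IsCyclic (G ⧸ N)] :
    ∃ a b : G, IsMetaPair N a b := by
  obtain ⟨g, hg⟩ := hNc.exists_generator
  obtain ⟨q, hq⟩ := hQc.exists_generator
  obtain ⟨b, rfl⟩ := QuotientGroup.mk_surjective q
  refine ⟨g.1, b, ?_, ?_⟩
  · apply le_antisymm
    · intro x hx
      obtain ⟨k, hk⟩ := Subgroup.mem_zpowers_iff.mp (hg ⟨x, hx⟩)
      refine Subgroup.mem_zpowers_iff.mpr ⟨k, ?_⟩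
      have := congrArg Subtype.val hk
      simpa using this
    · rw [Subgroup.zpowers_le]; exact g.2
  · intro y
    obtain ⟨k, hk⟩ := Subgroup.mem_zpowers_iff.mp (hq (y : G ⧸ N))
    refine ⟨k, (b ^ k)⁻¹ * y, ?_, by group⟩
    rw [← QuotientGroup.eq, QuotientGroup.mk_zpow]
    exact hk

variable {N : Subgroup G} {a b : G}

theorem IsMetaPair.a_mem (h : IsMetaPair N a b) : a ∈ N := by
  rw [h.hN]; exact Subgroup.mem_zpowers a

theorem IsMetaPair.closure_eq_top (h : IsMetaPair N a b) : Subgroup.closure ({a, b} : Set G) = ⊤ := by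
  rw [eq_top_iff]
  intro g _
  obtain ⟨k, x, hx, rfl⟩ := h.hb g
  have ha : a ∈ Subgroup.closure ({a, b} : Set G) := Subgroup.subset_closure (by simp)
  have hb : b ∈ Subgroup.closure ({a, b} : Set G) := Subgroup.subset_closure (by simp)
  apply Subgroup.mul_mem _ (Subgroup.zpow_mem _ hb k)
  rw [h.hN] at hx
  obtain ⟨m, rfl⟩ := Subgroup.mem_zpowers_iff.mp hx
  exact Subgroup.zpow_mem _ ha m

theorem IsMetaPair.comm_of_mem (h : IsMetaPair N a b) {x y : G} (hx : x ∈ N) (hy : y ∈ N) :
    x * y = y * x := by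
  rw [h.hN] at hx hy
  obtain ⟨m, rfl⟩ := Subgroup.mem_zpowers_iff.mp hx
  obtain ⟨k, rfl⟩ := Subgroup.mem_zpowers_iff.mp hy
  rw [← zpow_add, ← zpow_add, add_comm]

theorem commutatorElement_mem_of_normal (N : Subgroup G) [hN : N.Normal] {x : G} (hx : x ∈ N) (g : G) :
    ⁅x, g⁆ ∈ N := by
  rw [commutatorElement_def]
  have : x * g * x⁻¹ * g⁻¹ = x * (g * x⁻¹ * g⁻¹) := by group
  rw [this]
  exact N.mul_mem hx (hN.conj_mem _ (N.inv_mem hx) g)

theorem IsMetaPair.commutatorElement_mul (h : IsMetaPair N a b) [hN : N.Normal] {x y : G} (hx : x ∈ N)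
    (hy : y ∈ N) (g : G) : ⁅x * y, g⁆ = ⁅x, g⁆ * ⁅y, g⁆ := by
  have h1 : ⁅x * y, g⁆ = x * ⁅y, g⁆ * x⁻¹ * ⁅x, g⁆ := by
    simp only [commutatorElement_def]; group
  have h2 : x * ⁅y, g⁆ = ⁅y, g⁆ * x := h.comm_of_mem hx (commutatorElement_mem_of_normal N hy g)
  rw [h1, h2, mul_inv_cancel_right]
  exact h.comm_of_mem (commutatorElement_mem_of_normal N hy g) (commutatorElement_mem_of_normal N hx g)

theorem IsMetaPair.commutatorElement_pow (h : IsMetaPair N a b) [hN : N.Normal] {x : G} (hx : x ∈ N)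
    (g : G) (k : ℕ) : ⁅x ^ k, g⁆ = ⁅x, g⁆ ^ k := by
  induction k with
  | zero => simp
  | succ k ih =>
    rw [pow_succ, h.commutatorElement_mul (N.pow_mem hx k) hx, ih, pow_succ]

theorem IsMetaPair.commutatorElement_pow' (h : IsMetaPair N a b) [hN : N.Normal] {x : G} (hx : x ∈ N)
    (g : G) (k : ℕ) : ⁅g, x ^ k⁆ = ⁅g, x⁆ ^ k := by
  rw [← commutatorElement_inv, h.commutatorElement_pow hx, ← inv_pow, commutatorElement_inv]

/-- every subgroup of `N` is normal in `G` -/
theorem IsMetaPair.zpowers_normal (h : IsMetaPair N a b) [hN : N.Normal] {c : G} (hc : c ∈ N) :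
    (Subgroup.zpowers c).Normal := by
  constructor
  intro y hy g
  obtain ⟨k, rfl⟩ := Subgroup.mem_zpowers_iff.mp hy
  have hc' := hc
  rw [h.hN] at hc'
  obtain ⟨m, rfl⟩ := Subgroup.mem_zpowers_iff.mp hc'
  have hga : g * a * g⁻¹ ∈ N := hN.conj_mem a h.a_mem g
  rw [h.hN] at hga
  obtain ⟨t, ht⟩ := Subgroup.mem_zpowers_iff.mp hga
  refine Subgroup.mem_zpowers_iff.mpr ⟨t * k, ?_⟩
  have h1 : g * (a ^ m) ^ k * g⁻¹ = (g * a * g⁻¹) ^ (m * k) := by
    rw [← zpow_mul, conj_zpow]
  rw [h1, ← ht, ← zpow_mul, ← zpow_mul]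
  congr 1
  ring

theorem IsMetaPair.commutator_eq (h : IsMetaPair N a b) [hN : N.Normal] :
    commutator G = Subgroup.zpowers ⁅a, b⁆ := by
  apply le_antisymm
  · have h1 := commutator_le_normalClosure_of_gen a b h.closure_eq_top
    have h2 : (Subgroup.zpowers ⁅a, b⁆).Normal :=
      h.zpowers_normal (commutatorElement_mem_of_normal N h.a_mem b)
    refine h1.trans ?_
    apply Subgroup.normalClosure_le_normal
    rw [Set.singleton_subset_iff]
    exact Subgroup.mem_zpowers _
  · rw [Subgroup.zpowers_le, commutator_def]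
    exact Subgroup.commutator_mem_commutator (Subgroup.mem_top a) (Subgroup.mem_top b)

end Pair

section Count

theorem card_pow_eq_one_le_of_isCyclic (C : Type*) [Group C] [Finite C] [IsCyclic C] (m : ℕ) (hm : 0 < m) :
    Nat.card {x : C // x ^ m = 1} ≤ m := by
  classical
  have := Fintype.ofFinite C
  rw [Nat.card_eq_fintype_card, Fintype.card_subtype]
  exact IsCyclic.card_pow_eq_one_le hm

end Count

section PGroup
variable {G : Type u} [Group G] [Finite G] {p : ℕ} [hp : Fact p.Prime]

theorem pow_card_commutator_eq_one {n : ℕ} (hn : Nat.card (commutator G) = p ^ n) {d : G}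
    (hd : d ∈ commutator G) : d ^ p ^ n = 1 := by
  have := pow_card_eq_one' (G := ↥(commutator G)) (x := ⟨d, hd⟩)
  rw [hn] at this
  exact congrArg Subtype.val this

theorem commutatorElement_pow_card_eq_one {n : ℕ} (hn : Nat.card (commutator G) = p ^ n) (x y : G) :
    ⁅x, y⁆ ^ p ^ n = 1 := by
  apply pow_card_commutator_eq_one hn
  rw [commutator_def]
  exact Subgroup.commutator_mem_commutator (Subgroup.mem_top x) (Subgroup.mem_top y)

theorem regAgemo_le_center (hreg : IsRegularPGroup p G) {n : ℕ} (hn : Nat.card (commutator G) = p ^ n) :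
    regAgemo hreg n ≤ Subgroup.center G := by
  rintro _ ⟨y, rfl⟩
  rw [Subgroup.mem_center_iff]
  intro g
  have := (reg_commute_pow_iff hreg n y g).mpr (commutatorElement_pow_card_eq_one hn y g)
  exact this.eq.symm

/-- In a metacyclic regular `p`-group, `|Ω_s| ≤ p ^ (2 s)`. -/
theorem card_regOmega_le (hreg : IsRegularPGroup p G) (hmc : IsMetacyclic G) (s : ℕ) :
    Nat.card (regOmega hreg s) ≤ p ^ (2 * s) := by
  obtain ⟨N, hN, hNc, hQc⟩ := hmc
  have hps : 0 < p ^ s := pow_pos hp.out.pos s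
  let f : ↥(regOmega hreg s) →* G ⧸ N := (QuotientGroup.mk' N).comp (regOmega hreg s).subtype
  have h1 : Nat.card f.ker ≤ p ^ s := by
    let j : f.ker → {x : N // x ^ p ^ s = 1} := fun u =>
      ⟨⟨u.1.1, by
        have := u.2
        rw [MonoidHom.mem_ker] at this
        exact (QuotientGroup.eq_one_iff _).mp this⟩, by
        apply Subtype.ext
        rw [Subgroup.coe_pow, Subgroup.coe_one]
        exact u.1.2⟩
    have hj : Function.Injective j := by
      intro u v huv
      have : u.1.1 = v.1.1 := congrArg (fun w => w.1.1) huv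
      exact Subtype.ext (Subtype.ext this)
    exact (Nat.card_le_card_of_injective j hj).trans (card_pow_eq_one_le_of_isCyclic N _ hps)
  have h2 : Nat.card f.range ≤ p ^ s := by
    let j : f.range → {q : G ⧸ N // q ^ p ^ s = 1} := fun u =>
      ⟨u.1, by
        obtain ⟨w, hw⟩ := u.2
        rw [← hw, ← map_pow]
        have : w ^ p ^ s = 1 := by
          apply Subtype.ext
          rw [Subgroup.coe_pow, Subgroup.coe_one]
          exact w.2
        rw [this, map_one]⟩
    have hj : Function.Injective j := by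
      intro u v huv
      have : u.1 = v.1 := congrArg (fun w => w.1) huv
      exact Subtype.ext this
    exact (Nat.card_le_card_of_injective j hj).trans (card_pow_eq_one_le_of_isCyclic (G ⧸ N) _ hps)
  have h3 : Nat.card ↥(regOmega hreg s) = Nat.card f.ker * Nat.card f.range := by
    rw [← Subgroup.index_ker f, Subgroup.card_mul_index]
  rw [h3, two_mul, pow_add]
  exact Nat.mul_le_mul h1 h2

theorem mem_center_of_commute_gen {a b : G} (hgen : Subgroup.closure ({a, b} : Set G) = ⊤) (x : G)
    (ha : Commute x a) (hb : Commute x b) : x ∈ Subgroup.center G := by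
  have h1 : Subgroup.closure ({a, b} : Set G) ≤ Subgroup.centralizer {x} := by
    rw [Subgroup.closure_le]
    intro y hy
    rw [SetLike.mem_coe, Subgroup.mem_centralizer_singleton_iff]
    rcases hy with rfl | rfl
    · exact ha.eq.symm
    · exact hb.eq.symm
  rw [hgen] at h1
  rw [Subgroup.mem_center_iff]
  intro g
  have := h1 (Subgroup.mem_top g)
  rw [Subgroup.mem_centralizer_singleton_iff] at this
  exact this

theorem orderOf_eq_prime_pow_of_iff {H : Type*} [Group H] [Finite H] (hH : IsPGroup p H) (x : H) (n : ℕ)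
    (h : ∀ s : ℕ, x ^ p ^ s = 1 ↔ n ≤ s) : orderOf x = p ^ n := by
  obtain ⟨t, ht⟩ := IsPGroup.iff_orderOf.mp hH x
  have h1 : ∀ s, t ≤ s ↔ n ≤ s := by
    intro s
    rw [← h s, ← orderOf_dvd_iff_pow_eq_one, ht, Nat.pow_dvd_pow_iff_le_right hp.out.one_lt]
  have : t = n := le_antisymm ((h1 n).mpr le_rfl) ((h1 t).mp le_rfl)
  rw [ht, this]

variable {N : Subgroup G} {a b : G}

theorem IsMetaPair.orderOf_commutatorElement (h : IsMetaPair N a b) [N.Normal] {n : ℕ}
    (hn : Nat.card (commutator G) = p ^ n) : orderOf ⁅a, b⁆ = p ^ n := by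
  rw [← Nat.card_zpowers, ← h.commutator_eq, hn]

theorem IsMetaPair.commutatorElement_pow_eq_one_iff (h : IsMetaPair N a b) [N.Normal] {n : ℕ}
    (hn : Nat.card (commutator G) = p ^ n) (s : ℕ) : ⁅a, b⁆ ^ p ^ s = 1 ↔ n ≤ s := by
  rw [← orderOf_dvd_iff_pow_eq_one, h.orderOf_commutatorElement hn,
    Nat.pow_dvd_pow_iff_le_right hp.out.one_lt]

/-- `p ^ (2 n) ≤ |G : Z(G)|` when `|G'| = p ^ n`. -/
theorem IsMetaPair.le_index_center (h : IsMetaPair N a b) [hN : N.Normal] (hreg : IsRegularPGroup p G)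
    {n : ℕ} (hn : Nat.card (commutator G) = p ^ n) : p ^ (2 * n) ≤ (Subgroup.center G).index := by
  set Z := Subgroup.center G with hZ
  have hGp : IsPGroup p G := hreg.1
  have hQp : IsPGroup p (G ⧸ Z) := hGp.to_quotient Z
  have hgen := h.closure_eq_top
  have ha_iff : ∀ s : ℕ, a ^ p ^ s ∈ Z ↔ n ≤ s := by
    intro s
    rw [← h.commutatorElement_pow_eq_one_iff hn s, ← reg_commute_pow_iff hreg]
    constructor
    · intro hz
      exact (Subgroup.mem_center_iff.mp hz b).symm
    · intro hc
      exact mem_center_of_commute_gen hgen _ (Commute.pow_left (Commute.refl a) _) hc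
  have hb_iff : ∀ s : ℕ, b ^ p ^ s ∈ Z ↔ n ≤ s := by
    intro s
    rw [← h.commutatorElement_pow_eq_one_iff hn s, ← reg_commute_pow_iff' hreg]
    constructor
    · intro hz
      exact (Subgroup.mem_center_iff.mp hz a)
    · intro hc
      exact mem_center_of_commute_gen hgen _ hc.symm (Commute.pow_left (Commute.refl b) _)
  have hoa : orderOf (QuotientGroup.mk' Z a) = p ^ n := by
    apply orderOf_eq_prime_pow_of_iff hQp
    intro s
    rw [← map_pow, QuotientGroup.mk'_apply, QuotientGroup.eq_one_iff]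
    exact ha_iff s
  have hob : orderOf (QuotientGroup.mk' Z b) = p ^ n := by
    apply orderOf_eq_prime_pow_of_iff hQp
    intro s
    rw [← map_pow, QuotientGroup.mk'_apply, QuotientGroup.eq_one_iff]
    exact hb_iff s
  set A := Subgroup.zpowers (QuotientGroup.mk' Z a) with hA
  set B := Subgroup.zpowers (QuotientGroup.mk' Z b) with hB
  have hAn : A.Normal := by
    have : A = N.map (QuotientGroup.mk' Z) := by
      rw [hA, h.hN, MonoidHom.map_zpowers]
    rw [this]
    exact Subgroup.Normal.map hN _ (QuotientGroup.mk'_surjective Z)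
  have hBA : B ⊓ A = ⊥ := by
    rw [eq_bot_iff]
    rintro w ⟨hwB, hwA⟩
    obtain ⟨j, rfl⟩ := Subgroup.mem_zpowers_iff.mp hwB
    obtain ⟨i, hi⟩ := Subgroup.mem_zpowers_iff.mp hwA
    rw [Subgroup.mem_bot, ← hi]
    rw [← map_zpow, ← map_zpow, QuotientGroup.mk'_apply, QuotientGroup.mk'_apply, QuotientGroup.eq] at hi
    rw [← map_zpow, QuotientGroup.mk'_apply, QuotientGroup.eq_one_iff]
    apply mem_center_of_commute_gen hgen
    · exact Commute.zpow_left (Commute.refl a) _
    · -- a^i = b^j * z⁻¹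
      set z := (a ^ i)⁻¹ * b ^ j with hz
      have h1 : a ^ i = b ^ j * z⁻¹ := by rw [hz]; group
      rw [h1]
      apply Commute.mul_left (Commute.zpow_left (Commute.refl b) _)
      have hz' : z⁻¹ ∈ Z := Z.inv_mem hi
      exact (Subgroup.mem_center_iff.mp hz' b).symm
  have hcard := card_sup_of_inf_eq_bot B A hBA
  rw [Nat.card_zpowers, Nat.card_zpowers, hoa, hob] at hcard
  have hle : Nat.card ↥(B ⊔ A) ≤ Nat.card (G ⧸ Z) := Subgroup.card_le_card_group _
  rw [hcard, ← pow_add, ← two_mul] at hle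
  rw [Subgroup.index_eq_card]
  exact hle

theorem index_regAgemo (hreg : IsRegularPGroup p G) (s : ℕ) :
    (regAgemo hreg s).index = Nat.card (regOmega hreg s) := by
  have h1 := card_regOmega_mul_card_regAgemo hreg s
  have h2 := Subgroup.card_mul_index (regAgemo hreg s)
  have hpos : 0 < Nat.card (regAgemo hreg s) := Nat.card_pos
  rw [← h1, mul_comm] at h2
  exact Nat.eq_of_mul_eq_mul_right hpos h2

/-- The structure of the center of a metacyclic `p`-group, `p` odd. -/
theorem metacyclic_center (hreg : IsRegularPGroup p G) (hmc : IsMetacyclic G) {n : ℕ}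
    (hn : Nat.card (commutator G) = p ^ n) :
    (Subgroup.center G).index = p ^ (2 * n) ∧ Subgroup.center G = regAgemo hreg n ∧
      Nat.card (regOmega hreg n) = p ^ (2 * n) := by
  obtain ⟨N, hN, hNc, hQc⟩ := hmc
  obtain ⟨a, b, hab⟩ := exists_isMetaPair N
  have h1 := hab.le_index_center hreg hn
  have h2 : (Subgroup.center G).index ∣ (regAgemo hreg n).index :=
    Subgroup.index_dvd_of_le (regAgemo_le_center hreg hn)
  have h3 : (regAgemo hreg n).index ≤ p ^ (2 * n) := by
    rw [index_regAgemo]; exact card_regOmega_le hreg ⟨N, hN, hNc, hQc⟩ n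
  have h4 : (regAgemo hreg n).index ≠ 0 := Subgroup.index_ne_zero_of_finite
  have h5 : (Subgroup.center G).index ≤ (regAgemo hreg n).index :=
    Nat.le_of_dvd (Nat.pos_of_ne_zero h4) h2
  have h6 : (Subgroup.center G).index = p ^ (2 * n) := le_antisymm (h5.trans h3) h1
  have h7 : (regAgemo hreg n).index = p ^ (2 * n) := le_antisymm h3 (h6 ▸ h5)
  refine ⟨h6, ?_, ?_⟩
  · symm
    apply Subgroup.eq_of_le_of_card_ge (regAgemo_le_center hreg hn)
    have e1 := Subgroup.card_mul_index (regAgemo hreg n)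
    have e2 := Subgroup.card_mul_index (Subgroup.center G)
    rw [h7] at e1
    rw [h6, ← e1] at e2
    have hpos : 0 < p ^ (2 * n) := pow_pos hp.out.pos _
    exact (Nat.eq_of_mul_eq_mul_right hpos e2).le
  · rw [← index_regAgemo, h7]

theorem metacyclic_card_regOmega (hreg : IsRegularPGroup p G) (hmc : IsMetacyclic G) {n : ℕ}
    (hn : Nat.card (commutator G) = p ^ n) (s : ℕ) (hs : s ≤ n) :
    Nat.card (regOmega hreg s) = p ^ (2 * s) := by
  apply le_antisymm (card_regOmega_le hreg hmc s)
  have h1 := (metacyclic_center hreg hmc hn).2.2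
  have h2 := card_regOmega_le_mul hreg n s hs
  have h3 := card_regOmega_le hreg hmc (n - s)
  rw [h1] at h2
  have h4 : p ^ (2 * n) ≤ Nat.card (regOmega hreg s) * p ^ (2 * (n - s)) :=
    h2.trans (Nat.mul_le_mul_left _ h3)
  have h5 : p ^ (2 * n) = p ^ (2 * s) * p ^ (2 * (n - s)) := by
    rw [← pow_add]; congr 1; omega
  rw [h5] at h4
  exact Nat.le_of_mul_le_mul_right h4 (pow_pos hp.out.pos _)

theorem metacyclic_card_regAgemo (hreg : IsRegularPGroup p G) (hmc : IsMetacyclic G) {n : ℕ}
    (hn : Nat.card (commutator G) = p ^ n) (s : ℕ) (hs : s ≤ n) :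
    Nat.card (regAgemo hreg s) = Nat.card (Subgroup.center G) * p ^ (2 * (n - s)) := by
  have h1 := card_regOmega_mul_card_regAgemo hreg s
  have h2 := card_regOmega_mul_card_regAgemo hreg n
  rw [metacyclic_card_regOmega hreg hmc hn s hs] at h1
  rw [metacyclic_card_regOmega hreg hmc hn n le_rfl, ← (metacyclic_center hreg hmc hn).2.1] at h2
  have h5 : p ^ (2 * n) = p ^ (2 * s) * p ^ (2 * (n - s)) := by
    rw [← pow_add]; congr 1; omega
  rw [h5, ← h1, mul_assoc] at h2
  have hpos : 0 < p ^ (2 * s) := pow_pos hp.out.pos _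
  have := Nat.eq_of_mul_eq_mul_left hpos h2
  rw [← this, mul_comm]

end PGroup

end Cfsg.Agent.Lib.Helper14
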