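import Mathlib
import Cfsg.Prelude.Def_OddOrderLocal
import Cfsg.Agent.Lib.Helper14.Metacyclic
import Cfsg.Agent.Lib.Helper14.FrattiniQuot
import Cfsg.Agent.Lib.Helper14.BurnsideBasis

/-! Automorphisms of `p'`-order of `p`-groups with small Frattini quotient (e.g. metacyclic). -/

set_option autoImplicit false
namespace Cfsg.Agent.Lib.Helper14
open Cfsg

/-- homomorphic images of metacyclic groups are metacyclic -/
theorem isMetacyclic_of_surjective {G H : Type*} [Group G] [Group H] (f : G →* H)
    (hf : Function.Surjective f) (hm : IsMetacyclic G) : IsMetacyclic H := by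
  obtain ⟨N, hN, hNc, hQc⟩ := hm
  haveI : (N.map f).Normal := Subgroup.Normal.map hN _ hf
  refine ⟨N.map f, inferInstance, ?_, ?_⟩
  · exact isCyclic_of_surjective _ (f.subgroupMap_surjective N)
  · let g : G ⧸ N →* H ⧸ N.map f :=
      QuotientGroup.map N (N.map f) f (Subgroup.le_comap_map _ _)
    have hg : Function.Surjective g := by
      intro y
      obtain ⟨y, rfl⟩ := QuotientGroup.mk_surjective y
      obtain ⟨x, rfl⟩ := hf y
      exact ⟨QuotientGroup.mk x, QuotientGroup.map_mk _ _ _ _ _⟩
    exact isCyclic_of_surjective g hg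

theorem isMetacyclic_of_mulEquiv {G H : Type*} [Group G] [Group H] (e : G ≃* H)
    (hm : IsMetacyclic G) : IsMetacyclic H :=
  isMetacyclic_of_surjective e.toMonoidHom e.surjective hm

/-- subgroups of a metacyclic subgroup are metacyclic -/
theorem isMetacyclic_of_le {G : Type*} [Group G] {Q S : Subgroup G} (hQS : Q ≤ S)
    (hm : IsMetacyclic S) : IsMetacyclic Q :=
  isMetacyclic_of_mulEquiv (Subgroup.subgroupOfEquivOfLe hQS)
    (isMetacyclic_subgroup hm (Q.subgroupOf S))

section
variable {P : Type*} [Group P] [Finite P] {p : ℕ} [Fact p.Prime]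

/-- the Frattini quotient of a `p`-group generated by an `ι`-indexed family has order `p^r`,
`r ≤ |ι|`. -/
theorem exists_index_frattini_le_of_gen (hP : IsPGroup p P) {ι : Type*} [Fintype ι] (s : ι → P)
    (hs : Subgroup.closure (Set.range s) = ⊤) :
    ∃ r : ℕ, r ≤ Fintype.card ι ∧ (frattini P).index = p ^ r := by
  obtain ⟨r, hr⟩ : ∃ r, (frattini P).index = p ^ r := by
    obtain ⟨r, hr⟩ := (IsPGroup.iff_card.mp (hP.to_quotient (frattini P)))
    exact ⟨r, by rw [Subgroup.index_eq_card, hr]⟩
  refine ⟨r, ?_, hr⟩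
  have hcomm := commutator_le_frattini_of_isPGroup' hP
  have hmc : IsMulCommutative (P ⧸ frattini P) :=
    Subgroup.Normal.quotient_commutative_iff_commutator_le.mpr hcomm
  let _ : CommGroup (P ⧸ frattini P) :=
    { (inferInstance : Group (P ⧸ frattini P)) with mul_comm := fun a b => hmc.is_comm.comm a b }
  have hE : ∀ x : P ⧸ frattini P, x ^ p = 1 := by
    intro x
    obtain ⟨x, rfl⟩ := QuotientGroup.mk_surjective x
    rw [← QuotientGroup.mk_pow, QuotientGroup.eq_one_iff]
    exact pow_mem_frattini_of_isPGroup' hP x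
  have hcardE : Nat.card (P ⧸ frattini P) = p ^ r := by rw [← Subgroup.index_eq_card, hr]
  have hs' := (closure_eq_top_iff_mod_frattini s).mp hs
  exact le_card_of_gen hE hcardE (fun i => (QuotientGroup.mk (s i) : P ⧸ frattini P)) hs'

/-- metacyclic `p`-groups have Frattini quotient of order at most `p²`. -/
theorem exists_index_frattini_le_two_of_isMetacyclic (hP : IsPGroup p P) (hm : IsMetacyclic P) :
    ∃ r : ℕ, r ≤ 2 ∧ (frattini P).index = p ^ r := by
  obtain ⟨N, hN, hNc, hQc⟩ := hm
  obtain ⟨a, b, hab⟩ := exists_isMetaPair N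
  have hgen := hab.closure_eq_top
  have h := exists_index_frattini_le_of_gen hP (fun i : Fin 2 => if i = 0 then a else b) (by
    have : Set.range (fun i : Fin 2 => if i = 0 then a else b) = {a, b} := by
      ext x
      simp only [Set.mem_range, Set.mem_insert_iff, Set.mem_singleton_iff]
      constructor
      · rintro ⟨i, rfl⟩
        fin_cases i <;> simp
      · rintro (rfl | rfl)
        · exact ⟨0, by simp⟩
        · exact ⟨1, by simp⟩
    rw [this]; exact hgen)
  simpa using h

/-- a prime `q ≠ p` dividing the order of a group of automorphisms of a `p`-group with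
Frattini quotient of order at most `p²` divides `p² - 1`. -/
theorem prime_dvd_sq_sub_one_of_dvd_card_mulAut (hP : IsPGroup p P) {r : ℕ} (hr2 : r ≤ 2)
    (hr : (frattini P).index = p ^ r) (A : Subgroup (MulAut P)) {q : ℕ} (hq : q.Prime)
    (hqp : q ≠ p) (hdvd : q ∣ Nat.card A) : q ∣ p ^ 2 - 1 := by
  have hpp : p.Prime := Fact.out
  have h1 := card_subgroup_mulAut_dvd_gen A r
  rw [card_generating_tuples_pgroup hP hr] at h1
  have h2 := hdvd.trans h1
  have hnotp : ∀ k : ℕ, ¬ q ∣ p ^ k := by
    intro k hk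
    exact hqp ((Nat.prime_dvd_prime_iff_eq hq hpp).mp (hq.dvd_of_dvd_pow hk))
  obtain ⟨k, hk⟩ := IsPGroup.iff_card.mp (hP.to_subgroup (frattini P))
  rw [hk, ← pow_mul] at h2
  rcases (Nat.Prime.dvd_mul hq).mp h2 with h3 | h3
  · interval_cases r
    · simp at h3
      exact absurd h3 hq.one_lt.ne'
    · simp at h3
      have : p - 1 ∣ p ^ 2 - 1 := by
        have := Nat.sub_dvd_pow_sub_pow p 1 2
        simpa using this
      exact h3.trans this
    · rw [Fin.prod_univ_two] at h3
      simp at h3
      rcases (Nat.Prime.dvd_mul hq).mp h3 with h4 | h4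
      · exact h4
      · have h5 : p ^ 2 - p = p * (p - 1) := by
          rw [Nat.mul_sub, mul_one, sq]
        rw [h5] at h4
        rcases (Nat.Prime.dvd_mul hq).mp h4 with h6 | h6
        · exact absurd h6 (by simpa using hnotp 1)
        · have : p - 1 ∣ p ^ 2 - 1 := by
            have := Nat.sub_dvd_pow_sub_pow p 1 2
            simpa using this
          exact h6.trans this
  · exact absurd h3 (hnotp _)

/-- version for metacyclic `p`-groups -/
theorem prime_dvd_sq_sub_one_of_isMetacyclic (hP : IsPGroup p P) (hm : IsMetacyclic P)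
    (A : Subgroup (MulAut P)) {q : ℕ} (hq : q.Prime)
    (hqp : q ≠ p) (hdvd : q ∣ Nat.card A) : q ∣ p ^ 2 - 1 := by
  obtain ⟨r, hr2, hr⟩ := exists_index_frattini_le_two_of_isMetacyclic hP hm
  exact prime_dvd_sq_sub_one_of_dvd_card_mulAut hP hr2 hr A hq hqp hdvd

end

end Cfsg.Agent.Lib.Helper14
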