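import Mathlib
import Cfsg.Agent.Lib.Helper14.ActComm
import Cfsg.Agent.Lib.Helper14.Metacyclic
import Cfsg.Agent.Lib.Helper14.MetaAut
import Cfsg.Agent.Lib.Helper17.ClassTwoP
import Cfsg.Agent.Lib.Helper2.NilpotentBasic

/-! Coprime action on metacyclic `p`-groups, `p` odd: `[R, A] = R` forces `R` abelian
(Bender–Glauberman, Lemma 4.?). -/

set_option autoImplicit false
set_option maxHeartbeats 1000000
namespace Cfsg.Agent.Lib.Helper14
open Cfsg Cfsg.Agent.Lib.Helper17 Cfsg.Agent.Lib.Helper2
open scoped commutatorElement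

universe u v

section ClassTwo
variable {E : Type*} [Group E]

theorem commutatorElement_pow_right_of_central (hcomm : ∀ a b : E, ⁅a, b⁆ ∈ Subgroup.center E)
    (u e : E) (j : ℕ) : ⁅u, e ^ j⁆ = ⁅u, e⁆ ^ j := by
  rw [← commutatorElement_inv (e ^ j) u, commutatorElement_pow_left_of_central hcomm,
    ← inv_pow, commutatorElement_inv]

theorem commutatorElement_eq_one_of_mem_center_right (u : E) {z : E} (hz : z ∈ Subgroup.center E) :
    ⁅u, z⁆ = 1 := by
  rw [commutatorElement_eq_one_iff_mul_comm]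
  exact ((Subgroup.mem_center_iff.mp hz) u)

theorem commutatorElement_eq_one_of_mem_center_left (u : E) {z : E} (hz : z ∈ Subgroup.center E) :
    ⁅z, u⁆ = 1 := by
  rw [commutatorElement_eq_one_iff_mul_comm]
  exact ((Subgroup.mem_center_iff.mp hz) u).symm

theorem commutatorElement_pow_pow_self (y : E) (k t : ℕ) : ⁅y ^ k, y ^ t⁆ = 1 := by
  rw [commutatorElement_eq_one_iff_mul_comm, ← pow_add, ← pow_add, add_comm]

/-- expansion used in case A -/
theorem comm_expand_A (hcomm : ∀ a b : E, ⁅a, b⁆ ∈ Subgroup.center E) (w y z₁ z₂ : E)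
    (hz₁ : z₁ ∈ Subgroup.center E) (hz₂ : z₂ ∈ Subgroup.center E) (k s t : ℕ) :
    ⁅y ^ k * z₂ * w ^ s, y ^ t * z₁⁆ = ⁅w, y⁆ ^ (t * s) := by
  rw [commutatorElement_mul_right_of_central hcomm,
    commutatorElement_eq_one_of_mem_center_right _ hz₁, mul_one,
    commutatorElement_mul_left_of_central hcomm, commutatorElement_mul_left_of_central hcomm,
    commutatorElement_pow_pow_self, commutatorElement_eq_one_of_mem_center_left _ hz₂, one_mul, one_mul,
    commutatorElement_pow_left_of_central hcomm, commutatorElement_pow_right_of_central hcomm,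
    ← pow_mul]

/-- expansion used in case B -/
theorem comm_expand_B (hcomm : ∀ a b : E, ⁅a, b⁆ ∈ Subgroup.center E) (w y z₁ z₂ : E)
    (hz₁ : z₁ ∈ Subgroup.center E) (hz₂ : z₂ ∈ Subgroup.center E) (l s t : ℕ) :
    ⁅w ^ s * z₂, w ^ l * y ^ t * z₁⁆ = ⁅w, y⁆ ^ (t * s) := by
  rw [commutatorElement_mul_left_of_central hcomm,
    commutatorElement_eq_one_of_mem_center_left _ hz₂, mul_one,
    commutatorElement_mul_right_of_central hcomm, commutatorElement_mul_right_of_central hcomm,
    commutatorElement_pow_pow_self, commutatorElement_eq_one_of_mem_center_right _ hz₁, one_mul, mul_one,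
    commutatorElement_pow_left_of_central hcomm, commutatorElement_pow_right_of_central hcomm,
    ← pow_mul]

end ClassTwo

section KeyT
variable {R : Type u} [Group R] {A : Type v} [Group A] [MulDistribMulAction A R]
  {p : ℕ} [hp : Fact p.Prime]

/-- the determinant computation -/
theorem key_t (c₀ w y : R) (hc₀ : orderOf c₀ = p) (j s t : ℕ)
    (hd : ⁅w, y⁆ = c₀ ^ j) (hd1 : ⁅w, y⁆ ≠ 1) (a : A) (hs : a • c₀ = c₀ ^ s) (hsp : ¬ p ∣ s)
    (hcomp : ⁅a • w, a • y⁆ = ⁅w, y⁆ ^ (t * s)) : t ≡ 1 [MOD p] := by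
  have hpp := hp.out
  have hjp : ¬ p ∣ j := by
    intro h
    apply hd1
    rw [hd]
    obtain ⟨m, rfl⟩ := h
    rw [pow_mul, ← hc₀, pow_orderOf_eq_one, one_pow]
  have h1 : a • ⁅w, y⁆ = c₀ ^ (s * j) := by
    rw [hd, smul_pow', hs, ← pow_mul]
  rw [smul_commutatorElement, hcomp, hd, ← pow_mul] at h1
  rw [pow_eq_pow_iff_modEq, hc₀] at h1
  have h2 : (s * j) * t ≡ (s * j) * 1 [MOD p] := by
    rw [mul_one]
    have : j * (t * s) = s * j * t := by ring
    rw [← this]
    exact h1
  have hcop : Nat.gcd p (s * j) = 1 := by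
    rw [← Nat.coprime_iff_gcd_eq_one]
    exact Nat.Coprime.mul_right ((Nat.Prime.coprime_iff_not_dvd hpp).mpr hsp)
      ((Nat.Prime.coprime_iff_not_dvd hpp).mpr hjp)
  exact Nat.ModEq.cancel_left_of_coprime hcop h2

end KeyT

section Step
variable {R : Type u} [Group R] [Finite R] {A : Type v} [Group A] [Finite A] [MulDistribMulAction A R]
  {p : ℕ} [hp : Fact p.Prime]

/-- the case `|R'| = p` -/
theorem core_step (hp2 : p ≠ 2) (hR : IsPGroup p R) (hmc : IsMetacyclic R)
    (hcop : (Nat.card A).Coprime p) (hact : actComm A R = ⊤)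
    (hcard : Nat.card (commutator R) = p) : False := by
  classical
  have hpp := hp.out
  have hreg := isRegularPGroup_of_isMetacyclic hp2 hR hmc
  have hn : Nat.card (commutator R) = p ^ 1 := by rw [hcard, pow_one]
  obtain ⟨hZidx, hZeq, -⟩ := metacyclic_center hreg hmc hn
  have hnil : Group.IsNilpotent R := hR.isNilpotent
  have hcne : commutator R ≠ ⊥ := by
    intro h
    rw [h, Subgroup.card_bot] at hcard
    exact hpp.one_lt.ne hcard
  have hcle : commutator R ≤ Subgroup.center R := by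
    have h1 := normal_inf_center_ne_bot (commutator R) hcne
    haveI : Fact (Nat.card (commutator R)).Prime := ⟨hcard ▸ hpp⟩
    rcases Subgroup.eq_bot_or_eq_top_of_prime_card ((Subgroup.center R).subgroupOf (commutator R)) with h2 | h2
    · exfalso
      apply h1
      rw [Subgroup.subgroupOf_eq_bot] at h2
      rw [inf_comm]
      exact h2.eq_bot
    · exact Subgroup.subgroupOf_eq_top.mp h2
  have hcomm : ∀ a b : R, ⁅a, b⁆ ∈ Subgroup.center R := by
    intro a b
    apply hcle
    rw [commutator_def]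
    exact Subgroup.commutator_mem_commutator (Subgroup.mem_top a) (Subgroup.mem_top b)
  have hRc : IsCyclic (commutator R) := isCyclic_commutator_of_isMetacyclic hmc
  have hdp : ∀ d ∈ commutator R, d ^ p = 1 := by
    intro d hd
    have := pow_card_eq_one' (G := commutator R) (x := ⟨d, hd⟩)
    rw [hcard] at this
    exact congrArg Subtype.val this
  have hpow : ∀ i : ℕ, ∀ x y : R, (x * y) ^ p ^ i = x ^ p ^ i * y ^ p ^ i := by
    intro i
    rcases Nat.eq_zero_or_pos i with rfl | hi
    · intro x y; simp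
    · apply pow_mul_of_cyclic_commutator p hp2 i R hR hRc
      intro d hd
      obtain ⟨k, rfl⟩ := Nat.exists_eq_succ_of_ne_zero hi.ne'
      rw [pow_succ', pow_mul, hdp d hd, one_pow]
  let P : ℕ → R →* R := fun i =>
    { toFun := fun x => x ^ p ^ i, map_one' := one_pow _, map_mul' := hpow i }
  have hP : ∀ i x, P i x = x ^ p ^ i := fun i x => rfl
  -- generator of the commutator subgroup
  obtain ⟨c, hc⟩ := hRc.exists_generator
  set c₀ : R := c.1 with hc₀def
  have hc₀mem : c₀ ∈ commutator R := c.2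
  have hc₀ord : orderOf c₀ = p := by
    rw [← hcard, ← orderOf_eq_card_of_forall_mem_zpowers hc, Subgroup.orderOf_coe]
  have hc₀ne : c₀ ≠ 1 := by
    intro h
    rw [h, orderOf_one] at hc₀ord
    exact hpp.one_lt.ne hc₀ord
  have hR'eq : ∀ d ∈ commutator R, ∃ j : ℕ, d = c₀ ^ j := by
    intro d hd
    have h1 := hc ⟨d, hd⟩
    have hfin : IsOfFinOrder c := isOfFinOrder_of_finite c
    rw [← mem_powers_iff_mem_zpowers, Submonoid.mem_powers_iff] at h1
    obtain ⟨j, hj⟩ := h1
    exact ⟨j, by have := congrArg Subtype.val hj; simpa using this.symm⟩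
  -- the centre consists of the p-th powers
  have hZmem : ∀ z : R, z ∈ Subgroup.center R ↔ ∃ y : R, y ^ p = z := by
    intro z
    rw [hZeq, mem_regAgemo, pow_one]
  have hc₀Z : c₀ ∈ Subgroup.center R := hcle hc₀mem
  have hex : ∃ j, c₀ ∉ (P j).range := by
    obtain ⟨m, hm⟩ := IsPGroup.iff_card.mp hR
    refine ⟨m, ?_⟩
    rintro ⟨x, hx⟩
    rw [hP, ← hm, pow_card_eq_one'] at hx
    exact hc₀ne hx.symm
  have hj0 : Nat.find hex ≠ 0 := by
    intro h0
    have := Nat.find_spec hex
    rw [h0] at this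
    exact this ⟨c₀, by rw [hP, pow_zero, pow_one]⟩
  obtain ⟨i, hi⟩ := Nat.exists_eq_succ_of_ne_zero hj0
  have hci : c₀ ∈ (P i).range := by
    by_contra h
    exact Nat.find_min hex (by rw [hi]; exact Nat.lt_succ_self i) h
  have hci1 : c₀ ∉ (P (i + 1)).range := by
    have := Nat.find_spec hex
    rwa [hi] at this
  have hi0 : i ≠ 0 := by
    rintro rfl
    apply hci1
    obtain ⟨y, hy⟩ := (hZmem c₀).mp hc₀Z
    exact ⟨y, by rw [hP, zero_add, pow_one]; exact hy⟩
  obtain ⟨w, hw⟩ := hci
  rw [hP] at hw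
  set Z : Subgroup R := Subgroup.center R with hZdef
  set M : Subgroup R := (P i).ker ⊔ Z with hMdef
  have hM_pow : ∀ m ∈ M, m ^ p ^ i ∈ (P (i + 1)).range := by
    intro m hm
    obtain ⟨k, hk, z, hz, rfl⟩ := Subgroup.mem_sup_of_normal_right.mp hm
    rw [MonoidHom.mem_ker, hP] at hk
    obtain ⟨y, rfl⟩ := (hZmem z).mp hz
    refine ⟨y, ?_⟩
    rw [hP, hpow, hk, one_mul, ← pow_mul, pow_succ']
  have hwM : w ∉ M := by
    intro h
    apply hci1
    have := hM_pow w h
    rwa [hw] at this
  have hZinv : ∀ a : A, ∀ x ∈ Z, a • x ∈ Z := fun a x hx => smul_mem_center a hx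
  have hMinv : ∀ a : A, ∀ m ∈ M, a • m ∈ M := by
    intro a m hm
    obtain ⟨k, hk, z, hz, rfl⟩ := Subgroup.mem_sup_of_normal_right.mp hm
    rw [smul_mul']
    apply Subgroup.mul_mem_sup
    · rw [MonoidHom.mem_ker, hP] at hk ⊢
      rw [← smul_pow', hk, smul_one]
    · exact hZinv a z hz
  have hs : ∀ a : A, ∃ s : ℕ, ¬ p ∣ s ∧ a • c₀ = c₀ ^ s ∧ (a • w) * (w ^ s)⁻¹ ∈ M := by
    intro a
    obtain ⟨s, hs⟩ := hR'eq (a • c₀) (smul_mem_commutator a hc₀mem)
    refine ⟨s, ?_, hs, ?_⟩
    · intro hdvd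
      obtain ⟨m, rfl⟩ := hdvd
      rw [pow_mul, ← hc₀ord, pow_orderOf_eq_one, one_pow] at hs
      apply hc₀ne
      have h2 : a • c₀ = a • (1 : R) := by rw [hs, smul_one]
      exact (MulAction.injective a) h2
    · apply Subgroup.mem_sup_left
      rw [MonoidHom.mem_ker, hP, hpow, inv_pow, ← smul_pow', hw, ← pow_mul, mul_comm s, pow_mul, hw, hs,
        mul_inv_cancel]
  -- the quotient by the centre
  letI instV : MulDistribMulAction A (R ⧸ Z) := quotMulDistribMulAction Z hZinv
  have hactV : actComm A (R ⧸ Z) = ⊤ := actComm_quot_eq_top Z hZinv hact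
  have hVcard : Nat.card (R ⧸ Z) = p ^ 2 := by
    rw [← Subgroup.index_eq_card, hZidx, mul_one]
  have hVexp : ∀ v : R ⧸ Z, v ^ p = 1 := by
    intro v
    obtain ⟨x, rfl⟩ := QuotientGroup.mk_surjective v
    rw [← QuotientGroup.mk_pow, QuotientGroup.eq_one_iff]
    exact (hZmem _).mpr ⟨x, rfl⟩
  have hVcomm : ∀ u v : R ⧸ Z, u * v = v * u := by
    have : IsMulCommutative (R ⧸ Z) :=
      Subgroup.Normal.quotient_commutative_iff_commutator_le.mpr hcle
    exact fun u v => this.is_comm.comm u v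
  have hsmk : ∀ (a : A) (x : R), a • (QuotientGroup.mk x : R ⧸ Z) = QuotientGroup.mk (a • x) := fun a x => rfl
  have hwbar : (QuotientGroup.mk w : R ⧸ Z) ≠ 1 := by
    intro h
    rw [QuotientGroup.eq_one_iff] at h
    exact hwM (Subgroup.mem_sup_right h)
  have hlift : ∀ (x x' : R), (QuotientGroup.mk x : R ⧸ Z) = QuotientGroup.mk x' → ∃ z ∈ Z, x = x' * z := by
    intro x x' h
    refine ⟨x'⁻¹ * x, ?_, by group⟩
    exact QuotientGroup.eq.mp h.symm
  have hd_mem : ∀ x y : R, ∃ j : ℕ, ⁅x, y⁆ = c₀ ^ j := by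
    intro x y
    apply hR'eq
    rw [commutator_def]
    exact Subgroup.commutator_mem_commutator (Subgroup.mem_top x) (Subgroup.mem_top y)
  by_cases hMZ : M ≤ Z
  · -- case B
    have hcz : Nat.card (Subgroup.zpowers (QuotientGroup.mk w : R ⧸ Z)) = p := by
      rw [Nat.card_zpowers]
      have h1 : orderOf (QuotientGroup.mk w : R ⧸ Z) ∣ p := orderOf_dvd_of_pow_eq_one (hVexp _)
      rcases (Nat.dvd_prime hpp).mp h1 with h | h
      · exact absurd (orderOf_eq_one_iff.mp h) hwbar
      · exact h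
    obtain ⟨ybar, hybar⟩ : ∃ ybar : R ⧸ Z, ybar ∉ Subgroup.zpowers (QuotientGroup.mk w : R ⧸ Z) := by
      by_contra hall
      push Not at hall
      have : Subgroup.zpowers (QuotientGroup.mk w : R ⧸ Z) = ⊤ := by
        rw [eq_top_iff]; intro x _; exact hall x
      rw [this, Subgroup.card_top, hVcard] at hcz
      have : p ^ 2 = p ^ 1 := by rw [hcz, pow_one]
      exact absurd (Nat.pow_right_injective hpp.two_le this) (by norm_num)
    obtain ⟨y, rfl⟩ := QuotientGroup.mk_surjective ybar
    have hsup : Subgroup.zpowers (QuotientGroup.mk w : R ⧸ Z) ⊔ Subgroup.zpowers (QuotientGroup.mk y : R ⧸ Z) = ⊤ := by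
      by_contra hne
      have := eq_zpowers_of_card_sq hVcard hVexp _ hne
        (Subgroup.mem_sup_left (Subgroup.mem_zpowers (QuotientGroup.mk w : R ⧸ Z))) hwbar
      apply hybar
      rw [← this]
      exact Subgroup.mem_sup_right (Subgroup.mem_zpowers _)
    have hdne : ⁅w, y⁆ ≠ 1 := by
      intro h
      rw [commutatorElement_eq_one_iff_mul_comm] at h
      -- the centralizer of w maps onto V
      have hH : (Subgroup.centralizer ({w} : Set R)).map (QuotientGroup.mk' Z) = ⊤ := by
        by_contra hne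
        have := eq_zpowers_of_card_sq hVcard hVexp _ hne
          (u := (QuotientGroup.mk w : R ⧸ Z)) ⟨w, Subgroup.mem_centralizer_singleton_iff.mpr rfl, rfl⟩ hwbar
        apply hybar
        rw [← this]
        exact ⟨y, Subgroup.mem_centralizer_singleton_iff.mpr h.symm, rfl⟩
      have hwZ : w ∈ Z := by
        rw [hZdef, Subgroup.mem_center_iff]
        intro g
        have hg : (QuotientGroup.mk' Z) g ∈ (Subgroup.centralizer ({w} : Set R)).map (QuotientGroup.mk' Z) := by
          rw [hH]; trivial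
        obtain ⟨g', hg', hgg'⟩ := hg
        obtain ⟨z, hz, rfl⟩ := hlift g g' hgg'.symm
        have hg' := Subgroup.mem_centralizer_singleton_iff.mp (SetLike.mem_coe.mp hg')
        have hzc := (Subgroup.mem_center_iff.mp hz) w
        calc g' * z * w = g' * (z * w) := by group
          _ = g' * (w * z) := by rw [hzc]
          _ = (g' * w) * z := by group
          _ = (w * g') * z := by rw [hg']
          _ = w * (g' * z) := by group
      exact hwM (Subgroup.mem_sup_right hwZ)
    obtain ⟨j, hj⟩ := hd_mem w y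
    -- every a acts on V trivially modulo ⟨w̄⟩
    have hall : ∀ (a : A) (v : R ⧸ Z), a • v * v⁻¹ ∈ Subgroup.zpowers (QuotientGroup.mk w : R ⧸ Z) := by
      intro a
      obtain ⟨s, hsp, hsc, hsM⟩ := hs a
      have hw' : a • (QuotientGroup.mk w : R ⧸ Z) = (QuotientGroup.mk w : R ⧸ Z) ^ s := by
        rw [hsmk, ← QuotientGroup.mk_pow]
        have h1 : (QuotientGroup.mk ((a • w) * (w ^ s)⁻¹) : R ⧸ Z) = 1 :=
          (QuotientGroup.eq_one_iff _).mpr (hMZ hsM)
        rw [QuotientGroup.mk_mul, QuotientGroup.mk_inv, mul_inv_eq_one] at h1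
        exact h1
      have hy1 : a • (QuotientGroup.mk y : R ⧸ Z) ∈
          Subgroup.zpowers (QuotientGroup.mk w : R ⧸ Z) ⊔ Subgroup.zpowers (QuotientGroup.mk y : R ⧸ Z) := by
        rw [hsup]; trivial
      haveI : (Subgroup.zpowers (QuotientGroup.mk y : R ⧸ Z)).Normal :=
        ⟨fun n hn g => by rwa [hVcomm g n, mul_inv_cancel_right]⟩
      obtain ⟨u1, hu1, u2, hu2, hu12⟩ := Subgroup.mem_sup_of_normal_right.mp hy1
      have hfw : IsOfFinOrder (QuotientGroup.mk w : R ⧸ Z) := isOfFinOrder_of_finite _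
      have hfy : IsOfFinOrder (QuotientGroup.mk y : R ⧸ Z) := isOfFinOrder_of_finite _
      rw [← mem_powers_iff_mem_zpowers, Submonoid.mem_powers_iff] at hu1
      rw [← mem_powers_iff_mem_zpowers, Submonoid.mem_powers_iff] at hu2
      obtain ⟨l, rfl⟩ := hu1
      obtain ⟨t, rfl⟩ := hu2
      -- lifts
      obtain ⟨z₁, hz₁, hy2⟩ := hlift (a • y) (w ^ l * y ^ t) (by
        rw [QuotientGroup.mk_mul, QuotientGroup.mk_pow, QuotientGroup.mk_pow, hu12]; rfl)
      obtain ⟨z₂, hz₂, hw2⟩ := hlift (a • w) (w ^ s) (by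
        rw [QuotientGroup.mk_pow, ← hw']; rfl)
      have hcomp : ⁅a • w, a • y⁆ = ⁅w, y⁆ ^ (t * s) := by
        rw [hw2, hy2]
        exact comm_expand_B hcomm w y z₁ z₂ hz₁ hz₂ l s t
      have ht := key_t c₀ w y hc₀ord j s t hj hdne a hsc hsp hcomp
      have hyt : (QuotientGroup.mk y : R ⧸ Z) ^ t = QuotientGroup.mk y := by
        have h1 : (QuotientGroup.mk y : R ⧸ Z) ^ t = (QuotientGroup.mk y : R ⧸ Z) ^ 1 := by
          rw [pow_eq_pow_iff_modEq]
          exact ht.of_dvd (orderOf_dvd_of_pow_eq_one (hVexp _))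
        rw [h1, pow_one]
      have hy3 : a • (QuotientGroup.mk y : R ⧸ Z) * (QuotientGroup.mk y : R ⧸ Z)⁻¹ ∈
          Subgroup.zpowers (QuotientGroup.mk w : R ⧸ Z) := by
        rw [← hu12, hyt, mul_inv_cancel_right]
        exact Subgroup.pow_mem _ (Subgroup.mem_zpowers _) l
      have hw3 : a • (QuotientGroup.mk w : R ⧸ Z) * (QuotientGroup.mk w : R ⧸ Z)⁻¹ ∈
          Subgroup.zpowers (QuotientGroup.mk w : R ⧸ Z) := by
        rw [hw']
        exact Subgroup.mul_mem _ (Subgroup.pow_mem _ (Subgroup.mem_zpowers _) s)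
          (Subgroup.inv_mem _ (Subgroup.mem_zpowers _))
      -- the set of v with a • v * v⁻¹ ∈ ⟨w̄⟩ is a subgroup
      let S : Subgroup (R ⧸ Z) :=
        { carrier := {v | a • v * v⁻¹ ∈ Subgroup.zpowers (QuotientGroup.mk w : R ⧸ Z)}
          one_mem' := by simp
          mul_mem' := by
            intro x x' hx hx'
            simp only [Set.mem_setOf_eq] at hx hx' ⊢
            have : a • (x * x') * (x * x')⁻¹ = (a • x * x⁻¹) * (a • x' * x'⁻¹) := by
              rw [smul_mul', mul_inv_rev]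
              rw [hVcomm x'⁻¹ x⁻¹, mul_assoc, mul_assoc, ← mul_assoc (a • x') x⁻¹, hVcomm (a • x') x⁻¹]
              simp only [mul_assoc]
            rw [this]
            exact Subgroup.mul_mem _ hx hx'
          inv_mem' := by
            intro x hx
            simp only [Set.mem_setOf_eq] at hx ⊢
            have : a • x⁻¹ * x⁻¹⁻¹ = (a • x * x⁻¹)⁻¹ := by
              rw [smul_inv', mul_inv_rev, inv_inv]
              exact hVcomm _ _
            rw [this]
            exact Subgroup.inv_mem _ hx }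
      have hStop : S = ⊤ := by
        rw [eq_top_iff, ← hsup]
        apply sup_le
        · rw [Subgroup.zpowers_le]; exact hw3
        · rw [Subgroup.zpowers_le]; exact hy3
      intro v
      have : v ∈ S := by rw [hStop]; trivial
      exact this
    have hle : actComm A (R ⧸ Z) ≤ Subgroup.zpowers (QuotientGroup.mk w : R ⧸ Z) := by
      rw [actComm, Subgroup.closure_le]
      rintro _ ⟨a, x, rfl⟩
      exact hall a x
    rw [hactV] at hle
    exact hybar (hle (Subgroup.mem_top _))
  · -- case A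
    obtain ⟨y, hyM, hyZ⟩ := SetLike.not_le_iff_exists.mp hMZ
    have hybar : (QuotientGroup.mk y : R ⧸ Z) ≠ 1 := by
      intro h
      rw [QuotientGroup.eq_one_iff] at h
      exact hyZ h
    have hMbar_ne : M.map (QuotientGroup.mk' Z) ≠ ⊤ := by
      intro h
      have h1 : (QuotientGroup.mk' Z) w ∈ M.map (QuotientGroup.mk' Z) := by rw [h]; trivial
      obtain ⟨m, hm, hmw⟩ := h1
      obtain ⟨z, hz, rfl⟩ := hlift w m hmw.symm
      exact hwM (M.mul_mem hm (Subgroup.mem_sup_right hz))
    have hMbar : M.map (QuotientGroup.mk' Z) = Subgroup.zpowers (QuotientGroup.mk y : R ⧸ Z) :=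
      eq_zpowers_of_card_sq hVcard hVexp _ hMbar_ne ⟨y, hyM, rfl⟩ hybar
    have hwy : (QuotientGroup.mk w : R ⧸ Z) ∉ Subgroup.zpowers (QuotientGroup.mk y : R ⧸ Z) := by
      rw [← hMbar]
      rintro ⟨m, hm, hmw⟩
      obtain ⟨z, hz, rfl⟩ := hlift w m hmw.symm
      exact hwM (M.mul_mem hm (Subgroup.mem_sup_right hz))
    have hdne : ⁅w, y⁆ ≠ 1 := by
      intro h
      rw [commutatorElement_eq_one_iff_mul_comm] at h
      have hH : (Subgroup.centralizer ({y} : Set R)).map (QuotientGroup.mk' Z) = ⊤ := by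
        by_contra hne
        have := eq_zpowers_of_card_sq hVcard hVexp _ hne
          (u := (QuotientGroup.mk y : R ⧸ Z)) ⟨y, Subgroup.mem_centralizer_singleton_iff.mpr rfl, rfl⟩ hybar
        apply hwy
        rw [← this]
        exact ⟨w, Subgroup.mem_centralizer_singleton_iff.mpr h, rfl⟩
      apply hyZ
      rw [hZdef, Subgroup.mem_center_iff]
      intro g
      have hg : (QuotientGroup.mk' Z) g ∈ (Subgroup.centralizer ({y} : Set R)).map (QuotientGroup.mk' Z) := by
        rw [hH]; trivial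
      obtain ⟨g', hg', hgg'⟩ := hg
      obtain ⟨z, hz, rfl⟩ := hlift g g' hgg'.symm
      have hg' := Subgroup.mem_centralizer_singleton_iff.mp (SetLike.mem_coe.mp hg')
      have hzc := (Subgroup.mem_center_iff.mp hz) y
      calc g' * z * y = g' * (z * y) := by group
        _ = g' * (y * z) := by rw [hzc]
        _ = (g' * y) * z := by group
        _ = (y * g') * z := by rw [hg']
        _ = y * (g' * z) := by group
    obtain ⟨j, hj⟩ := hd_mem w y
    have hfy : IsOfFinOrder (QuotientGroup.mk y : R ⧸ Z) := isOfFinOrder_of_finite _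
    have hfix : ∀ a : A, a • (QuotientGroup.mk y : R ⧸ Z) = QuotientGroup.mk y := by
      intro a
      obtain ⟨s, hsp, hsc, hsM⟩ := hs a
      have h1 : a • (QuotientGroup.mk y : R ⧸ Z) ∈ Subgroup.zpowers (QuotientGroup.mk y : R ⧸ Z) := by
        rw [← hMbar, hsmk]
        exact ⟨a • y, hMinv a y hyM, rfl⟩
      rw [← mem_powers_iff_mem_zpowers, Submonoid.mem_powers_iff] at h1
      obtain ⟨t, ht⟩ := h1
      have h2 : (QuotientGroup.mk ((a • w) * (w ^ s)⁻¹) : R ⧸ Z) ∈ Subgroup.zpowers (QuotientGroup.mk y : R ⧸ Z) := by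
        rw [← hMbar]
        exact ⟨_, hsM, rfl⟩
      rw [← mem_powers_iff_mem_zpowers, Submonoid.mem_powers_iff] at h2
      obtain ⟨k, hk⟩ := h2
      obtain ⟨z₁, hz₁, hy2⟩ := hlift (a • y) (y ^ t) (by
        rw [QuotientGroup.mk_pow, ht]; rfl)
      obtain ⟨z₂, hz₂, hw2⟩ := hlift ((a • w) * (w ^ s)⁻¹) (y ^ k) (by
        rw [QuotientGroup.mk_pow, hk])
      have hw3 : a • w = y ^ k * z₂ * w ^ s := by
        rw [← hw2, inv_mul_cancel_right]
      have hcomp : ⁅a • w, a • y⁆ = ⁅w, y⁆ ^ (t * s) := by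
        rw [hw3, hy2]
        exact comm_expand_A hcomm w y z₁ z₂ hz₁ hz₂ k s t
      have htm := key_t c₀ w y hc₀ord j s t hj hdne a hsc hsp hcomp
      rw [← ht]
      have h3 : (QuotientGroup.mk y : R ⧸ Z) ^ t = (QuotientGroup.mk y : R ⧸ Z) ^ 1 := by
        rw [pow_eq_pow_iff_modEq]
        exact htm.of_dvd (orderOf_dvd_of_pow_eq_one (hVexp _))
      rw [h3, pow_one]
    have h4 := pow_card_eq_one_of_mem_actComm_of_fixed' (A := A) hVcomm
      (v := (QuotientGroup.mk y : R ⧸ Z)) (by rw [hactV]; trivial) hfix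
    have h5 : orderOf (QuotientGroup.mk y : R ⧸ Z) ∣ Nat.card A := orderOf_dvd_of_pow_eq_one h4
    have h6 : orderOf (QuotientGroup.mk y : R ⧸ Z) ∣ p := orderOf_dvd_of_pow_eq_one (hVexp _)
    have h7 := Nat.eq_one_of_dvd_coprimes hcop h5 h6
    exact hybar (orderOf_eq_one_iff.mp h7)

end Step

section Core
variable {p : ℕ} [hp : Fact p.Prime]

/-- **Coprime action on a metacyclic `p`-group, `p` odd**: if `[R, A] = R` then `R` is abelian. -/
theorem core_aux (hp2 : p ≠ 2) : ∀ N : ℕ, ∀ (R : Type u) [Group R] [Finite R] (A : Type v) [Group A] [Finite A]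
    [MulDistribMulAction A R], Nat.card R = N → IsPGroup p R → IsMetacyclic R →
    (Nat.card A).Coprime p → actComm A R = ⊤ → ∀ x y : R, x * y = y * x := by
  intro N
  induction N using Nat.strong_induction_on with
  | _ N ih =>
    intro R _ _ A _ _ _ hN hR hmc hcop hact
    have hpp := hp.out
    by_contra hnc
    push Not at hnc
    obtain ⟨x₀, y₀, hxy⟩ := hnc
    have hcne : commutator R ≠ ⊥ := by
      intro h
      apply hxy
      have h1 : ⁅x₀, y₀⁆ ∈ commutator R := by
        rw [commutator_def]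
        exact Subgroup.commutator_mem_commutator (Subgroup.mem_top _) (Subgroup.mem_top _)
      rw [h, Subgroup.mem_bot, commutatorElement_eq_one_iff_mul_comm] at h1
      exact h1
    have hRc : IsCyclic (commutator R) := isCyclic_commutator_of_isMetacyclic hmc
    obtain ⟨c, hc⟩ := hRc.exists_generator
    set c₀ : R := c.1 with hc₀def
    have hc₀mem : c₀ ∈ commutator R := c.2
    have hR'eq : ∀ d ∈ commutator R, ∃ j : ℕ, d = c₀ ^ j := by
      intro d hd
      have h1 := hc ⟨d, hd⟩
      rw [← mem_powers_iff_mem_zpowers, Submonoid.mem_powers_iff] at h1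
      obtain ⟨j, hj⟩ := h1
      exact ⟨j, by have := congrArg Subtype.val hj; simpa using this.symm⟩
    have hc₀ne : c₀ ≠ 1 := by
      intro h
      apply hcne
      rw [eq_bot_iff]
      intro d hd
      obtain ⟨j, rfl⟩ := hR'eq d hd
      rw [h, one_pow]; exact Subgroup.one_mem _
    set T : Subgroup R := powerClosure p 1 (commutator R) with hTdef
    haveI hTn : T.Normal := powerClosure_normal p 1 (commutator R)
    have hTle : T ≤ Subgroup.zpowers (c₀ ^ p) := by
      rw [hTdef, powerClosure, Subgroup.closure_le]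
      rintro _ ⟨d, hd, rfl⟩
      obtain ⟨j, rfl⟩ := hR'eq d hd
      rw [pow_one, ← pow_mul, mul_comm, pow_mul]
      exact Subgroup.pow_mem _ (Subgroup.mem_zpowers _) j
    have hTinv : ∀ a : A, ∀ x ∈ T, a • x ∈ T := by
      intro a x hx
      have h1 : T.map (MulDistribMulAction.toMonoidHom R a) ≤ T := by
        rw [hTdef, powerClosure, MonoidHom.map_closure, Subgroup.closure_le]
        rintro _ ⟨_, ⟨d, hd, rfl⟩, rfl⟩
        apply Subgroup.subset_closure
        refine ⟨a • d, smul_mem_commutator a hd, ?_⟩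
        show a • (d ^ p ^ 1) = (a • d) ^ p ^ 1
        rw [smul_pow']
      exact h1 ⟨x, hx, rfl⟩
    have hnotle : ¬ commutator R ≤ T := by
      intro hle
      have h1 := hTle (hle hc₀mem)
      obtain ⟨k, hk⟩ := Subgroup.mem_zpowers_iff.mp h1
      -- c₀ ^ (p k - 1) = 1
      have h2 : c₀ ^ ((p : ℤ) * k - 1) = 1 := by
        rw [zpow_sub, zpow_mul, zpow_natCast, hk, zpow_one, mul_inv_cancel]
      have h3 : (orderOf c₀ : ℤ) ∣ (p : ℤ) * k - 1 := orderOf_dvd_iff_zpow_eq_one.mpr h2
      obtain ⟨m, hm⟩ := (IsPGroup.iff_orderOf.mp hR) c₀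
      have hm0 : m ≠ 0 := by
        rintro rfl
        rw [pow_zero, orderOf_eq_one_iff] at hm
        exact hc₀ne hm
      have h4 : (p : ℤ) ∣ (orderOf c₀ : ℤ) := by
        rw [hm]
        exact_mod_cast dvd_pow_self p hm0
      have h5 : (p : ℤ) ∣ (p : ℤ) * k - 1 := h4.trans h3
      have h6 : (p : ℤ) ∣ 1 := by
        have := dvd_sub (Dvd.intro k rfl : (p : ℤ) ∣ (p : ℤ) * k) h5
        simpa using this
      have h7 : p ∣ 1 := by exact_mod_cast h6
      exact hpp.one_lt.ne' (Nat.dvd_one.mp h7)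
    by_cases hT : T = ⊥
    · -- |R'| = p
      have hdp : ∀ d ∈ commutator R, d ^ p = 1 := by
        intro d hd
        have : d ^ p ^ 1 ∈ T := Subgroup.subset_closure ⟨d, hd, rfl⟩
        rw [hT, Subgroup.mem_bot, pow_one] at this
        exact this
      have hcard : Nat.card (commutator R) = p := by
        rw [← orderOf_eq_card_of_forall_mem_zpowers hc]
        have h1 : orderOf c ∣ p := by
          apply orderOf_dvd_of_pow_eq_one
          apply Subtype.ext
          rw [Subgroup.coe_pow, Subgroup.coe_one]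
          exact hdp c₀ hc₀mem
        rcases (Nat.dvd_prime hpp).mp h1 with h | h
        · exfalso
          apply hc₀ne
          have := orderOf_eq_one_iff.mp h
          rw [hc₀def, this, Subgroup.coe_one]
        · exact h
      exact core_step hp2 hR hmc hcop hact hcard
    · -- pass to R / T
      letI instQ : MulDistribMulAction A (R ⧸ T) := quotMulDistribMulAction T hTinv
      have hactQ : actComm A (R ⧸ T) = ⊤ := actComm_quot_eq_top T hTinv hact
      have hlt : Nat.card (R ⧸ T) < N := by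
        rw [← hN, ← Subgroup.index_eq_card, ← Subgroup.card_mul_index T]
        have h1 : 1 < Nat.card T := by
          rw [Subgroup.one_lt_card_iff_ne_bot]; exact hT
        have h2 : 0 < T.index := Nat.pos_of_ne_zero Subgroup.index_ne_zero_of_finite
        nlinarith
      have hQ := ih (Nat.card (R ⧸ T)) hlt (R ⧸ T) A rfl (hR.to_quotient T)
        (isMetacyclic_quotient hmc T) hcop hactQ
      have : IsMulCommutative (R ⧸ T) := ⟨⟨hQ⟩⟩
      exact hnotle (Subgroup.Normal.quotient_commutative_iff_commutator_le.mp this)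

theorem core {R : Type u} [Group R] [Finite R] {A : Type v} [Group A] [Finite A]
    [MulDistribMulAction A R] (hp2 : p ≠ 2) (hR : IsPGroup p R) (hmc : IsMetacyclic R)
    (hcop : (Nat.card A).Coprime p) (hact : actComm A R = ⊤) : ∀ x y : R, x * y = y * x :=
  core_aux hp2 _ R A rfl hR hmc hcop hact

end Core

end Cfsg.Agent.Lib.Helper14
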