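import Mathlib
import Cfsg.Agent.Lib.Helper14.Metacyclic
import Cfsg.Agent.Lib.Helper14.MetaAut
import Cfsg.Agent.Lib.Helper14.FrattiniQuot

/-! Counting elements of order dividing `p` in regular / metacyclic `p`-groups. -/

set_option autoImplicit false
namespace Cfsg.Agent.Lib.Helper14
open Cfsg

section
variable {P : Type*} [Group P] [Finite P] {p : ℕ} [hp : Fact p.Prime]

/-- a non-cyclic `p`-group has Frattini quotient of order at least `p²`. -/
theorem sq_dvd_index_frattini_of_not_isCyclic (hP : IsPGroup p P) (h : ¬ IsCyclic P) :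
    p ^ 2 ∣ (frattini P).index := by
  have hpp := hp.out
  obtain ⟨r, hr⟩ : ∃ r, (frattini P).index = p ^ r := by
    obtain ⟨r, hr⟩ := (IsPGroup.iff_card.mp (hP.to_quotient (frattini P)))
    exact ⟨r, by rw [Subgroup.index_eq_card, hr]⟩
  rw [hr]
  apply pow_dvd_pow
  by_contra hlt
  push Not at hlt
  apply h
  -- the Frattini quotient is cyclic
  have hcard : Nat.card (P ⧸ frattini P) = p ^ r := by rw [← Subgroup.index_eq_card, hr]
  have hcyc : IsCyclic (P ⧸ frattini P) := by
    interval_cases r
    · rw [pow_zero] at hcard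
      haveI : Subsingleton (P ⧸ frattini P) := (Nat.card_eq_one_iff_unique.mp hcard).1
      exact isCyclic_of_subsingleton
    · rw [pow_one] at hcard
      exact isCyclic_of_prime_card hcard
  obtain ⟨g, hg⟩ := hcyc.exists_generator
  obtain ⟨x, rfl⟩ := QuotientGroup.mk_surjective g
  have h1 : Subgroup.closure (Set.range fun _ : Unit => x) = ⊤ := by
    rw [closure_eq_top_iff_mod_frattini]
    rw [eq_top_iff]
    intro y _
    have hy := hg y
    have : Set.range (fun _ : Unit => (QuotientGroup.mk x : P ⧸ frattini P)) = {(QuotientGroup.mk x : P ⧸ frattini P)} := by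
      ext z; simp
    rw [this, ← Subgroup.zpowers_eq_closure]
    exact hy
  have h2 : Set.range (fun _ : Unit => x) = {x} := by ext z; simp
  rw [h2, ← Subgroup.zpowers_eq_closure] at h1
  exact ⟨x, fun y => by
    have : y ∈ Subgroup.zpowers x := by rw [h1]; trivial
    exact this⟩

/-- a non-cyclic regular `p`-group has at least `p²` elements of order dividing `p`. -/
theorem sq_le_card_pow_eq_one (hreg : IsRegularPGroup p P) (h : ¬ IsCyclic P) :
    p ^ 2 ≤ Nat.card {x : P // x ^ p = 1} := by
  have hpp := hp.out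
  have hP : IsPGroup p P := hreg.1
  have h1 := sq_dvd_index_frattini_of_not_isCyclic hP h
  have h2 : regAgemo hreg 1 ≤ frattini P := by
    rintro _ ⟨y, rfl⟩
    rw [pow_one]
    exact pow_mem_frattini_of_isPGroup' hP y
  have h3 : (frattini P).index ∣ (regAgemo hreg 1).index := Subgroup.index_dvd_of_le h2
  rw [index_regAgemo] at h3
  have h4 : Nat.card (regOmega hreg 1) = Nat.card {x : P // x ^ p = 1} := by
    apply Nat.card_congr
    exact Equiv.subtypeEquivRight (fun x => by rw [mem_regOmega, pow_one])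
  rw [← h4]
  exact Nat.le_of_dvd Nat.card_pos (h1.trans h3)

end

/-- In a metacyclic `p`-group, `p` odd: a subgroup meeting a nontrivial subgroup trivially is
cyclic. -/
theorem isCyclic_of_inf_eq_bot_of_isMetacyclic {G : Type*} [Group G] [Finite G] {p : ℕ}
    [hp : Fact p.Prime] (hp2 : p ≠ 2) (R H K : Subgroup G) (hR : IsPGroup p R)
    (hmc : IsMetacyclic R) (hHR : H ≤ R) (hKR : K ≤ R) (hHK : H ⊓ K = ⊥) (hK : K ≠ ⊥) :
    IsCyclic H := by
  have hpp := hp.out
  by_contra hnc
  have hregR := isRegularPGroup_of_isMetacyclic hp2 hR hmc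
  have hHp : IsPGroup p H := hR.to_le hHR
  have hregH := isRegularPGroup_of_isMetacyclic hp2 hHp (isMetacyclic_of_le hHR hmc)
  have h1 := sq_le_card_pow_eq_one hregH hnc
  have h2 : Nat.card {x : R // x ^ p = 1} ≤ p ^ 2 := by
    have := card_regOmega_le hregR hmc 1
    have h4 : Nat.card (regOmega hregR 1) = Nat.card {x : R // x ^ p = 1} := by
      apply Nat.card_congr
      exact Equiv.subtypeEquivRight (fun x => by rw [mem_regOmega, pow_one])
    rwa [h4, mul_one] at this
  let f : {x : H // x ^ p = 1} → {x : R // x ^ p = 1} := fun x =>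
    ⟨Subgroup.inclusion hHR x.1, by
      have := x.2
      rw [← map_pow, this, map_one]⟩
  have hf : Function.Injective f := by
    intro x y hxy
    have h3 : Subgroup.inclusion hHR x.1 = Subgroup.inclusion hHR y.1 := congrArg Subtype.val hxy
    exact Subtype.ext (Subgroup.inclusion_injective hHR h3)
  have hbij := hf.bijective_of_nat_card_le (h2.trans h1)
  -- an element of order p in K
  have hKp : IsPGroup p K := hR.to_le hKR
  have hKcard : p ∣ Nat.card K := by
    obtain ⟨n, hn⟩ := IsPGroup.iff_card.mp hKp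
    have hn0 : n ≠ 0 := by
      rintro rfl
      rw [pow_zero, Subgroup.card_eq_one] at hn
      exact hK hn
    rw [hn]; exact dvd_pow_self p hn0
  obtain ⟨k, hk⟩ := exists_prime_orderOf_dvd_card' p hKcard
  have hkp : ((k : G)) ^ p = 1 := by
    rw [← Subgroup.coe_pow, ← hk, pow_orderOf_eq_one, Subgroup.coe_one]
  obtain ⟨x, hx⟩ := hbij.2 ⟨⟨k.1, hKR k.2⟩, by
    apply Subtype.ext
    rw [Subgroup.coe_pow, Subgroup.coe_one]
    exact hkp⟩
  have hkH : (k : G) ∈ H := by
    have h3 : ((f x).1 : G) = k.1 := by rw [hx]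
    rw [← h3]
    exact x.1.2
  have hk1 : (k : G) ∈ H ⊓ K := ⟨hkH, k.2⟩
  rw [hHK, Subgroup.mem_bot] at hk1
  have hk2 : k = 1 := Subtype.ext hk1
  rw [hk2, orderOf_one] at hk
  exact hpp.one_lt.ne hk

end Cfsg.Agent.Lib.Helper14
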