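import Mathlib
import Cfsg.Agent.Lib.Helper14.ActComm
import Cfsg.Agent.Lib.Helper14.Metacyclic
import Cfsg.Agent.Lib.Helper14.MetaAut
import Cfsg.Agent.Lib.Helper14.OmegaCount
import Cfsg.Agent.Lib.Helper14.CoprimeMeta

/-! Metacyclic 2-groups with an automorphism of order 3. -/

set_option autoImplicit false
set_option maxHeartbeats 1000000
namespace Cfsg.Agent.Lib.Helper14
open Cfsg
open scoped commutatorElement

universe u v

section SubAct
variable {X : Type*} [Group X] {A : Type*} [Group A] [MulDistribMulAction A X]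

/-- restriction of an action to an invariant subgroup -/
@[reducible] def subAct (H : Subgroup X) (hH : ∀ a : A, ∀ x ∈ H, a • x ∈ H) :
    MulDistribMulAction A H where
  smul a x := ⟨a • (x : X), hH a x x.2⟩
  one_smul x := Subtype.ext (one_smul A (x : X))
  mul_smul a b x := Subtype.ext (mul_smul a b (x : X))
  smul_mul a x y := Subtype.ext (smul_mul' a (x : X) (y : X))
  smul_one a := Subtype.ext (smul_one a)

theorem subAct_coe (H : Subgroup X) (hH : ∀ a : A, ∀ x ∈ H, a • x ∈ H) (a : A) (x : H) :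
    letI := subAct H hH
    ((a • x : H) : X) = a • (x : X) := rfl

end SubAct

section Fixed3

/-- orbit counting for a group of order 3 -/
theorem all_fixed_of_card_lt {A Ω : Type*} [Group A] [Finite A] (hA : Nat.card A = 3) [MulAction A Ω]
    [Finite Ω] (F : Finset Ω) (hF : ∀ x ∈ F, ∀ a : A, a • x = x) (hcard : Nat.card Ω < F.card + 3) :
    ∀ (x : Ω) (a : A), a • x = x := by
  classical
  haveI : Fact (Nat.Prime 3) := ⟨Nat.prime_three⟩
  have hA3 : IsPGroup 3 A := IsPGroup.of_card (n := 1) (by rw [hA, pow_one])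
  have h1 := hA3.card_modEq_card_fixedPoints Ω
  have h2 : F.card ≤ Nat.card (MulAction.fixedPoints A Ω) := by
    have : Fintype (MulAction.fixedPoints A Ω) := Fintype.ofFinite _
    rw [Nat.card_eq_fintype_card, ← Fintype.card_coe]
    apply Fintype.card_le_of_injective (fun x : F => (⟨x.1, fun a => hF x.1 x.2 a⟩ : MulAction.fixedPoints A Ω))
    intro x y hxy
    apply Subtype.ext
    exact congrArg (fun z : MulAction.fixedPoints A Ω => (z : Ω)) hxy
  have h3 : Nat.card (MulAction.fixedPoints A Ω) ≤ Nat.card Ω :=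
    Nat.card_le_card_of_injective _ Subtype.val_injective
  have h4 : Nat.card (MulAction.fixedPoints A Ω) = Nat.card Ω := by
    have h5 := (Nat.modEq_iff_dvd' h3).mp h1.symm
    have h6 : Nat.card Ω - Nat.card (MulAction.fixedPoints A Ω) < 3 := by omega
    have h7 : Nat.card Ω - Nat.card (MulAction.fixedPoints A Ω) = 0 :=
      Nat.eq_zero_of_dvd_of_lt h5 h6
    omega
  intro x a
  have h8 : (MulAction.fixedPoints A Ω) = Set.univ := by
    rw [Set.eq_univ_iff_ncard, ← Nat.card_coe_set_eq, h4]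
  have : x ∈ MulAction.fixedPoints A Ω := by rw [h8]; trivial
  exact this a

end Fixed3

section CardSq
variable {G : Type*} [Group G] [Finite G]

/-- in a metacyclic group a subgroup of exponent `m` has order at most `m²`. -/
theorem card_le_sq_of_exponent (hmc : IsMetacyclic G) (S : Subgroup G) (m : ℕ) (hm : 0 < m)
    (hS : ∀ x ∈ S, x ^ m = 1) : Nat.card S ≤ m ^ 2 := by
  obtain ⟨N, hN, hNc, hQc⟩ := hmc
  let f : ↥S →* G ⧸ N := (QuotientGroup.mk' N).comp S.subtype
  have h1 : Nat.card f.ker ≤ m := by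
    let j : f.ker → {x : N // x ^ m = 1} := fun u =>
      ⟨⟨u.1.1, by
        have := u.2
        rw [MonoidHom.mem_ker] at this
        exact (QuotientGroup.eq_one_iff _).mp this⟩, by
        apply Subtype.ext
        rw [Subgroup.coe_pow, Subgroup.coe_one]
        exact hS _ u.1.2⟩
    have hj : Function.Injective j := by
      intro u v huv
      have : u.1.1 = v.1.1 := congrArg (fun w => w.1.1) huv
      exact Subtype.ext (Subtype.ext this)
    exact (Nat.card_le_card_of_injective j hj).trans (card_pow_eq_one_le_of_isCyclic N _ hm)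
  have h2 : Nat.card f.range ≤ m := by
    let j : f.range → {q : G ⧸ N // q ^ m = 1} := fun u =>
      ⟨u.1, by
        obtain ⟨w, hw⟩ := u.2
        rw [← hw, ← map_pow]
        have : w ^ m = 1 := by
          apply Subtype.ext
          rw [Subgroup.coe_pow, Subgroup.coe_one]
          exact hS _ w.2
        rw [this, map_one]⟩
    have hj : Function.Injective j := by
      intro u v huv
      have : u.1 = v.1 := congrArg (fun w => w.1) huv
      exact Subtype.ext this
    exact (Nat.card_le_card_of_injective j hj).trans (card_pow_eq_one_le_of_isCyclic (G ⧸ N) _ hm)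
  have h3 : Nat.card ↥S = Nat.card f.ker * Nat.card f.range := by
    rw [← Subgroup.index_ker f, Subgroup.card_mul_index]
  rw [h3, sq]
  exact Nat.mul_le_mul h1 h2

end CardSq

section ClassTwo
variable {X : Type*} [Group X] [Finite X] {A : Type*} [Group A] [MulDistribMulAction A X]

/-- If `X'` is cyclic and `[X, A] = X` then `X' ≤ Z(X)`. -/
theorem commutator_le_center_of_isCyclic_of_actComm_top (hc : IsCyclic (commutator X))
    (hact : actComm A X = ⊤) : commutator X ≤ Subgroup.center X := by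
  obtain ⟨c, hcg⟩ := hc.exists_generator
  set c₀ : X := c.1 with hc₀def
  have hc₀mem : c₀ ∈ commutator X := c.2
  have hR'eq : ∀ d ∈ commutator X, ∃ j : ℕ, d = c₀ ^ j := by
    intro d hd
    have h1 := hcg ⟨d, hd⟩
    rw [← mem_powers_iff_mem_zpowers, Submonoid.mem_powers_iff] at h1
    obtain ⟨j, hj⟩ := h1
    exact ⟨j, by have := congrArg Subtype.val hj; simpa using this.symm⟩
  have hnorm : (commutator X).Normal := inferInstance
  -- conjugation on X' is a power map
  have hconj : ∀ g : X, ∃ m : ℕ, ∀ d ∈ commutator X, g * d * g⁻¹ = d ^ m := by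
    intro g
    obtain ⟨m, hm⟩ := hR'eq (g * c₀ * g⁻¹) (hnorm.conj_mem _ hc₀mem g)
    refine ⟨m, ?_⟩
    intro d hd
    obtain ⟨j, rfl⟩ := hR'eq d hd
    rw [← conj_pow, hm, ← pow_mul, ← pow_mul, mul_comm]
  -- key: x⁻¹ * a • x centralizes c₀
  have hkey : ∀ (a : A) (x : X), (x⁻¹ * a • x) * c₀ = c₀ * (x⁻¹ * a • x) := by
    intro a x
    obtain ⟨m, hm⟩ := hconj x
    obtain ⟨m', hm'⟩ := hconj (a • x)
    have hac : a • c₀ ∈ commutator X := smul_mem_commutator a hc₀mem
    have h1 : (a • c₀) ^ m' = (a • c₀) ^ m := by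
      rw [← hm' _ hac, ← smul_pow', ← hm _ hc₀mem]
      simp only [smul_mul', smul_inv']
    obtain ⟨j, hj⟩ := hR'eq (a⁻¹ • c₀) (smul_mem_commutator a⁻¹ hc₀mem)
    have h2 : c₀ = (a • c₀) ^ j := by
      rw [← smul_pow', ← hj, smul_inv_smul]
    have h3 : c₀ ^ m' = c₀ ^ m := by
      calc c₀ ^ m' = ((a • c₀) ^ j) ^ m' := by rw [← h2]
        _ = ((a • c₀) ^ m') ^ j := by rw [← pow_mul, ← pow_mul, mul_comm]
        _ = ((a • c₀) ^ m) ^ j := by rw [h1]
        _ = ((a • c₀) ^ j) ^ m := by rw [← pow_mul, ← pow_mul, mul_comm]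
        _ = c₀ ^ m := by rw [← h2]
    have h4 : (a • x) * c₀ * (a • x)⁻¹ = x * c₀ * x⁻¹ := by
      rw [hm' _ hc₀mem, hm _ hc₀mem, h3]
    calc (x⁻¹ * a • x) * c₀ = x⁻¹ * ((a • x) * c₀ * (a • x)⁻¹) * (a • x) := by group
      _ = x⁻¹ * (x * c₀ * x⁻¹) * (a • x) := by rw [h4]
      _ = c₀ * (x⁻¹ * a • x) := by group
  have hC : actComm A X ≤ Subgroup.centralizer ({c₀} : Set X) := by
    rw [actComm, Subgroup.closure_le]
    rintro _ ⟨a, x, rfl⟩
    rw [SetLike.mem_coe, Subgroup.mem_centralizer_singleton_iff]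
    have h1 := hkey a x⁻¹
    rw [inv_inv, smul_inv'] at h1
    -- (x * (a • x)⁻¹) commutes with c₀, so does its inverse
    have h2 : (a • x * x⁻¹) = (x * (a • x)⁻¹)⁻¹ := by group
    rw [h2]
    symm
    calc c₀ * (x * (a • x)⁻¹)⁻¹ = (x * (a • x)⁻¹)⁻¹ * ((x * (a • x)⁻¹) * c₀) * (x * (a • x)⁻¹)⁻¹ := by group
      _ = (x * (a • x)⁻¹)⁻¹ * (c₀ * (x * (a • x)⁻¹)) * (x * (a • x)⁻¹)⁻¹ := by rw [h1]
      _ = (x * (a • x)⁻¹)⁻¹ * c₀ := by group
  rw [hact] at hC
  intro d hd
  obtain ⟨j, rfl⟩ := hR'eq d hd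
  rw [Subgroup.mem_center_iff]
  intro g
  have hg := Subgroup.mem_centralizer_singleton_iff.mp (hC (Subgroup.mem_top g))
  -- hg : c₀ * g = g * c₀
  exact ((Commute.pow_right (show Commute g c₀ from hg) j)).eq

end ClassTwo

section Abelian2

/-- a fixed element of an abelian 2-group `V = [V, A]`, `|A| = 3`, is trivial -/
theorem eq_one_of_fixed_of_actComm_top {V A : Type*} [Group V] [Finite V] [Group A] [Finite A]
    [MulDistribMulAction A V] (hc : ∀ x y : V, x * y = y * x) (hV : IsPGroup 2 V)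
    (hA : Nat.card A = 3) (hact : actComm A V = ⊤) {v : V} (hfix : ∀ a : A, a • v = v) : v = 1 := by
  have h1 := pow_card_eq_one_of_mem_actComm_of_fixed' (A := A) hc (v := v) (by rw [hact]; trivial) hfix
  rw [hA] at h1
  obtain ⟨k, hk⟩ := hV v
  have h2 : orderOf v ∣ 3 := orderOf_dvd_of_pow_eq_one h1
  have h3 : orderOf v ∣ 2 ^ k := orderOf_dvd_of_pow_eq_one hk
  have h4 : Nat.Coprime 3 (2 ^ k) := Nat.Coprime.pow_right k (by norm_num)
  exact orderOf_eq_one_iff.mp (Nat.eq_one_of_dvd_coprimes h4 h2 h3)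

/-- the action restricted to the image of an equivariant endomorphism still has `[Y, A] = Y` -/
theorem actComm_range_eq_top {X A : Type*} [Group X] [Group A] [MulDistribMulAction A X]
    (σ : X →* X) (hσ : ∀ (a : A) (x : X), σ (a • x) = a • σ x) (hact : actComm A X = ⊤) :
    letI := subAct σ.range (fun a x hx => by
      obtain ⟨y, rfl⟩ := hx
      exact ⟨a • y, hσ a y⟩)
    actComm A σ.range = ⊤ := by
  letI := subAct σ.range (fun (a : A) x hx => by
      obtain ⟨y, rfl⟩ := hx
      exact ⟨a • y, hσ a y⟩)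
  rw [eq_top_iff]
  have h1 : (actComm A X).map σ.rangeRestrict = ⊤ := by
    rw [hact, ← MonoidHom.range_eq_map, MonoidHom.range_eq_top]
    exact σ.rangeRestrict_surjective
  rw [← h1, actComm, MonoidHom.map_closure, Subgroup.closure_le]
  rintro _ ⟨_, ⟨a, x, rfl⟩, rfl⟩
  have : σ.rangeRestrict (a • x * x⁻¹) = a • (σ.rangeRestrict x) * (σ.rangeRestrict x)⁻¹ := by
    apply Subtype.ext
    simp only [MonoidHom.coe_rangeRestrict, map_mul, map_inv, Subgroup.coe_mul, Subgroup.coe_inv,
      subAct_coe, hσ]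
  rw [this]
  exact smul_mul_inv_mem_actComm a _

/-- abelian 2-group with at most 4 solutions of `x² = 1` and `[X, A] = X`, `|A| = 3`:
`|X| = 4^n`, exponent dividing `2^n`. -/
theorem card_eq_four_pow_aux : ∀ N : ℕ, ∀ (X : Type u) [Group X] [Finite X] (A : Type v) [Group A] [Finite A]
    [MulDistribMulAction A X], Nat.card X = N → (∀ x y : X, x * y = y * x) → IsPGroup 2 X →
    Nat.card {x : X // x ^ 2 = 1} ≤ 4 → Nat.card A = 3 → actComm A X = ⊤ →
    ∃ n : ℕ, Nat.card X = 4 ^ n ∧ ∀ x : X, x ^ 2 ^ n = 1 := by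
  intro N
  induction N using Nat.strong_induction_on with
  | _ N ih =>
    intro X _ _ A _ _ _ hN hc hX hΩ hA hact
    classical
    haveI : Fact (Nat.Prime 2) := ⟨Nat.prime_two⟩
    by_cases h1 : Nat.card X = 1
    · refine ⟨0, by rw [h1, pow_zero], fun x => ?_⟩
      have := (Nat.card_eq_one_iff_unique.mp h1).1
      exact Subsingleton.elim _ _
    -- the squaring endomorphism
    let σ : X →* X :=
      { toFun := fun x => x ^ 2
        map_one' := one_pow 2
        map_mul' := fun x y => (Commute.mul_pow (hc x y) 2) }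
    have hσ : ∀ x, σ x = x ^ 2 := fun x => rfl
    have hσeq : ∀ (a : A) (x : X), σ (a • x) = a • σ x := by
      intro a x
      rw [hσ, hσ, smul_pow']
    have hYinv : ∀ a : A, ∀ x ∈ σ.range, a • x ∈ σ.range := by
      intro a x hx
      obtain ⟨y, rfl⟩ := hx
      exact ⟨a • y, hσeq a y⟩
    letI instY : MulDistribMulAction A σ.range := subAct σ.range hYinv
    have hactY : actComm A σ.range = ⊤ := actComm_range_eq_top σ hσeq hact
    have hkerinv : ∀ a : A, ∀ x ∈ σ.ker, a • x ∈ σ.ker := by
      intro a x hx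
      rw [MonoidHom.mem_ker] at hx ⊢
      rw [hσeq, hx, smul_one]
    letI instK : MulDistribMulAction A σ.ker := subAct σ.ker hkerinv
    have hcardker : Nat.card σ.ker = Nat.card {x : X // x ^ 2 = 1} := by
      apply Nat.card_congr
      exact Equiv.subtypeEquivRight (fun x => by rw [MonoidHom.mem_ker, hσ])
    have hkerle : Nat.card σ.ker ≤ 4 := hcardker ▸ hΩ
    -- the kernel is nontrivial
    have hXcard : 2 ∣ Nat.card X := by
      obtain ⟨k, hk⟩ := IsPGroup.iff_card.mp hX
      have hk0 : k ≠ 0 := by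
        rintro rfl
        exact h1 (by rw [hk, pow_zero])
      rw [hk]; exact dvd_pow_self 2 hk0
    obtain ⟨t, ht⟩ := exists_prime_orderOf_dvd_card' 2 hXcard
    have htker : t ∈ σ.ker := by
      rw [MonoidHom.mem_ker, hσ, ← ht, pow_orderOf_eq_one]
    have ht1 : t ≠ 1 := by
      intro h; rw [h, orderOf_one] at ht; norm_num at ht
    -- no nonidentity fixed points
    have hnofix : ∀ v : X, (∀ a : A, a • v = v) → v = 1 := fun v hv =>
      eq_one_of_fixed_of_actComm_top hc hX hA hact hv
    -- |ker| = 4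
    have hker4 : Nat.card σ.ker = 4 := by
      obtain ⟨k, hk⟩ := IsPGroup.iff_card.mp (hX.to_subgroup σ.ker)
      have hk2 : k ≤ 2 := by
        by_contra hlt
        push Not at hlt
        have : 2 ^ 3 ≤ 2 ^ k := Nat.pow_le_pow_right (by norm_num) hlt
        omega
      interval_cases k
      · exfalso
        rw [pow_zero, Subgroup.card_eq_one] at hk
        rw [hk, Subgroup.mem_bot] at htker
        exact ht1 htker
      · exfalso
        have hall := all_fixed_of_card_lt (A := A) (Ω := σ.ker) hA {1} (by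
          intro x hx a
          rw [Finset.mem_singleton] at hx
          rw [hx, smul_one]) (by rw [hk]; simp)
        apply ht1
        apply hnofix
        intro a
        have := hall ⟨t, htker⟩ a
        exact congrArg Subtype.val this
      · rw [hk]; norm_num
    have hcardX : Nat.card X = 4 * Nat.card σ.range := by
      rw [← hker4, ← Subgroup.index_ker, Subgroup.card_mul_index]
    have hlt : Nat.card σ.range < N := by
      rw [← hN, hcardX]
      have : 0 < Nat.card σ.range := Nat.card_pos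
      omega
    have hcY : ∀ x y : σ.range, x * y = y * x := fun x y => Subtype.ext (hc x y)
    have hΩY : Nat.card {y : σ.range // y ^ 2 = 1} ≤ 4 := by
      refine le_trans ?_ hΩ
      apply Nat.card_le_card_of_injective (fun y => (⟨y.1.1, by
        have := congrArg Subtype.val y.2
        simpa using this⟩ : {x : X // x ^ 2 = 1}))
      intro y y' hyy'
      have : y.1.1 = y'.1.1 := congrArg (fun z : {x : X // x ^ 2 = 1} => (z : X)) hyy'
      exact Subtype.ext (Subtype.ext this)
    obtain ⟨m, hm, hexp⟩ := ih (Nat.card σ.range) hlt σ.range A rfl hcY (hX.to_subgroup _) hΩY hA hactY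
    refine ⟨m + 1, by rw [hcardX, hm, pow_succ, mul_comm], fun x => ?_⟩
    have := hexp ⟨σ x, x, rfl⟩
    have h2 := congrArg Subtype.val this
    rw [Subgroup.coe_pow, Subgroup.coe_one] at h2
    rw [pow_succ', pow_mul]
    exact h2

theorem card_eq_four_pow {X : Type u} [Group X] [Finite X] {A : Type v} [Group A] [Finite A]
    [MulDistribMulAction A X] (hc : ∀ x y : X, x * y = y * x) (hX : IsPGroup 2 X)
    (hΩ : Nat.card {x : X // x ^ 2 = 1} ≤ 4) (hA : Nat.card A = 3) (hact : actComm A X = ⊤) :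
    ∃ n : ℕ, Nat.card X = 4 ^ n ∧ ∀ x : X, x ^ 2 ^ n = 1 :=
  card_eq_four_pow_aux _ X A rfl hc hX hΩ hA hact

end Abelian2

section Homocyclic

/-- an abelian group of order `4^n`, exponent dividing `2^n`, generated by two elements, is
`C_{2^n} × C_{2^n}`. -/
theorem nonempty_mulEquiv_homocyclic {X : Type*} [Group X] [Finite X] (hc : ∀ x y : X, x * y = y * x)
    (n : ℕ) (hcard : Nat.card X = 4 ^ n) (hexp : ∀ x : X, x ^ 2 ^ n = 1) (x y : X)
    (hgen : Subgroup.closure ({x, y} : Set X) = ⊤) :
    Nonempty (X ≃* Multiplicative (ZMod (2 ^ n)) × Multiplicative (ZMod (2 ^ n))) := by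
  classical
  set H := Subgroup.zpowers x with hH
  set K := Subgroup.zpowers y with hK
  let φ : H × K →* X := MonoidHom.noncommCoprod H.subtype K.subtype (fun h k => hc _ _)
  have hφ : ∀ h k, φ (h, k) = (h : X) * (k : X) := fun h k => rfl
  have hsurj : Function.Surjective φ := by
    rw [← MonoidHom.range_eq_top, eq_top_iff, ← hgen, Subgroup.closure_le]
    rintro z (rfl | rfl)
    · exact ⟨(⟨z, Subgroup.mem_zpowers z⟩, 1), by rw [hφ]; simp⟩
    · exact ⟨(1, ⟨z, Subgroup.mem_zpowers z⟩), by rw [hφ]; simp⟩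
  have hle : Nat.card X ≤ Nat.card H * Nat.card K := by
    rw [← Nat.card_prod]
    exact Nat.card_le_card_of_surjective φ hsurj
  have hHd : Nat.card H ∣ 2 ^ n := by
    rw [hH, Nat.card_zpowers]; exact orderOf_dvd_of_pow_eq_one (hexp x)
  have hKd : Nat.card K ∣ 2 ^ n := by
    rw [hK, Nat.card_zpowers]; exact orderOf_dvd_of_pow_eq_one (hexp y)
  obtain ⟨i, hi, hHi⟩ := (Nat.dvd_prime_pow Nat.prime_two).mp hHd
  obtain ⟨j, hj, hKj⟩ := (Nat.dvd_prime_pow Nat.prime_two).mp hKd
  have hij : i = n ∧ j = n := by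
    rw [hcard, hHi, hKj, ← pow_add, show (4 : ℕ) = 2 ^ 2 by norm_num, ← pow_mul] at hle
    have := (Nat.pow_le_pow_iff_right (by norm_num : 1 < 2)).mp hle
    omega
  rw [hij.1] at hHi
  rw [hij.2] at hKj
  have hbij : Function.Bijective φ := by
    apply hsurj.bijective_of_nat_card_le
    rw [Nat.card_prod, hHi, hKj, hcard, show (4 : ℕ) = 2 ^ 2 by norm_num, ← pow_mul, ← pow_add]
    apply Nat.pow_le_pow_right (by norm_num)
    omega
  have e1 : Multiplicative (ZMod (2 ^ n)) ≃* H := by
    have := zmodCyclicMulEquiv (inferInstance : IsCyclic H)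
    rwa [hHi] at this
  have e2 : Multiplicative (ZMod (2 ^ n)) ≃* K := by
    have := zmodCyclicMulEquiv (inferInstance : IsCyclic K)
    rwa [hKj] at this
  exact ⟨((MulEquiv.prodCongr e1 e2).trans (MulEquiv.ofBijective φ hbij)).symm⟩

end Homocyclic

section CenterFixed
variable {X : Type u} [Group X] [Finite X] {A : Type v} [Group A] [Finite A] [MulDistribMulAction A X]

/-- `A` of order 3 acting on a metacyclic 2-group fixing a central involution centralizes the centre. -/
theorem smul_eq_of_mem_center (hX : IsPGroup 2 X) (hmc : IsMetacyclic X) (hA : Nat.card A = 3)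
    (z₀ : X) (hz₀ : z₀ ∈ Subgroup.center X) (hz₀1 : z₀ ≠ 1) (hz₀2 : z₀ ^ 2 = 1)
    (hfix : ∀ a : A, a • z₀ = z₀) : ∀ (a : A) (z : X), z ∈ Subgroup.center X → a • z = z := by
  classical
  haveI : Fact (Nat.Prime 2) := ⟨Nat.prime_two⟩
  have hZinv : ∀ a : A, ∀ x ∈ Subgroup.center X, a • x ∈ Subgroup.center X := fun a x hx => smul_mem_center a hx
  letI instZ : MulDistribMulAction A (Subgroup.center X) := subAct _ hZinv
  let Ω : Subgroup X :=
    { carrier := {z | z ∈ Subgroup.center X ∧ z ^ 2 = 1}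
      one_mem' := ⟨Subgroup.one_mem _, one_pow 2⟩
      mul_mem' := by
        rintro z w ⟨hz, hz2⟩ ⟨hw, hw2⟩
        refine ⟨Subgroup.mul_mem _ hz hw, ?_⟩
        have : Commute z w := (Subgroup.mem_center_iff.mp hz w).symm
        rw [this.mul_pow, hz2, hw2, one_mul]
      inv_mem' := by
        rintro z ⟨hz, hz2⟩
        exact ⟨Subgroup.inv_mem _ hz, by rw [inv_pow, hz2, inv_one]⟩ }
  have hΩmem : ∀ z, z ∈ Ω ↔ z ∈ Subgroup.center X ∧ z ^ 2 = 1 := fun z => Iff.rfl
  have hΩcard : Nat.card Ω ≤ 4 := by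
    have := card_le_sq_of_exponent hmc Ω 2 (by norm_num) (fun x hx => hx.2)
    simpa using this
  have hΩinv : ∀ a : A, ∀ x ∈ Ω, a • x ∈ Ω := by
    rintro a x ⟨hx, hx2⟩
    exact ⟨hZinv a x hx, by rw [← smul_pow', hx2, smul_one]⟩
  letI instΩ : MulDistribMulAction A Ω := subAct _ hΩinv
  have hz₀Ω : z₀ ∈ Ω := ⟨hz₀, hz₀2⟩
  have hall := all_fixed_of_card_lt (A := A) (Ω := Ω) hA {1, ⟨z₀, hz₀Ω⟩} (by
    intro x hx a
    rw [Finset.mem_insert, Finset.mem_singleton] at hx
    rcases hx with rfl | rfl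
    · exact smul_one a
    · exact Subtype.ext (hfix a)) (by
    have : ({1, ⟨z₀, hz₀Ω⟩} : Finset Ω).card = 2 := by
      rw [Finset.card_pair]
      intro h
      exact hz₀1 (congrArg Subtype.val h).symm
    rw [this]; omega)
  -- [Z, A] = 1
  have hcZ : ∀ x y : Subgroup.center X, x * y = y * x := by
    intro x y
    apply Subtype.ext
    rw [Subgroup.coe_mul, Subgroup.coe_mul]
    exact (Subgroup.mem_center_iff.mp x.2 y).symm
  have hW : actComm A (Subgroup.center X) = ⊥ := by
    by_contra hne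
    have hWp : IsPGroup 2 (actComm A (Subgroup.center X)) := (hX.to_subgroup _).to_subgroup _
    have hWcard : 2 ∣ Nat.card (actComm A (Subgroup.center X)) := by
      obtain ⟨k, hk⟩ := IsPGroup.iff_card.mp hWp
      have hk0 : k ≠ 0 := by
        rintro rfl
        rw [pow_zero, Subgroup.card_eq_one] at hk
        exact hne hk
      rw [hk]; exact dvd_pow_self 2 hk0
    obtain ⟨t, ht⟩ := exists_prime_orderOf_dvd_card' 2 hWcard
    have ht2 : ((t : Subgroup.center X) : X) ^ 2 = 1 := by
      have : t ^ 2 = 1 := by rw [← ht, pow_orderOf_eq_one]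
      have h2 := congrArg (fun z : actComm A (Subgroup.center X) => ((z : Subgroup.center X) : X)) this
      simpa using h2
    have htΩ : ((t : Subgroup.center X) : X) ∈ Ω := ⟨(t : Subgroup.center X).2, ht2⟩
    have htfix : ∀ a : A, a • (t : Subgroup.center X) = (t : Subgroup.center X) := by
      intro a
      apply Subtype.ext
      have := hall ⟨_, htΩ⟩ a
      exact congrArg (fun z : Ω => (z : X)) this
    have h3 := pow_card_eq_one_of_mem_actComm_of_fixed' (A := A) hcZ (v := (t : Subgroup.center X)) t.2 htfix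
    rw [hA] at h3
    have h4 : ((t : Subgroup.center X) : X) ^ 3 = 1 := by
      have := congrArg Subtype.val h3
      simpa using this
    have h5 : ((t : Subgroup.center X) : X) = 1 := by
      have : ((t : Subgroup.center X) : X) ^ 3 = ((t : Subgroup.center X) : X) ^ 2 * ((t : Subgroup.center X) : X) := pow_succ _ 2
      rw [this, ht2, one_mul] at h4
      exact h4
    have h6 : t = 1 := Subtype.ext (Subtype.ext h5)
    rw [h6, orderOf_one] at ht
    norm_num at ht
  intro a z hz
  have h1 : a • (⟨z, hz⟩ : Subgroup.center X) * (⟨z, hz⟩ : Subgroup.center X)⁻¹ ∈ actComm A (Subgroup.center X) :=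
    smul_mul_inv_mem_actComm a _
  rw [hW, Subgroup.mem_bot, mul_inv_eq_one] at h1
  exact congrArg Subtype.val h1

end CenterFixed

end Cfsg.Agent.Lib.Helper14
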