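import Mathlib
import Cfsg.Agent.Lib.Helper14.Meta2Aut
import Cfsg.Agent.Lib.Helper14.MetaAut
import Cfsg.Agent.Lib.Helper14.CoprimeMeta
import Cfsg.Agent.Lib.Helper14.CyclicDerived
import Cfsg.Agent.Lib.Helper17.ClassTwoP

/-! Automorphisms of `p`-groups of rank at most 2 (`p` odd): tools.

* `smul_eq_of_fixed_omega`: a `p'`-group of operators on a `p`-abelian `p`-group (i.e. `(xy)^p = x^p y^p`)
  that fixes all elements of order dividing `p` is trivial.
* `card_le_cube_of_classTwo`: a `p`-group with central commutators all of whose abelian subgroups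
  have order at most `p²` has order at most `p³`.
-/

set_option autoImplicit false
set_option maxHeartbeats 1000000
namespace Cfsg.Agent.Lib.Helper14
open Cfsg
open scoped commutatorElement

universe u v

section PAbelian

theorem smul_eq_of_fixed_omega_aux {A : Type v} [Group A] [Finite A] {p : ℕ} [hp : Fact p.Prime]
    (hcop : (Nat.card A).Coprime p) :
    ∀ n : ℕ, ∀ (H : Type u) [Group H] [Finite H] [MulDistribMulAction A H], Nat.card H = n →
      IsPGroup p H → (∀ x y : H, (x * y) ^ p = x ^ p * y ^ p) →
      (∀ (a : A) (x : H), x ^ p = 1 → a • x = x) → ∀ (a : A) (x : H), a • x = x := by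
  intro n
  induction n using Nat.strong_induction_on with
  | _ n ih =>
    intro H _ _ _ hn hH hpab hfix a x
    classical
    let π : H →* H := { toFun := fun x => x ^ p, map_one' := one_pow p, map_mul' := hpab }
    have hπ : ∀ x, π x = x ^ p := fun _ => rfl
    by_cases htriv : Nat.card H = 1
    · haveI := (Nat.card_eq_one_iff_unique.mp htriv).1
      exact Subsingleton.elim _ _
    have hKinv : ∀ a : A, ∀ y ∈ π.range, a • y ∈ π.range := by
      rintro a _ ⟨z, rfl⟩
      exact ⟨a • z, by rw [hπ, hπ, smul_pow']⟩
    letI := subAct π.range hKinv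
    have hlt : Nat.card π.range < n := by
      have hpd : p ∣ Nat.card H := by
        obtain ⟨k, hk⟩ := IsPGroup.iff_card.mp hH
        rw [hk]
        have : k ≠ 0 := by
          rintro rfl
          exact htriv (by simpa using hk)
        exact dvd_pow_self p this
      obtain ⟨g, hg⟩ := exists_prime_orderOf_dvd_card' p hpd
      have hgker : g ∈ π.ker := by rw [MonoidHom.mem_ker, hπ, ← hg, pow_orderOf_eq_one]
      have hg1 : g ≠ 1 := by
        rintro rfl
        rw [orderOf_one] at hg
        exact hp.out.one_lt.ne hg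
      have hker : 1 < Nat.card π.ker := by
        apply (Subgroup.one_lt_card_iff_ne_bot _).mpr
        intro h
        rw [h] at hgker
        exact hg1 (Subgroup.mem_bot.mp hgker)
      have h1 := π.ker.card_mul_index
      rw [Subgroup.index_ker, hn] at h1
      have h2 : 0 < Nat.card π.range := Nat.card_pos
      nlinarith
    have hK := ih _ hlt π.range rfl (hH.to_subgroup _) (fun x y => by
        apply Subtype.ext
        simp only [Subgroup.coe_pow, Subgroup.coe_mul]
        exact hpab _ _) (fun a y hy => by
        apply Subtype.ext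
        rw [subAct_coe]
        apply hfix a y.1
        have := congrArg Subtype.val hy
        simpa using this)
    have h1 : ∀ (b : A) (w : H), b • (w ^ p) = w ^ p := by
      intro b w
      have := hK b ⟨w ^ p, ⟨w, rfl⟩⟩
      exact congrArg Subtype.val this
    have hy : (x⁻¹ * a • x) ^ p = 1 := by
      rw [hpab, inv_pow, ← smul_pow', h1, inv_mul_cancel]
    set y := x⁻¹ * a • x with hydef
    have hyfix : ∀ b : A, b • y = y := fun b => hfix b y hy
    have hax : a • x = x * y := by rw [hydef]; group
    have hpow : ∀ k : ℕ, a ^ k • x = x * y ^ k := by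
      intro k
      induction k with
      | zero => simp
      | succ k ihk =>
        rw [pow_succ', mul_smul, ihk, smul_mul', hax, smul_pow', hyfix, pow_succ', mul_assoc]
    have h2 := hpow (Nat.card A)
    rw [pow_card_eq_one', one_smul] at h2
    have h3 : y ^ Nat.card A = 1 := by
      have : x * y ^ Nat.card A = x * 1 := by rw [mul_one]; exact h2.symm
      exact mul_left_cancel this
    have h4 : orderOf y ∣ Nat.card A := orderOf_dvd_of_pow_eq_one h3
    have h5 : orderOf y ∣ p := orderOf_dvd_of_pow_eq_one hy
    have h6 : orderOf y = 1 := Nat.eq_one_of_dvd_coprimes hcop h4 h5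
    rw [orderOf_eq_one_iff] at h6
    rw [hax, h6, mul_one]

/-- A `p'`-group of operators on a `p`-group in which `x ↦ x^p` is multiplicative, fixing all elements
of order dividing `p`, acts trivially. -/
theorem smul_eq_of_fixed_omega {A : Type v} [Group A] [Finite A] {p : ℕ} [hp : Fact p.Prime]
    (hcop : (Nat.card A).Coprime p) {H : Type u} [Group H] [Finite H] [MulDistribMulAction A H]
    (hH : IsPGroup p H) (hpab : ∀ x y : H, (x * y) ^ p = x ^ p * y ^ p)
    (hfix : ∀ (a : A) (x : H), x ^ p = 1 → a • x = x) (a : A) (x : H) : a • x = x :=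
  smul_eq_of_fixed_omega_aux hcop _ H rfl hH hpab hfix a x

/-- `p` odd: a `p`-group with central commutators and central `p`-th powers is `p`-abelian. -/
theorem mul_pow_prime_of_classTwo {K : Type*} [Group K] {p : ℕ} [hp : Fact p.Prime] (hp2 : p ≠ 2)
    (hcl : ∀ a b : K, ⁅a, b⁆ ∈ Subgroup.center K) (hpow : ∀ a : K, a ^ p ∈ Subgroup.center K)
    (x y : K) : (x * y) ^ p = x ^ p * y ^ p := by
  apply mul_pow_prime_of_central_commutator hp2 x y
  · intro g
    exact ((Subgroup.mem_center_iff.mp (hcl y x)) g).symm
  · rw [← Cfsg.Agent.Lib.Helper17.commutatorElement_pow_left_of_central hcl]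
    exact commutatorElement_eq_one_of_mem_center_left x (hpow y)

end PAbelian

section Cube

theorem card_le_cube_of_classTwo {E : Type*} [Group E] [Finite E] {p : ℕ} [hp : Fact p.Prime]
    (hE : IsPGroup p E) (hcl : ∀ a b : E, ⁅a, b⁆ ∈ Subgroup.center E)
    (hrk : ∀ A : Subgroup E, IsMulCommutative A → Nat.card A ≤ p ^ 2) : Nat.card E ≤ p ^ 3 := by
  classical
  have hpp : p.Prime := hp.out
  by_cases hab : ∀ x y : E, x * y = y * x
  · have hc : IsMulCommutative (⊤ : Subgroup E) := ⟨⟨fun a b => Subtype.ext (hab a b)⟩⟩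
    have h1 := hrk ⊤ hc
    rw [Subgroup.card_top] at h1
    exact h1.trans (Nat.pow_le_pow_right hpp.pos (by norm_num))
  push Not at hab
  obtain ⟨x, y0, hxy0⟩ := hab
  have hxZ : x ∉ Subgroup.center E := fun h => hxy0 ((Subgroup.mem_center_iff.mp h y0).symm)
  set Z := Subgroup.center E with hZ
  set K := Subgroup.closure ((Z : Set E) ∪ {x}) with hK
  have hKc : IsMulCommutative K := Subgroup.isMulCommutative_closure (by
    rintro a (ha | ha) b (hb | hb)
    · exact Subgroup.mem_center_iff.mp hb a
    · exact (Subgroup.mem_center_iff.mp ha b).symm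
    · exact Subgroup.mem_center_iff.mp hb a
    · rw [Set.mem_singleton_iff] at ha hb
      rw [ha, hb])
  have hKcard : Nat.card K ≤ p ^ 2 := hrk K hKc
  have hZK : Z ≤ K := fun z hz => Subgroup.subset_closure (Or.inl hz)
  have hxK : x ∈ K := Subgroup.subset_closure (Or.inr rfl)
  have hZK' : Nat.card Z < Nat.card K := by
    by_contra hle
    push Not at hle
    have := Subgroup.eq_of_le_of_card_ge hZK hle
    exact hxZ (this ▸ hxK)
  obtain ⟨a, ha⟩ := IsPGroup.iff_card.mp (hE.to_subgroup Z)
  obtain ⟨b, hb⟩ := IsPGroup.iff_card.mp (hE.to_subgroup K)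
  have hab1 : a < b := by
    rw [ha, hb] at hZK'
    exact (Nat.pow_lt_pow_iff_right hpp.one_lt).mp hZK'
  have hb2 : b ≤ 2 := by
    rw [hb] at hKcard
    exact (Nat.pow_le_pow_iff_right hpp.one_lt).mp hKcard
  have hZcard : Nat.card Z ≤ p := by
    rw [ha]
    calc p ^ a ≤ p ^ 1 := Nat.pow_le_pow_right hpp.pos (by omega)
      _ = p := pow_one p
  -- the commutator homomorphism
  set f := Cfsg.Agent.Lib.Helper17.commHomRight hcl x with hf
  have hfker : ∀ e : E, e ∈ f.ker ↔ x * e = e * x := by
    intro e
    rw [MonoidHom.mem_ker]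
    constructor
    · intro h
      have : ⁅x, e⁆ = 1 := congrArg Subtype.val h
      exact commutatorElement_eq_one_iff_mul_comm.mp this
    · intro h
      apply Subtype.ext
      exact commutatorElement_eq_one_iff_mul_comm.mpr h
  have hcardE : Nat.card E ≤ Nat.card f.ker * p := by
    have h1 := f.ker.card_mul_index
    rw [Subgroup.index_ker] at h1
    rw [← h1]
    apply Nat.mul_le_mul_left
    calc Nat.card f.range ≤ Nat.card Z := Nat.card_le_card_of_injective _ Subtype.val_injective
      _ ≤ p := hZcard
  have hKD : K ≤ f.ker := by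
    rw [hK, Subgroup.closure_le]
    rintro e (he | he)
    · exact (hfker e).mpr (Subgroup.mem_center_iff.mp he x)
    · rw [Set.mem_singleton_iff] at he
      exact (hfker e).mpr (by rw [he])
  by_cases hD : Nat.card f.ker ≤ p ^ 2
  · calc Nat.card E ≤ Nat.card f.ker * p := hcardE
      _ ≤ p ^ 2 * p := Nat.mul_le_mul_right p hD
      _ = p ^ 3 := by ring
  exfalso
  push Not at hD
  obtain ⟨y, hyD, hyK⟩ : ∃ y ∈ f.ker, y ∉ K := by
    by_contra hall
    push Not at hall
    have : f.ker ≤ K := fun e he => hall e he
    have := Subgroup.card_le_of_le this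
    omega
  have hxy : x * y = y * x := (hfker y).mp hyD
  set L := Subgroup.closure ((K : Set E) ∪ {y}) with hL
  have hKy : ∀ k ∈ K, k * y = y * k := by
    have : K ≤ Subgroup.centralizer ({y} : Set E) := by
      rw [hK, Subgroup.closure_le]
      rintro e (he | he)
      · exact Subgroup.mem_centralizer_singleton_iff.mpr (Subgroup.mem_center_iff.mp he y).symm
      · rw [Set.mem_singleton_iff] at he
        rw [he]
        exact Subgroup.mem_centralizer_singleton_iff.mpr hxy
    intro k hk
    exact Subgroup.mem_centralizer_singleton_iff.mp (this hk)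
  have hLc : IsMulCommutative L := Subgroup.isMulCommutative_closure (by
    rintro u (hu | hu) v (hv | hv)
    · have := hKc.is_comm.comm (⟨u, hu⟩ : K) ⟨v, hv⟩
      exact congrArg Subtype.val this
    · rw [Set.mem_singleton_iff] at hv
      rw [hv]; exact hKy u hu
    · rw [Set.mem_singleton_iff] at hu
      rw [hu]; exact (hKy v hv).symm
    · rw [Set.mem_singleton_iff] at hu hv
      rw [hu, hv])
  have hLcard : Nat.card L ≤ p ^ 2 := hrk L hLc
  have hKL : K ≤ L := fun z hz => Subgroup.subset_closure (Or.inl hz)
  have hyL : y ∈ L := Subgroup.subset_closure (Or.inr rfl)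
  have hKL' : Nat.card K < Nat.card L := by
    by_contra hle
    push Not at hle
    have := Subgroup.eq_of_le_of_card_ge hKL hle
    exact hyK (this ▸ hyL)
  obtain ⟨c, hc⟩ := IsPGroup.iff_card.mp (hE.to_subgroup L)
  have hbc : b < c := by
    rw [hb, hc] at hKL'
    exact (Nat.pow_lt_pow_iff_right hpp.one_lt).mp hKL'
  have hc2 : c ≤ 2 := by
    rw [hc] at hLcard
    exact (Nat.pow_le_pow_iff_right hpp.one_lt).mp hLcard
  have ha0 : a = 0 := by omega
  rw [ha0, pow_zero] at ha
  have hZbot : Z = ⊥ := Subgroup.card_eq_one.mp ha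
  haveI : Nontrivial E := ⟨⟨x, 1, fun h => hxZ (h ▸ Subgroup.one_mem _)⟩⟩
  have := hE.center_nontrivial
  rw [← hZ, hZbot] at this
  exact not_nontrivial _ this

/-- the Frattini quotient of such a group has order at most `p²`. -/
theorem exists_index_frattini_le_two_of_classTwo {E : Type*} [Group E] [Finite E] {p : ℕ}
    [hp : Fact p.Prime] (hE : IsPGroup p E) (hcl : ∀ a b : E, ⁅a, b⁆ ∈ Subgroup.center E)
    (hrk : ∀ A : Subgroup E, IsMulCommutative A → Nat.card A ≤ p ^ 2) :
    ∃ r : ℕ, r ≤ 2 ∧ (frattini E).index = p ^ r := by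
  classical
  have hpp : p.Prime := hp.out
  obtain ⟨r, hr⟩ : ∃ r, (frattini E).index = p ^ r := by
    obtain ⟨r, hr⟩ := (IsPGroup.iff_card.mp (hE.to_quotient (frattini E)))
    exact ⟨r, by rw [Subgroup.index_eq_card, hr]⟩
  refine ⟨r, ?_, hr⟩
  have hle : (frattini E).index ≤ p ^ 2 := by
    by_cases hab : ∀ x y : E, x * y = y * x
    · have hc : IsMulCommutative (⊤ : Subgroup E) := ⟨⟨fun a b => Subtype.ext (hab a b)⟩⟩
      have h1 := hrk ⊤ hc
      rw [Subgroup.card_top] at h1
      exact (Nat.le_of_dvd Nat.card_pos (Subgroup.index_dvd_card _)).trans h1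
    · have h3 := card_le_cube_of_classTwo hE hcl hrk
      have hΦ : frattini E ≠ ⊥ := by
        intro h
        apply hab
        intro x y
        have h1 := commutator_le_frattini_of_isPGroup' hE
        rw [h, le_bot_iff] at h1
        have : ⁅x, y⁆ ∈ commutator E := Subgroup.commutator_mem_commutator (Subgroup.mem_top x) (Subgroup.mem_top y)
        rw [h1, Subgroup.mem_bot] at this
        exact commutatorElement_eq_one_iff_mul_comm.mp this
      have hΦ1 : 1 < Nat.card (frattini E) := (Subgroup.one_lt_card_iff_ne_bot _).mpr hΦ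
      obtain ⟨k, hk⟩ := IsPGroup.iff_card.mp (hE.to_subgroup (frattini E))
      have hk1 : 1 ≤ k := by
        rcases Nat.eq_zero_or_pos k with h0 | h0
        · rw [h0, pow_zero] at hk; omega
        · exact h0
      have hpk : p ≤ Nat.card (frattini E) := by
        rw [hk]
        calc p = p ^ 1 := (pow_one p).symm
          _ ≤ p ^ k := Nat.pow_le_pow_right hpp.pos hk1
      have h4 := (frattini E).card_mul_index
      have h5 : p * (frattini E).index ≤ p * p ^ 2 := by
        calc p * (frattini E).index ≤ Nat.card (frattini E) * (frattini E).index :=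
              Nat.mul_le_mul_right _ hpk
          _ = Nat.card E := h4
          _ ≤ p ^ 3 := h3
          _ = p * p ^ 2 := by ring
      exact Nat.le_of_mul_le_mul_left h5 hpp.pos
  rw [hr] at hle
  exact (Nat.pow_le_pow_iff_right hpp.one_lt).mp hle

end Cube

end Cfsg.Agent.Lib.Helper14
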