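import Mathlib
import Cfsg.Prelude.Def_Classical
set_option autoImplicit false
set_option maxHeartbeats 400000
namespace Cfsg.Agent.Lib.Helper14.ArfF2
open Cfsg

/-- the sign character of `ZMod 2` -/
def chi (a : ZMod 2) : ℤ := if a = 0 then 1 else -1

theorem chi_add : ∀ a b : ZMod 2, chi (a + b) = chi a * chi b := by decide
theorem chi_add_one : ∀ a : ZMod 2, chi (a + 1) = - chi a := by decide
theorem chi_zero : chi 0 = 1 := by decide
theorem zmod2_sub : ∀ a b : ZMod 2, a - b = a + b := by decide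
theorem zmod2_cases : ∀ a : ZMod 2, a = 0 ∨ a = 1 := by decide

variable (m : ℕ)

/-- the polar form of the plus-type form -/
def pol (u v : Fin m ⊕ Fin m → ZMod 2) : ZMod 2 :=
  quadFormPlus m (ZMod 2) (u + v) - quadFormPlus m (ZMod 2) u - quadFormPlus m (ZMod 2) v

theorem pol_eq (u v : Fin m ⊕ Fin m → ZMod 2) :
    pol m u v = ∑ i : Fin m, (u (.inl i) * v (.inr i) + v (.inl i) * u (.inr i)) := by
  unfold pol quadFormPlus
  rw [← Finset.sum_sub_distrib, ← Finset.sum_sub_distrib]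
  apply Finset.sum_congr rfl
  intro i _
  simp only [Pi.add_apply]
  ring

theorem pol_add_left (u v w : Fin m ⊕ Fin m → ZMod 2) : pol m (u + v) w = pol m u w + pol m v w := by
  rw [pol_eq, pol_eq, pol_eq, ← Finset.sum_add_distrib]
  apply Finset.sum_congr rfl
  intro i _
  simp only [Pi.add_apply]
  ring

theorem pol_comm (u v : Fin m ⊕ Fin m → ZMod 2) : pol m u v = pol m v u := by
  rw [pol_eq, pol_eq]
  apply Finset.sum_congr rfl
  intro i _
  ring

theorem pol_add_right (u v w : Fin m ⊕ Fin m → ZMod 2) : pol m u (v + w) = pol m u v + pol m u w := by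
  rw [pol_comm, pol_add_left, pol_comm m v, pol_comm m w]

theorem pol_self (u : Fin m ⊕ Fin m → ZMod 2) : pol m u u = 0 := by
  rw [pol_eq]
  apply Finset.sum_eq_zero
  intro i _
  exact CharTwo.add_self_eq_zero _

theorem pol_zero_right (u : Fin m ⊕ Fin m → ZMod 2) : pol m u 0 = 0 := by
  rw [pol_eq]
  simp

theorem pol_smul_left (c : ZMod 2) (u w : Fin m ⊕ Fin m → ZMod 2) : pol m (c • u) w = c * pol m u w := by
  rw [pol_eq, pol_eq, Finset.mul_sum]
  apply Finset.sum_congr rfl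
  intro i _
  simp only [Pi.smul_apply, smul_eq_mul]
  ring

theorem exists_pol_eq_one (t : Fin m ⊕ Fin m → ZMod 2) (ht : t ≠ 0) : ∃ u, pol m u t = 1 := by
  classical
  have : ∃ j, t j ≠ 0 := by
    by_contra h
    push Not at h
    exact ht (funext h)
  obtain ⟨j, hj⟩ := this
  have hj1 : t j = 1 := (zmod2_cases (t j)).resolve_left hj
  rcases j with i | i
  · refine ⟨Pi.single (Sum.inr i) 1, ?_⟩
    rw [pol_eq, Finset.sum_eq_single i]
    · simp [hj1]
    · intro b _ hb
      simp [hb]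
    · intro h; exact absurd (Finset.mem_univ i) h
  · refine ⟨Pi.single (Sum.inl i) 1, ?_⟩
    rw [pol_eq, Finset.sum_eq_single i]
    · simp [hj1]
    · intro b _ hb
      simp [hb]
    · intro h; exact absurd (Finset.mem_univ i) h

theorem sum_chi_pol (t : Fin m ⊕ Fin m → ZMod 2) (ht : t ≠ 0) :
    ∑ u : Fin m ⊕ Fin m → ZMod 2, chi (pol m u t) = 0 := by
  obtain ⟨u0, hu0⟩ := exists_pol_eq_one m t ht
  have h1 : ∑ u : Fin m ⊕ Fin m → ZMod 2, chi (pol m u t) =
      ∑ u : Fin m ⊕ Fin m → ZMod 2, chi (pol m (u + u0) t) :=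
    (Equiv.sum_comp (Equiv.addRight u0) (fun u => chi (pol m u t))).symm
  have h2 : ∑ u : Fin m ⊕ Fin m → ZMod 2, chi (pol m (u + u0) t) =
      - ∑ u : Fin m ⊕ Fin m → ZMod 2, chi (pol m u t) := by
    rw [← Finset.sum_neg_distrib]
    apply Finset.sum_congr rfl
    intro u _
    rw [pol_add_left, hu0, chi_add_one]
  omega


/-- a quadratic form polarizing to `pol` -/
def IsQF (q : (Fin m ⊕ Fin m → ZMod 2) → ZMod 2) : Prop :=
  ∀ u v, q (u + v) = q u + q v + pol m u v

theorem IsQF.zero {q : (Fin m ⊕ Fin m → ZMod 2) → ZMod 2} (hq : IsQF m q) : q 0 = 0 := by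
  have h := hq 0 0
  rw [pol_zero_right, add_zero, add_zero] at h
  -- q 0 = q 0 + q 0
  have : q 0 + q 0 = q 0 + 0 := by rw [add_zero]; exact h.symm
  exact add_left_cancel this

/-- the character sum of a quadratic form is nonzero -/
theorem charsum_sq {q : (Fin m ⊕ Fin m → ZMod 2) → ZMod 2} (hq : IsQF m q) :
    (∑ v : Fin m ⊕ Fin m → ZMod 2, chi (q v)) ^ 2 = Fintype.card (Fin m ⊕ Fin m → ZMod 2) := by
  classical
  rw [sq, Finset.sum_mul_sum]
  -- ∑ u, ∑ v, chi (q u) * chi (q v)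
  have h1 : ∀ u : Fin m ⊕ Fin m → ZMod 2, ∑ v : Fin m ⊕ Fin m → ZMod 2, chi (q u) * chi (q v) =
      ∑ t : Fin m ⊕ Fin m → ZMod 2, chi (q t) * chi (pol m u t) := by
    intro u
    rw [← Equiv.sum_comp (Equiv.addLeft u) (fun v => chi (q u) * chi (q v))]
    apply Finset.sum_congr rfl
    intro t _
    simp only [Equiv.coe_addLeft]
    -- chi (q u) * chi (q (u + t)) = chi (q t) * chi (pol u t)
    rw [hq u t, chi_add, chi_add, ← mul_assoc, ← mul_assoc, ← chi_add, CharTwo.add_self_eq_zero, chi_zero, one_mul]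
  rw [Finset.sum_congr rfl (fun u _ => h1 u), Finset.sum_comm]
  have h2 : ∀ t : Fin m ⊕ Fin m → ZMod 2, ∑ u : Fin m ⊕ Fin m → ZMod 2, chi (q t) * chi (pol m u t) =
      if t = 0 then (Fintype.card (Fin m ⊕ Fin m → ZMod 2) : ℤ) else 0 := by
    intro t
    rw [← Finset.mul_sum]
    split_ifs with ht
    · subst ht
      rw [hq.zero, chi_zero, one_mul]
      simp only [pol_zero_right, chi_zero, Finset.sum_const, Finset.card_univ, nsmul_eq_mul, mul_one]
    · rw [sum_chi_pol m t ht, mul_zero]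
  rw [Finset.sum_congr rfl (fun t _ => h2 t)]
  simp

theorem charsum_ne_zero {q : (Fin m ⊕ Fin m → ZMod 2) → ZMod 2} (hq : IsQF m q) :
    (∑ v : Fin m ⊕ Fin m → ZMod 2, chi (q v)) ≠ 0 := by
  intro h
  have := charsum_sq m hq
  rw [h] at this
  have hpos : 0 < Fintype.card (Fin m ⊕ Fin m → ZMod 2) := Fintype.card_pos
  rw [zero_pow (by norm_num)] at this
  have h2 : (0 : ℤ) < (Fintype.card (Fin m ⊕ Fin m → ZMod 2) : ℤ) := by exact_mod_cast hpos
  omega


/-- the linear functional `pol · w` -/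
def polLin (w : Fin m ⊕ Fin m → ZMod 2) : (Fin m ⊕ Fin m → ZMod 2) →ₗ[ZMod 2] ZMod 2 where
  toFun u := pol m u w
  map_add' u v := pol_add_left m u v w
  map_smul' c u := by rw [pol_smul_left]; rfl

/-- the transvection `v ↦ v + pol v w • w` -/
def transv (w : Fin m ⊕ Fin m → ZMod 2) : (Fin m ⊕ Fin m → ZMod 2) →ₗ[ZMod 2] (Fin m ⊕ Fin m → ZMod 2) :=
  LinearMap.id + (polLin m w).smulRight w

theorem transv_apply (w v : Fin m ⊕ Fin m → ZMod 2) : transv m w v = v + pol m v w • w := rfl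

theorem transv_invol (w : Fin m ⊕ Fin m → ZMod 2) : Function.Involutive (transv m w) := by
  intro v
  rw [transv_apply, transv_apply, pol_add_left, pol_smul_left, pol_self, mul_zero, add_zero, add_assoc,
    ← add_smul, CharTwo.add_self_eq_zero, zero_smul, add_zero]

end Cfsg.Agent.Lib.Helper14.ArfF2
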