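import Mathlib
import Cfsg.Prelude.Def_PLocal
import Cfsg.Prelude.Def_BaumannBlocks
import Cfsg.Agent.Lib.Helper14.RegularMore
import Cfsg.Agent.Lib.Helper14.Metacyclic

/-! The Chermak–Delgado measure `|R| · |C_G(R)|` in regular `p`-groups with cyclic derived subgroup. -/

set_option autoImplicit false
set_option maxHeartbeats 400000
namespace Cfsg.Agent.Lib.Helper14
open Cfsg
open scoped commutatorElement

universe u

theorem card_le_mul_of_fiber {C : Type*} [Group C] [Finite C] (C₁ : Subgroup C) {T : Type*} [Finite T]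
    (ψ : C → T) (h : ∀ c c', ψ c = ψ c' → c⁻¹ * c' ∈ C₁) : Nat.card C ≤ Nat.card T * Nat.card C₁ := by
  have hinj : Function.Injective (fun q : C ⧸ C₁ => ψ q.out) := by
    intro q q' hqq
    have := h _ _ hqq
    rw [← QuotientGroup.eq, QuotientGroup.out_eq', QuotientGroup.out_eq'] at this
    exact this
  have h1 := Nat.card_le_card_of_injective _ hinj
  rw [Subgroup.card_eq_card_quotient_mul_card_subgroup C₁]
  exact Nat.mul_le_mul_right _ h1

section
variable {G : Type u} [Group G] [Finite G] {p : ℕ} [hp : Fact p.Prime]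

/-- a subgroup of relative index at most `p ^ e` in a `p`-subgroup contains all `p ^ e`-th powers -/
theorem pow_mem_of_relIndex_le (hG : IsPGroup p G) (H K : Subgroup G) (e : ℕ)
    (h : H.relIndex K ≤ p ^ e) {y : G} (hy : y ∈ K) : y ^ p ^ e ∈ H := by
  set Y := Subgroup.zpowers y with hY
  have hYK : Y ≤ K := by rw [hY, Subgroup.zpowers_le]; exact hy
  have hne : H.relIndex K ≠ 0 := by
    rw [Subgroup.relIndex]; exact Subgroup.index_ne_zero_of_finite
  have h1 : H.relIndex Y ≤ p ^ e := (Subgroup.relIndex_le_of_le_right hYK hne).trans h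
  have h2 : H.relIndex Y ∣ Nat.card Y := Subgroup.relIndex_dvd_card _ _
  obtain ⟨m, hm⟩ := (hG.to_subgroup Y).exists_card_eq
  rw [hm] at h2
  obtain ⟨t, -, ht⟩ := (Nat.dvd_prime_pow hp.out).mp h2
  have hte : t ≤ e := by
    rw [ht] at h1
    exact (Nat.pow_le_pow_iff_right hp.out.one_lt).mp h1
  have hn : (H.subgroupOf Y).Normal := by
    constructor
    intro n hn g
    have hc : g * n = n * g := by
      obtain ⟨g, hg⟩ := g
      obtain ⟨n, hn'⟩ := n
      apply Subtype.ext
      obtain ⟨i, rfl⟩ := Subgroup.mem_zpowers_iff.mp hg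
      obtain ⟨j, rfl⟩ := Subgroup.mem_zpowers_iff.mp hn'
      change y ^ i * y ^ j = y ^ j * y ^ i
      rw [← zpow_add, ← zpow_add, add_comm]
    rw [hc, mul_inv_cancel_right]
    exact hn
  have h3 := Subgroup.pow_index_mem (H.subgroupOf Y) (⟨y, Subgroup.mem_zpowers y⟩ : Y)
  rw [← Subgroup.relIndex, ht, Subgroup.mem_subgroupOf] at h3
  have h4 : y ^ p ^ t ∈ H := h3
  obtain ⟨k, rfl⟩ := Nat.exists_eq_add_of_le hte
  rw [pow_add, pow_mul]
  exact H.pow_mem h4 _

theorem pow_mem_of_index_le (hG : IsPGroup p G) (H : Subgroup G) (e : ℕ)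
    (h : H.index ≤ p ^ e) (y : G) : y ^ p ^ e ∈ H := by
  apply pow_mem_of_relIndex_le hG H ⊤ e _ (Subgroup.mem_top y)
  rw [Subgroup.relIndex_top_right]; exact h

theorem relIndex_eq_of_card (R R₁ : Subgroup G) (hle : R ≤ R₁) {k : ℕ}
    (hcard : Nat.card R₁ = k * Nat.card R) : R.relIndex R₁ = k := by
  have h1 := Subgroup.card_mul_index (R.subgroupOf R₁)
  have h2 : Nat.card (R.subgroupOf R₁) = Nat.card R :=
    Nat.card_congr (Subgroup.subgroupOfEquivOfLe hle).toEquiv
  rw [h2, hcard, mul_comm] at h1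
  exact Nat.eq_of_mul_eq_mul_right Nat.card_pos h1

/-- going up by index `p` -/
theorem exists_index_p_above (hG : IsPGroup p G) (R : Subgroup G) (hR : R ≠ ⊤) :
    ∃ R₁ : Subgroup G, R ≤ R₁ ∧ Nat.card R₁ = p * Nat.card R := by
  obtain ⟨r, hr⟩ := (hG.to_subgroup R).exists_card_eq
  obtain ⟨g, hg⟩ := hG.exists_card_eq
  have hlt : r < g := by
    by_contra hge
    push Not at hge
    apply hR
    apply Subgroup.eq_top_of_le_card
    rw [hr, hg]
    exact Nat.pow_le_pow_right hp.out.pos hge
  have hdvd : p ^ (r + 1) ∣ Nat.card G := by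
    rw [hg]; exact pow_dvd_pow p hlt
  obtain ⟨K, hK, hRK⟩ := Sylow.exists_subgroup_card_pow_succ hdvd hr
  exact ⟨K, hRK, by rw [hK, hr, pow_succ, mul_comm]⟩

/-- going down by index `p` above a given subgroup -/
theorem exists_index_p_below (hG : IsPGroup p G) (Z R : Subgroup G) (hZR : Z ≤ R) (hne : Z ≠ R) :
    ∃ R' : Subgroup G, Z ≤ R' ∧ R' ≤ R ∧ Nat.card R = p * Nat.card R' := by
  obtain ⟨r, hr⟩ := (hG.to_subgroup R).exists_card_eq
  obtain ⟨z, hz⟩ := (hG.to_subgroup Z).exists_card_eq
  have hz' : Nat.card (Z.subgroupOf R) = p ^ z := by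
    rw [← hz]; exact Nat.card_congr (Subgroup.subgroupOfEquivOfLe hZR).toEquiv
  have hlt : z < r := by
    by_contra hge
    push Not at hge
    apply hne
    apply Subgroup.eq_of_le_of_card_ge hZR
    rw [hr, hz]
    exact Nat.pow_le_pow_right hp.out.pos hge
  have hdvd : p ^ (r - 1) ∣ Nat.card ↥R := by
    rw [hr]; exact pow_dvd_pow p (Nat.sub_le _ _)
  obtain ⟨K, hK, hZK⟩ := Sylow.exists_subgroup_card_pow_prime_le p hdvd (Z.subgroupOf R) hz' (by omega)
  refine ⟨K.map R.subtype, ?_, Subgroup.map_subtype_le K, ?_⟩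
  · intro x hx
    exact ⟨⟨x, hZR hx⟩, hZK (Subgroup.mem_subgroupOf.mpr hx), rfl⟩
  · rw [Subgroup.card_map_of_injective R.subtype_injective, hK, hr, ← pow_succ']
    congr 1; omega

/-- the step lemma: going up by index `p` shrinks the centralizer by a factor at most `p` -/
theorem card_centralizer_le_of_index_p (hreg : IsRegularPGroup p G) (hc : IsCyclic (commutator G))
    (R R₁ : Subgroup G) (hle : R ≤ R₁) (hcard : Nat.card R₁ = p * Nat.card R) :
    Nat.card (Subgroup.centralizer (R : Set G)) ≤ p * Nat.card (Subgroup.centralizer (R₁ : Set G)) := by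
  have hG : IsPGroup p G := hreg.1
  have hne : R ≠ R₁ := by
    intro h
    rw [← h] at hcard
    have hpos : 0 < Nat.card R := Nat.card_pos
    have : 1 * Nat.card R = p * Nat.card R := by rw [one_mul]; exact hcard
    have := Nat.eq_of_mul_eq_mul_right hpos this
    exact hp.out.one_lt.ne this
  obtain ⟨u, huR₁, huR⟩ := SetLike.exists_of_lt (lt_of_le_of_ne hle hne)
  have hrel : R.relIndex R₁ = p := relIndex_eq_of_card R R₁ hle hcard
  have hup : u ^ p ∈ R := by
    have := pow_mem_of_relIndex_le hG R R₁ 1 (by rw [hrel, pow_one]) huR₁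
    rwa [pow_one] at this
  -- R₁ = R ⊔ ⟨u⟩
  have hsup : R ⊔ Subgroup.zpowers u = R₁ := by
    have hle' : R ⊔ Subgroup.zpowers u ≤ R₁ := sup_le hle (by rw [Subgroup.zpowers_le]; exact huR₁)
    apply Subgroup.eq_of_le_of_card_ge hle'
    have h1 : Nat.card R ∣ Nat.card ↥(R ⊔ Subgroup.zpowers u) := Subgroup.card_dvd_of_le le_sup_left
    obtain ⟨k, hk⟩ := h1
    have h2 : Nat.card ↥(R ⊔ Subgroup.zpowers u) ∣ Nat.card R₁ := Subgroup.card_dvd_of_le hle'
    rw [hk, hcard, mul_comm p] at h2
    have hpos : 0 < Nat.card R := Nat.card_pos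
    have h3 : k ∣ p := Nat.dvd_of_mul_dvd_mul_left hpos h2
    rcases (Nat.dvd_prime hp.out).mp h3 with h | h
    · exfalso
      rw [h, mul_one] at hk
      have : R ⊔ Subgroup.zpowers u = R := (Subgroup.eq_of_le_of_card_ge le_sup_left hk.le).symm
      apply huR
      rw [← this]
      exact le_sup_right (a := R) (Subgroup.mem_zpowers u)
    · rw [hk, h, hcard, mul_comm]
  set C := Subgroup.centralizer (R : Set G) with hC
  set C₁ := Subgroup.centralizer (R₁ : Set G) with hC₁
  have hC₁mem : ∀ c : G, c ∈ C₁ ↔ c ∈ C ∧ Commute c u := by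
    intro c
    constructor
    · intro hc₁
      refine ⟨Subgroup.centralizer_le (by exact_mod_cast hle) hc₁, ?_⟩
      exact (Subgroup.mem_centralizer_iff.mp hc₁ u huR₁).symm
    · rintro ⟨hcC, hcu⟩
      have h1 : R₁ ≤ Subgroup.centralizer {c} := by
        rw [← hsup]
        apply sup_le
        · intro r hr
          rw [Subgroup.mem_centralizer_singleton_iff]
          exact (Subgroup.mem_centralizer_iff.mp hcC r hr)
        · rw [Subgroup.zpowers_le, Subgroup.mem_centralizer_singleton_iff]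
          exact hcu.eq.symm
      rw [hC₁, Subgroup.mem_centralizer_iff]
      intro r hr
      have := h1 hr
      rw [Subgroup.mem_centralizer_singleton_iff] at this
      exact this
  -- the map c ↦ ⁅c, u⁆
  have hψmem : ∀ c : C, ⁅(c : G), u⁆ ∈ commutator G := by
    intro c
    rw [commutator_def]
    exact Subgroup.commutator_mem_commutator (Subgroup.mem_top _) (Subgroup.mem_top _)
  have hψp : ∀ c : C, (⟨⁅(c : G), u⁆, hψmem c⟩ : commutator G) ^ p = 1 := by
    intro c
    apply Subtype.ext
    rw [Subgroup.coe_pow, Subgroup.coe_one]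
    have h1 : Commute (c : G) (u ^ p ^ 1) := by
      rw [pow_one]
      exact (Subgroup.mem_centralizer_iff.mp c.2 _ hup).symm
    have := (reg_commute_pow_iff' hreg 1 (c : G) u).mp h1
    rwa [pow_one] at this
  let ψ : C → {d : commutator G // d ^ p = 1} := fun c => ⟨⟨⁅(c : G), u⁆, hψmem c⟩, hψp c⟩
  have hfib : ∀ c c' : C, ψ c = ψ c' → c⁻¹ * c' ∈ C₁.subgroupOf C := by
    intro c c' hcc
    have h1 : ⁅(c : G), u⁆ = ⁅(c' : G), u⁆ := congrArg (fun d => ((d : {d : commutator G // d ^ p = 1}).1 : G)) hcc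
    rw [Subgroup.mem_subgroupOf, hC₁mem]
    refine ⟨(c⁻¹ * c').2, ?_⟩
    simp only [commutatorElement_def] at h1
    change ((c⁻¹ * c' : C) : G) * u = u * ((c⁻¹ * c' : C) : G)
    rw [Subgroup.coe_mul, Subgroup.coe_inv]
    have h2 : (c : G) * u * (c : G)⁻¹ = (c' : G) * u * (c' : G)⁻¹ := by
      have := congrArg (· * u) h1
      simpa using this
    calc (c : G)⁻¹ * c' * u = (c : G)⁻¹ * (c' * u * (c' : G)⁻¹) * c' := by group
      _ = (c : G)⁻¹ * (c * u * (c : G)⁻¹) * c' := by rw [h2]
      _ = u * ((c : G)⁻¹ * c') := by group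
  have h1 := card_le_mul_of_fiber (C₁.subgroupOf C) ψ hfib
  have h2 : Nat.card {d : commutator G // d ^ p = 1} ≤ p :=
    card_pow_eq_one_le_of_isCyclic (commutator G) p hp.out.pos
  have hC₁C : C₁ ≤ C := fun c hc₁ => ((hC₁mem c).mp hc₁).1
  have h3 : Nat.card (C₁.subgroupOf C) = Nat.card C₁ :=
    Nat.card_congr (Subgroup.subgroupOfEquivOfLe hC₁C).toEquiv
  rw [h3] at h1
  exact h1.trans (Nat.mul_le_mul_right _ h2)

/-- upper bound for the Chermak–Delgado measure -/
theorem cd_measure_le (hreg : IsRegularPGroup p G) (hc : IsCyclic (commutator G)) :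
    ∀ (k : ℕ) (R : Subgroup G), Nat.card G - Nat.card R = k →
      Nat.card R * Nat.card (Subgroup.centralizer (R : Set G)) ≤
        Nat.card G * Nat.card (Subgroup.center G) := by
  intro k
  induction k using Nat.strong_induction_on with
  | _ k ih =>
    intro R hk
    by_cases hR : R = ⊤
    · rw [hR, Subgroup.coe_top, Subgroup.centralizer_univ, Subgroup.card_top]
    · obtain ⟨R₁, hle, hcard⟩ := exists_index_p_above hreg.1 R hR
      have hlt : Nat.card G - Nat.card R₁ < k := by
        rw [← hk, hcard]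
        have h1 : Nat.card R < p * Nat.card R := by
          have hpos : 0 < Nat.card R := Nat.card_pos
          have := hp.out.one_lt
          nlinarith
        have h2 : p * Nat.card R ≤ Nat.card G := hcard ▸ Subgroup.card_le_card_group R₁
        omega
      have h1 := ih _ hlt R₁ rfl
      have h2 := card_centralizer_le_of_index_p hreg hc R R₁ hle hcard
      calc Nat.card R * Nat.card (Subgroup.centralizer (R : Set G))
          ≤ Nat.card R * (p * Nat.card (Subgroup.centralizer (R₁ : Set G))) := Nat.mul_le_mul_left _ h2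
        _ = Nat.card R₁ * Nat.card (Subgroup.centralizer (R₁ : Set G)) := by rw [hcard]; ring
        _ ≤ _ := h1

/-- lower bound for subgroups containing the center -/
theorem cd_measure_ge (hreg : IsRegularPGroup p G) (hc : IsCyclic (commutator G)) :
    ∀ (k : ℕ) (R : Subgroup G), Nat.card R = k → Subgroup.center G ≤ R →
      Nat.card G * Nat.card (Subgroup.center G) ≤
        Nat.card R * Nat.card (Subgroup.centralizer (R : Set G)) := by
  intro k
  induction k using Nat.strong_induction_on with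
  | _ k ih =>
    intro R hk hZR
    by_cases hR : Subgroup.center G = R
    · rw [← hR]
      have : Subgroup.centralizer ((Subgroup.center G : Subgroup G) : Set G) = ⊤ := by
        rw [Subgroup.centralizer_eq_top_iff_subset]
      rw [this, Subgroup.card_top, mul_comm]
    · obtain ⟨R', hZR', hR'R, hcard⟩ := exists_index_p_below hreg.1 _ R hZR hR
      have hlt : Nat.card R' < k := by
        rw [← hk, hcard]
        have hpos : 0 < Nat.card R' := Nat.card_pos
        have := hp.out.one_lt
        nlinarith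
      have h1 := ih _ hlt R' rfl hZR'
      have h2 := card_centralizer_le_of_index_p hreg hc R' R hR'R hcard
      calc Nat.card G * Nat.card (Subgroup.center G)
          ≤ Nat.card R' * Nat.card (Subgroup.centralizer (R' : Set G)) := h1
        _ ≤ Nat.card R' * (p * Nat.card (Subgroup.centralizer (R : Set G))) := Nat.mul_le_mul_left _ h2
        _ = Nat.card R * Nat.card (Subgroup.centralizer (R : Set G)) := by rw [hcard]; ring

theorem cd_measure_eq (hreg : IsRegularPGroup p G) (hc : IsCyclic (commutator G)) (R : Subgroup G)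
    (hZR : Subgroup.center G ≤ R) :
    Nat.card R * Nat.card (Subgroup.centralizer (R : Set G)) =
      Nat.card G * Nat.card (Subgroup.center G) :=
  le_antisymm (cd_measure_le hreg hc _ R rfl) (cd_measure_ge hreg hc _ R rfl hZR)

theorem maxCentralizerProduct_eq (hreg : IsRegularPGroup p G) (hc : IsCyclic (commutator G)) :
    maxCentralizerProduct G = Nat.card G * Nat.card (Subgroup.center G) := by
  unfold maxCentralizerProduct
  apply le_antisymm
  · apply csSup_le
    · exact ⟨_, ⊤, rfl⟩
    · rintro k ⟨R, rfl⟩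
      exact cd_measure_le hreg hc _ R rfl
  · apply le_csSup
    · refine ⟨Nat.card G * Nat.card (Subgroup.center G), ?_⟩
      rintro k ⟨R, rfl⟩
      exact cd_measure_le hreg hc _ R rfl
    · exact ⟨⊤, cd_measure_eq hreg hc ⊤ le_top⟩

theorem isCentralizerLarge_iff (hreg : IsRegularPGroup p G) (hc : IsCyclic (commutator G)) (R : Subgroup G) :
    IsCentralizerLarge R ↔ Subgroup.center G ≤ R := by
  unfold IsCentralizerLarge
  rw [maxCentralizerProduct_eq hreg hc]
  constructor
  · intro h
    set R₁ := R ⊔ Subgroup.center G with hR₁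
    have h1 : Subgroup.centralizer (R₁ : Set G) = Subgroup.centralizer (R : Set G) := by
      apply le_antisymm
      · exact Subgroup.centralizer_le (by exact_mod_cast (le_sup_left : R ≤ R₁))
      · intro c hc'
        have h2 : R₁ ≤ Subgroup.centralizer {c} := by
          apply sup_le
          · intro r hr
            rw [Subgroup.mem_centralizer_singleton_iff]
            exact (Subgroup.mem_centralizer_iff.mp hc' r hr)
          · intro z hz
            rw [Subgroup.mem_centralizer_singleton_iff]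
            exact (Subgroup.mem_center_iff.mp hz c).symm
        rw [Subgroup.mem_centralizer_iff]
        intro r hr
        have := h2 hr
        rw [Subgroup.mem_centralizer_singleton_iff] at this
        exact this
    have h3 := cd_measure_le hreg hc _ R₁ rfl
    rw [h1, ← h] at h3
    have hpos : 0 < Nat.card (Subgroup.centralizer (R : Set G)) := Nat.card_pos
    have h4 : Nat.card R₁ ≤ Nat.card R := Nat.le_of_mul_le_mul_right h3 hpos
    have h5 : R = R₁ := Subgroup.eq_of_le_of_card_ge le_sup_left h4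
    rw [h5]
    exact le_sup_right
  · intro h
    exact cd_measure_eq hreg hc R h

end

section ClassSize
variable {G : Type u} [Group G] [Finite G] {p : ℕ} [hp : Fact p.Prime]

theorem orderOf_pow_prime_pow {H : Type*} [Group H] {x : H} {n : ℕ} (hx : orderOf x = p ^ n) (t : ℕ)
    (ht : t ≤ n) : orderOf (x ^ p ^ t) = p ^ (n - t) := by
  rw [orderOf_pow_of_dvd (pow_pos hp.out.pos t).ne' (by rw [hx]; exact pow_dvd_pow p ht), hx,
    Nat.pow_div ht hp.out.pos]

/-- in a cyclic group of order `p ^ n`, the elements of order dividing `p ^ (n - s)` are the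
`p ^ s`-th powers -/
theorem mem_zpowers_pow_of_pow_eq_one {H : Type*} [Group H] {x : H} {n : ℕ} (hx : orderOf x = p ^ n)
    (s : ℕ) (hs : s ≤ n) {d : H} (hd : d ∈ Subgroup.zpowers x) (hd1 : d ^ p ^ (n - s) = 1) :
    d ∈ Subgroup.zpowers (x ^ p ^ s) := by
  obtain ⟨k, rfl⟩ := Subgroup.mem_zpowers_iff.mp hd
  rw [← zpow_natCast, ← zpow_mul, ← orderOf_dvd_iff_zpow_eq_one, hx] at hd1
  have h1 : ((p ^ n : ℕ) : ℤ) = (p : ℤ) ^ s * (p : ℤ) ^ (n - s) := by
    rw [← pow_add]; push_cast; congr 1; omega
  rw [h1] at hd1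
  have h2 : ((p ^ (n - s) : ℕ) : ℤ) = (p : ℤ) ^ (n - s) := by push_cast; rfl
  rw [h2] at hd1
  have h3 : (p : ℤ) ^ (n - s) ≠ 0 := pow_ne_zero _ (by exact_mod_cast hp.out.ne_zero)
  obtain ⟨j, hj⟩ := Int.dvd_of_mul_dvd_mul_right h3 hd1
  refine Subgroup.mem_zpowers_iff.mpr ⟨j, ?_⟩
  rw [hj, ← zpow_natCast, ← zpow_mul]
  push_cast
  rfl

/-- class size bound for `p ^ s`-th powers -/
theorem index_centralizer_le_of_mem_regAgemo (hreg : IsRegularPGroup p G) (hc : IsCyclic (commutator G))
    {n : ℕ} (hn : Nat.card (commutator G) = p ^ n) (s : ℕ) (hs : s ≤ n) {g : G}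
    (hg : g ∈ regAgemo hreg s) : (Subgroup.centralizer ({g} : Set G)).index ≤ p ^ (n - s) := by
  obtain ⟨h, rfl⟩ := hg
  set g := h ^ p ^ s with hgdef
  set C := Subgroup.centralizer ({g} : Set G) with hC
  have hgn : g ^ p ^ (n - s) ∈ Subgroup.center G := by
    apply regAgemo_le_center hreg hn
    refine ⟨h, ?_⟩
    rw [hgdef, ← pow_mul, ← pow_add, Nat.add_sub_cancel' hs]
  have hψmem : ∀ y : G, ⁅y, g⁆ ∈ commutator G := by
    intro y
    rw [commutator_def]
    exact Subgroup.commutator_mem_commutator (Subgroup.mem_top _) (Subgroup.mem_top _)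
  have hψp : ∀ y : G, (⟨⁅y, g⁆, hψmem y⟩ : commutator G) ^ p ^ (n - s) = 1 := by
    intro y
    apply Subtype.ext
    rw [Subgroup.coe_pow, Subgroup.coe_one]
    apply (reg_commute_pow_iff' hreg (n - s) y g).mp
    exact (Subgroup.mem_center_iff.mp hgn y)
  let ψ : G → {d : commutator G // d ^ p ^ (n - s) = 1} := fun y => ⟨⟨⁅y, g⁆, hψmem y⟩, hψp y⟩
  have hfib : ∀ y y' : G, ψ y = ψ y' → y⁻¹ * y' ∈ C := by
    intro y y' hyy
    have h1 : ⁅y, g⁆ = ⁅y', g⁆ :=
      congrArg (fun d => ((d : {d : commutator G // d ^ p ^ (n - s) = 1}).1 : G)) hyy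
    rw [hC, Subgroup.mem_centralizer_singleton_iff]
    simp only [commutatorElement_def] at h1
    have h2 : y * g * y⁻¹ = y' * g * y'⁻¹ := by
      have := congrArg (· * g) h1
      simpa using this
    calc y⁻¹ * y' * g = y⁻¹ * (y' * g * y'⁻¹) * y' := by group
      _ = y⁻¹ * (y * g * y⁻¹) * y' := by rw [h2]
      _ = g * (y⁻¹ * y') := by group
  have h1 := card_le_mul_of_fiber C ψ hfib
  have h2 : Nat.card {d : commutator G // d ^ p ^ (n - s) = 1} ≤ p ^ (n - s) :=
    card_pow_eq_one_le_of_isCyclic (commutator G) _ (pow_pos hp.out.pos _)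
  have h3 := Subgroup.card_mul_index C
  rw [← h3, mul_comm] at h1
  have hpos : 0 < Nat.card C := Nat.card_pos
  exact (Nat.le_of_mul_le_mul_right h1 hpos).trans h2

/-- elements with small class are `p ^ s`-th powers -/
theorem mem_regAgemo_of_index_centralizer_le (hp2 : p ≠ 2) (hmc : IsMetacyclic G)
    (hreg : IsRegularPGroup p G) {n : ℕ} (hn : Nat.card (commutator G) = p ^ n) (s : ℕ) (hs : s ≤ n)
    {g : G} (hg : (Subgroup.centralizer ({g} : Set G)).index ≤ p ^ (n - s)) :
    g ∈ regAgemo hreg s := by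
  have hG : IsPGroup p G := hreg.1
  obtain ⟨N, hN, hNc, hQc⟩ := id hmc
  obtain ⟨a, b, hab⟩ := exists_isMetaPair N
  set c := ⁅a, b⁆ with hcdef
  have hcN : c ∈ N := commutatorElement_mem_of_normal N hab.a_mem b
  have hco : orderOf c = p ^ n := hab.orderOf_commutatorElement hn
  have hcomm : commutator G = Subgroup.zpowers c := hab.commutator_eq
  set M := Subgroup.zpowers (c ^ p ^ s) with hM
  have hMn : M.Normal := hab.zpowers_normal (N.pow_mem hcN _)
  -- step 1
  have h1 : ∀ y : G, ⁅g, y⁆ ∈ M := by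
    intro y
    have h2 := pow_mem_of_index_le hG _ (n - s) hg y
    rw [Subgroup.mem_centralizer_singleton_iff] at h2
    have h3 : Commute g (y ^ p ^ (n - s)) := h2.symm
    have h4 := (reg_commute_pow_iff' hreg (n - s) g y).mp h3
    have h5 : ⁅g, y⁆ ∈ Subgroup.zpowers c := by
      rw [← hcomm, commutator_def]
      exact Subgroup.commutator_mem_commutator (Subgroup.mem_top _) (Subgroup.mem_top _)
    exact mem_zpowers_pow_of_pow_eq_one hco s hs h5 h4
  -- step 2
  have hmc' : IsMetacyclic (G ⧸ M) := isMetacyclic_quotient hmc M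
  have hG' : IsPGroup p (G ⧸ M) := hG.to_quotient M
  have hreg' : IsRegularPGroup p (G ⧸ M) := isRegularPGroup_of_isMetacyclic hp2 hG' hmc'
  have hqc : commutator (G ⧸ M) = Subgroup.zpowers (QuotientGroup.mk' M c) := by
    rw [commutator_def, ← Subgroup.map_top_of_surjective _ (QuotientGroup.mk'_surjective M),
      ← Subgroup.map_commutator, ← commutator_def, hcomm, MonoidHom.map_zpowers]
  have hoc : orderOf (QuotientGroup.mk' M c) = p ^ s := by
    apply orderOf_eq_prime_pow_of_iff hG'
    intro t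
    rw [← map_pow, QuotientGroup.mk'_apply, QuotientGroup.eq_one_iff]
    constructor
    · intro hmem
      by_contra hlt
      push Not at hlt
      have h2 := Subgroup.orderOf_dvd_natCard M hmem
      rw [hM, Nat.card_zpowers, orderOf_pow_prime_pow hco s hs,
        orderOf_pow_prime_pow hco t (by omega),
        Nat.pow_dvd_pow_iff_le_right hp.out.one_lt] at h2
      omega
    · intro hst
      obtain ⟨k, rfl⟩ := Nat.exists_eq_add_of_le hst
      rw [pow_add, pow_mul]
      exact Subgroup.pow_mem _ (Subgroup.mem_zpowers _) _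
  have hn' : Nat.card (commutator (G ⧸ M)) = p ^ s := by
    rw [hqc, Nat.card_zpowers, hoc]
  -- step 3
  have hgc : (QuotientGroup.mk' M g) ∈ Subgroup.center (G ⧸ M) := by
    rw [Subgroup.mem_center_iff]
    intro q
    obtain ⟨y, rfl⟩ := QuotientGroup.mk'_surjective M q
    symm
    rw [← commutatorElement_eq_one_iff_mul_comm, ← map_commutatorElement, QuotientGroup.mk'_apply,
      QuotientGroup.eq_one_iff]
    exact h1 y
  -- step 4
  rw [(metacyclic_center hreg' hmc' hn').2.1] at hgc
  obtain ⟨q, hq⟩ := hgc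
  obtain ⟨h, rfl⟩ := QuotientGroup.mk'_surjective M q
  rw [← map_pow, QuotientGroup.mk'_apply, QuotientGroup.mk'_apply, QuotientGroup.eq] at hq
  obtain ⟨j, hj⟩ := Subgroup.mem_zpowers_iff.mp hq
  have h6 : g = h ^ p ^ s * (c ^ j) ^ p ^ s := by
    have : (c ^ p ^ s) ^ j = (c ^ j) ^ p ^ s := by
      rw [← zpow_natCast, ← zpow_natCast, ← zpow_mul, ← zpow_mul, mul_comm]
    rw [← this, hj]; group
  rw [h6]
  exact Subgroup.mul_mem _ ⟨h, rfl⟩ ⟨c ^ j, rfl⟩

/-- class sizes and power subgroups in metacyclic `p`-groups, `p` odd -/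
theorem mem_regAgemo_iff_index_centralizer_le (hp2 : p ≠ 2) (hmc : IsMetacyclic G)
    (hreg : IsRegularPGroup p G) {n : ℕ} (hn : Nat.card (commutator G) = p ^ n) (s : ℕ) (hs : s ≤ n)
    (g : G) : g ∈ regAgemo hreg s ↔ (Subgroup.centralizer ({g} : Set G)).index ≤ p ^ (n - s) :=
  ⟨index_centralizer_le_of_mem_regAgemo hreg (isCyclic_commutator_of_isMetacyclic hmc) hn s hs,
    mem_regAgemo_of_index_centralizer_le hp2 hmc hreg hn s hs⟩

end ClassSize

end Cfsg.Agent.Lib.Helper14
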