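import Mathlib

/-!
# Class sizes and Sylow centralizers (helper14)

* `exists_conj_mem_centralizer`: if `p ∤ |x^G|` then a conjugate of `x` centralizes the Sylow
  `p`-subgroup `P`.
* `ncard_cover_le`: counting a union of conjugates.
-/

set_option autoImplicit false

namespace Cfsg.Agent.Lib.Helper14.ClassSize

open Subgroup

variable {G : Type*} [Group G]

theorem exists_conj_mem_centralizer [Finite G] {p : ℕ} [Fact p.Prime] (P : Sylow p G) (x : G)
    (h : ¬ p ∣ (centralizer ({x} : Set G)).index) :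
    ∃ g : G, g * x * g⁻¹ ∈ centralizer ((P : Subgroup G) : Set G) := by
  set C := centralizer ({x} : Set G) with hC
  have hne := P.isPGroup'.nonempty_fixed_point_of_prime_not_dvd_card (G ⧸ C) h
  obtain ⟨q, hq⟩ := hne
  induction q using QuotientGroup.induction_on with
  | H g =>
  refine ⟨g, ?_⟩
  rw [Subgroup.mem_centralizer_iff]
  intro u hu
  have h1 := hq ⟨u⁻¹, inv_mem hu⟩
  have h2 : ((⟨u⁻¹, inv_mem hu⟩ : ↥(P : Subgroup G)) • (g : G ⧸ C)) = ((u⁻¹ * g : G) : G ⧸ C) := rfl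
  rw [h2, QuotientGroup.eq] at h1
  have h3 : (u⁻¹ * g)⁻¹ * g = g⁻¹ * u * g := by group
  rw [h3, hC, Subgroup.mem_centralizer_iff] at h1
  have h4 := h1 x rfl
  calc u * (g * x * g⁻¹) = g * (g⁻¹ * u * g * x) * g⁻¹ := by group
    _ = g * (x * (g⁻¹ * u * g)) * g⁻¹ := by rw [← h4]
    _ = g * x * g⁻¹ * u := by group

/-- A set each of whose nonidentity elements is conjugate into `C`, where `N` normalizes `C`:
the number of nonidentity elements is at most `|G : N| (|C| - 1)`. -/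
theorem ncard_cover_le [Finite G] (N C : Subgroup G) (hNC : N ≤ normalizer (C : Set G))
    (X : Set G) (hX : ∀ x ∈ X, ∃ g : G, g * x * g⁻¹ ∈ C) :
    (X \ {1}).ncard ≤ N.index * (Nat.card C - 1) := by
  classical
  let f : (G ⧸ N) × {c : ↥C // c ≠ 1} → G := fun qc =>
    qc.1.out * (qc.2.1 : G) * (qc.1.out)⁻¹
  have hsub : X \ {1} ⊆ Set.range f := by
    rintro x ⟨hxX, hx1⟩
    obtain ⟨g, hg⟩ := hX x hxX
    obtain ⟨n, hn⟩ := QuotientGroup.mk_out_eq_mul N g⁻¹
    -- out = g⁻¹ * n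
    set q : G ⧸ N := QuotientGroup.mk g⁻¹ with hq
    have hnN : (n : G)⁻¹ ∈ normalizer (C : Set G) := hNC (inv_mem n.2)
    have hc : (n : G)⁻¹ * (g * x * g⁻¹) * ((n : G)⁻¹)⁻¹ ∈ C :=
      (Subgroup.mem_normalizer_iff.mp hnN _).mp hg
    have hc1 : (⟨_, hc⟩ : ↥C) ≠ 1 := by
      intro h
      have h2 := congrArg Subtype.val h
      simp only [Subgroup.coe_one] at h2
      apply hx1
      have : x = g⁻¹ * (n : G) * ((n : G)⁻¹ * (g * x * g⁻¹) * ((n : G)⁻¹)⁻¹) * ((n : G)⁻¹ * g) := by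
        group
      rw [Set.mem_singleton_iff, this, h2]
      group
    refine ⟨(q, ⟨⟨_, hc⟩, hc1⟩), ?_⟩
    show q.out * ((n : G)⁻¹ * (g * x * g⁻¹) * ((n : G)⁻¹)⁻¹) * (q.out)⁻¹ = x
    rw [hn]
    group
  have hfin : (Set.range f).Finite := Set.toFinite _
  calc (X \ {1}).ncard ≤ (Set.range f).ncard := Set.ncard_le_ncard hsub hfin
    _ ≤ Nat.card ((G ⧸ N) × {c : ↥C // c ≠ 1}) := by
        rw [← Set.image_univ]
        calc (f '' Set.univ).ncard ≤ (Set.univ : Set ((G ⧸ N) × {c : ↥C // c ≠ 1})).ncard :=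
              Set.ncard_image_le (Set.toFinite _)
          _ = Nat.card ((G ⧸ N) × {c : ↥C // c ≠ 1}) := Set.ncard_univ _
    _ = N.index * (Nat.card C - 1) := by
        rw [Nat.card_prod]
        congr 1
        have : Nat.card {c : ↥C // c ≠ 1} = Nat.card ↥C - 1 := by
          have : Fintype ↥C := Fintype.ofFinite _
          rw [Nat.card_eq_fintype_card, Nat.card_eq_fintype_card]
          exact Fintype.card_subtype_compl (fun c : ↥C => c = 1) |>.trans (by simp)
        exact this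

end Cfsg.Agent.Lib.Helper14.ClassSize
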