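import Mathlib

set_option autoImplicit false

open Pointwise

namespace Cfsg.Agent.Lib.Helper14

open MulAction in
/-- A finite group is not the union of the conjugates of a proper subgroup. -/
theorem exists_not_mem_conj {G : Type*} [Group G] [Finite G] (M : Subgroup G) (hM : M ≠ ⊤) :
    ∃ g : G, ∀ x : G, x⁻¹ * g * x ∉ M := by
  classical
  by_contra hcon
  push Not at hcon
  have := Fintype.ofFinite G
  have hB := sum_card_fixedBy_eq_card_orbits_mul_card_group G (G ⧸ M)
  have horb : Fintype.card (Quotient (orbitRel G (G ⧸ M))) = 1 := by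
    have h1 := (pretransitive_iff_subsingleton_quotient G (G ⧸ M)).1 inferInstance
    exact Fintype.card_eq_one_iff.mpr ⟨Quotient.mk'' (QuotientGroup.mk 1), fun y => Subsingleton.elim _ _⟩
  rw [horb, one_mul] at hB
  have hne : ∀ g : G, 1 ≤ Fintype.card (fixedBy (G ⧸ M) g) := by
    intro g
    obtain ⟨x, hx⟩ := hcon g
    refine Fintype.card_pos_iff.mpr ⟨⟨QuotientGroup.mk x, ?_⟩⟩
    rw [mem_fixedBy, MulAction.Quotient.smul_mk, QuotientGroup.eq]
    simpa [mul_assoc] using M.inv_mem hx
  have hone : 2 ≤ Fintype.card (fixedBy (G ⧸ M) (1 : G)) := by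
    have hidx : 2 ≤ M.index := by
      have h1 : M.index ≠ 1 := fun h => hM (Subgroup.index_eq_one.mp h)
      have h0 : M.index ≠ 0 := Subgroup.index_ne_zero_of_finite
      omega
    have : Fintype.card (fixedBy (G ⧸ M) (1 : G)) = M.index := by
      rw [Subgroup.index, Nat.card_eq_fintype_card]
      apply Fintype.card_congr
      exact Equiv.subtypeUnivEquiv (fun a => by simp)
    omega
  have hsum : Fintype.card G + 1 ≤ ∑ g : G, Fintype.card (fixedBy (G ⧸ M) g) := by
    rw [← Finset.add_sum_erase Finset.univ _ (Finset.mem_univ (1 : G))]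
    have h3 : ∑ g ∈ Finset.univ.erase (1 : G), 1 ≤ ∑ g ∈ Finset.univ.erase (1 : G), Fintype.card (fixedBy (G ⧸ M) g) :=
      Finset.sum_le_sum fun g _ => hne g
    rw [Finset.sum_const, smul_eq_mul, mul_one, Finset.card_erase_of_mem (Finset.mem_univ _), Finset.card_univ] at h3
    have : 0 < Fintype.card G := Fintype.card_pos
    omega
  omega

/-- Same, phrased with the pointwise action of `MulAut.conj`. -/
theorem exists_not_mem_conj_smul {G : Type*} [Group G] [Finite G] (M : Subgroup G) (hM : M ≠ ⊤) :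
    ∃ g : G, ∀ x : G, g ∉ MulAut.conj x • M := by
  obtain ⟨g, hg⟩ := exists_not_mem_conj M hM
  refine ⟨g, fun x hx => hg x ?_⟩
  rw [Subgroup.mem_pointwise_smul_iff_inv_smul_mem] at hx
  simpa [MulAut.smul_def, mul_assoc] using hx

end Cfsg.Agent.Lib.Helper14
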