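import Mathlib
import Cfsg.Agent.Lib.Helper14.CopFF3

/-!
# Coprime action on the FF-structure: the norm element and generation (helper14)
-/

set_option autoImplicit false

namespace Cfsg.Agent.Lib.Helper14.CopFF

open Cfsg Subgroup Cfsg.Agent.Lib.Helper14.Off Cfsg.Agent.S0598
open scoped commutatorElement

variable {G : Type*} [Group G]

theorem mem_zpowers_pow_of_coprime (t : G) (m : ℕ) (h : (orderOf t).Coprime m) :
    t ∈ zpowers (t ^ m) := by
  have hc : (Nat.card ↥(zpowers t)).Coprime m := by rw [Nat.card_zpowers]; exact h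
  obtain ⟨s, hs⟩ := (powCoprime hc).surjective ⟨t, mem_zpowers t⟩
  obtain ⟨k, hk⟩ := Subgroup.mem_zpowers_iff.mp s.2
  have h1 : (s : G) ^ m = t := by
    have := congrArg Subtype.val hs
    simpa using this
  rw [Subgroup.mem_zpowers_iff]
  refine ⟨k, ?_⟩
  calc (t ^ m) ^ k = (t ^ k) ^ m := by
        rw [← zpow_natCast, ← zpow_mul, mul_comm, zpow_mul, zpow_natCast]
    _ = (s : G) ^ m := by rw [hk]
    _ = t := h1

/-- the product of all `X`-conjugates of `t` (when they commute pairwise) -/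
noncomputable def nu [Finite G] (X : Subgroup G) (t : G) : G := by
  classical
  letI : Fintype ↥X := Fintype.ofFinite _
  exact if hc : ∀ x y : ↥X, Commute ((x : G) * t * (x : G)⁻¹) ((y : G) * t * (y : G)⁻¹) then
    (Finset.univ : Finset ↥X).noncommProd (fun x => (x : G) * t * (x : G)⁻¹)
      (fun x _ y _ _ => hc x y)
  else 1

theorem nu_spec [Finite G] (X : Subgroup G) (t : G)
    (hc : ∀ x y : ↥X, Commute ((x : G) * t * (x : G)⁻¹) ((y : G) * t * (y : G)⁻¹)) :
    ∃ inst : Fintype ↥X, nu X t =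
      (@Finset.univ _ inst).noncommProd (fun x => (x : G) * t * (x : G)⁻¹)
        (fun x _ y _ _ => hc x y) := by
  refine ⟨Fintype.ofFinite _, ?_⟩
  unfold nu
  rw [dif_pos hc]

theorem nu_conj [Finite G] (X : Subgroup G) (t : G)
    (hc : ∀ x y : ↥X, Commute ((x : G) * t * (x : G)⁻¹) ((y : G) * t * (y : G)⁻¹))
    (y : G) (hy : y ∈ X) : y * nu X t * y⁻¹ = nu X t := by
  obtain ⟨inst, hnu⟩ := nu_spec X t hc
  rw [hnu]
  have h1 := Finset.map_noncommProd (@Finset.univ _ inst) (fun x : ↥X => (x : G) * t * (x : G)⁻¹)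
    (fun x _ y _ _ => hc x y) (MulAut.conj y)
  rw [MulAut.conj_apply] at h1
  rw [h1]
  have h2 := noncommProd_univ_equiv (Equiv.mulLeft (⟨y, hy⟩ : ↥X))
    (fun x : ↥X => (x : G) * t * (x : G)⁻¹) (fun x _ y _ _ => hc x y)
    (fun x _ z _ _ => hc _ _)
  rw [← h2]
  apply Finset.noncommProd_congr rfl
  intro x _
  simp only [MulAut.conj_apply, Equiv.coe_mulLeft, Subgroup.coe_mul, mul_inv_rev]
  group

theorem nu_mem [Finite G] (X : Subgroup G) (t : G)
    (hc : ∀ x y : ↥X, Commute ((x : G) * t * (x : G)⁻¹) ((y : G) * t * (y : G)⁻¹))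
    (K : Subgroup G) (h : ∀ x ∈ X, x * t * x⁻¹ ∈ K) : nu X t ∈ K := by
  obtain ⟨inst, hnu⟩ := nu_spec X t hc
  rw [hnu]
  exact Subgroup.noncommProd_mem K _ (fun c _ => h c c.2)

theorem nu_split [Finite G] (X : Subgroup G) (t : G)
    (hc : ∀ x y : ↥X, Commute ((x : G) * t * (x : G)⁻¹) ((y : G) * t * (y : G)⁻¹))
    (N D : Subgroup G) (hN : ∀ x ∈ X, x ∈ N → x * t * x⁻¹ = t)
    (hD : ∀ x ∈ X, x ∉ N → x * t * x⁻¹ ∈ D) :
    ∃ c ∈ D, nu X t = t ^ Nat.card ↥(N.subgroupOf X) * c := by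
  classical
  obtain ⟨inst, hnu⟩ := nu_spec X t hc
  rw [hnu]
  have hu : (@Finset.univ _ inst) =
      (@Finset.univ _ inst).filter (fun x : ↥X => (x : G) ∈ N) ∪
      (@Finset.univ _ inst).filter (fun x : ↥X => ¬ (x : G) ∈ N) :=
    (Finset.filter_union_filter_not_eq _ _).symm
  have hd : Disjoint ((@Finset.univ _ inst).filter (fun x : ↥X => (x : G) ∈ N))
      ((@Finset.univ _ inst).filter (fun x : ↥X => ¬ (x : G) ∈ N)) :=
    Finset.disjoint_filter_filter_not _ _ _
  have hcomm_u : ((((@Finset.univ _ inst).filter (fun x : ↥X => (x : G) ∈ N) ∪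
      (@Finset.univ _ inst).filter (fun x : ↥X => ¬ (x : G) ∈ N) : Finset ↥X)) : Set ↥X).Pairwise
      (Function.onFun Commute (fun x : ↥X => (x : G) * t * (x : G)⁻¹)) :=
    fun x _ y _ _ => hc x y
  have e4 := Finset.noncommProd_union_of_disjoint hd
    (fun x : ↥X => (x : G) * t * (x : G)⁻¹) hcomm_u
  have e1 : (@Finset.univ _ inst).noncommProd (fun x : ↥X => (x : G) * t * (x : G)⁻¹)
      (fun x _ y _ _ => hc x y) =
      ((@Finset.univ _ inst).filter (fun x : ↥X => (x : G) ∈ N) ∪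
      (@Finset.univ _ inst).filter (fun x : ↥X => ¬ (x : G) ∈ N)).noncommProd
        (fun x : ↥X => (x : G) * t * (x : G)⁻¹) hcomm_u :=
    Finset.noncommProd_congr hu (fun x _ => rfl) _
  have e2 := Finset.noncommProd_eq_pow_card
    ((@Finset.univ _ inst).filter (fun x : ↥X => (x : G) ∈ N))
    (fun x : ↥X => (x : G) * t * (x : G)⁻¹) (fun x _ y _ _ => hc x y) t
    (fun x hx => hN x x.2 (Finset.mem_filter.mp hx).2)
  have e3 : ((@Finset.univ _ inst).filter (fun x : ↥X => (x : G) ∈ N)).card =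
      Nat.card ↥(N.subgroupOf X) := by
    rw [Nat.card_eq_fintype_card, Fintype.card_subtype]
    rfl
  refine ⟨((@Finset.univ _ inst).filter (fun x : ↥X => ¬ (x : G) ∈ N)).noncommProd
    (fun x : ↥X => (x : G) * t * (x : G)⁻¹) (fun x _ y _ _ => hc x y),
    Subgroup.noncommProd_mem D _ (fun x hx => hD x x.2 (Finset.mem_filter.mp hx).2), ?_⟩
  rw [← e3, ← e2]
  exact e1.trans e4

section act

variable [Finite G] {p : ℕ} [hp : Fact p.Prime] (V H : Subgroup G)
  (hV : Cfsg.IsElementaryAbelian p V) (hHV : H ≤ normalizer (V : Set G))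
  (hf : H ⊓ centralizer (V : Set G) = ⊥)
  (hS1 : Subgroup.centralizer (Cfsg.pPrimeCore p ↥H : Set ↥H) ≤ Cfsg.pPrimeCore p ↥H)
  (hS3 : H = ⨆ A : {A : Subgroup G // A ≤ H ∧ Cfsg.IsBestOffenderOn p V A}, (A : Subgroup G))
  (hH1 : H ≠ ⊥)
  {q : ℕ} [hq : Fact q.Prime] (X : Subgroup G) (hXq : IsPGroup q X)
  (hXV : X ≤ normalizer (V : Set G)) (hXH : X ≤ normalizer (H : Set G))
  (hqH : ¬ q ∣ Nat.card H)

include hV hHV hf hS1 hS3 hH1 hXq hXV hXH hqH in
/-- conjugates under `X` of an element of a component: fixed or moved into `F` -/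
theorem conj_mem_F {E : Subgroup G} (hE : IsEE p V H E) {t : G} (ht : t ∈ E) {z : G} (hz : z ∈ X) :
    (z ∈ normalizer (E : Set G) → z * t * z⁻¹ = t) ∧
    (z ∉ normalizer (E : Set G) →
      z * t * z⁻¹ ∈ H ⊓ centralizer ((⁅V, E⁆ : Subgroup G) : Set G)) := by
  constructor
  · intro hzN
    have := stab_le_centralizer V H hV hHV hf hS1 hS3 hH1 X hXq hXV hqH hE
      (Subgroup.mem_inf.mpr ⟨hz, hzN⟩)
    have h1 := Subgroup.mem_centralizer_iff.mp this t ht
    rw [← h1]; group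
  · intro hzN
    have hE' : IsEE p V H (cjs z E) := IsEE.conj V H hE (hXV hz) (hXH hz)
    have hne : E ≠ cjs z E := by
      intro h
      exact hzN ((Cfsg.Agent.Lib.Helper14.SubnPair.mem_normalizer_iff_cjs z E).mpr h.symm)
    have := IsEE.le_F_of_ne V H hV hHV hf hS1 hS3 hH1 hE hE' hne
    exact this ((mem_cjs_iff z E _).mpr ⟨t, ht, rfl⟩)

include hV hHV hf hS1 hS3 hH1 hXq hXV hXH hqH in
theorem comm_conj {E : Subgroup G} (hE : IsEE p V H E) {t : G} (ht : t ∈ E) (x y : ↥X) :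
    Commute ((x : G) * t * (x : G)⁻¹) ((y : G) * t * (y : G)⁻¹) := by
  have hc := IsEE.comp V H hV hHV hf hS1 hS3 hH1 hE
  have hz : (x : G)⁻¹ * (y : G) ∈ X := X.mul_mem (X.inv_mem x.2) y.2
  obtain ⟨h1, h2⟩ := conj_mem_F V H hV hHV hf hS1 hS3 hH1 X hXq hXV hXH hqH hE ht hz
  have hy : (y : G) * t * (y : G)⁻¹ =
      (x : G) * (((x : G)⁻¹ * (y : G)) * t * ((x : G)⁻¹ * (y : G))⁻¹) * (x : G)⁻¹ := by group
  by_cases hzN : (x : G)⁻¹ * (y : G) ∈ normalizer (E : Set G)
  · rw [hy, h1 hzN]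
  · have h3 := h2 hzN
    have hEF : E ≤ centralizer ((H ⊓ centralizer ((⁅V, E⁆ : Subgroup G) : Set G) : Subgroup G) : Set G) :=
      Subgroup.commutator_eq_bot_iff_le_centralizer.mp hc.comm_F
    have h4 := Subgroup.mem_centralizer_iff.mp (hEF ht) _ h3
    rw [hy]
    change (x : G) * t * (x : G)⁻¹ * _ = _ * ((x : G) * t * (x : G)⁻¹)
    calc (x : G) * t * (x : G)⁻¹ *
          ((x : G) * (((x : G)⁻¹ * (y : G)) * t * ((x : G)⁻¹ * (y : G))⁻¹) * (x : G)⁻¹)
        = (x : G) * (t * (((x : G)⁻¹ * (y : G)) * t * ((x : G)⁻¹ * (y : G))⁻¹)) * (x : G)⁻¹ := by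
          group
      _ = (x : G) * ((((x : G)⁻¹ * (y : G)) * t * ((x : G)⁻¹ * (y : G))⁻¹) * t) * (x : G)⁻¹ := by
          rw [h4]
      _ = _ := by group

include hV hHV hf hS1 hS3 hH1 hXq hXV hXH hqH in
/-- the norm element is a fixed point of `X` in `H` -/
theorem nu_mem_fixed {E : Subgroup G} (hE : IsEE p V H E) {t : G} (ht : t ∈ E) :
    nu X t ∈ H ⊓ centralizer (X : Set G) := by
  have hc := IsEE.comp V H hV hHV hf hS1 hS3 hH1 hE
  have hcomm := comm_conj V H hV hHV hf hS1 hS3 hH1 X hXq hXV hXH hqH hE ht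
  refine Subgroup.mem_inf.mpr ⟨?_, ?_⟩
  · apply nu_mem X t hcomm
    intro x hx
    exact (Subgroup.mem_normalizer_iff.mp (hXH hx) t).mp (hc.le ht)
  · rw [Subgroup.mem_centralizer_iff]
    intro y hy
    have := nu_conj X t hcomm y hy
    calc y * nu X t = y * nu X t * y⁻¹ * y := by group
      _ = nu X t * y := by rw [this]

include hV hHV hf hS1 hS3 hH1 hXq hXV hXH hqH in
/-- the norm element is `t ^ m` up to `F` -/
theorem nu_eq_pow_mul {E : Subgroup G} (hE : IsEE p V H E) {t : G} (ht : t ∈ E) :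
    ∃ c ∈ H ⊓ centralizer ((⁅V, E⁆ : Subgroup G) : Set G),
      nu X t = t ^ Nat.card ↥((normalizer (E : Set G)).subgroupOf X) * c := by
  have hcomm := comm_conj V H hV hHV hf hS1 hS3 hH1 X hXq hXV hXH hqH hE ht
  apply nu_split X t hcomm
  · intro x hx
    exact (conj_mem_F V H hV hHV hf hS1 hS3 hH1 X hXq hXV hXH hqH hE ht hx).1
  · intro x hx
    exact (conj_mem_F V H hV hHV hf hS1 hS3 hH1 X hXq hXV hXH hqH hE ht hx).2

include hXq hqH in
theorem coprime_card_stab (N : Subgroup G) {t : G} (ht : t ∈ H) :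
    (orderOf t).Coprime (Nat.card ↥(N.subgroupOf X)) := by
  obtain ⟨k, hk⟩ := hXq.exists_card_eq
  have h1 : Nat.card ↥(N.subgroupOf X) ∣ q ^ k := by
    rw [← hk]; exact Subgroup.card_subgroup_dvd_card _
  have h2 : orderOf t ∣ Nat.card H := Subgroup.orderOf_dvd_natCard H ht
  have h3 : (Nat.card H).Coprime (q ^ k) :=
    Nat.Coprime.pow_right k ((Nat.Prime.coprime_iff_not_dvd hq.out).mpr hqH).symm
  exact Nat.Coprime.coprime_dvd_left h2 (Nat.Coprime.coprime_dvd_right h1 h3)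

include hV hHV hf hS1 hS3 hH1 hXq hXV hXH hqH in
/-- **Generation**: a subgroup containing the fixed points of `X` on `H` and a Sylow
`p`-subgroup of `H` contains `H`. -/
theorem le_of_fixed_le (M P : Subgroup G) (hM : H ⊓ centralizer (X : Set G) ≤ M) (hPM : P ≤ M)
    (hPH : P ≤ H) (hP : (P.relIndex H).Coprime p) : H ≤ M := by
  apply le_of_forall_isEE V H hV hHV hf hS1 hS3 hH1
  intro E hE
  have hc := IsEE.comp V H hV hHV hf hS1 hS3 hH1 hE
  have hEF : E ≤ centralizer ((H ⊓ centralizer ((⁅V, E⁆ : Subgroup G) : Set G) : Subgroup G) : Set G) :=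
    Subgroup.commutator_eq_bot_iff_le_centralizer.mp hc.comm_F
  have hER : E ≤ normalizer ((M ⊓ E : Subgroup G) : Set G) := by
    intro t ht
    obtain ⟨c, hcF, hnu⟩ := nu_eq_pow_mul V H hV hHV hf hS1 hS3 hH1 X hXq hXV hXH hqH hE ht
    have hfix := nu_mem_fixed V H hV hHV hf hS1 hS3 hH1 X hXq hXV hXH hqH hE ht
    have hνM : nu X t ∈ M := hM hfix
    have hνN : nu X t ∈ normalizer ((M ⊓ E : Subgroup G) : Set G) := by
      rw [Cfsg.Agent.Lib.Helper14.SubnPair.mem_normalizer_iff_cjs, cjs_inf,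
        (Cfsg.Agent.Lib.Helper14.SubnPair.mem_normalizer_iff_cjs _ M).mp (Subgroup.le_normalizer hνM),
        (Cfsg.Agent.Lib.Helper14.SubnPair.mem_normalizer_iff_cjs _ E).mp
          (hc.normal (Subgroup.mem_inf.mp hfix).1)]
    have hcN : c ∈ normalizer ((M ⊓ E : Subgroup G) : Set G) := by
      apply Subgroup.centralizer_le_normalizer
      have h1 : c ∈ centralizer (E : Set G) := by
        rw [Subgroup.mem_centralizer_iff]
        intro e he
        exact (Subgroup.mem_centralizer_iff.mp (hEF he) c hcF).symm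
      exact Subgroup.centralizer_le (by
        intro x hx
        exact (Subgroup.mem_inf.mp hx).2) h1
    have hpow : t ^ Nat.card ↥((normalizer (E : Set G)).subgroupOf X) ∈
        normalizer ((M ⊓ E : Subgroup G) : Set G) := by
      have : t ^ Nat.card ↥((normalizer (E : Set G)).subgroupOf X) = nu X t * c⁻¹ := by
        rw [hnu]; group
      rw [this]
      exact Subgroup.mul_mem _ hνN (Subgroup.inv_mem _ hcN)
    have hcop := coprime_card_stab H X hXq hqH (normalizer (E : Set G)) (hc.le ht)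
    have hmem := mem_zpowers_pow_of_coprime t _ hcop
    exact (Subgroup.zpowers_le.mpr hpow) hmem
  have hidx : ((M ⊓ E : Subgroup G).relIndex E).Coprime p := by
    have h1 := relIndex_inf_dvd P E H hPH hc.le hc.normal
    have h2 := relIndex_mul_relIndex (P ⊓ E) (M ⊓ E) E (inf_le_inf_right E hPM) inf_le_right
    have h3 : (M ⊓ E : Subgroup G).relIndex E ∣ P.relIndex H := (Dvd.intro_left _ h2).trans h1
    exact Nat.Coprime.coprime_dvd_left h3 hP
  obtain ⟨A, hAE, hcA, hgenE⟩ := hc.gen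
  have hkA : ∀ k : ↥(kk p H), cjs (k : G) A ≤ M ⊓ E := by
    intro k
    have hle : cjs (k : G) A ≤ E := by
      calc cjs (k : G) A ≤ ⨆ k : ↥(kk p H), cjs (k : G) A :=
            le_iSup (fun k : ↥(kk p H) => cjs (k : G) A) k
        _ = E := hgenE.symm
    have hpg : IsPGroup p ↥(cjs (k : G) A) :=
      IsPGroup.of_card (n := 1) (by rw [card_cjs, hcA, pow_one])
    exact le_of_isPGroup_of_coprime _ _ E hER hle hpg hidx
  calc E = ⨆ k : ↥(kk p H), cjs (k : G) A := hgenE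
    _ ≤ M ⊓ E := iSup_le hkA
    _ ≤ M := inf_le_left

end act

end Cfsg.Agent.Lib.Helper14.CopFF
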