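import Mathlib
import Cfsg.Agent.Lib.Helper14.CopFF4

/-!
# Coprime action on the FF-structure: a fixed plane with `SL₂(p)` (helper14)
-/

set_option autoImplicit false

namespace Cfsg.Agent.Lib.Helper14.CopFF

open Cfsg Subgroup Cfsg.Agent.Lib.Helper14.Off Cfsg.Agent.S0598
open scoped commutatorElement

variable {G : Type*} [Group G]

theorem nu_spec' [Finite G] (X : Subgroup G) (t : G)
    (hc : ∀ x y : ↥X, Commute ((x : G) * t * (x : G)⁻¹) ((y : G) * t * (y : G)⁻¹)) :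
    nu X t = (@Finset.univ _ (Fintype.ofFinite ↥X)).noncommProd
      (fun x => (x : G) * t * (x : G)⁻¹) (fun x _ y _ _ => hc x y) := by
  unfold nu
  rw [dif_pos hc]

theorem nu_mul [Finite G] (X : Subgroup G) (s t : G)
    (hs : ∀ x y : ↥X, Commute ((x : G) * s * (x : G)⁻¹) ((y : G) * s * (y : G)⁻¹))
    (ht : ∀ x y : ↥X, Commute ((x : G) * t * (x : G)⁻¹) ((y : G) * t * (y : G)⁻¹))
    (hst : ∀ x y : ↥X, Commute ((x : G) * s * (x : G)⁻¹) ((y : G) * t * (y : G)⁻¹)) :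
    nu X (s * t) = nu X s * nu X t := by
  have hmul : ∀ x : ↥X, (x : G) * (s * t) * (x : G)⁻¹ =
      ((x : G) * s * (x : G)⁻¹) * ((x : G) * t * (x : G)⁻¹) := by
    intro x; group
  have hc : ∀ x y : ↥X, Commute ((x : G) * (s * t) * (x : G)⁻¹) ((y : G) * (s * t) * (y : G)⁻¹) := by
    intro x y
    rw [hmul, hmul]
    exact Commute.mul_left (Commute.mul_right (hs x y) (hst x y))
      (Commute.mul_right (hst y x).symm (ht x y))
  rw [nu_spec' X (s * t) hc, nu_spec' X s hs, nu_spec' X t ht]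
  have h := Finset.noncommProd_mul_distrib (s := @Finset.univ _ (Fintype.ofFinite ↥X))
    (fun x : ↥X => (x : G) * s * (x : G)⁻¹) (fun x : ↥X => (x : G) * t * (x : G)⁻¹)
    (fun x _ y _ _ => hs x y) (fun x _ y _ _ => ht x y) (fun x _ y _ _ => (hst y x).symm)
  rw [← h]
  apply Finset.noncommProd_congr rfl
  intro x _
  rw [hmul]
  rfl

theorem nu_conj_of_mem_centralizer [Finite G] (X : Subgroup G) (t : G)
    (hc : ∀ x y : ↥X, Commute ((x : G) * t * (x : G)⁻¹) ((y : G) * t * (y : G)⁻¹))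
    (d : G) (hd : d ∈ centralizer (X : Set G))
    (hc' : ∀ x y : ↥X, Commute ((x : G) * (d * t * d⁻¹) * (x : G)⁻¹)
      ((y : G) * (d * t * d⁻¹) * (y : G)⁻¹)) :
    d * nu X t * d⁻¹ = nu X (d * t * d⁻¹) := by
  rw [nu_spec' X t hc, nu_spec' X _ hc']
  have h1 := Finset.map_noncommProd (@Finset.univ _ (Fintype.ofFinite ↥X))
    (fun x : ↥X => (x : G) * t * (x : G)⁻¹) (fun x _ y _ _ => hc x y) (MulAut.conj d)
  rw [MulAut.conj_apply] at h1
  rw [h1]
  apply Finset.noncommProd_congr rfl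
  intro x _
  have hx := Subgroup.mem_centralizer_iff.mp hd x x.2
  rw [MulAut.conj_apply]
  calc d * ((x : G) * t * (x : G)⁻¹) * d⁻¹
      = (d * (x : G)) * t * ((x : G)⁻¹ * d⁻¹) := by group
    _ = ((x : G) * d) * t * ((x : G)⁻¹ * d⁻¹) := by rw [hx]
    _ = ((x : G) * d) * t * (d⁻¹ * (x : G)⁻¹) := by
        congr 1
        rw [← mul_inv_rev, ← mul_inv_rev, hx]
    _ = (x : G) * (d * t * d⁻¹) * (x : G)⁻¹ := by group

/-- `D / (D ∩ F) ≅ E` when `H = E × F = D F` -/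
theorem quot_iso_of_complement (H E F D K : Subgroup G) (hEH : E ≤ H) (hDH : D ≤ H)
    (hFn : H ≤ normalizer (F : Set G)) (hEF : E ⊓ F = ⊥) (hEFH : H ≤ E ⊔ F)
    (hDFH : H ≤ D ⊔ F) (hK : ∀ d ∈ D, d ∈ K ↔ d ∈ F) [hn : (K.subgroupOf D).Normal] :
    Nonempty (↥D ⧸ K.subgroupOf D ≃* ↥E) := by
  haveI : (F.subgroupOf H).Normal := normal_subgroupOf_of_le_normalizer hFn
  have hdecomp : ∀ (A : Subgroup G) (hAH : A ≤ H), H ≤ A ⊔ F → ∀ h : ↥H, ∃ a : ↥A,
      QuotientGroup.mk' (F.subgroupOf H) (Subgroup.inclusion hAH a) =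
        QuotientGroup.mk' (F.subgroupOf H) h := by
    intro A hAH hAF h
    have h1 : (h : G) ∈ ((A ⊔ F : Subgroup G) : Set G) := hAF h.2
    rw [Subgroup.coe_mul_of_left_le_normalizer_right A F (hAH.trans hFn)] at h1
    obtain ⟨a, ha, f, hf, haf⟩ := Set.mem_mul.mp h1
    refine ⟨⟨a, ha⟩, ?_⟩
    rw [QuotientGroup.mk'_apply, QuotientGroup.mk'_apply, QuotientGroup.eq,
      Subgroup.mem_subgroupOf]
    have : ((Subgroup.inclusion hAH ⟨a, ha⟩)⁻¹ * h : ↥H).1 = f := by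
      rw [Subgroup.coe_mul, Subgroup.coe_inv, ← haf]
      simp
    rw [this]
    exact hf
  let f₁ : ↥D →* ↥H ⧸ F.subgroupOf H :=
    (QuotientGroup.mk' (F.subgroupOf H)).comp (Subgroup.inclusion hDH)
  let f₂ : ↥E →* ↥H ⧸ F.subgroupOf H :=
    (QuotientGroup.mk' (F.subgroupOf H)).comp (Subgroup.inclusion hEH)
  have hs₁ : Function.Surjective f₁ := by
    intro y
    obtain ⟨h, rfl⟩ := QuotientGroup.mk'_surjective _ y
    obtain ⟨a, ha⟩ := hdecomp D hDH hDFH h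
    exact ⟨a, ha⟩
  have hs₂ : Function.Surjective f₂ := by
    intro y
    obtain ⟨h, rfl⟩ := QuotientGroup.mk'_surjective _ y
    obtain ⟨a, ha⟩ := hdecomp E hEH hEFH h
    exact ⟨a, ha⟩
  have hi₂ : Function.Injective f₂ := by
    rw [injective_iff_map_eq_one]
    intro e he
    have h1 : (Subgroup.inclusion hEH e) ∈ F.subgroupOf H := by
      rw [← QuotientGroup.eq_one_iff]
      exact he
    rw [Subgroup.mem_subgroupOf] at h1
    have h2 : (e : G) ∈ E ⊓ F := Subgroup.mem_inf.mpr ⟨e.2, h1⟩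
    rw [hEF, Subgroup.mem_bot] at h2
    exact Subtype.ext h2
  have hk₁ : f₁.ker = K.subgroupOf D := by
    ext d
    rw [MonoidHom.mem_ker, Subgroup.mem_subgroupOf, hK d d.2]
    change QuotientGroup.mk' (F.subgroupOf H) (Subgroup.inclusion hDH d) = 1 ↔ _
    rw [QuotientGroup.mk'_apply, QuotientGroup.eq_one_iff, Subgroup.mem_subgroupOf]
    rfl
  exact ⟨(QuotientGroup.quotientMulEquivOfEq hk₁.symm).trans
    ((QuotientGroup.quotientKerEquivOfSurjective f₁ hs₁).trans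
      (MulEquiv.ofBijective f₂ ⟨hi₂, hs₂⟩).symm)⟩

end Cfsg.Agent.Lib.Helper14.CopFF
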