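import Mathlib
import Cfsg.Agent.Lib.Helper14.CopFF9

/-!
# Coprime action on the FF-structure: the fixed plane (helper14)
-/

set_option autoImplicit false

namespace Cfsg.Agent.Lib.Helper14.CopFF

open Cfsg Subgroup Cfsg.Agent.Lib.Helper14.Off Cfsg.Agent.S0598 Cfsg.Agent.Lib.Helper17
open scoped commutatorElement

variable {G : Type*} [Group G]

section act

variable [Finite G] {p : ℕ} [hp : Fact p.Prime] (V H : Subgroup G)
  (hV : Cfsg.IsElementaryAbelian p V) (hHV : H ≤ normalizer (V : Set G))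
  (hf : H ⊓ centralizer (V : Set G) = ⊥)
  (hS1 : Subgroup.centralizer (Cfsg.pPrimeCore p ↥H : Set ↥H) ≤ Cfsg.pPrimeCore p ↥H)
  (hS3 : H = ⨆ A : {A : Subgroup G // A ≤ H ∧ Cfsg.IsBestOffenderOn p V A}, (A : Subgroup G))
  (hH1 : H ≠ ⊥)
  {q : ℕ} [hq : Fact q.Prime] (X : Subgroup G) (hXq : IsPGroup q X)
  (hXV : X ≤ normalizer (V : Set G)) (hXH : X ≤ normalizer (H : Set G))
  (hqH : ¬ q ∣ Nat.card H)

include hV hHV hf hS1 hS3 hH1 hXq hXV hqH in
theorem stab_le_centralizer_W {E : Subgroup G} (hE : IsEE p V H E) :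
    X ⊓ normalizer (E : Set G) ≤ centralizer ((⁅V, E⁆ : Subgroup G) : Set G) := by
  have hc := IsEE.comp V H hV hHV hf hS1 hS3 hH1 hE
  obtain ⟨hq2, hq3⟩ := q_ne V H hV hHV hf hS1 hS3 hH1 hqH
  have hp23 := prime_two_three V H hV hHV hf hS1 hS3 hH1
  have hNW : X ⊓ normalizer (E : Set G) ≤ normalizer ((⁅V, E⁆ : Subgroup G) : Set G) :=
    le_trans (le_inf (inf_le_left.trans hXV) inf_le_right)
      (Cfsg.Agent.Lib.Helper16.inf_normalizer_le_normalizer_commutator V E)
  have hNq : IsPGroup q ↥(X ⊓ normalizer (E : Set G) : Subgroup G) := hXq.to_le inf_le_left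
  exact le_centralizer_of_card_sq _ _ hNW hNq hc.cardW hp23 hq2 hq3

include hV hHV hf hS1 hS3 hH1 hqH in
theorem p_ne_q : p ≠ q := by
  obtain ⟨h2, h3⟩ := two_three_dvd V H hV hHV hf hS1 hS3 hH1
  rintro rfl
  rcases prime_two_three V H hV hHV hf hS1 hS3 hH1 with h | h
  · rw [h] at hqH; exact hqH h2
  · rw [h] at hqH; exact hqH h3

include hV hXV in
theorem comm_conj_V {s t : G} (hs : s ∈ V) (ht : t ∈ V) (x y : ↥X) :
    Commute ((x : G) * s * (x : G)⁻¹) ((y : G) * t * (y : G)⁻¹) := by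
  have h1 : (x : G) * s * (x : G)⁻¹ ∈ V := (Subgroup.mem_normalizer_iff.mp (hXV x.2) s).mp hs
  have h2 : (y : G) * t * (y : G)⁻¹ ∈ V := (Subgroup.mem_normalizer_iff.mp (hXV y.2) t).mp ht
  exact ea_comm hV h1 h2

include hV hHV hf hS1 hS3 hH1 hXq hXV hXH hqH in
/-- **The fixed plane**. -/
theorem exists_fixed_plane : ∃ W' : Subgroup G, W' ≤ V ⊓ centralizer (X : Set G) ∧
    Nat.card W' = p ^ 2 ∧ H ⊓ centralizer (X : Set G) ≤ normalizer (W' : Set G) ∧
    ∃ hn : ((centralizer (W' : Set G)).subgroupOf (H ⊓ centralizer (X : Set G))).Normal,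
      Nonempty (↥(H ⊓ centralizer (X : Set G)) ⧸
        (centralizer (W' : Set G)).subgroupOf (H ⊓ centralizer (X : Set G)) ≃*
          Matrix.SpecialLinearGroup (Fin 2) (ZMod p)) := by
  obtain ⟨E, hE⟩ := exists_isEE V H hV hHV hf hS1 hS3 hH1
  have hc := IsEE.comp V H hV hHV hf hS1 hS3 hH1 hE
  have hpq := p_ne_q V H hV hHV hf hS1 hS3 hH1 hqH
  have hWV : ∀ w ∈ ⁅V, E⁆, w ∈ V := fun w hw => hc.W_le hw
  have hcW : ∀ w ∈ ⁅V, E⁆, ∀ x y : ↥X,
      Commute ((x : G) * w * (x : G)⁻¹) ((y : G) * w * (y : G)⁻¹) :=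
    fun w hw => comm_conj_V V hV X hXV (hWV w hw) (hWV w hw)
  -- the decomposition of the norm
  have hdec : ∀ w ∈ ⁅V, E⁆, ∃ c ∈ V ⊓ centralizer (E : Set G),
      nu X w = w ^ Nat.card ↥((normalizer (E : Set G)).subgroupOf X) * c := by
    intro w hw
    apply nu_split X w (hcW w hw)
    · intro x hx hxN
      have := stab_le_centralizer_W V H hV hHV hf hS1 hS3 hH1 X hXq hXV hqH hE
        (Subgroup.mem_inf.mpr ⟨hx, hxN⟩)
      have h1 := Subgroup.mem_centralizer_iff.mp this w hw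
      rw [← h1]; group
    · intro x hx hxN
      have hE' : IsEE p V H (cjs x E) := IsEE.conj V H hE (hXV hx) (hXH hx)
      have hne : E ≠ cjs x E := by
        intro h
        exact hxN ((Cfsg.Agent.Lib.Helper14.SubnPair.mem_normalizer_iff_cjs x E).mpr h.symm)
      have h1 := IsEE.W_le_cv_of_ne V H hV hHV hf hS1 hS3 hH1 hE hE' hne
      apply h1
      have h2 : cjs x ⁅V, E⁆ = ⁅V, cjs x E⁆ := by
        rw [cjs_commutator, cjs_eq_self_of_mem_normalizer x V (hXV hx)]
      rw [← h2]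
      exact (mem_cjs_iff x _ _).mpr ⟨w, hw, rfl⟩
  -- coprimality
  have hcopW : ∀ w ∈ ⁅V, E⁆,
      (orderOf w).Coprime (Nat.card ↥((normalizer (E : Set G)).subgroupOf X)) := by
    intro w hw
    obtain ⟨k, hk⟩ := hXq.exists_card_eq
    have h1 : Nat.card ↥((normalizer (E : Set G)).subgroupOf X) ∣ q ^ k := by
      rw [← hk]; exact Subgroup.card_subgroup_dvd_card _
    have h2 : orderOf w ∣ p ^ 2 := by
      rw [← hc.cardW]; exact Subgroup.orderOf_dvd_natCard _ hw
    have h3 : (p ^ 2).Coprime (q ^ k) :=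
      Nat.Coprime.pow 2 k ((Nat.coprime_primes hp.out hq.out).mpr hpq)
    exact Nat.Coprime.coprime_dvd_left h2 (Nat.Coprime.coprime_dvd_right h1 h3)
  -- injectivity
  have hinj : ∀ w ∈ ⁅V, E⁆, nu X w = 1 → w = 1 := by
    intro w hw h1
    obtain ⟨c, hcc, hnu⟩ := hdec w hw
    rw [h1] at hnu
    have h2 : w ^ Nat.card ↥((normalizer (E : Set G)).subgroupOf X) = c⁻¹ :=
      eq_inv_of_mul_eq_one_left hnu.symm
    have h3 : w ^ Nat.card ↥((normalizer (E : Set G)).subgroupOf X) ∈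
        ⁅V, E⁆ ⊓ (V ⊓ centralizer (E : Set G)) := by
      refine Subgroup.mem_inf.mpr ⟨Subgroup.pow_mem _ hw _, ?_⟩
      rw [h2]; exact Subgroup.inv_mem _ hcc
    rw [hc.W_inf, Subgroup.mem_bot] at h3
    have h4 := mem_zpowers_pow_of_coprime w _ (hcopW w hw)
    rw [h3, Subgroup.zpowers_one_eq_bot, Subgroup.mem_bot] at h4
    exact h4
  -- the homomorphism
  have hone : nu X (1 : G) = 1 := by
    have h1 := nu_mul X 1 1 (hcW 1 (Subgroup.one_mem _)) (hcW 1 (Subgroup.one_mem _))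
      (hcW 1 (Subgroup.one_mem _))
    rw [mul_one] at h1
    exact (mul_eq_left.mp h1.symm)
  let μ : ↥(⁅V, E⁆ : Subgroup G) →* G :=
    { toFun := fun w => nu X (w : G)
      map_one' := hone
      map_mul' := fun a b => by
        rw [Subgroup.coe_mul]
        exact nu_mul X a b (hcW a a.2) (hcW b b.2)
          (comm_conj_V V hV X hXV (hWV a a.2) (hWV b b.2)) }
  have hμ : ∀ w : ↥(⁅V, E⁆ : Subgroup G), μ w = nu X (w : G) := fun w => rfl
  have hμinj : Function.Injective μ := by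
    rw [injective_iff_map_eq_one]
    intro w hw
    exact Subtype.ext (hinj w w.2 hw)
  -- normalization by the fixed points
  have hDW : ∀ d ∈ H ⊓ centralizer (X : Set G), ∀ w ∈ ⁅V, E⁆,
      d * w * d⁻¹ ∈ ⁅V, E⁆ ∧ d * nu X w * d⁻¹ = nu X (d * w * d⁻¹) := by
    intro d hd w hw
    have h1 : d * w * d⁻¹ ∈ ⁅V, E⁆ :=
      (Subgroup.mem_normalizer_iff.mp (hc.normalW (Subgroup.mem_inf.mp hd).1) w).mp hw
    exact ⟨h1, nu_conj_of_mem_centralizer X w (hcW w hw) d (Subgroup.mem_inf.mp hd).2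
      (hcW _ h1)⟩
  refine ⟨μ.range, ?_, ?_, ?_, ?_⟩
  · rintro _ ⟨w, rfl⟩
    rw [hμ]
    refine Subgroup.mem_inf.mpr ⟨?_, ?_⟩
    · apply nu_mem X w (hcW w w.2)
      intro x hx
      exact (Subgroup.mem_normalizer_iff.mp (hXV hx) w).mp (hWV w w.2)
    · rw [Subgroup.mem_centralizer_iff]
      intro y hy
      have := nu_conj X w (hcW w w.2) y hy
      calc y * nu X w = y * nu X w * y⁻¹ * y := by group
        _ = nu X w * y := by rw [this]
  · rw [← hc.cardW]
    exact (Nat.card_congr (MonoidHom.ofInjective hμinj).toEquiv).symm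
  · apply le_normalizer_of_forall_conj_mem
    rintro d hd _ ⟨w, rfl⟩
    obtain ⟨h1, h2⟩ := hDW d hd w w.2
    rw [hμ, h2]
    exact ⟨⟨_, h1⟩, rfl⟩
  · have hK : ∀ d ∈ H ⊓ centralizer (X : Set G), d ∈ centralizer (μ.range : Set G) ↔
        d ∈ H ⊓ centralizer ((⁅V, E⁆ : Subgroup G) : Set G) := by
      intro d hd
      constructor
      · intro hdc
        refine Subgroup.mem_inf.mpr ⟨(Subgroup.mem_inf.mp hd).1, ?_⟩
        rw [Subgroup.mem_centralizer_iff]
        intro w hw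
        obtain ⟨h1, h2⟩ := hDW d hd w hw
        have h3 := Subgroup.mem_centralizer_iff.mp hdc (nu X w) ⟨⟨w, hw⟩, rfl⟩
        have h4 : nu X (d * w * d⁻¹) = nu X w := by
          rw [← h2, ← h3]; group
        have h5 : μ ⟨d * w * d⁻¹, h1⟩ = μ ⟨w, hw⟩ := h4
        have h6 := congrArg Subtype.val (hμinj h5)
        change d * w * d⁻¹ = w at h6
        calc w * d = (d * w * d⁻¹)⁻¹⁻¹ * d := by rw [h6]; group
          _ = d * w := by group
      · intro hdF
        rw [Subgroup.mem_centralizer_iff]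
        rintro _ ⟨w, rfl⟩
        obtain ⟨h1, h2⟩ := hDW d hd w w.2
        have h3 := Subgroup.mem_centralizer_iff.mp (Subgroup.mem_inf.mp hdF).2 w w.2
        have h4 : d * (w : G) * d⁻¹ = w := by rw [← h3]; group
        rw [h4] at h2
        rw [hμ]
        calc nu X w * d = d * nu X w * d⁻¹ * d := by rw [h2]
          _ = d * nu X w := by group
    have hDn : H ⊓ centralizer (X : Set G) ≤ normalizer (μ.range : Set G) := by
      apply le_normalizer_of_forall_conj_mem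
      rintro d hd _ ⟨w, rfl⟩
      obtain ⟨h1, h2⟩ := hDW d hd w w.2
      rw [hμ, h2]
      exact ⟨⟨_, h1⟩, rfl⟩
    have hn : ((centralizer (μ.range : Set G)).subgroupOf (H ⊓ centralizer (X : Set G))).Normal := by
      apply normal_subgroupOf_of_le_normalizer
      intro d hd
      have h1 := hDn hd
      rw [Cfsg.Agent.Lib.Helper14.SubnPair.mem_normalizer_iff_cjs] at h1 ⊢
      rw [cjs_centralizer, h1]
    refine ⟨hn, ?_⟩
    obtain ⟨φ⟩ := hc.iso
    have hDF : H ≤ (H ⊓ centralizer (X : Set G)) ⊔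
        (H ⊓ centralizer ((⁅V, E⁆ : Subgroup G) : Set G)) := by
      refine hc.sup_F.ge.trans (sup_le ?_ le_sup_right)
      intro e he
      obtain ⟨c, hcF, hnu⟩ := nu_eq_pow_mul V H hV hHV hf hS1 hS3 hH1 X hXq hXV hXH hqH hE he
      have hfix := nu_mem_fixed V H hV hHV hf hS1 hS3 hH1 X hXq hXV hXH hqH hE he
      have hpow : e ^ Nat.card ↥((normalizer (E : Set G)).subgroupOf X) ∈
          (H ⊓ centralizer (X : Set G)) ⊔
          (H ⊓ centralizer ((⁅V, E⁆ : Subgroup G) : Set G)) := by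
        have : e ^ Nat.card ↥((normalizer (E : Set G)).subgroupOf X) = nu X e * c⁻¹ := by
          rw [hnu]; group
        rw [this]
        exact Subgroup.mul_mem _ (Subgroup.mem_sup_left hfix)
          (Subgroup.mem_sup_right (Subgroup.inv_mem _ hcF))
      have hcop := coprime_card_stab H X hXq hqH (normalizer (E : Set G)) (hc.le he)
      exact (Subgroup.zpowers_le.mpr hpow) (mem_zpowers_pow_of_coprime e _ hcop)
    obtain ⟨ψ⟩ := quot_iso_of_complement H E (H ⊓ centralizer ((⁅V, E⁆ : Subgroup G) : Set G))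
      (H ⊓ centralizer (X : Set G)) (centralizer (μ.range : Set G)) hc.le inf_le_left
      hc.normalF hc.inf_F hc.sup_F.ge hDF hK
    exact ⟨ψ.trans φ⟩

end act

end Cfsg.Agent.Lib.Helper14.CopFF
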