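import Mathlib
import Cfsg.Agent.Lib.Helper14.CopFF4
import Cfsg.Agent.Lib.Helper14.HolTransport

/-!
# Coprime action: transport of an action by automorphisms to the holomorph (helper14)
-/

set_option autoImplicit false

namespace Cfsg.Agent.Lib.Helper14.CopFF

open Cfsg Subgroup Cfsg.Agent.Lib.Helper14.Hol
open scoped commutatorElement

section res

variable {L : Type*} [Group L] {Q : Type*} [Group Q] (φ : Q →* MulAut L) (V : Subgroup L)
  (hinv : ∀ x : Q, ∀ v ∈ V, φ x v ∈ V)

/-- restriction of the action to the invariant subgroup `V` -/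
def resV : Q →* MulAut ↥V where
  toFun x :=
    { toFun := fun v => ⟨φ x v, hinv x v v.2⟩
      invFun := fun v => ⟨φ x⁻¹ v, hinv x⁻¹ v v.2⟩
      left_inv := fun v => Subtype.ext (by simp [map_inv])
      right_inv := fun v => Subtype.ext (by simp [map_inv])
      map_mul' := fun v w => Subtype.ext (by simp) }
  map_one' := by ext v; simp
  map_mul' x y := by ext v; simp

theorem resV_apply (x : Q) (v : ↥V) : ((resV φ V hinv x v : ↥V) : L) = φ x v := rfl

theorem resV_inv_apply (x : Q) (v : ↥V) :
    (((resV φ V hinv x)⁻¹ v : ↥V) : L) = (φ x)⁻¹ v := by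
  rw [← map_inv, ← map_inv]
  rfl

variable [hVn : V.Normal]

/-- the acting group in the holomorph -/
def xhat : Q →* Hl V := (jA V).comp (resV φ V hinv)

theorem xhat_conj_rho' (x : Q) (k : L) :
    xhat φ V hinv x * rho' V k * (xhat φ V hinv x)⁻¹ = rho' V (φ x k) := by
  unfold xhat rho'
  simp only [MonoidHom.comp_apply]
  rw [← map_inv, ← map_mul, ← map_mul]
  congr 1
  ext v
  simp only [MulAut.mul_apply, rho_apply, resV_apply, resV_inv_apply, map_mul, map_inv,
    MulAut.apply_inv_self]

theorem xhat_conj_iV (x : Q) (v : ↥V) :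
    xhat φ V hinv x * iV V v * (xhat φ V hinv x)⁻¹ = iV V (resV φ V hinv x v) :=
  conj_jA_iV V _ v

end res

section conjK

variable {G : Type*} [Group G]

/-- conjugation by a normalizing subgroup, as automorphisms -/
def conjK (K X : Subgroup G) (hXK : X ≤ normalizer (K : Set G)) : ↥X →* MulAut ↥K where
  toFun x :=
    { toFun := fun k => ⟨(x : G) * k * (x : G)⁻¹,
        (Subgroup.mem_normalizer_iff.mp (hXK x.2) k).mp k.2⟩
      invFun := fun k => ⟨(x : G)⁻¹ * k * (x : G), by
        have := (Subgroup.mem_normalizer_iff.mp (hXK (X.inv_mem x.2)) k).mp k.2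
        rwa [inv_inv] at this⟩
      left_inv := fun k => Subtype.ext (by simp only []; group)
      right_inv := fun k => Subtype.ext (by simp only []; group)
      map_mul' := fun k l => Subtype.ext (by simp only [Subgroup.coe_mul]; group) }
  map_one' := by
    ext k
    simp
  map_mul' x y := by
    ext k
    simp only [MulEquiv.coe_mk, Equiv.coe_fn_mk, Subgroup.coe_mul, MulAut.mul_apply, mul_inv_rev]
    group

theorem conjK_apply (K X : Subgroup G) (hXK : X ≤ normalizer (K : Set G)) (x : ↥X) (k : ↥K) :
    ((conjK K X hXK x k : ↥K) : G) = (x : G) * k * (x : G)⁻¹ := rfl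

end conjK

end Cfsg.Agent.Lib.Helper14.CopFF
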