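import Mathlib
import Cfsg.Agent.Lib.Helper14.ThompsonV1
import Cfsg.Agent.Lib.Helper17.Thompson
import Cfsg.Agent.Lib.Helper14.Offender2
import Cfsg.Agent.Lib.Helper14.Offender3

/-!
# KS 9.3.10: `[Ω₁(Z(J(C_G(V)))), J(G)] ≤ V` (helper14)
-/

set_option autoImplicit false

namespace Cfsg.Agent.Lib.Helper14.ThV

open Cfsg Subgroup Cfsg.Agent.Lib.Helper14.Off Cfsg.Agent.Lib.Helper17
open scoped commutatorElement

variable {G : Type*} [Group G] [Finite G] {p : ℕ} [hp : Fact p.Prime]

/-- the replacement `A* = V (A ∩ C_G(V))` of a largest elementary abelian subgroup -/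
theorem star_mem_maxEA (hsep : Cfsg.IsPSolvable p G) (V : Subgroup G) [V.Normal]
    (hV : Cfsg.IsElementaryAbelian p V)
    (hO : Cfsg.pCore p (G ⧸ centralizer (V : Set G)) = ⊥) {A : Subgroup G}
    (hA : A ∈ Cfsg.maxElementaryAbelianSubgroups p G) :
    V ⊔ (A ⊓ centralizer (V : Set G)) ∈ Cfsg.maxElementaryAbelianSubgroups p G := by
  have hAC_ea : Cfsg.IsElementaryAbelian p (A ⊓ centralizer (V : Set G) : Subgroup G) :=
    ea_mono hA.1 inf_le_left
  have hcomm : V ≤ centralizer ((A ⊓ centralizer (V : Set G) : Subgroup G) : Set G) :=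
    Subgroup.le_centralizer_iff.mp inf_le_right
  have hea := ea_sup hV hAC_ea hcomm
  refine ⟨hea, ?_⟩
  intro B hB
  refine (hA.2 B hB).trans ?_
  have h1 := card_mul_card_le_inf_sup V (A ⊓ centralizer (V : Set G))
  have h2 : V ⊓ (A ⊓ centralizer (V : Set G)) ≤ V ⊓ centralizer (A : Set G) := by
    apply inf_le_inf_left
    exact inf_le_left.trans (ea_iff.mp hA.1).1
  have h3 := card_mul_card_le hsep V hV hO A hA.1
  have h4 : Nat.card (V ⊓ (A ⊓ centralizer (V : Set G)) : Subgroup G) ≤
      Nat.card (V ⊓ centralizer (A : Set G) : Subgroup G) := Subgroup.card_le_of_le h2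
  have hpos : 0 < Nat.card (V ⊓ centralizer (A : Set G) : Subgroup G) := Nat.card_pos
  have h5 : Nat.card A * Nat.card (V ⊓ centralizer (A : Set G) : Subgroup G) ≤
      Nat.card (V ⊔ (A ⊓ centralizer (V : Set G)) : Subgroup G) *
        Nat.card (V ⊓ centralizer (A : Set G) : Subgroup G) := by
    calc Nat.card A * Nat.card (V ⊓ centralizer (A : Set G) : Subgroup G)
        ≤ Nat.card V * Nat.card (A ⊓ centralizer (V : Set G) : Subgroup G) := h3
      _ ≤ Nat.card (V ⊓ (A ⊓ centralizer (V : Set G)) : Subgroup G) *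
          Nat.card (V ⊔ (A ⊓ centralizer (V : Set G)) : Subgroup G) := h1
      _ ≤ Nat.card (V ⊓ centralizer (A : Set G) : Subgroup G) *
          Nat.card (V ⊔ (A ⊓ centralizer (V : Set G)) : Subgroup G) := Nat.mul_le_mul_right _ h4
      _ = _ := by ring
  exact Nat.le_of_mul_le_mul_right h5 hpos

/-- elements of order `p` centralizing a largest elementary abelian subgroup lie in it -/
theorem mem_of_mem_maxEA {A : Subgroup G} (hA : A ∈ Cfsg.maxElementaryAbelianSubgroups p G)
    {x : G} (hx : x ^ p = 1) (hxA : x ∈ centralizer (A : Set G)) : x ∈ A := by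
  have hAz : A ≤ centralizer ((zpowers x : Subgroup G) : Set G) := by
    intro a ha
    rw [mem_centralizer_zpowers_iff]
    exact (Subgroup.mem_centralizer_iff.mp hxA a ha).symm
  have hea := ea_sup hA.1 (ea_zpowers hx) hAz
  have hcard := hA.2 _ hea
  have heq : A = A ⊔ zpowers x := Subgroup.eq_of_le_of_card_ge le_sup_left hcard
  have : x ∈ A ⊔ zpowers x := Subgroup.mem_sup_right (mem_zpowers x)
  rw [← heq] at this
  exact this

theorem omega_center_thompson_commutator (hsep : Cfsg.IsPSolvable p G) (V : Subgroup G)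
    [hVn : V.Normal] (hV : Cfsg.IsElementaryAbelian p V)
    (hO : Cfsg.pCore p (G ⧸ centralizer (V : Set G)) = ⊥) :
    ⁅Cfsg.omegaOne p (Cfsg.centerThompsonOf p (centralizer (V : Set G))),
      Cfsg.thompsonSubgroup p G⁆ ≤ V := by
  have hVC : V ≤ centralizer (V : Set G) := (ea_iff.mp hV).1
  -- the key containment for each `A`
  have key : ∀ A ∈ Cfsg.maxElementaryAbelianSubgroups p G,
      ∀ w ∈ Cfsg.omegaOne p (Cfsg.centerThompsonOf p (centralizer (V : Set G))),
      ∀ a ∈ A, ⁅w, a⁆ ∈ V := by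
    intro A hA w hw a ha
    have hstar := star_mem_maxEA hsep V hV hO hA
    have hstarC : V ⊔ (A ⊓ centralizer (V : Set G)) ≤ centralizer (V : Set G) :=
      sup_le hVC inf_le_right
    have hstarJ := le_thompsonSubgroupOf (centralizer (V : Set G)) hstar hstarC
    have hW : Cfsg.omegaOne p (Cfsg.centerThompsonOf p (centralizer (V : Set G))) ≤
        V ⊔ (A ⊓ centralizer (V : Set G)) := by
      unfold Cfsg.omegaOne
      rw [Subgroup.closure_le]
      rintro x ⟨hxZ, hxp⟩
      apply mem_of_mem_maxEA hstar hxp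
      unfold Cfsg.centerThompsonOf at hxZ
      exact Subgroup.centralizer_le hstarJ (Subgroup.mem_inf.mp hxZ).2
    have hstar_ab := (ea_iff.mp hstar.1).1
    obtain ⟨v, hv, c, hc, rfl⟩ := mem_sup_of_comm _ V (A ⊓ centralizer (V : Set G)) hstar_ab
      le_sup_left le_sup_right (hW hw)
    have hca : c * a = a * c := ea_comm hA.1 (Subgroup.mem_inf.mp hc).1 ha
    have e : ⁅v * c, a⁆ = v * (a * v⁻¹ * a⁻¹) := by
      rw [commutatorElement_def]
      calc v * c * a * (v * c)⁻¹ * a⁻¹ = v * (c * a) * c⁻¹ * v⁻¹ * a⁻¹ := by group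
        _ = v * (a * c) * c⁻¹ * v⁻¹ * a⁻¹ := by rw [hca]
        _ = v * (a * v⁻¹ * a⁻¹) := by group
    rw [e]
    exact V.mul_mem hv (hVn.conj_mem _ (V.inv_mem hv) a)
  -- pass to the quotient
  have hJ : Cfsg.thompsonSubgroup p G ≤
      (centralizer (((Cfsg.omegaOne p (Cfsg.centerThompsonOf p (centralizer (V : Set G)))).map
        (QuotientGroup.mk' V) : Subgroup (G ⧸ V)) : Set (G ⧸ V))).comap (QuotientGroup.mk' V) := by
    apply thompsonSubgroup_le
    intro A hA a ha
    rw [Subgroup.mem_comap, Subgroup.mem_centralizer_iff]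
    rintro y ⟨w, hw, rfl⟩
    have h1 := key A hA w hw a ha
    have h2 : (QuotientGroup.mk' V) ⁅w, a⁆ = 1 := (QuotientGroup.eq_one_iff _).mpr h1
    rw [map_commutatorElement, commutatorElement_eq_one_iff_commute] at h2
    exact h2.eq
  rw [Subgroup.commutator_le]
  intro w hw g hg
  have h1 := hJ hg
  rw [Subgroup.mem_comap, Subgroup.mem_centralizer_iff] at h1
  have h2 := h1 _ (Subgroup.mem_map_of_mem (QuotientGroup.mk' V) hw)
  have h3 : (QuotientGroup.mk' V) ⁅w, g⁆ = 1 := by
    rw [map_commutatorElement, commutatorElement_eq_one_iff_commute]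
    exact h2
  exact (QuotientGroup.eq_one_iff _).mp h3

end Cfsg.Agent.Lib.Helper14.ThV
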