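import Mathlib
import Cfsg.Agent.Lib.Helper14.ThompsonV2
import Cfsg.Agent.Lib.Helper14.Offender10
import Cfsg.Agent.S0602
import Cfsg.Agent.S0606

/-!
# KS 9.3.9: failure of Thompson factorization gives a normal `SL₂(p)` section (helper14)
-/

set_option autoImplicit false

namespace Cfsg.Agent.Lib.Helper14.ThV

open Cfsg Subgroup Cfsg.Agent.Lib.Helper14.Off Cfsg.Agent.Lib.Helper14.Hol Cfsg.Agent.Lib.Helper17
open scoped commutatorElement

variable {G : Type*} [Group G] [Finite G] {p : ℕ} [hp : Fact p.Prime]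

theorem sl2_of_not_le (hsep : Cfsg.IsPSolvable p G) (V : Subgroup G)
    [hVn : V.Normal] (hV : Cfsg.IsElementaryAbelian p V)
    (hO : Cfsg.pCore p (G ⧸ centralizer (V : Set G)) = ⊥)
    (hJC : ¬ Cfsg.thompsonSubgroup p G ≤ centralizer (V : Set G)) :
    (p = 2 ∨ p = 3) ∧ ∃ E : Subgroup G, centralizer (V : Set G) ≤ E ∧
      E ≤ Cfsg.thompsonSubgroup p G ⊔ centralizer (V : Set G) ∧
      Cfsg.thompsonSubgroup p G ⊔ centralizer (V : Set G) ≤ normalizer (E : Set G) ∧
      ∃ hn : ((centralizer (V : Set G)).subgroupOf E).Normal,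
        Nonempty ((↥E ⧸ (centralizer (V : Set G)).subgroupOf E) ≃*
          Matrix.SpecialLinearGroup (Fin 2) (ZMod p)) := by
  haveI hJchar : (Cfsg.thompsonSubgroup p G).Characteristic :=
    (Cfsg.Agent.S0602.result (G := G) (p := p)).1
  haveI hJn : (Cfsg.thompsonSubgroup p G).Normal := Subgroup.normal_of_characteristic _
  have hS1 := hS1_hat hsep V hO (Cfsg.thompsonSubgroup p G)
  have hS3 : hat V (Cfsg.thompsonSubgroup p G) =
      ⨆ A : {A : Subgroup (Hl V) // A ≤ hat V (Cfsg.thompsonSubgroup p G) ∧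
        Cfsg.IsBestOffenderOn p (Vh V) A}, (A : Subgroup (Hl V)) := by
    apply le_antisymm
    · have hJ : hat V (Cfsg.thompsonSubgroup p G) =
          ⨆ A ∈ Cfsg.maxElementaryAbelianSubgroups p G, hat V A := by
        unfold Cfsg.thompsonSubgroup
        exact hat_sSup V _
      refine hJ.le.trans (iSup₂_le ?_)
      intro A hA
      have h1 : hat V A ≤ hat V (Cfsg.thompsonSubgroup p G) := by
        apply hat_mono V
        unfold Cfsg.thompsonSubgroup
        exact le_sSup hA
      have h2 := bestOffender_hat V (Cfsg.Agent.S0606.result V hV A hA)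
      exact le_iSup (fun A : {A : Subgroup (Hl V) //
        A ≤ hat V (Cfsg.thompsonSubgroup p G) ∧
        Cfsg.IsBestOffenderOn p (Vh V) A} => (A : Subgroup (Hl V))) ⟨hat V A, h1, h2⟩
    · exact iSup_le (fun A => A.2.1)
  have hH1 : hat V (Cfsg.thompsonSubgroup p G) ≠ ⊥ := fun h => hJC ((hat_eq_bot_iff V _).mp h)
  obtain ⟨hp23, hE, -, hsup, -, -⟩ :=
    structure_main (Vh V) (hat V (Cfsg.thompsonSubgroup p G)) (Vh_ea V hV)
      (hat_le_normalizer V _) (hat_inf_centralizer V _) hS1 hS3 hH1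
  have hne : Nonempty {E : Subgroup (Hl V) //
      IsEE p (Vh V) (hat V (Cfsg.thompsonSubgroup p G)) E} := by
    by_contra hemp
    rw [not_nonempty_iff] at hemp
    apply hH1
    exact hsup.symm.trans (iSup_of_empty _)
  obtain ⟨Ê⟩ := hne
  obtain ⟨hÊN, ⟨φ⟩, -⟩ := hE Ê
  have hÊH : (Ê : Subgroup (Hl V)) ≤ hat V (Cfsg.thompsonSubgroup p G) := by
    exact (le_iSup (fun E : {E : Subgroup (Hl V) //
      IsEE p (Vh V) (hat V (Cfsg.thompsonSubgroup p G)) E} => (E : Subgroup (Hl V))) Ê).trans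
      hsup.le
  have hCE : centralizer (V : Set G) ≤ (Ê : Subgroup (Hl V)).comap (rho' V) := by
    intro x hx
    rw [Subgroup.mem_comap]
    have : x ∈ (rho' V).ker := by rw [rho'_ker]; exact hx
    rw [MonoidHom.mem_ker.mp this]
    exact Subgroup.one_mem _
  haveI hCn : (centralizer (V : Set G)).Normal := Subgroup.normal_centralizer
  have hn : ((centralizer (V : Set G)).subgroupOf ((Ê : Subgroup (Hl V)).comap (rho' V))).Normal :=
    hCn.subgroupOf _
  refine ⟨hp23, (Ê : Subgroup (Hl V)).comap (rho' V), hCE, ?_, ?_, hn, ?_⟩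
  · intro e he
    rw [Subgroup.mem_comap] at he
    obtain ⟨j, hj, hje⟩ := hÊH he
    have hker : j⁻¹ * e ∈ centralizer (V : Set G) := by
      rw [← rho'_ker, MonoidHom.mem_ker, map_mul, map_inv, hje, inv_mul_cancel]
    have : e = j * (j⁻¹ * e) := by group
    rw [this]
    exact Subgroup.mul_mem _ (Subgroup.mem_sup_left hj) (Subgroup.mem_sup_right hker)
  · apply sup_le
    · intro j hj
      apply Subgroup.le_normalizer_comap (rho' V)
      rw [Subgroup.mem_comap]
      exact hÊN ⟨j, hj, rfl⟩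
    · exact hCE.trans Subgroup.le_normalizer
  · let f : ↥((Ê : Subgroup (Hl V)).comap (rho' V)) →* ↥(Ê : Subgroup (Hl V)) :=
      ((rho' V).comp (Subgroup.subtype ((Ê : Subgroup (Hl V)).comap (rho' V)))).codRestrict
        (Ê : Subgroup (Hl V)) (fun e => e.2)
    have hf : Function.Surjective f := by
      rintro ⟨y, hy⟩
      obtain ⟨j, hj, hjy⟩ := hÊH hy
      have hjE : j ∈ (Ê : Subgroup (Hl V)).comap (rho' V) := by
        rw [Subgroup.mem_comap, hjy]; exact hy
      exact ⟨⟨j, hjE⟩, Subtype.ext hjy⟩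
    have hker : f.ker =
        (centralizer (V : Set G)).subgroupOf ((Ê : Subgroup (Hl V)).comap (rho' V)) := by
      ext e
      rw [MonoidHom.mem_ker, Subgroup.mem_subgroupOf, ← rho'_ker, MonoidHom.mem_ker]
      constructor
      · intro h
        exact congrArg Subtype.val h
      · intro h
        exact Subtype.ext h
    exact ⟨((QuotientGroup.quotientMulEquivOfEq hker).symm.trans
      (QuotientGroup.quotientKerEquivOfSurjective f hf)).trans φ⟩

end Cfsg.Agent.Lib.Helper14.ThV
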