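import Mathlib
import Cfsg.Agent.Lib.Helper14.CopFF5
import Cfsg.Agent.Lib.Helper14.ThompsonV3

/-!
# Coprime action on a non-Thompson-factorizable `p`-separable group: generation (helper14)
-/

set_option autoImplicit false

namespace Cfsg.Agent.Lib.Helper14.CopFF

open Cfsg Subgroup Cfsg.Agent.Lib.Helper14.Hol Cfsg.Agent.Lib.Helper14.Off
  Cfsg.Agent.Lib.Helper14.ThV Cfsg.Agent.Lib.Helper17
open scoped commutatorElement Pointwise

section aut

variable {L : Type*} [Group L]

theorem map_zOm_le_aut {p : ℕ} [Fact p.Prime] (α : MulAut L) (S : Sylow p L) :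
    (Cfsg.omegaOne p ((S : Subgroup L) ⊓ centralizer ((S : Subgroup L) : Set L))).map
        α.toMonoidHom ≤
      Cfsg.omegaOne p (((α • S : Sylow p L) : Subgroup L) ⊓
        centralizer (((α • S : Sylow p L) : Subgroup L) : Set L)) := by
  unfold Cfsg.omegaOne
  rw [MonoidHom.map_closure]
  apply Subgroup.closure_mono
  rintro _ ⟨x, ⟨hx1, hx2⟩, rfl⟩
  have hmem : ∀ y : L, y ∈ ((α • S : Sylow p L) : Subgroup L) ↔ α⁻¹ y ∈ (S : Subgroup L) := by
    intro y
    rw [Sylow.pointwise_smul_def, Subgroup.mem_pointwise_smul_iff_inv_smul_mem]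
    rfl
  refine ⟨Subgroup.mem_inf.mpr ⟨?_, ?_⟩, ?_⟩
  · rw [hmem]
    have : α⁻¹ (α.toMonoidHom x) = x := by simp
    rw [this]
    exact hx1.1
  · rw [Subgroup.mem_centralizer_iff]
    intro y hy
    have hy' := (hmem y).mp hy
    have := Subgroup.mem_centralizer_iff.mp hx1.2 _ hy'
    have h2 := congrArg α this
    simpa using h2
  · change (α x) ^ p = 1
    rw [← map_pow, hx2, map_one]

/-- the normal closure of `Ω₁(Z(S))` is invariant under all automorphisms -/
theorem aut_mem_iSup_zOm {p : ℕ} [Fact p.Prime] (α : MulAut L) {v : L}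
    (hv : v ∈ ⨆ S : Sylow p L,
      Cfsg.omegaOne p ((S : Subgroup L) ⊓ centralizer ((S : Subgroup L) : Set L))) :
    α v ∈ ⨆ S : Sylow p L,
      Cfsg.omegaOne p ((S : Subgroup L) ⊓ centralizer ((S : Subgroup L) : Set L)) := by
  have h1 : α v ∈ (⨆ S : Sylow p L,
      Cfsg.omegaOne p ((S : Subgroup L) ⊓ centralizer ((S : Subgroup L) : Set L))).map
        α.toMonoidHom := Subgroup.mem_map_of_mem _ hv
  rw [Subgroup.map_iSup] at h1
  have hle : (⨆ S : Sylow p L, (Cfsg.omegaOne p ((S : Subgroup L) ⊓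
      centralizer ((S : Subgroup L) : Set L))).map α.toMonoidHom) ≤ ⨆ S : Sylow p L,
      Cfsg.omegaOne p ((S : Subgroup L) ⊓ centralizer ((S : Subgroup L) : Set L)) := by
    apply iSup_le
    intro S
    exact (map_zOm_le_aut α S).trans (le_iSup (fun S : Sylow p L =>
      Cfsg.omegaOne p ((S : Subgroup L) ⊓ centralizer ((S : Subgroup L) : Set L))) (α • S))
  exact hle h1

/-- fixed points in invariant cosets, for a `q`-group acting -/
theorem exists_fixed_in_coset [Finite L] {Q : Type*} [Group Q] (φ : Q →* MulAut L) {q : ℕ}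
    [Fact q.Prime] (hQ : IsPGroup q Q) (C : Subgroup L) (hC : ∀ x : Q, ∀ c ∈ C, φ x c ∈ C)
    (hqC : ¬ q ∣ Nat.card C) (k : L) (hk : ∀ x : Q, k⁻¹ * φ x k ∈ C) :
    ∃ c ∈ C, ∀ x : Q, φ x (k * c) = k * c := by
  letI : MulAction Q {l : L // k⁻¹ * l ∈ C} :=
    { smul := fun x l => ⟨φ x l.1, by
        have h1 : k⁻¹ * φ x l.1 = (k⁻¹ * φ x k) * φ x (k⁻¹ * l.1) := by
          rw [map_mul, map_inv]; group
        rw [h1]
        exact C.mul_mem (hk x) (hC x _ l.2)⟩
      one_smul := fun l => Subtype.ext (by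
        change φ 1 l.1 = l.1
        rw [map_one]; rfl)
      mul_smul := fun x y l => Subtype.ext (by
        change φ (x * y) l.1 = φ x (φ y l.1)
        rw [map_mul]; rfl) }
  have hcard : Nat.card {l : L // k⁻¹ * l ∈ C} = Nat.card C := by
    apply Nat.card_congr
    exact
      { toFun := fun l => ⟨k⁻¹ * l.1, l.2⟩
        invFun := fun c => ⟨k * c.1, by rw [inv_mul_cancel_left]; exact c.2⟩
        left_inv := fun l => Subtype.ext (by simp)
        right_inv := fun c => Subtype.ext (by simp) }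
  obtain ⟨ω, hω⟩ := hQ.nonempty_fixed_point_of_prime_not_dvd_card {l : L // k⁻¹ * l ∈ C}
    (by rwa [hcard])
  refine ⟨k⁻¹ * ω.1, ω.2, fun x => ?_⟩
  rw [mul_inv_cancel_left]
  exact congrArg Subtype.val (hω x)

end aut

section hyps

variable {G : Type*} [Group G] [Finite G] {p : ℕ} [hp : Fact p.Prime]

theorem hS3_hat (V : Subgroup G) [hVn : V.Normal] (hV : Cfsg.IsElementaryAbelian p V) :
    hat V (Cfsg.thompsonSubgroup p G) =
      ⨆ A : {A : Subgroup (Hl V) // A ≤ hat V (Cfsg.thompsonSubgroup p G) ∧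
        Cfsg.IsBestOffenderOn p (Vh V) A}, (A : Subgroup (Hl V)) := by
  apply le_antisymm
  · have hJ : hat V (Cfsg.thompsonSubgroup p G) =
        ⨆ A ∈ Cfsg.maxElementaryAbelianSubgroups p G, hat V A := by
      unfold Cfsg.thompsonSubgroup
      exact hat_sSup V _
    refine hJ.le.trans (iSup₂_le ?_)
    intro A hA
    have h1 : hat V A ≤ hat V (Cfsg.thompsonSubgroup p G) := by
      apply hat_mono V
      unfold Cfsg.thompsonSubgroup
      exact le_sSup hA
    have h2 := bestOffender_hat V (Cfsg.Agent.S0606.result V hV A hA)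
    exact le_iSup (fun A : {A : Subgroup (Hl V) //
      A ≤ hat V (Cfsg.thompsonSubgroup p G) ∧
      Cfsg.IsBestOffenderOn p (Vh V) A} => (A : Subgroup (Hl V))) ⟨hat V A, h1, h2⟩
  · exact iSup_le (fun A => A.2.1)

end hyps

end Cfsg.Agent.Lib.Helper14.CopFF
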