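import Mathlib
import Cfsg.Agent.Lib.Helper14.CopFF6

/-!
# Coprime action on a non-Thompson-factorizable `p`-separable group: `J(L) ≤ M` (helper14)
-/

set_option autoImplicit false

namespace Cfsg.Agent.Lib.Helper14.CopFF

open Cfsg Subgroup Cfsg.Agent.Lib.Helper14.Hol Cfsg.Agent.Lib.Helper14.Off
  Cfsg.Agent.Lib.Helper14.ThV Cfsg.Agent.Lib.Helper17
open scoped commutatorElement Pointwise

section main

variable {L : Type*} [Group L] [Finite L] {p : ℕ} [hp : Fact p.Prime]
  {Q : Type*} [Group Q] {q : ℕ} [hq : Fact q.Prime] (φ : Q →* MulAut L)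
  (hQ : IsPGroup q Q) (hqL : ¬ q ∣ Nat.card L)
  (hsep : Cfsg.IsPSolvable p L) (V : Subgroup L) [hVn : V.Normal]
  (hV : Cfsg.IsElementaryAbelian p V)
  (hOq : Cfsg.pCore p (L ⧸ centralizer (V : Set L)) = ⊥)
  (hJC : ¬ Cfsg.thompsonSubgroup p L ≤ centralizer (V : Set L))
  (hinv : ∀ x : Q, ∀ v ∈ V, φ x v ∈ V)

/-- the hypotheses of the structure theorem and of the coprime action, in the holomorph -/
structure HolHyp (p q : ℕ) (V : Subgroup L) [V.Normal] (φ : Q →* MulAut L)
    (hinv : ∀ x : Q, ∀ v ∈ V, φ x v ∈ V) : Prop where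
  hV : Cfsg.IsElementaryAbelian p (Vh V)
  hHV : hat V (Cfsg.thompsonSubgroup p L) ≤ normalizer (Vh V : Set (Hl V))
  hf : hat V (Cfsg.thompsonSubgroup p L) ⊓ centralizer (Vh V : Set (Hl V)) = ⊥
  hS1 : centralizer (Cfsg.pPrimeCore p ↥(hat V (Cfsg.thompsonSubgroup p L)) :
      Set ↥(hat V (Cfsg.thompsonSubgroup p L))) ≤
      Cfsg.pPrimeCore p ↥(hat V (Cfsg.thompsonSubgroup p L))
  hS3 : hat V (Cfsg.thompsonSubgroup p L) =
      ⨆ A : {A : Subgroup (Hl V) // A ≤ hat V (Cfsg.thompsonSubgroup p L) ∧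
        Cfsg.IsBestOffenderOn p (Vh V) A}, (A : Subgroup (Hl V))
  hH1 : hat V (Cfsg.thompsonSubgroup p L) ≠ ⊥
  hXq : IsPGroup q ↥(xhat φ V hinv).range
  hXV : (xhat φ V hinv).range ≤ normalizer (Vh V : Set (Hl V))
  hXH : (xhat φ V hinv).range ≤
      normalizer (hat V (Cfsg.thompsonSubgroup p L) : Set (Hl V))
  hqH : ¬ q ∣ Nat.card ↥(hat V (Cfsg.thompsonSubgroup p L))

include hQ hqL hsep hV hOq hJC in
theorem holHyp : HolHyp p q V φ hinv := by
  haveI hJchar : (Cfsg.thompsonSubgroup p L).Characteristic :=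
    (Cfsg.Agent.S0602.result (G := L) (p := p)).1
  haveI hJn : (Cfsg.thompsonSubgroup p L).Normal := Subgroup.normal_of_characteristic _
  refine ⟨Vh_ea V hV, hat_le_normalizer V _, hat_inf_centralizer V _,
    hS1_hat hsep V hOq (Cfsg.thompsonSubgroup p L), hS3_hat V hV,
    fun h => hJC ((hat_eq_bot_iff V _).mp h), ?_, ?_, ?_, ?_⟩
  · exact hQ.of_surjective (xhat φ V hinv).rangeRestrict
      (xhat φ V hinv).rangeRestrict_surjective
  · rw [Subgroup.normalizer_eq_top]
    exact le_top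
  · apply le_normalizer_of_forall_conj_mem
    rintro e ⟨x, rfl⟩ d ⟨j, hj, rfl⟩
    rw [xhat_conj_rho']
    refine ⟨φ x j, ?_, rfl⟩
    have := Subgroup.characteristic_iff_map_eq.mp hJchar (φ x)
    rw [← this]
    exact Subgroup.mem_map_of_mem _ hj
  · intro hdvd
    apply hqL
    have h1 := card_hat V (Cfsg.thompsonSubgroup p L)
    have h2 : Nat.card ↥(hat V (Cfsg.thompsonSubgroup p L)) ∣
        Nat.card ↥(Cfsg.thompsonSubgroup p L) := Dvd.intro _ h1
    exact hdvd.trans (h2.trans (Subgroup.card_subgroup_dvd_card _))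

include hQ hqL hsep hV hOq hJC hinv in
/-- **Key step**: a subgroup containing `C_L(V)`, a Sylow `p`-subgroup and the fixed points
of the acting group contains `J(L)`. -/
theorem thompson_le_of_fixed (M : Subgroup L) (hCM : centralizer (V : Set L) ≤ M) (S : Sylow p L)
    (hSM : (S : Subgroup L) ≤ M) (hfix : ∀ k : L, (∀ x : Q, φ x k = k) → k ∈ M) :
    Cfsg.thompsonSubgroup p L ≤ M := by
  haveI hJchar : (Cfsg.thompsonSubgroup p L).Characteristic :=
    (Cfsg.Agent.S0602.result (G := L) (p := p)).1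
  haveI hJn : (Cfsg.thompsonSubgroup p L).Normal := Subgroup.normal_of_characteristic _
  have hh := holHyp φ hQ hqL hsep V hV hOq hJC hinv
  have hCinv : ∀ x : Q, ∀ c ∈ centralizer (V : Set L), φ x c ∈ centralizer (V : Set L) := by
    intro x c hc
    rw [Subgroup.mem_centralizer_iff] at hc ⊢
    intro v hv
    have h1 := hc ((φ x)⁻¹ v) (by
      have := hinv x⁻¹ v hv
      rwa [map_inv] at this)
    have h2 := congrArg (φ x) h1
    simpa using h2
  have hqC : ¬ q ∣ Nat.card ↥(centralizer (V : Set L)) :=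
    fun h => hqL (h.trans (Subgroup.card_subgroup_dvd_card _))
  have key := le_of_fixed_le (Vh V) (hat V (Cfsg.thompsonSubgroup p L)) hh.hV hh.hHV hh.hf
    hh.hS1 hh.hS3 hh.hH1 (xhat φ V hinv).range hh.hXq hh.hXV hh.hXH hh.hqH (hat V M)
    (hat V (S : Subgroup L) ⊓ hat V (Cfsg.thompsonSubgroup p L)) ?_ ?_ inf_le_right ?_
  · intro j hj
    obtain ⟨m, hm, hmj⟩ := key ⟨j, hj, rfl⟩
    have hker : m⁻¹ * j ∈ centralizer (V : Set L) := by
      rw [← rho'_ker, MonoidHom.mem_ker, map_mul, map_inv, hmj, inv_mul_cancel]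
    have : j = m * (m⁻¹ * j) := by group
    rw [this]
    exact M.mul_mem hm (hCM hker)
  · rintro h ⟨⟨j, hj, rfl⟩, hcent⟩
    have hk : ∀ x : Q, j⁻¹ * φ x j ∈ centralizer (V : Set L) := by
      intro x
      have h1 := Subgroup.mem_centralizer_iff.mp hcent (xhat φ V hinv x) ⟨x, rfl⟩
      have h2 := xhat_conj_rho' φ V hinv x j
      have h3 : xhat φ V hinv x * rho' V j * (xhat φ V hinv x)⁻¹ = rho' V j := by
        rw [h1]; group
      rw [h3] at h2
      rw [← rho'_ker, MonoidHom.mem_ker, map_mul, map_inv, ← h2, inv_mul_cancel]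
    obtain ⟨c, hcC, hfixed⟩ := exists_fixed_in_coset φ hQ (centralizer (V : Set L)) hCinv hqC j hk
    refine ⟨j * c, hfix _ hfixed, ?_⟩
    have : c ∈ (rho' V).ker := by rw [rho'_ker]; exact hcC
    rw [map_mul, MonoidHom.mem_ker.mp this, mul_one]
  · exact inf_le_left.trans (hat_mono V hSM)
  · have h1 := relIndex_inf_dvd (hat V (S : Subgroup L)) (hat V (Cfsg.thompsonSubgroup p L))
      (hat V ⊤) (hat_mono V le_top) (hat_mono V le_top) (by
        have h2 := Subgroup.le_normalizer_map (H := Cfsg.thompsonSubgroup p L) (rho' V)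
        rw [Subgroup.normalizer_eq_top] at h2
        exact h2)
    have h3 : (hat V (S : Subgroup L)).relIndex (hat V ⊤) ∣ (S : Subgroup L).index := by
      unfold hat
      rw [Subgroup.relIndex_map_map, top_sup_eq, Subgroup.relIndex_top_right]
      exact Subgroup.index_dvd_of_le le_sup_left
    have h4 : ((S : Subgroup L).index).Coprime p :=
      ((Nat.Prime.coprime_iff_not_dvd hp.out).mpr S.not_dvd_index).symm
    exact Nat.Coprime.coprime_dvd_left (h1.trans h3) h4

end main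

end Cfsg.Agent.Lib.Helper14.CopFF
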