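import Mathlib
import Cfsg.Agent.Lib.Helper14.CopFF7
import Cfsg.Agent.Lib.Helper3.PSolvable
import Cfsg.Agent.Lib.Helper16.SylowNormal
import Cfsg.Agent.S0600
import Cfsg.Agent.S0601
import Cfsg.Agent.S0604
import Cfsg.Agent.S0608

/-!
# KS 9.3.10: generation under coprime action (helper14)
-/

set_option autoImplicit false

namespace Cfsg.Agent.Lib.Helper14.CopFF

open Cfsg Subgroup Cfsg.Agent.Lib.Helper14.Hol Cfsg.Agent.Lib.Helper14.Off
  Cfsg.Agent.Lib.Helper14.ThV Cfsg.Agent.Lib.Helper17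
open scoped commutatorElement Pointwise

section setup

variable {G : Type*} [Group G] [Finite G] {p : ℕ} [hp : Fact p.Prime]

/-- the data attached to a `p`-separable group with trivial `p'`-core which is not Thompson
factorizable -/
theorem exists_V (hsep : Cfsg.IsPSolvable p G) (hO : Cfsg.pPrimeCore p G = ⊥)
    (hnf : ¬ Cfsg.IsThompsonFactorizable p G) :
    ∃ V : Subgroup G, V = (⨆ S : Sylow p G, Cfsg.omegaOne p ((S : Subgroup G) ⊓
        Subgroup.centralizer ((S : Subgroup G) : Set G))) ∧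
      ∃ _ : V.Normal, Cfsg.IsElementaryAbelian p V ∧
      Cfsg.pCore p (G ⧸ centralizer (V : Set G)) = ⊥ ∧
      ¬ Cfsg.thompsonSubgroup p G ≤ centralizer (V : Set G) := by
  have hc := Cfsg.Agent.Lib.Helper3.centralizer_pCore_le hsep hO
  obtain ⟨hVn, hV, -⟩ := Cfsg.Agent.S0601.result hc
  refine ⟨_, rfl, hVn, hV, ?_, ?_⟩
  · haveI := hVn
    have hgen : (⨆ S : Sylow p G, Cfsg.omegaOne p ((S : Subgroup G) ⊓
        Subgroup.centralizer ((S : Subgroup G) : Set G))) =
        ⨆ S : Sylow p G, (⨆ S : Sylow p G, Cfsg.omegaOne p ((S : Subgroup G) ⊓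
          Subgroup.centralizer ((S : Subgroup G) : Set G))) ⊓
          Subgroup.centralizer ((S : Subgroup G) : Set G) := by
      apply le_antisymm
      · apply iSup_le
        intro S
        refine le_trans ?_ (le_iSup (fun S : Sylow p G => (⨆ S : Sylow p G,
          Cfsg.omegaOne p ((S : Subgroup G) ⊓ Subgroup.centralizer ((S : Subgroup G) : Set G))) ⊓
          Subgroup.centralizer ((S : Subgroup G) : Set G)) S)
        apply le_inf
        · exact le_iSup (fun S : Sylow p G => Cfsg.omegaOne p ((S : Subgroup G) ⊓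
            Subgroup.centralizer ((S : Subgroup G) : Set G))) S
        · unfold Cfsg.omegaOne
          rw [Subgroup.closure_le]
          rintro x ⟨hx, -⟩
          exact hx.2
      · exact iSup_le (fun S => inf_le_left)
    exact Cfsg.Agent.S0600.result _ hV hgen
  · exact fun h => hnf ((Cfsg.Agent.S0608.result hO).mpr h)

end setup

section main

variable {G : Type*} [Group G] [Finite G] {p : ℕ} [hp : Fact p.Prime] {q : ℕ} [hq : Fact q.Prime]

theorem isPGroup_of_ea (X : Subgroup G) (hX : Cfsg.IsElementaryAbelian q X) : IsPGroup q ↥X := by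
  intro g
  refine ⟨1, ?_⟩
  rw [pow_one]
  apply Subtype.ext
  rw [Subgroup.coe_pow]
  exact hX.2 g g.2

/-- **KS 9.3.10**. -/
theorem gen_of_coprime (K X : Subgroup G) (hXK : X ≤ Subgroup.normalizer (K : Set G))
    (hX : Cfsg.IsElementaryAbelian q X) (hqK : ¬ q ∣ Nat.card K)
    (hsep : Cfsg.IsPSolvable p ↥K) (hO : Cfsg.pPrimeCore p ↥K = ⊥) (S : Sylow p ↥K) :
    (Subgroup.normalizer (Cfsg.thompsonSubgroupOf p (S : Subgroup ↥K) : Set ↥K) ⊔
      Subgroup.centralizer (Cfsg.omegaOne p ((S : Subgroup ↥K) ⊓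
        Subgroup.centralizer ((S : Subgroup ↥K) : Set ↥K)) : Set ↥K) ⊔
      (Subgroup.centralizer (X : Set G)).subgroupOf K) = ⊤ := by
  classical
  by_cases hTF : Cfsg.IsThompsonFactorizable p ↥K
  · rw [eq_top_iff]
    intro g _
    obtain ⟨x, hx, c, hc, n, hn, rfl⟩ := hTF S g
    rw [hO, Subgroup.mem_bot] at hx
    subst hx
    rw [one_mul]
    exact Subgroup.mul_mem _ (Subgroup.mem_sup_left (Subgroup.mem_sup_right hc))
      (Subgroup.mem_sup_left (Subgroup.mem_sup_left hn))
  · obtain ⟨V, hVdef, hVn, hV, hOq, hJC⟩ := exists_V hsep hO hTF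
    haveI := hVn
    have hQ : IsPGroup q ↥X := isPGroup_of_ea X hX
    have hinv : ∀ x : ↥X, ∀ v ∈ V, conjK K X hXK x v ∈ V := by
      intro x v hv
      rw [hVdef] at hv ⊢
      exact aut_mem_iSup_zOm (conjK K X hXK x) hv
    have hZV : Cfsg.omegaOne p ((S : Subgroup ↥K) ⊓
        Subgroup.centralizer ((S : Subgroup ↥K) : Set ↥K)) ≤ V := by
      rw [hVdef]
      exact le_iSup (fun S : Sylow p ↥K => Cfsg.omegaOne p ((S : Subgroup ↥K) ⊓
        Subgroup.centralizer ((S : Subgroup ↥K) : Set ↥K))) S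
    have hJM := thompson_le_of_fixed (conjK K X hXK) hQ hqK hsep V hV hOq hJC hinv
      (Subgroup.normalizer (Cfsg.thompsonSubgroupOf p (S : Subgroup ↥K) : Set ↥K) ⊔
      Subgroup.centralizer (Cfsg.omegaOne p ((S : Subgroup ↥K) ⊓
        Subgroup.centralizer ((S : Subgroup ↥K) : Set ↥K)) : Set ↥K) ⊔
      (Subgroup.centralizer (X : Set G)).subgroupOf K)
      ((Subgroup.centralizer_le hZV).trans (le_sup_right.trans le_sup_left)) S
      ((Subgroup.le_normalizer.trans
        (normalizer_le_normalizer_thompsonSubgroupOf (S : Subgroup ↥K))).trans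
        (le_sup_left.trans le_sup_left)) (by
        intro k hk
        apply Subgroup.mem_sup_right
        rw [Subgroup.mem_subgroupOf, Subgroup.mem_centralizer_iff]
        intro x hx
        have h1 := congrArg Subtype.val (hk ⟨x, hx⟩)
        rw [conjK_apply] at h1
        change x * (k : G) * x⁻¹ = k at h1
        calc x * (k : G) = x * (k : G) * x⁻¹ * x := by group
          _ = (k : G) * x := by rw [h1])
    -- Frattini
    haveI hJchar : (Cfsg.thompsonSubgroup p ↥K).Characteristic :=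
      (Cfsg.Agent.S0602.result (G := ↥K) (p := p)).1
    haveI hJn : (Cfsg.thompsonSubgroup p ↥K).Normal := Subgroup.normal_of_characteristic _
    obtain ⟨Q', hQ'⟩ := Cfsg.Agent.Lib.Helper16.exists_sylow_subgroupOf_normal S
      (Cfsg.thompsonSubgroup p ↥K)
    have hfr := Sylow.normalizer_sup_eq_top Q'
    rw [hQ', Subgroup.subgroupOf_map_subtype] at hfr
    have hJS : Cfsg.thompsonSubgroupOf p (S : Subgroup ↥K) ≤
        (S : Subgroup ↥K) ⊓ Cfsg.thompsonSubgroup p ↥K := by
      apply le_inf (thompsonSubgroupOf_le_self _)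
      rw [Cfsg.Agent.S0604.result (G := ↥K) (p := p)]
      exact le_iSup (fun S : Sylow p ↥K => Cfsg.thompsonSubgroupOf p (S : Subgroup ↥K)) S
    have hJeq := thompsonSubgroupOf_eq_of_le (p := p)
      (inf_le_left : (S : Subgroup ↥K) ⊓ Cfsg.thompsonSubgroup p ↥K ≤ S) hJS
    rw [eq_top_iff, ← hfr]
    apply sup_le _ hJM
    refine le_trans ?_ (le_sup_left.trans le_sup_left)
    rw [← hJeq]
    exact normalizer_le_normalizer_thompsonSubgroupOf _

end main

end Cfsg.Agent.Lib.Helper14.CopFF
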