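import Mathlib
import Cfsg.Agent.Lib.Helper14.CopFF8
import Cfsg.Agent.Lib.Helper14.CopFF10

/-!
# KS 9.3.11: the fixed points of a coprime action contain a natural `SL₂(p)`-section (helper14)
-/

set_option autoImplicit false

namespace Cfsg.Agent.Lib.Helper14.CopFF

open Cfsg Subgroup Cfsg.Agent.Lib.Helper14.Hol Cfsg.Agent.Lib.Helper14.Off
  Cfsg.Agent.Lib.Helper14.ThV Cfsg.Agent.Lib.Helper17
open scoped commutatorElement Pointwise

section main

variable {G : Type*} [Group G] [Finite G] {p : ℕ} [hp : Fact p.Prime] {q : ℕ} [hq : Fact q.Prime]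

set_option maxHeartbeats 1600000 in
/-- **KS 9.3.11**. -/
theorem sl2_in_fixed_points (K X : Subgroup G) (hXK : X ≤ Subgroup.normalizer (K : Set G))
    (hX : Cfsg.IsElementaryAbelian q X) (hqK : ¬ q ∣ Nat.card K)
    (hsep : Cfsg.IsPSolvable p ↥K) (hO : Cfsg.pPrimeCore p ↥K = ⊥)
    (hnf : ¬ Cfsg.IsThompsonFactorizable p ↥K) :
    (p = 2 ∨ p = 3) ∧ ∃ W D : Subgroup G, W ≤ K ⊓ Subgroup.centralizer (X : Set G) ∧
      D ≤ K ⊓ Subgroup.centralizer (X : Set G) ∧ Cfsg.IsElementaryAbelian p W ∧
      Nat.card W = p ^ 2 ∧ D ≤ Subgroup.normalizer (W : Set G) ∧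
      ∃ hn : ((Subgroup.centralizer (W : Set G)).subgroupOf D).Normal,
        Nonempty ((↥D ⧸ (Subgroup.centralizer (W : Set G)).subgroupOf D) ≃*
          Matrix.SpecialLinearGroup (Fin 2) (ZMod p)) := by
  classical
  obtain ⟨V, hVdef, hVn, hV, hOq, hJC⟩ := exists_V hsep hO hnf
  haveI := hVn
  have hQ : IsPGroup q ↥X := isPGroup_of_ea X hX
  have hinv : ∀ x : ↥X, ∀ v ∈ V, conjK K X hXK x v ∈ V := by
    intro x v hv
    rw [hVdef] at hv ⊢
    exact aut_mem_iSup_zOm (conjK K X hXK x) hv
  have hh := holHyp (conjK K X hXK) hQ hqK hsep V hV hOq hJC hinv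
  have hp23 := prime_two_three (Vh V) (hat V (Cfsg.thompsonSubgroup p ↥K)) hh.hV hh.hHV hh.hf
    hh.hS1 hh.hS3 hh.hH1
  obtain ⟨W', hW'le, hW'card, hW'n, hn', ⟨ψ⟩⟩ := exists_fixed_plane (Vh V)
    (hat V (Cfsg.thompsonSubgroup p ↥K)) hh.hV hh.hHV hh.hf hh.hS1 hh.hS3 hh.hH1
    (xhat (conjK K X hXK) V hinv).range hh.hXq hh.hXV hh.hXH hh.hqH
  refine ⟨hp23, ?_⟩
  -- the subgroups
  let emb : ↥V →* G := K.subtype.comp V.subtype
  have hemb : Function.Injective emb :=
    (Subgroup.subtype_injective K).comp (Subgroup.subtype_injective V)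
  let Wv : Subgroup ↥V := W'.comap (iV V)
  let DL : Subgroup ↥K := (Subgroup.centralizer (X : Set G)).subgroupOf K ⊓
    (hat V (Cfsg.thompsonSubgroup p ↥K)).comap (rho' V)
  have hWvmap : Wv.map (iV V) = W' := by
    apply Subgroup.map_comap_eq_self
    intro y hy
    exact (Subgroup.mem_inf.mp (hW'le hy)).1
  -- fixed elements
  have hfixL : ∀ k : ↥K, (k : G) ∈ Subgroup.centralizer (X : Set G) →
      ∀ x : ↥X, conjK K X hXK x k = k := by
    intro k hk x
    apply Subtype.ext
    rw [conjK_apply]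
    have := Subgroup.mem_centralizer_iff.mp hk x x.2
    rw [this]; group
  have hA : ∀ k ∈ DL, rho' V k ∈ hat V (Cfsg.thompsonSubgroup p ↥K) ⊓
      Subgroup.centralizer ((xhat (conjK K X hXK) V hinv).range : Set (Hl V)) := by
    intro k hk
    obtain ⟨hk1, hk2⟩ := Subgroup.mem_inf.mp hk
    refine Subgroup.mem_inf.mpr ⟨hk2, ?_⟩
    rw [Subgroup.mem_centralizer_iff]
    rintro _ ⟨x, rfl⟩
    have h1 := xhat_conj_rho' (conjK K X hXK) V hinv x k
    rw [hfixL k hk1 x] at h1
    calc xhat (conjK K X hXK) V hinv x * rho' V k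
        = xhat (conjK K X hXK) V hinv x * rho' V k * (xhat (conjK K X hXK) V hinv x)⁻¹ *
          xhat (conjK K X hXK) V hinv x := by group
      _ = rho' V k * xhat (conjK K X hXK) V hinv x := by rw [h1]
  -- conjugation on `V` versus the holomorph
  have hconj : ∀ (k : ↥K) (v : ↥V), (rho' V k * iV V v * (rho' V k)⁻¹ = iV V v) ↔
      (k : G) * emb v = emb v * (k : G) := by
    intro k v
    rw [conj_rho'_iV]
    constructor
    · intro h
      have h1 := congrArg Subtype.val (iV_injective V h)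
      rw [rho_apply] at h1
      have h2 := congrArg Subtype.val h1
      change (k : G) * emb v * (k : G)⁻¹ = emb v at h2
      calc (k : G) * emb v = (k : G) * emb v * (k : G)⁻¹ * (k : G) := by group
        _ = emb v * (k : G) := by rw [h2]
    · intro h
      congr 1
      apply Subtype.ext
      rw [rho_apply]
      apply Subtype.ext
      change (k : G) * emb v * (k : G)⁻¹ = emb v
      rw [h]; group
  refine ⟨Wv.map emb, DL.map K.subtype, ?_, ?_, ?_, ?_, ?_, ?_⟩
  · -- W ≤ K ⊓ C(X)
    rintro _ ⟨v, hv, rfl⟩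
    refine Subgroup.mem_inf.mpr ⟨(v : ↥K).2, ?_⟩
    rw [Subgroup.mem_centralizer_iff]
    intro x hx
    have h1 : iV V v ∈ Subgroup.centralizer
        ((xhat (conjK K X hXK) V hinv).range : Set (Hl V)) := (Subgroup.mem_inf.mp (hW'le hv)).2
    have h2 := Subgroup.mem_centralizer_iff.mp h1 (xhat (conjK K X hXK) V hinv ⟨x, hx⟩) ⟨_, rfl⟩
    have h3 := xhat_conj_iV (conjK K X hXK) V hinv ⟨x, hx⟩ v
    have h4 : xhat (conjK K X hXK) V hinv ⟨x, hx⟩ * iV V v *
        (xhat (conjK K X hXK) V hinv ⟨x, hx⟩)⁻¹ = iV V v := by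
      rw [h2]; group
    rw [h4] at h3
    have h5 := congrArg Subtype.val (iV_injective V h3)
    rw [resV_apply] at h5
    have h6 := congrArg Subtype.val h5
    rw [conjK_apply] at h6
    change emb v = x * emb v * x⁻¹ at h6
    calc x * emb v = x * emb v * x⁻¹ * x := by group
      _ = emb v * x := by rw [← h6]
  · -- D ≤ K ⊓ C(X)
    rintro _ ⟨k, hk, rfl⟩
    exact Subgroup.mem_inf.mpr ⟨k.2, (Subgroup.mem_inf.mp hk).1⟩
  · -- elementary abelian
    rw [ea_iff]
    constructor
    · rintro _ ⟨v, -, rfl⟩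
      rw [Subgroup.mem_centralizer_iff]
      rintro _ ⟨v', -, rfl⟩
      have := ea_comm hV v'.2 v.2
      exact congrArg Subtype.val this
    · rintro _ ⟨v, -, rfl⟩
      have := hV.2 v v.2
      have h2 := congrArg Subtype.val this
      rw [Subgroup.coe_pow] at h2
      exact h2
  · -- order
    rw [Subgroup.card_map_of_injective hemb, ← hW'card, ← hWvmap,
      Subgroup.card_map_of_injective (iV_injective V)]
  · -- D normalizes W
    apply le_normalizer_of_forall_conj_mem
    rintro _ ⟨k, hk, rfl⟩ _ ⟨v, hv, rfl⟩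
    have h1 := hW'n (hA k hk)
    have h2 : rho' V k * iV V v * (rho' V k)⁻¹ ∈ W' :=
      (Subgroup.mem_normalizer_iff.mp h1 _).mp hv
    rw [conj_rho'_iV] at h2
    refine ⟨rho V k v, h2, ?_⟩
    change ((rho V k v : ↥V) : ↥K).1 = (k : G) * emb v * (k : G)⁻¹
    rw [rho_apply]
    rfl
  · -- the quotient
    have hDK : DL.map K.subtype ≤ K := Subgroup.map_subtype_le _
    have hincl : ∀ d : ↥(DL.map K.subtype), Subgroup.inclusion hDK d ∈ DL := by
      rintro ⟨d, ⟨k, hk, rfl⟩⟩
      have : Subgroup.inclusion hDK ⟨K.subtype k, ⟨k, hk, rfl⟩⟩ = k := Subtype.ext rfl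
      rw [this]; exact hk
    have hCinv : ∀ x : ↥X, ∀ c ∈ centralizer (V : Set ↥K),
        conjK K X hXK x c ∈ centralizer (V : Set ↥K) := by
      intro x c hc
      rw [Subgroup.mem_centralizer_iff] at hc ⊢
      intro v hv
      have h1 := hc ((conjK K X hXK x)⁻¹ v) (by
        have := hinv x⁻¹ v hv
        rwa [map_inv] at this)
      have h2 := congrArg (conjK K X hXK x) h1
      simpa using h2
    have hqC : ¬ q ∣ Nat.card ↥(centralizer (V : Set ↥K)) :=
      fun h => hqK (h.trans (Subgroup.card_subgroup_dvd_card _))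
    let g : ↥(DL.map K.subtype) →* ↥(hat V (Cfsg.thompsonSubgroup p ↥K) ⊓
        Subgroup.centralizer ((xhat (conjK K X hXK) V hinv).range : Set (Hl V)) : Subgroup (Hl V)) :=
      ((rho' V).comp (Subgroup.inclusion hDK)).codRestrict _ (fun d => hA _ (hincl d))
    have hg : ∀ d : ↥(DL.map K.subtype), ((g d : ↥(hat V (Cfsg.thompsonSubgroup p ↥K) ⊓
        Subgroup.centralizer ((xhat (conjK K X hXK) V hinv).range : Set (Hl V)) :
        Subgroup (Hl V))) : Hl V) = rho' V (Subgroup.inclusion hDK d) := fun d => rfl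
    have hgsurj : Function.Surjective g := by
      rintro ⟨y, hy⟩
      obtain ⟨hy1, hcent⟩ := Subgroup.mem_inf.mp hy
      obtain ⟨j, hj, rfl⟩ := hy1
      have hk : ∀ x : ↥X, j⁻¹ * conjK K X hXK x j ∈ centralizer (V : Set ↥K) := by
        intro x
        have h1 := Subgroup.mem_centralizer_iff.mp hcent (xhat (conjK K X hXK) V hinv x) ⟨x, rfl⟩
        have h2 := xhat_conj_rho' (conjK K X hXK) V hinv x j
        have h3 : xhat (conjK K X hXK) V hinv x * rho' V j *
            (xhat (conjK K X hXK) V hinv x)⁻¹ = rho' V j := by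
          rw [h1]; group
        rw [h3] at h2
        rw [← rho'_ker, MonoidHom.mem_ker, map_mul, map_inv, ← h2, inv_mul_cancel]
      obtain ⟨c, hcC, hfixed⟩ := exists_fixed_in_coset (conjK K X hXK) hQ
        (centralizer (V : Set ↥K)) hCinv hqC j hk
      have hcker : c ∈ (rho' V).ker := by rw [rho'_ker]; exact hcC
      have hrho : rho' V (j * c) = rho' V j := by
        rw [map_mul, MonoidHom.mem_ker.mp hcker, mul_one]
      have hkD : j * c ∈ DL := by
        refine Subgroup.mem_inf.mpr ⟨?_, ?_⟩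
        · rw [Subgroup.mem_subgroupOf, Subgroup.mem_centralizer_iff]
          intro x hx
          have h1 := congrArg Subtype.val (hfixed ⟨x, hx⟩)
          rw [conjK_apply] at h1
          change x * ((j * c : ↥K) : G) * x⁻¹ = ((j * c : ↥K) : G) at h1
          calc x * ((j * c : ↥K) : G) = x * ((j * c : ↥K) : G) * x⁻¹ * x := by group
            _ = ((j * c : ↥K) : G) * x := by rw [h1]
        · rw [Subgroup.mem_comap, hrho]
          exact ⟨j, hj, rfl⟩
      refine ⟨⟨K.subtype (j * c), ⟨_, hkD, rfl⟩⟩, Subtype.ext ?_⟩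
      rw [hg]
      have : Subgroup.inclusion hDK ⟨K.subtype (j * c), ⟨_, hkD, rfl⟩⟩ = j * c := Subtype.ext rfl
      rw [this, hrho]
    haveI := hn'
    let f := (QuotientGroup.mk' ((Subgroup.centralizer (W' : Set (Hl V))).subgroupOf
      (hat V (Cfsg.thompsonSubgroup p ↥K) ⊓
        Subgroup.centralizer ((xhat (conjK K X hXK) V hinv).range : Set (Hl V))))).comp g
    have hfsurj : Function.Surjective f :=
      (QuotientGroup.mk'_surjective _).comp hgsurj
    have hker : f.ker = (Subgroup.centralizer ((Wv.map emb : Subgroup G) : Set G)).subgroupOf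
        (DL.map K.subtype) := by
      ext d
      rw [MonoidHom.mem_ker]
      change QuotientGroup.mk' _ (g d) = 1 ↔ _
      rw [QuotientGroup.mk'_apply, QuotientGroup.eq_one_iff, Subgroup.mem_subgroupOf,
        Subgroup.mem_subgroupOf, hg]
      have hdk : ((Subgroup.inclusion hDK d : ↥K) : G) = d := rfl
      constructor
      · intro h
        rw [Subgroup.mem_centralizer_iff]
        rintro _ ⟨v, hv, rfl⟩
        have h1 := Subgroup.mem_centralizer_iff.mp h (iV V v) hv
        have h2 := (hconj (Subgroup.inclusion hDK d) v).mp (by rw [← h1]; group)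
        rw [hdk] at h2
        exact h2.symm
      · intro h
        rw [Subgroup.mem_centralizer_iff]
        intro y hy
        rw [← hWvmap] at hy
        obtain ⟨v, hv, rfl⟩ := hy
        have h1 := Subgroup.mem_centralizer_iff.mp h (emb v) ⟨v, hv, rfl⟩
        have h2 := (hconj (Subgroup.inclusion hDK d) v).mpr (by rw [hdk]; exact h1.symm)
        calc iV V v * rho' V (Subgroup.inclusion hDK d)
            = (rho' V (Subgroup.inclusion hDK d) * iV V v *
              (rho' V (Subgroup.inclusion hDK d))⁻¹) * rho' V (Subgroup.inclusion hDK d) := by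
              rw [h2]
          _ = rho' V (Subgroup.inclusion hDK d) * iV V v := by group
    have hn : ((Subgroup.centralizer ((Wv.map emb : Subgroup G) : Set G)).subgroupOf
        (DL.map K.subtype)).Normal := by
      rw [← hker]; infer_instance
    refine ⟨hn, ?_⟩
    exact ⟨(QuotientGroup.quotientMulEquivOfEq hker.symm).trans
      ((QuotientGroup.quotientKerEquivOfSurjective f hfsurj).trans ψ)⟩

end main

end Cfsg.Agent.Lib.Helper14.CopFF
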