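import Mathlib
import Cfsg.Agent.S3734
import Cfsg.Agent.Lib.Helper14.CopFF4

/-!
# Tools for `p`-soluble groups with `Φ(A) ≤ O_p(M)` (helper14)
-/

set_option autoImplicit false

namespace Cfsg.Agent.Lib.Helper14.PSol

open Subgroup
open scoped commutatorElement
open Cfsg.Agent.Lib.Helper14.CopFF

variable {G : Type*} [Group G]

/-- lifting a `p'`-element through a homomorphism as a `p'`-power of a preimage -/
theorem pprime_power_lift [Finite G] {H : Type*} [Group H] (f : G →* H) {p : ℕ} [hp : Fact p.Prime]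
    (l : G) (h : (orderOf (f l)).Coprime p) :
    ∃ k : ℕ, (orderOf (l ^ k)).Coprime p ∧ f (l ^ k) = f l := by
  obtain ⟨e, m, hm, hn⟩ := Nat.exists_eq_pow_mul_and_not_dvd (orderOf_pos l).ne' p hp.out.ne_one
  have hcop : (p ^ e).Coprime (orderOf (f l)) := (Nat.Coprime.pow_right e h).symm
  obtain ⟨j, hj⟩ := exists_pow_eq_self_of_coprime hcop
  refine ⟨p ^ e * j, ?_, ?_⟩
  · rw [pow_mul]
    have h1 : orderOf (l ^ p ^ e) = m := by
      rw [orderOf_pow' l (pow_pos hp.out.pos e).ne', hn]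
      have : Nat.gcd (p ^ e * m) (p ^ e) = p ^ e := Nat.gcd_eq_right (dvd_mul_right _ _)
      rw [this, Nat.mul_div_cancel_left _ (pow_pos hp.out.pos e)]
    have h2 : orderOf ((l ^ p ^ e) ^ j) ∣ m := h1 ▸ orderOf_pow_dvd j
    have h3 : m.Coprime p := ((Nat.Prime.coprime_iff_not_dvd hp.out).mpr hm).symm
    exact Nat.Coprime.coprime_dvd_left h2 h3
  · rw [pow_mul, map_pow, map_pow]
    exact hj

/-- a `p'`-element of `N ⊔ A`, `A` a `p`-group normalizing `N`, lies in `N` -/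
theorem pprime_mem_of_sup [Finite G] {p : ℕ} [hp : Fact p.Prime] (N A : Subgroup G)
    (hAN : A ≤ normalizer (N : Set G)) (hA : IsPGroup p A) (g : G) (hg : g ∈ N ⊔ A)
    (hcop : (orderOf g).Coprime p) : g ∈ N := by
  have hle : N ≤ N ⊔ A := le_sup_left
  have hEN : N ⊔ A ≤ normalizer (N : Set G) := sup_le le_normalizer hAN
  haveI hn : (N.subgroupOf (N ⊔ A)).Normal :=
    (Subgroup.normal_subgroupOf_iff_le_normalizer hle).mpr hEN
  have h1 : N.relIndex A = N.relIndex (A ⊔ N) := by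
    letI := Subgroup.normal_subgroupOf_of_le_normalizer hAN
    letI := Subgroup.normal_subgroupOf_sup_of_le_normalizer hAN
    exact Nat.card_congr (QuotientGroup.quotientInfEquivProdNormalizerQuotient A N hAN).toEquiv
  obtain ⟨n, hn'⟩ := hA.exists_card_eq
  have h2 : N.relIndex A ∣ p ^ n := hn' ▸ Subgroup.relIndex_dvd_card _ _
  obtain ⟨j, -, hj⟩ := (Nat.dvd_prime_pow hp.out).mp h2
  have h3 := Subgroup.pow_index_mem (N.subgroupOf (N ⊔ A)) (⟨g, hg⟩ : ↥(N ⊔ A))
  have h4 : (N.subgroupOf (N ⊔ A)).index = p ^ j := by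
    have : (N.subgroupOf (N ⊔ A)).index = N.relIndex (N ⊔ A) := rfl
    rw [this, sup_comm, ← h1, hj]
  rw [h4, Subgroup.mem_subgroupOf] at h3
  have h5 : g ^ p ^ j ∈ N := by simpa using h3
  have h6 : g ∈ zpowers (g ^ p ^ j) :=
    mem_zpowers_pow_of_coprime g (p ^ j) (Nat.Coprime.pow_right j hcop)
  exact (zpowers_le.mpr h5) h6

/-- coprime action, one element: `[x, a, a] = 1 ⇒ [x, a] = 1` -/
theorem comm_comm_ne_one [Finite G] {p : ℕ} [hp : Fact p.Prime] (K : Subgroup G) [hK : K.Normal]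
    (hKcop : (Nat.card K).Coprime p) (a x : G) (ha : a ^ p = 1) (hx : x ∈ K)
    (hne : ⁅x, a⁆ ≠ 1) : ⁅⁅x, a⁆, a⁆ ≠ 1 := by
  intro h
  apply hne
  have hs : ⁅x, a⁆ ∈ K := by
    rw [commutatorElement_def]
    have : x * a * x⁻¹ * a⁻¹ = x * (a * x⁻¹ * a⁻¹) := by group
    rw [this]
    exact mul_mem hx (hK.conj_mem _ (inv_mem hx) a)
  have hc : Commute ⁅x, a⁆ a := commutatorElement_eq_one_iff_commute.mp h
  have ht : ⁅x, a⁆ * a = x * a * x⁻¹ := by rw [commutatorElement_def]; group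
  have h1 : (⁅x, a⁆ * a) ^ p = 1 := by
    rw [ht, conj_pow, ha]; group
  rw [hc.mul_pow, ha, mul_one] at h1
  have h2 : orderOf ⁅x, a⁆ ∣ p := orderOf_dvd_of_pow_eq_one h1
  have h3 : orderOf ⁅x, a⁆ ∣ Nat.card K := Subgroup.orderOf_dvd_natCard K hs
  have h4 : orderOf ⁅x, a⁆ = 1 := Nat.eq_one_of_dvd_coprimes hKcop.symm h2 h3
  exact orderOf_eq_one_iff.mp h4

/-- existence of a "good hyperplane" -/
theorem exists_hyperplane [Finite G] {p : ℕ} [hp : Fact p.Prime] (K A : Subgroup G) [hK : K.Normal]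
    (hKcop : (Nat.card K).Coprime p) (hKself : centralizer (K : Set G) ≤ K)
    (hAab : IsMulCommutative A) (hAp : IsPGroup p A) (hA1 : A ≠ ⊥) :
    ∃ B : Subgroup G, B ≤ A ∧ ∃ a ∈ A, B ⊔ zpowers a = A ∧
      ∃ y ∈ K ⊓ centralizer (B : Set G), a * y ≠ y * a := by
  by_contra hcon
  push Not at hcon
  apply hA1
  have hAK : A ≤ normalizer (K : Set G) := by
    rw [Subgroup.normalizer_eq_top]; exact le_top
  have hcop : (Nat.card A).Coprime (Nat.card K) := by
    obtain ⟨n, hn⟩ := hAp.exists_card_eq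
    rw [hn]
    exact Nat.Coprime.pow_left n hKcop.symm
  have hgen := (Cfsg.Agent.S3734.result A K hAab hAK hcop).1
  have hKA : K ≤ centralizer (A : Set G) := by
    rw [← hgen]
    apply iSup₂_le
    intro B hB
    obtain ⟨hBA, a, ha, hsup⟩ := hB
    intro y hy
    rw [Subgroup.mem_centralizer_iff]
    have hle : A ≤ centralizer ({y} : Set G) := by
      rw [← hsup]
      apply sup_le
      · intro b hb
        rw [Subgroup.mem_centralizer_iff]
        intro t ht
        rw [Set.mem_singleton_iff.mp ht]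
        exact (Subgroup.mem_centralizer_iff.mp hy.2 b hb).symm
      · rw [zpowers_le, Subgroup.mem_centralizer_iff]
        intro t ht
        rw [Set.mem_singleton_iff.mp ht]
        exact (hcon B hBA a ha hsup y hy).symm
    intro u hu
    have := Subgroup.mem_centralizer_iff.mp (hle hu) y rfl
    exact this.symm
  have hAK' : A ≤ K := (Subgroup.le_centralizer_iff.mp hKA).trans hKself
  obtain ⟨n, hn⟩ := hAp.exists_card_eq
  have hdvd : Nat.card A ∣ Nat.card K := Subgroup.card_dvd_of_le hAK'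
  have hc : (Nat.card A).Coprime p := Nat.Coprime.coprime_dvd_left hdvd hKcop
  apply Subgroup.eq_bot_of_card_eq
  rw [hn] at hc ⊢
  rcases Nat.eq_zero_or_pos n with h0 | hpos
  · rw [h0, pow_zero]
  · exfalso
    have : p ∣ p ^ n := dvd_pow_self p hpos.ne'
    have h1 : p ∣ Nat.gcd (p ^ n) p := Nat.dvd_gcd this dvd_rfl
    rw [hc] at h1
    exact hp.out.one_lt.ne' (Nat.dvd_one.mp h1)

end Cfsg.Agent.Lib.Helper14.PSol
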