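import Mathlib
import Cfsg.Prelude.Def_Local
import Cfsg.Prelude.Def_CaseTheorems
import Cfsg.Agent.Lib.Helper14.CopP1
import Cfsg.Agent.Lib.Helper14.DualHH
import Cfsg.Agent.Lib.Helper14.Offender1
import Cfsg.Agent.Lib.Helper2.Cores
import Cfsg.Agent.Lib.Helper16.ResidualQuot
import Cfsg.Agent.Lib.Helper4.CoprimeDerived
import Cfsg.Agent.Lib.Helper11.PGroupFrattini
import Cfsg.Agent.Lib.Helper13.Coprime

/-!
# `p`-soluble groups and `p`-subgroups with `Φ(A) ≤ O_p(M)` (helper14)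
-/

set_option autoImplicit false

namespace Cfsg.Agent.Lib.Helper14.PSol

open Subgroup Cfsg
open scoped commutatorElement

variable {M : Type*} [Group M]

theorem pCore_quotient_eq_bot' [Finite M] (p : ℕ) [Fact p.Prime]
    [hn : (pCore p M).Normal] : pCore p (M ⧸ pCore p M) = ⊥ := by
  have hn2 : (pCore p (M ⧸ pCore p M)).Normal := Cfsg.Agent.Lib.Helper2.pCore_normal p
  have hMn : ((pCore p (M ⧸ pCore p M)).comap (QuotientGroup.mk' (pCore p M))).Normal :=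
    hn2.comap _
  have hMp : IsPGroup p ((pCore p (M ⧸ pCore p M)).comap (QuotientGroup.mk' (pCore p M))) :=
    (Cfsg.Agent.Lib.Helper2.pCore_isPGroup p).comap_of_ker_isPGroup _
      (by rw [QuotientGroup.ker_mk']; exact Cfsg.Agent.Lib.Helper2.pCore_isPGroup p)
  have hle := Cfsg.Agent.Lib.Helper2.le_pCore hMn hMp
  rw [eq_bot_iff]
  intro xb hxb
  obtain ⟨x, rfl⟩ := QuotientGroup.mk'_surjective (pCore p M) xb
  rw [Subgroup.mem_bot]
  exact (QuotientGroup.eq_one_iff x).mpr (hle hxb)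

/-- `L_x = ⟨A, A^x⟩` -/
def LL (A : Subgroup M) (x : M) : Subgroup M := A ⊔ A.map (MulAut.conj x).toMonoidHom

theorem le_LL (A : Subgroup M) (x : M) : A ≤ LL A x := le_sup_left

theorem conj_mem_LL (A : Subgroup M) (x : M) {u : M} (hu : u ∈ A) : x * u * x⁻¹ ∈ LL A x :=
  le_sup_right (a := A) (Subgroup.mem_map.mpr ⟨u, hu, by simp [MulAut.conj_apply]⟩)

theorem LL_le (A : Subgroup M) (x : M) {H : Subgroup M} (hA : A ≤ H)
    (hx : ∀ u ∈ A, x * u * x⁻¹ ∈ H) : LL A x ≤ H := by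
  apply sup_le hA
  rintro _ ⟨u, hu, rfl⟩
  simpa [MulAut.conj_apply] using hx u hu

theorem LL_le_of_mem (A : Subgroup M) {x x' : M} (hx' : x' ∈ LL A x) : LL A x' ≤ LL A x :=
  LL_le A x' (le_LL A x) (fun _ hu =>
    mul_mem (mul_mem hx' (le_LL A x hu)) (inv_mem hx'))

/-- selecting the hyperplane, the element `a` and the `p'`-element `x` with `x ∈ L_x` -/
theorem exists_x [Finite M] {p : ℕ} [hp : Fact p.Prime] (hM : IsPSolvable p M) (A : Subgroup M)
    (hA : IsPGroup p A) (hΦ : (frattini ↥A).map A.subtype ≤ pCore p M) (hnot : ¬ A ≤ pCore p M) :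
    ∃ (Bb : Subgroup (M ⧸ pCore p M)) (a x : M),
      Bb ≤ A.map (QuotientGroup.mk' (pCore p M)) ∧ a ∈ A ∧
      IsMulCommutative (A.map (QuotientGroup.mk' (pCore p M))) ∧
      (∀ u ∈ A.map (QuotientGroup.mk' (pCore p M)), u ^ p = 1) ∧
      Bb.relIndex (A.map (QuotientGroup.mk' (pCore p M))) = p ∧
      QuotientGroup.mk' (pCore p M) x ∈ pPrimeCore p (M ⧸ pCore p M) ∧
      QuotientGroup.mk' (pCore p M) x ∈ centralizer (Bb : Set (M ⧸ pCore p M)) ∧
      ⁅QuotientGroup.mk' (pCore p M) x, QuotientGroup.mk' (pCore p M) a⁆ ≠ 1 ∧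
      (orderOf x).Coprime p ∧ x ∈ LL A x := by
  classical
  set Q := pCore p M with hQ
  set π := QuotientGroup.mk' Q with hπ
  set K := pPrimeCore p (M ⧸ Q) with hK
  have hKcop : (Nat.card K).Coprime p := Cfsg.Agent.Lib.Helper2.pPrimeCore_coprime p
  have hKself : centralizer (K : Set (M ⧸ Q)) ≤ K :=
    centralizer_pPrimeCore_le (Cfsg.Agent.Lib.Helper3.isPSolvable_quotient hp.out hM Q)
      (pCore_quotient_eq_bot' p)
  set Ab := A.map π with hAb
  have hAbp : IsPGroup p Ab := hA.map π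
  -- commutators and p-th powers of A lie in Q
  have hcommQ : ∀ u ∈ A, ∀ v ∈ A, ⁅u, v⁆ ∈ Q := by
    intro u hu v hv
    apply hΦ
    have h1 : ⁅(⟨u, hu⟩ : ↥A), ⟨v, hv⟩⁆ ∈ commutator ↥A :=
      Subgroup.commutator_mem_commutator (Subgroup.mem_top _) (Subgroup.mem_top _)
    have h2 := Cfsg.Agent.Lib.Helper4.commutator_le_frattini hA h1
    exact Subgroup.mem_map.mpr ⟨_, h2, rfl⟩
  have hpowQ : ∀ u ∈ A, u ^ p ∈ Q := by
    intro u hu
    apply hΦ
    have h2 := Cfsg.Agent.Lib.Helper11.pow_mem_frattini_of_isPGroup hA (⟨u, hu⟩ : ↥A)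
    exact Subgroup.mem_map.mpr ⟨_, h2, rfl⟩
  have hAbab : IsMulCommutative Ab := by
    refine ⟨⟨?_⟩⟩
    rintro ⟨_, u, hu, rfl⟩ ⟨_, v, hv, rfl⟩
    apply Subtype.ext
    show π u * π v = π v * π u
    have h1 : π ⁅u, v⁆ = 1 := (QuotientGroup.eq_one_iff _).mpr (hcommQ u hu v hv)
    rw [map_commutatorElement] at h1
    exact commutatorElement_eq_one_iff_mul_comm.mp h1
  have hAbexp : ∀ u ∈ Ab, u ^ p = 1 := by
    rintro _ ⟨u, hu, rfl⟩
    rw [← map_pow]
    exact (QuotientGroup.eq_one_iff _).mpr (hpowQ u hu)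
  have hAb1 : Ab ≠ ⊥ := by
    intro h
    apply hnot
    intro u hu
    have : π u ∈ Ab := Subgroup.mem_map_of_mem _ hu
    rw [h, Subgroup.mem_bot] at this
    exact (QuotientGroup.eq_one_iff u).mp this
  obtain ⟨Bb, hBbA, ab, hab, hsup, y, hy, hay⟩ :=
    exists_hyperplane K Ab hKcop hKself hAbab hAbp hAb1
  obtain ⟨a, haA, rfl⟩ := Subgroup.mem_map.mp hab
  -- index
  have hBbne : Bb ≠ Ab := by
    intro h
    apply hay
    have h1 : π a ∈ Bb := by rw [h]; exact hab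
    exact (Subgroup.mem_centralizer_iff.mp hy.2 _ h1)
  have hidx : Bb.relIndex Ab = p := by
    have h1 := Cfsg.Agent.Lib.Helper14.Off.card_dvd_of_sup_zpowers Ab Bb hAbab hBbA (π a) hab
      (hAbexp _ hab) hsup
    have h2 := Cfsg.Agent.S0598.card_mul_relIndex hBbA
    rw [← h2] at h1
    have h3 : Bb.relIndex Ab ∣ p := Nat.dvd_of_mul_dvd_mul_left Nat.card_pos h1
    rcases (Nat.dvd_prime hp.out).mp h3 with h | h
    · exfalso
      exact hBbne (le_antisymm hBbA (Subgroup.relIndex_eq_one.mp h))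
    · exact h
  -- the predicate
  let X : M → Prop := fun x => π x ∈ K ∧ π x ∈ centralizer (Bb : Set (M ⧸ Q)) ∧
    ⁅π x, π a⁆ ≠ 1 ∧ (orderOf x).Coprime p
  have hKord : ∀ k ∈ K, (orderOf k).Coprime p := fun k hk =>
    Nat.Coprime.coprime_dvd_left (Subgroup.orderOf_dvd_natCard K hk) hKcop
  have haB : π a ∈ centralizer (Bb : Set (M ⧸ Q)) := by
    rw [Subgroup.mem_centralizer_iff]
    intro b hb
    have := hAbab.is_comm.comm ⟨b, hBbA hb⟩ ⟨π a, hab⟩
    exact congrArg Subtype.val this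
  -- initial element
  have hX0 : ∃ x, X x := by
    obtain ⟨x₀, rfl⟩ := QuotientGroup.mk'_surjective Q y
    obtain ⟨k, hk1, hk2⟩ := pprime_power_lift π x₀ (hKord _ hy.1)
    refine ⟨x₀ ^ k, ?_, ?_, ?_, hk1⟩
    · rw [hk2]; exact hy.1
    · rw [hk2]; exact hy.2
    · rw [hk2]
      intro h
      apply hay
      have := commutatorElement_eq_one_iff_mul_comm.mp h
      exact this.symm
  -- the step
  have hstep : ∀ x, X x → ∃ x', X x' ∧ x' ∈ LL A x := by
    rintro x ⟨hx1, hx2, hx3, hx4⟩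
    have hlL : ⁅x, a⁆ ∈ LL A x := by
      rw [commutatorElement_def]
      exact mul_mem (conj_mem_LL A x haA) (inv_mem (le_LL A x haA))
    have hs0K : ⁅π x, π a⁆ ∈ K := by
      rw [commutatorElement_def]
      have : π x * π a * (π x)⁻¹ * (π a)⁻¹ = π x * (π a * (π x)⁻¹ * (π a)⁻¹) := by group
      rw [this]
      exact mul_mem hx1 ((Cfsg.Agent.Lib.Helper2.pPrimeCore_normal p).conj_mem _ (inv_mem hx1) _)
    have hπl : π ⁅x, a⁆ = ⁅π x, π a⁆ := map_commutatorElement π x a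
    obtain ⟨k, hk1, hk2⟩ := pprime_power_lift π ⁅x, a⁆ (by rw [hπl]; exact hKord _ hs0K)
    refine ⟨⁅x, a⁆ ^ k, ⟨?_, ?_, ?_, hk1⟩, pow_mem hlL k⟩
    · rw [hk2, hπl]; exact hs0K
    · rw [hk2, hπl, commutatorElement_def]
      exact mul_mem (mul_mem (mul_mem hx2 haB) (inv_mem hx2)) (inv_mem haB)
    · rw [hk2, hπl]
      exact comm_comm_ne_one K hKcop (π a) (π x) (hAbexp _ hab) hx1 hx3
  -- minimal choice
  obtain ⟨x₁, hx₁⟩ := hX0
  have : Nonempty {x : M // X x} := ⟨⟨x₁, hx₁⟩⟩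
  obtain ⟨⟨x, hx⟩, hmin⟩ := Finite.exists_min (fun x : {x : M // X x} => Nat.card (LL A x.1))
  obtain ⟨x', hx', hx'L⟩ := hstep x hx
  have hle : LL A x' ≤ LL A x := LL_le_of_mem A hx'L
  have hge := hmin ⟨x', hx'⟩
  have heq : LL A x' = LL A x := Subgroup.eq_of_le_of_card_ge hle hge
  refine ⟨Bb, a, x', hBbA, haA, hAbab, hAbexp, hidx, hx'.1, hx'.2.1, hx'.2.2.1, hx'.2.2.2, ?_⟩
  rw [heq]; exact hx'L

end Cfsg.Agent.Lib.Helper14.PSol
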