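import Mathlib
import Cfsg.Agent.Lib.Helper14.CopP2

/-!
# The subgroup `L = ⟨A, A^x⟩` in a `p`-soluble group (helper14)
-/

set_option autoImplicit false

namespace Cfsg.Agent.Lib.Helper14.PSol

open Subgroup Cfsg
open scoped commutatorElement

variable {M : Type*} [Group M]

theorem lt_index_prime {H : Type*} [Group H] {p : ℕ} (hp : p.Prime) (B B' A : Subgroup H)
    (hBB' : B ≤ B') (hB'A : B' ≤ A) (hne : ¬ B' ≤ B) (hidx : B.relIndex A = p) : A ≤ B' := by
  have h1 := Subgroup.relIndex_mul_relIndex B B' A hBB' hB'A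
  rw [hidx] at h1
  have h2 : B.relIndex B' ∣ p := Dvd.intro _ h1
  rcases (Nat.dvd_prime hp).mp h2 with h | h
  · exact absurd (Subgroup.relIndex_eq_one.mp h) hne
  · rw [h] at h1
    have h3 : B'.relIndex A = 1 := by
      have : p * B'.relIndex A = p * 1 := by rw [h1, mul_one]
      exact Nat.eq_of_mul_eq_mul_left hp.pos this
    exact Subgroup.relIndex_eq_one.mp h3

theorem main [Finite M] {p : ℕ} [hp : Fact p.Prime] (hM : IsPSolvable p M) (A : Subgroup M)
    (hA : IsPGroup p A) (hΦ : (frattini ↥A).map A.subtype ≤ pCore p M) (hnot : ¬ A ≤ pCore p M) :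
    ∃ x ∈ (pPrimeCore p (M ⧸ pCore p M)).comap (QuotientGroup.mk' (pCore p M)),
      x ∈ (pResidual p ↥(LL A x)).map (LL A x).subtype ∧
      (pResidual p ↥(LL A x)).map (LL A x).subtype ≤
        (pPrimeCore p (M ⧸ pCore p M)).comap (QuotientGroup.mk' (pCore p M)) ∧
      ⁅(pResidual p ↥(LL A x)).map (LL A x).subtype, A⁆ =
        (pResidual p ↥(LL A x)).map (LL A x).subtype ∧
      (A ⊓ (pCore p ↥(LL A x)).map (LL A x).subtype).relIndex A = p ∧
      ⁅A ⊓ (pCore p ↥(LL A x)).map (LL A x).subtype, LL A x⁆ ≤ pCore p M := by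
  classical
  obtain ⟨Bb, a, x, hBbA, haA, hAbab, hAbexp, hidx, hx1, hx2, hx3, hx4, hxL⟩ :=
    exists_x hM A hA hΦ hnot
  set Q := pCore p M with hQ
  set π := QuotientGroup.mk' Q with hπ
  set K := pPrimeCore p (M ⧸ Q) with hK
  set T := K.comap π with hT
  set L := LL A x with hL
  set R := (pResidual p ↥L).map L.subtype with hR
  set OpL := (pCore p ↥L).map L.subtype with hOpL
  set Ab := A.map π with hAb
  have hKcop : (Nat.card K).Coprime p := Cfsg.Agent.Lib.Helper2.pPrimeCore_coprime p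
  have hQp : IsPGroup p Q := Cfsg.Agent.Lib.Helper2.pCore_isPGroup p
  have hxT : x ∈ T := hx1
  have hAL : A ≤ L := le_LL A x
  -- (1)
  have h1 : x ∈ R := by
    refine Subgroup.mem_map.mpr ⟨⟨x, hxL⟩, Subgroup.subset_closure ?_, rfl⟩
    show (orderOf (⟨x, hxL⟩ : ↥L)).Coprime p
    rw [Subgroup.orderOf_mk]; exact hx4
  have hRL : R ≤ L := Subgroup.map_subtype_le _
  -- p'-elements of L
  have hgen : ∀ N : Subgroup M, A ≤ normalizer (N : Set M) → L ≤ N ⊔ A → R ≤ N := by
    intro N hAN hLN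
    rw [hR, Subgroup.map_le_iff_le_comap]
    unfold Cfsg.pResidual
    rw [Subgroup.closure_le]
    intro g hg
    rw [SetLike.mem_coe, Subgroup.mem_comap]
    have hg' : (orderOf (g : M)).Coprime p := by
      rw [Subgroup.orderOf_coe]; exact hg
    exact pprime_mem_of_sup N A hAN hA (g : M) (hLN g.2) hg'
  have hconj : ∀ u : M, x * u * x⁻¹ = ⁅x, u⁆ * u := by
    intro u; rw [commutatorElement_def]; group
  -- (2)
  have h2 : R ≤ T := by
    apply hgen T
    · rw [Subgroup.normalizer_eq_top]; exact le_top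
    · apply LL_le A x le_sup_right
      intro u hu
      rw [hconj]
      refine mul_mem (le_sup_left (a := T) ?_) (le_sup_right (a := T) hu)
      rw [commutatorElement_def]
      have : x * u * x⁻¹ * u⁻¹ = x * (u * x⁻¹ * u⁻¹) := by group
      rw [this]
      have hTn : T.Normal := (Cfsg.Agent.Lib.Helper2.pPrimeCore_normal p).comap _
      exact mul_mem hxT (hTn.conj_mem _ (inv_mem hxT) u)
  -- A normalizes R
  have hLR : L ≤ normalizer (R : Set M) := by
    haveI := Cfsg.Agent.Lib.Helper16.pResidual_normal (G := ↥L) p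
    have h := Subgroup.le_normalizer_map (H := Cfsg.pResidual p ↥L) L.subtype
    rw [Subgroup.normalizer_eq_top, ← MonoidHom.range_eq_map, Subgroup.range_subtype] at h
    exact h
  have hAR : A ≤ normalizer (R : Set M) := hAL.trans hLR
  -- (3)
  have h3 : ⁅R, A⁆ = R := by
    apply le_antisymm (Cfsg.Agent.Lib.Helper13.commutator_le_of_le_normalizer R A hAR)
    apply hgen ⁅R, A⁆ (le_sup_right.trans (Cfsg.Agent.Lib.Helper13.le_normalizer_commutator R A))
    apply LL_le A x le_sup_right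
    intro u hu
    rw [hconj]
    exact mul_mem (le_sup_left (a := ⁅R, A⁆) (Subgroup.commutator_mem_commutator h1 hu))
      (le_sup_right (a := ⁅R, A⁆) hu)
  -- quotient facts
  have haAb : π a ∈ Ab := Subgroup.mem_map_of_mem _ haA
  have hAbB : Ab ≤ centralizer (Bb : Set (M ⧸ Q)) := by
    intro u hu
    rw [Subgroup.mem_centralizer_iff]
    intro b hb
    have := hAbab.is_comm.comm ⟨b, hBbA hb⟩ ⟨u, hu⟩
    exact congrArg Subtype.val this
  have hLB : L ≤ (centralizer (Bb : Set (M ⧸ Q))).comap π := by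
    apply LL_le A x
    · intro u hu
      exact hAbB (Subgroup.mem_map_of_mem _ hu)
    · intro u hu
      rw [Subgroup.mem_comap, map_mul, map_mul, map_inv]
      exact mul_mem (mul_mem hx2 (hAbB (Subgroup.mem_map_of_mem _ hu))) (inv_mem hx2)
  have hcomm : ∀ u : M, π u ∈ Bb → ∀ l ∈ L, π u * π l = π l * π u := by
    intro u hu l hl
    have := hLB hl
    rw [Subgroup.mem_comap, Subgroup.mem_centralizer_iff] at this
    exact this _ hu
  -- elements of A ⊓ OpL map into Bb
  have hOpLn : ∀ l ∈ L, ∀ n ∈ OpL, l * n * l⁻¹ ∈ OpL := by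
    intro l hl n hn
    obtain ⟨n', hn', rfl⟩ := Subgroup.mem_map.mp hn
    have hnorm : (pCore p ↥L).Normal := Cfsg.Agent.Lib.Helper2.pCore_normal p
    exact Subgroup.mem_map.mpr ⟨⟨l, hl⟩ * n' * ⟨l, hl⟩⁻¹, hnorm.conj_mem _ hn' _, rfl⟩
  have hOpLp : IsPGroup p OpL := (Cfsg.Agent.Lib.Helper2.pCore_isPGroup p).map _
  have hC1 : ∀ u ∈ A ⊓ OpL, π u ∈ Bb := by
    intro u hu
    by_contra hnotB
    obtain ⟨huA, huO⟩ := Subgroup.mem_inf.mp hu
    set Pb := OpL.map π ⊔ Bb with hPb
    have hBn : Bb ≤ normalizer ((OpL.map π : Subgroup (M ⧸ Q)) : Set (M ⧸ Q)) := by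
      refine le_trans ?_ (Subgroup.centralizer_le_normalizer _)
      apply Subgroup.le_centralizer_iff.mp
      rintro _ ⟨n, hn, rfl⟩
      have hnL : n ∈ L := by
        obtain ⟨n', -, rfl⟩ := Subgroup.mem_map.mp hn
        exact n'.2
      have := hLB hnL
      rwa [Subgroup.mem_comap] at this
    have hPbp : IsPGroup p Pb :=
      IsPGroup.to_sup_of_normal_left' (hOpLp.map π) ((hA.map π).to_le hBbA) hBn
    have huPb : π u ∈ Pb := le_sup_left (a := OpL.map π) (Subgroup.mem_map_of_mem _ huO)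
    have huAb : π u ∈ Ab := Subgroup.mem_map_of_mem _ huA
    have hAbPb : Ab ≤ Ab ⊓ Pb :=
      lt_index_prime hp.out Bb (Ab ⊓ Pb) Ab (le_inf hBbA le_sup_right) inf_le_left
        (fun h => hnotB (h (Subgroup.mem_inf.mpr ⟨huAb, huPb⟩))) hidx
    have haPb : π a ∈ Pb := (hAbPb haAb).2
    have hconjPb : Pb ≤ Pb.comap (MulAut.conj (π x)).toMonoidHom := by
      apply sup_le
      · rintro _ ⟨n, hn, rfl⟩
        rw [Subgroup.mem_comap]
        show (MulAut.conj (π x)) (π n) ∈ Pb
        rw [MulAut.conj_apply]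
        have : π x * π n * (π x)⁻¹ = π (x * n * x⁻¹) := by simp
        rw [this]
        exact le_sup_left (a := OpL.map π) (Subgroup.mem_map_of_mem _ (hOpLn x hxL n hn))
      · intro b hb
        rw [Subgroup.mem_comap]
        show (MulAut.conj (π x)) b ∈ Pb
        rw [MulAut.conj_apply]
        have h := Subgroup.mem_centralizer_iff.mp hx2 b hb
        have : π x * b * (π x)⁻¹ = b := by rw [← h]; group
        rw [this]
        exact le_sup_right (a := OpL.map π) hb
    have hs0Pb : ⁅π x, π a⁆ ∈ Pb := by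
      rw [commutatorElement_def]
      have := hconjPb haPb
      rw [Subgroup.mem_comap] at this
      have h' : π x * π a * (π x)⁻¹ ∈ Pb := by simpa [MulAut.conj_apply] using this
      exact mul_mem h' (inv_mem haPb)
    have hs0K : ⁅π x, π a⁆ ∈ K := by
      rw [commutatorElement_def]
      have : π x * π a * (π x)⁻¹ * (π a)⁻¹ = π x * (π a * (π x)⁻¹ * (π a)⁻¹) := by group
      rw [this]
      exact mul_mem hx1 ((Cfsg.Agent.Lib.Helper2.pPrimeCore_normal p).conj_mem _ (inv_mem hx1) _)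
    obtain ⟨k, hk⟩ := hPbp ⟨_, hs0Pb⟩
    have hk' : ⁅π x, π a⁆ ^ p ^ k = 1 := by
      have := congrArg Subtype.val hk
      simpa using this
    have hd1 : orderOf ⁅π x, π a⁆ ∣ p ^ k := orderOf_dvd_of_pow_eq_one hk'
    have hd2 : (orderOf ⁅π x, π a⁆).Coprime p :=
      Nat.Coprime.coprime_dvd_left (Subgroup.orderOf_dvd_natCard K hs0K) hKcop
    have hd3 : orderOf ⁅π x, π a⁆ = 1 :=
      Nat.Coprime.eq_one_of_dvd (Nat.Coprime.pow_right k hd2) hd1
    exact hx3 (orderOf_eq_one_iff.mp hd3)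
  -- (5)
  have h5 : ⁅A ⊓ OpL, L⁆ ≤ Q := by
    rw [Subgroup.commutator_le]
    intro u hu l hl
    have hb := hC1 u hu
    have : π ⁅u, l⁆ = 1 := by
      rw [map_commutatorElement]
      exact commutatorElement_eq_one_iff_mul_comm.mpr (hcomm u hb l hl)
    exact (QuotientGroup.eq_one_iff _).mp this
  -- (4)
  have hB₁O : A ⊓ Bb.comap π ≤ OpL := by
    set N₁ := L ⊓ Bb.comap π with hN₁
    have hN₁n : (N₁.subgroupOf L).Normal := by
      refine ⟨fun n hn g => ?_⟩
      rw [Subgroup.mem_subgroupOf] at hn ⊢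
      obtain ⟨hnL, hnB⟩ := Subgroup.mem_inf.mp hn
      rw [Subgroup.mem_comap] at hnB
      refine Subgroup.mem_inf.mpr ⟨(g * n * g⁻¹).2, ?_⟩
      rw [Subgroup.mem_comap]
      have h := hcomm (n : M) hnB (g : M) g.2
      have e : π ((g * n * g⁻¹ : ↥L) : M) = π (g : M) * π (n : M) * (π (g : M))⁻¹ := by simp
      rw [e, ← h]
      simpa using hnB
    have hN₁p : IsPGroup p (N₁.subgroupOf L) := by
      intro n
      have hnB : π ((n : ↥L) : M) ∈ Bb := by
        have := (Subgroup.mem_subgroupOf.mp n.2)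
        exact (Subgroup.mem_inf.mp this).2
      have h1' : (π ((n : ↥L) : M)) ^ p = 1 := hAbexp _ (hBbA hnB)
      have h2' : ((n : ↥L) : M) ^ p ∈ Q := by
        rw [← map_pow] at h1'
        exact (QuotientGroup.eq_one_iff _).mp h1'
      obtain ⟨k, hk⟩ := hQp ⟨_, h2'⟩
      refine ⟨k + 1, ?_⟩
      apply Subtype.ext
      apply Subtype.ext
      have := congrArg Subtype.val hk
      simp only [Subgroup.coe_pow, Subgroup.coe_one] at this ⊢
      rw [pow_succ', pow_mul]
      exact this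
    have hle := Cfsg.Agent.Lib.Helper2.le_pCore hN₁n hN₁p
    intro u hu
    obtain ⟨huA, huB⟩ := Subgroup.mem_inf.mp hu
    have huN : (⟨u, hAL huA⟩ : ↥L) ∈ N₁.subgroupOf L := by
      rw [Subgroup.mem_subgroupOf]
      exact Subgroup.mem_inf.mpr ⟨hAL huA, huB⟩
    exact Subgroup.mem_map.mpr ⟨_, hle huN, rfl⟩
  have heq : A ⊓ OpL = A ⊓ Bb.comap π := by
    apply le_antisymm
    · intro u hu
      exact Subgroup.mem_inf.mpr ⟨(Subgroup.mem_inf.mp hu).1, hC1 u hu⟩
    · exact le_inf inf_le_left hB₁O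
  have h4 : (A ⊓ OpL).relIndex A = p := by
    rw [heq, Subgroup.inf_relIndex_left, Subgroup.relIndex_comap]
    exact hidx
  exact ⟨x, hxT, h1, h2, h3, h4, h5⟩

end Cfsg.Agent.Lib.Helper14.PSol
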