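import Mathlib
import Cfsg.Agent.Lib.Helper14.DkSub3

/-!
# Subgroups of order `q (q² - 1)` of `PSL₂(q²)`, `q` odd, are maximal (helper14)
-/

set_option autoImplicit false
set_option maxHeartbeats 1000000

namespace Cfsg.Agent.Lib.Helper14.DkSub

open Subgroup
open scoped commutatorElement
open Cfsg.Agent.Lib.Helper12 Cfsg.Agent.Lib.Helper12.SL2 Cfsg.Agent.S0805 Cfsg.Agent.S0807
open Cfsg.Agent.Lib.Helper1.DkOrders Cfsg.Agent.Lib.Helper1.DkMinIndex

local notation "SL2" => Matrix.SpecialLinearGroup (Fin 2)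
local notation "PSL2" => Matrix.ProjectiveSpecialLinearGroup (Fin 2)
local notation "PGL2" => Matrix.ProjGenLinGroup (Fin 2)

/-- `q + 1` divides the index of the normalizer of a Sylow `p`-subgroup of `PSL₂(q)` -/
theorem succ_dvd_index_normalizer_sylow {F : Type*} [Field F] [Fintype F] (p : ℕ)
    [Fact p.Prime] [CharP F p] (P : Sylow p (PSL2 F)) :
    Fintype.card F + 1 ∣ (Subgroup.normalizer ((P : Subgroup (PSL2 F)) : Set (PSL2 F))).index := by
  have h1 : Nat.card (Sylow p (PSL2 F)) =
      (Subgroup.normalizer ((P : Subgroup (PSL2 F)) : Set (PSL2 F))).index :=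
    Sylow.card_eq_index_normalizer P
  have h2 : Nat.card (Sylow p (PSL2 F)) =
      (Subgroup.normalizer (((sylUppP (F := F) p : Sylow p (PSL2 F)) : Subgroup (PSL2 F)) :
        Set (PSL2 F))).index :=
    Sylow.card_eq_index_normalizer (sylUppP (F := F) p)
  rw [← h1, h2, coe_sylUppP]
  have h3 := Subgroup.index_dvd_of_le (normalizer_UppP_le (F := F))
  rw [index_BorP] at h3
  exact h3

theorem NN_sq (q : ℕ) (hq : 1 ≤ q) : NN (q ^ 2) = NN q * (q * (q ^ 2 + 1)) := by
  obtain ⟨t, rfl⟩ : ∃ t, q = t + 1 := ⟨q - 1, by omega⟩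
  unfold NN
  have e1 : (t + 1) ^ 2 - 1 = t * (t + 2) := by
    have : (t + 1) ^ 2 = t * (t + 2) + 1 := by ring
    omega
  rw [e1, Nat.add_sub_cancel]
  ring

theorem NN_eq (q : ℕ) (hq : 1 ≤ q) : NN q = q * (q ^ 2 - 1) := by
  obtain ⟨t, rfl⟩ : ∃ t, q = t + 1 := ⟨q - 1, by omega⟩
  unfold NN
  have e1 : (t + 1) ^ 2 - 1 = t * (t + 2) := by
    have : (t + 1) ^ 2 = t * (t + 2) + 1 := by ring
    omega
  rw [e1, Nat.add_sub_cancel]
  ring

theorem NN_ge (q : ℕ) (hq : 3 ≤ q) : q ^ 2 + 1 ≤ NN q ∧ 24 ≤ NN q := by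
  obtain ⟨t, rfl⟩ : ∃ t, q = t + 3 := ⟨q - 3, by omega⟩
  unfold NN
  have e : t + 3 - 1 = t + 2 := by omega
  rw [e]
  constructor
  · nlinarith [Nat.zero_le t]
  · have h1 : 3 * 2 ≤ (t + 3) * (t + 2) := Nat.mul_le_mul (by omega) (by omega)
    have h2 : 3 * 2 * 4 ≤ (t + 3) * (t + 2) * (t + 3 + 1) := Nat.mul_le_mul h1 (by omega)
    omega

theorem NN_ge' (q : ℕ) (hq : 4 ≤ q) : 60 ≤ NN q := by
  obtain ⟨t, rfl⟩ : ∃ t, q = t + 4 := ⟨q - 4, by omega⟩
  unfold NN
  have e : t + 4 - 1 = t + 3 := by omega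
  rw [e]
  have h1 : 4 * 3 ≤ (t + 4) * (t + 3) := Nat.mul_le_mul (by omega) (by omega)
  have h2 : 4 * 3 * 5 ≤ (t + 4) * (t + 3) * (t + 4 + 1) := Nat.mul_le_mul h1 (by omega)
  omega

/-- a subgroup of order `q (q² - 1)` of `PSL₂(q²)`, `q` odd, is maximal -/
theorem coatom_of_card_eq_NN {F : Type*} [Field F] [Fintype F] (p : ℕ)
    [hp : Fact p.Prime] [CharP F p] (q : ℕ) (hq : Odd q) (hq3 : 3 ≤ q)
    (hFq : Fintype.card F = q ^ 2)
    (hD : ∀ M : Subgroup (PSL2 F), Concl (Fintype.card F) p M)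
    (H : Subgroup (PSL2 F)) (hH : Nat.card H = NN q) : IsCoatom H := by
  classical
  obtain ⟨n, -, hQn⟩ := FiniteField.card F p
  set Q := Fintype.card F with hQ
  have hqdvd : q ∣ p ^ (n : ℕ) := by rw [← hQn, hFq]; exact dvd_pow_self q (by norm_num)
  obtain ⟨a, -, hqa⟩ := (Nat.dvd_prime_pow hp.out).mp hqdvd
  have ha1 : 1 ≤ a := by
    rcases Nat.eq_zero_or_pos a with h | h
    · rw [h, pow_zero] at hqa; omega
    · exact h
  have hoddQ : Odd Q := by rw [hFq]; exact hq.pow
  have hdQ : Nat.gcd 2 (Q - 1) = 2 := by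
    obtain ⟨c, hc⟩ := hoddQ
    have : Q - 1 = 2 * c := by omega
    rw [this]; simp
  have hGN : Nat.card (PSL2 F) * 2 = NN Q := by
    have := card_PSL2_eq (K := F)
    rwa [← hQ, hdQ] at this
  have hNNq := NN_ge q hq3
  have hNNpos : 0 < NN q := by omega
  have hNNQ : NN Q = NN q * (q * (q ^ 2 + 1)) := by rw [hFq]; exact NN_sq q (by omega)
  refine ⟨?_, ?_⟩
  · intro h
    have h1 : Nat.card H = Nat.card (PSL2 F) := by rw [h, Subgroup.card_top]
    rw [hH] at h1
    rw [← h1, hNNQ] at hGN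
    have h3 : 2 = q * (q ^ 2 + 1) := Nat.eq_of_mul_eq_mul_left hNNpos hGN
    nlinarith
  · intro M hHM
    have hlt : Nat.card H < Nat.card M := Cfsg.Agent.Lib.Helper1.natCard_lt_of_lt hHM
    have hdvd : Nat.card H ∣ Nat.card M := Subgroup.card_dvd_of_le hHM.le
    have hMG : Nat.card M ≤ Nat.card (PSL2 F) := Subgroup.card_le_card_group M
    rw [hH] at hlt hdvd
    rcases hD M with ⟨k, hkd, hk⟩ | ⟨P, K', hK', ⟨e⟩⟩ | h1 | h1 | h1 |
      ⟨K', _, _, m, hK'm, hiso⟩
    · exfalso
      rw [hdQ] at hkd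
      have hk2 : 2 * k ≤ Q + 1 ∧ k ≠ 0 := by
        obtain ⟨c, hc⟩ := hoddQ
        rcases hkd with h | h
        · have e1 : (Q + 1) / 2 = c + 1 := by omega
          rw [e1] at h
          have := Nat.le_of_dvd (by omega) h
          refine ⟨by omega, ?_⟩
          rintro rfl
          simp at h
        · have e1 : (Q - 1) / 2 = c := by omega
          rw [e1] at h
          have hc0 : 0 < c := by
            rcases Nat.eq_zero_or_pos c with h0 | h0
            · rw [h0] at hc
              rw [hFq] at hc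
              nlinarith
            · exact h0
          have := Nat.le_of_dvd hc0 h
          refine ⟨by omega, ?_⟩
          rintro rfl
          simp at h
          omega
      have hMle : Nat.card M ≤ 2 * k := by
        rcases hk with ⟨-, hc⟩ | ⟨⟨e⟩⟩
        · omega
        · rw [Nat.card_congr e.toEquiv, DihedralGroup.nat_card]
      have : Q = q ^ 2 := hFq
      omega
    · exfalso
      have hc : Nat.card M = Nat.card K' := Nat.card_congr e.toEquiv
      set N := Subgroup.normalizer ((P : Subgroup (PSL2 F)) : Set (PSL2 F)) with hN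
      have h1 : Nat.card K' ∣ Nat.card N := Subgroup.card_dvd_of_le hK'
      obtain ⟨t, ht⟩ := succ_dvd_index_normalizer_sylow p P
      rw [← hN] at ht
      have h2 := N.card_mul_index
      rw [ht] at h2
      -- `|N| * t * 2 = Q (Q - 1)`
      have h3 : Nat.card N * t * 2 * (Q + 1) = Q * (Q - 1) * (Q + 1) := by
        have : Nat.card N * t * 2 * (Q + 1) = Nat.card N * ((Q + 1) * t) * 2 := by ring
        rw [this, h2, hGN]
        rfl
      have h4 : Nat.card N * t * 2 = Q * (Q - 1) := Nat.eq_of_mul_eq_mul_right (by omega) h3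
      have h5 : NN q * 2 ∣ Q * (Q - 1) := by
        rw [← h4]
        apply Nat.mul_dvd_mul_right
        exact (hdvd.trans (hc ▸ h1)).trans (Dvd.intro _ rfl)
      have h6 : Q * (Q - 1) = NN q * q := by
        rw [NN_eq q (by omega), hFq]; ring
      rw [h6] at h5
      have h7 : 2 ∣ q := Nat.dvd_of_mul_dvd_mul_left hNNpos h5
      obtain ⟨c, hc⟩ := hq
      omega
    · exfalso
      obtain ⟨e⟩ := h1
      have := Nat.card_congr e.toEquiv
      rw [card_A4] at this
      omega
    · exfalso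
      obtain ⟨e⟩ := h1
      have := Nat.card_congr e.toEquiv
      rw [card_S4] at this
      omega
    · exfalso
      obtain ⟨e⟩ := h1
      have := Nat.card_congr e.toEquiv
      rw [card_A5] at this
      rcases Nat.lt_or_ge q 4 with h4 | h4
      · have h3 : q = 3 := by omega
        rw [h3, this] at hdvd
        revert hdvd
        decide
      · have := NN_ge' q h4
        omega
    · -- subfield type
      set s := Fintype.card K' with hs
      have hs2 : 2 ≤ s := Fintype.one_lt_card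
      have hm0 : m ≠ 0 := by
        rintro rfl
        rw [pow_zero] at hK'm
        rw [hFq] at hK'm
        nlinarith
      obtain ⟨p', hp'⟩ := CharP.exists K'
      have := hp'
      obtain ⟨b, hp'prime, hsb⟩ := FiniteField.card K' p'
      rw [← hs] at hsb
      have hb1 : 1 ≤ (b : ℕ) := b.pos
      have hpp : p' = p := by
        have h1 : p' ∣ s := by rw [hsb]; exact dvd_pow_self p' (by omega)
        have h2 : p' ∣ Q := by rw [← hK'm]; exact h1.trans (dvd_pow_self s hm0)
        rw [hQn] at h2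
        exact (Nat.prime_dvd_prime_iff_eq hp'prime hp.out).mp (hp'prime.dvd_of_dvd_pow h2)
      rw [hpp] at hsb
      have hsm : (p ^ (b : ℕ)) ^ m = (p ^ a) ^ 2 := by
        rw [← hsb, ← hqa, ← hFq]; exact hK'm
      have hMN : Nat.card M ∣ NN s ∧ (Nat.card M * Nat.gcd 2 (s - 1) = NN s ∨ Nat.card M = NN s) := by
        rcases hiso with ⟨⟨e⟩⟩ | ⟨⟨e⟩⟩
        · have h1 : Nat.card M * Nat.gcd 2 (s - 1) = NN s := by
            rw [Nat.card_congr e.toEquiv]; exact card_PSL2_eq
          exact ⟨Dvd.intro _ h1, Or.inl h1⟩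
        · have h1 : Nat.card M = NN s := by
            rw [Nat.card_congr e.toEquiv]; exact card_PGL2_eq
          exact ⟨by rw [h1], Or.inr h1⟩
      have hdiv : NN q ∣ 2 * NN s := (hdvd.trans hMN.1).trans (Dvd.intro_left _ rfl)
      have hcases := subfield_order_cases (p := p) (a := a) (b := b) (m := m) (r := 2) hp.out ha1 hb1
        Nat.prime_two hsm (by
          have := hdiv
          unfold NN at this
          rw [hqa, hsb] at this
          exact this)
      rw [← hsb, ← hqa, ← hFq] at hcases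
      rcases hcases with hsq | hsQ
      · -- `s = q`
        exfalso
        have := Nat.le_of_dvd (by rw [hsq]; exact hNNpos) hMN.1
        rw [hsq] at this
        omega
      · -- `s = Q`
        have hge : Nat.card (PSL2 F) ≤ Nat.card M := by
          rcases hMN.2 with h1 | h1
          · rw [hsQ, hdQ, ← hGN] at h1
            exact (Nat.eq_of_mul_eq_mul_right (by norm_num) h1).ge
          · rw [hsQ, ← hGN] at h1
            rw [h1]
            exact Nat.le_mul_of_pos_right _ (by norm_num)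
        exact (Subgroup.card_eq_iff_eq_top M).mp (le_antisymm hMG hge)

end Cfsg.Agent.Lib.Helper14.DkSub
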