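import Mathlib
import Cfsg.Agent.Lib.Helper1.OmegaOne
import Cfsg.Agent.Lib.Helper14.S3Sec1

/-!
# Preliminaries for the Frobenius action lemma (helper14)

* `eq_one_of_mem_centralizer_of_mem_commutator`: for a coprime action on an abelian group,
  `C_R(Q) ∩ [R, Q] = 1` (averaging).
* `mem_normalizer_of_conj_mem`: in a finite group, `a S a⁻¹ ⊆ S` implies `a ∈ N(S)`.
* `exists_fixed_ne_one`: an element of order dividing `p` normalizing a nontrivial `p`-group has
  a nontrivial fixed point.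
-/

set_option autoImplicit false

namespace Cfsg.Agent.Lib.Helper14.FrobAct

open Subgroup Cfsg.Agent.Lib.Helper1
open scoped commutatorElement IsMulCommutative

variable {G : Type*} [Group G]

theorem eq_one_of_mem_centralizer_of_mem_commutator [Finite G]
    (R Q : Subgroup G) (hQR : Q ≤ normalizer (R : Set G))
    (hab : ∀ x ∈ R, ∀ y ∈ R, x * y = y * x) (hcop : (Nat.card Q).Coprime (Nat.card R))
    (x : G) (hxQ : ∀ a ∈ Q, a * x = x * a) (hx : x ∈ ⁅R, Q⁆) : x = 1 := by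
  classical
  haveI : IsMulCommutative ↥R := ⟨⟨fun u v => Subtype.ext (hab u u.2 v v.2)⟩⟩
  letI : Fintype ↥Q := Fintype.ofFinite _
  let ρ : ↥Q → (↥R →* ↥R) := fun a => (conjNormalizer R a (hQR a.2)).toMonoidHom
  let θ : ↥R →* ↥R := ∏ a : ↥Q, ρ a
  have hθ : ∀ y : ↥R, θ y = ∏ a : ↥Q, ρ a y := fun y => MonoidHom.finset_prod_apply _ _ _
  have hρ : ∀ (a : ↥Q) (y : ↥R), ((ρ a y : ↥R) : G) = a * y * (a : G)⁻¹ := fun a y => rfl
  have hinv : ∀ (c : ↥Q) (y : ↥R), θ (ρ c y) = θ y := by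
    intro c y
    rw [hθ, hθ]
    refine Fintype.prod_equiv (Equiv.mulRight c) _ _ ?_
    intro a
    apply Subtype.ext
    rw [hρ, hρ, hρ]
    show (a : G) * (c * y * (c : G)⁻¹) * (a : G)⁻¹ = ((a * c : ↥Q) : G) * y * ((a * c : ↥Q) : G)⁻¹
    rw [Subgroup.coe_mul]; group
  have hle : ⁅R, Q⁆ ≤ θ.ker.map R.subtype := by
    rw [Subgroup.commutator_le]
    intro r hr a ha
    refine ⟨(⟨r, hr⟩ : ↥R) * ρ ⟨a, ha⟩ (⟨r, hr⟩⁻¹), ?_, ?_⟩
    · show θ _ = 1
      rw [map_mul, hinv, ← map_mul, mul_inv_cancel, map_one]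
    · show r * (a * r⁻¹ * a⁻¹) = ⁅r, a⁆
      rw [commutatorElement_def]; group
  obtain ⟨y, hy, rfl⟩ := hle hx
  have hyfix : ∀ a : ↥Q, ρ a y = y := by
    intro a
    apply Subtype.ext
    rw [hρ]
    have := hxQ a a.2
    show (a : G) * (y : G) * (a : G)⁻¹ = y
    rw [show (a : G) * (y : G) = (y : G) * a from this]; group
  have h1 : θ y = y ^ Nat.card Q := by
    rw [hθ, Finset.prod_congr rfl (fun a _ => hyfix a), Finset.prod_const, Finset.card_univ,
      Nat.card_eq_fintype_card]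
  have h2 : y ^ Nat.card Q = 1 := by rw [← h1]; exact hy
  have h3 : y ^ Nat.card R = 1 := pow_card_eq_one'
  have h4 : orderOf y ∣ Nat.gcd (Nat.card Q) (Nat.card R) :=
    Nat.dvd_gcd (orderOf_dvd_of_pow_eq_one h2) (orderOf_dvd_of_pow_eq_one h3)
  rw [hcop.gcd_eq_one, Nat.dvd_one, orderOf_eq_one_iff] at h4
  rw [h4]; rfl

theorem mem_normalizer_of_conj_mem [Finite G] (S : Subgroup G) (a : G)
    (h : ∀ s ∈ S, a * s * a⁻¹ ∈ S) : a ∈ normalizer (S : Set G) := by
  have hle : S.map (MulAut.conj a).toMonoidHom ≤ S := by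
    rintro _ ⟨s, hs, rfl⟩
    exact h s hs
  have hcard : Nat.card (S.map (MulAut.conj a).toMonoidHom) = Nat.card S :=
    Subgroup.card_map_of_injective (MulAut.conj a).injective
  have heq : S.map (MulAut.conj a).toMonoidHom = S := Subgroup.eq_of_le_of_card_ge hle hcard.ge
  rw [mem_normalizer_iff]
  intro s
  constructor
  · exact h s
  · intro hs
    rw [← heq] at hs
    obtain ⟨t, ht, hts⟩ := hs
    have h1 : a * t * a⁻¹ = a * s * a⁻¹ := hts
    have h2 : t = s := by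
      have := mul_right_cancel h1
      exact mul_left_cancel this
    rwa [← h2]

theorem isPGroup_zpowers_of_pow_eq_one {p : ℕ} (b : G) (hb : b ^ p = 1) :
    IsPGroup p (zpowers b) := by
  intro g
  refine ⟨1, ?_⟩
  obtain ⟨g, hg⟩ := g
  obtain ⟨k, rfl⟩ := mem_zpowers_iff.mp hg
  apply Subtype.ext
  show (b ^ k) ^ (p ^ 1) = 1
  rw [pow_one, ← zpow_natCast, ← zpow_mul, mul_comm, zpow_mul, zpow_natCast, hb, one_zpow]

theorem exists_fixed_ne_one [Finite G] {p : ℕ} [hp : Fact p.Prime] (S : Subgroup G)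
    (hS : IsPGroup p S) (hne : S ≠ ⊥) (b : G) (hb : b ^ p = 1)
    (hbS : b ∈ normalizer (S : Set G)) : ∃ s ∈ S, s ≠ 1 ∧ b * s = s * b := by
  have hmod := Cfsg.Agent.Lib.Helper14.S3Sec.card_modEq_card_inf_centralizer (r := p)
    (zpowers b) S (zpowers_le.mpr hbS) (isPGroup_zpowers_of_pow_eq_one b hb)
  obtain ⟨k, hk⟩ := IsPGroup.iff_card.mp hS
  have hk0 : k ≠ 0 := by
    rintro rfl
    rw [pow_zero] at hk
    exact hne (Subgroup.card_eq_one.mp hk)
  have h1 : p ∣ Nat.card S := by rw [hk]; exact dvd_pow_self p hk0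
  have h2 : p ∣ Nat.card (S ⊓ centralizer ((zpowers b : Subgroup G) : Set G) : Subgroup G) :=
    (Nat.ModEq.dvd_iff hmod (dvd_refl p)).mp h1
  have h3 : (S ⊓ centralizer ((zpowers b : Subgroup G) : Set G) : Subgroup G) ≠ ⊥ := by
    intro h
    rw [h, Subgroup.card_bot] at h2
    exact hp.out.one_lt.ne' (Nat.dvd_one.mp h2)
  obtain ⟨⟨s, hs⟩, hs1⟩ := (Subgroup.ne_bot_iff_exists_ne_one).mp h3
  refine ⟨s, hs.1, fun h => hs1 (Subtype.ext h), ?_⟩
  have := Subgroup.mem_centralizer_iff.mp hs.2 b (mem_zpowers b)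
  exact this

end Cfsg.Agent.Lib.Helper14.FrobAct
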