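import Mathlib
import Cfsg.Agent.Lib.Helper14.CopFF4

/-!
# The norm identity for Frobenius-type actions (helper14)

If `Q ⋊ ⟨b⟩` acts on an abelian group `A` of exponent `p` (`b ^ p = 1`, `C_Q(b) = 1`,
`|Q|` prime to `p`) with `C_A(Q) = 1` and the norm `a ↦ ∏_{i<p} b^i a` is trivial, then `A = 1`.
-/

set_option autoImplicit false

namespace Cfsg.Agent.Lib.Helper14.FrobNorm

open Subgroup

theorem list_range_prod_eq {M : Type*} [CommMonoid M] (f : ℕ → M) (n : ℕ) :
    ((List.range n).map f).prod = ∏ i ∈ Finset.range n, f i := by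
  induction n with
  | zero => simp
  | succ n ih => rw [List.prod_range_succ, Finset.prod_range_succ, ih]

variable {F A : Type*} [Group F] [Group A]

theorem conj_pow_mem (Q : Subgroup F) (b : F) (hbQ : ∀ x ∈ Q, b * x * b⁻¹ ∈ Q) (i : ℕ) :
    ∀ x ∈ Q, b ^ i * x * (b ^ i)⁻¹ ∈ Q := by
  induction i with
  | zero => intro x hx; simpa using hx
  | succ i ih =>
    intro x hx
    have := hbQ _ (ih x hx)
    have e : b * (b ^ i * x * (b ^ i)⁻¹) * b⁻¹ = b ^ (i + 1) * x * (b ^ (i + 1))⁻¹ := by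
      rw [pow_succ']; group
    rwa [e] at this

theorem commute_of_commute_pow {p : ℕ} (hp : p.Prime) (b : F) (hb : b ^ p = 1) (i : ℕ) (hi0 : 0 < i)
    (hip : i < p) (x : F) (h : x * b ^ i = b ^ i * x) : x * b = b * x := by
  have hord : orderOf b ∣ p := orderOf_dvd_of_pow_eq_one hb
  have hcop : (orderOf b).Coprime i := by
    rcases (Nat.dvd_prime hp).mp hord with h1 | h1
    · rw [h1]; exact Nat.coprime_one_left i
    · rw [h1]
      exact (Nat.Prime.coprime_iff_not_dvd hp).mpr (Nat.not_dvd_of_pos_of_lt hi0 hip)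
  have hmem := Cfsg.Agent.Lib.Helper14.CopFF.mem_zpowers_pow_of_coprime b i hcop
  obtain ⟨k, hk⟩ := Subgroup.mem_zpowers_iff.mp hmem
  have hc : Commute x (b ^ i) := h
  have := hc.zpow_right k
  rw [hk] at this
  exact this

/-- **The norm identity.** -/
theorem eq_one_of_norm_trivial {p : ℕ} (hp : p.Prime) (hcomm : ∀ x y : A, x * y = y * x)
    (ρ : F →* MulAut A) (Q : Subgroup F) [Finite Q] (b : F)
    (hbQ : ∀ x ∈ Q, b * x * b⁻¹ ∈ Q) (hb : b ^ p = 1)
    (hfix : ∀ x ∈ Q, x * b = b * x → x = 1)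
    (hcop : (Nat.card Q).Coprime p)
    (hexp : ∀ a : A, a ^ p = 1)
    (hCQ : ∀ a : A, (∀ x ∈ Q, ρ x a = a) → a = 1)
    (hnorm : ∀ a : A, ((List.range p).map (fun i => ρ (b ^ i) a)).prod = 1) :
    ∀ a : A, a = 1 := by
  classical
  letI : CommGroup A := { (inferInstance : Group A) with mul_comm := hcomm }
  letI : Fintype Q := Fintype.ofFinite Q
  intro a
  have hnorm' : ∀ a : A, ∏ i ∈ Finset.range p, ρ (b ^ i) a = 1 := by
    intro a
    rw [← list_range_prod_eq]
    exact hnorm a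
  -- the sum over `Q` is fixed by `Q`
  have htau : ∀ a' : A, ∏ y : Q, ρ (y : F) a' = 1 := by
    intro a'
    apply hCQ
    intro z hz
    rw [map_prod]
    have := Equiv.prod_comp (Equiv.mulLeft (⟨z, hz⟩ : Q)) (fun y : Q => ρ (y : F) a')
    rw [← this]
    apply Finset.prod_congr rfl
    intro y _
    simp only [Equiv.coe_mulLeft, Subgroup.coe_mul, map_mul, MulAut.mul_apply]
  -- the double product
  have hA : ∏ x : Q, ∏ i ∈ Finset.range p, ρ ((x : F) * b ^ i * (x : F)⁻¹) a = 1 := by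
    apply Finset.prod_eq_one
    intro x _
    have h1 : ∀ i, ρ ((x : F) * b ^ i * (x : F)⁻¹) a = ρ (x : F) (ρ (b ^ i) (ρ ((x : F)⁻¹) a)) := by
      intro i
      simp only [map_mul, MulAut.mul_apply]
    rw [Finset.prod_congr rfl (fun i _ => h1 i), ← map_prod, hnorm', map_one]
  rw [Finset.prod_comm] at hA
  have hp0 : 0 < p := hp.pos
  have hsingle : ∏ i ∈ Finset.range p, ∏ x : Q, ρ ((x : F) * b ^ i * (x : F)⁻¹) a =
      ∏ x : Q, ρ ((x : F) * b ^ 0 * (x : F)⁻¹) a := by
    apply Finset.prod_eq_single 0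
    · intro i hi hi0
      have hip : i < p := Finset.mem_range.mp hi
      have hi0' : 0 < i := Nat.pos_of_ne_zero hi0
      -- the bijection `x ↦ x b^i x⁻¹ b^{-i}`
      let σ : Q → Q := fun x => ⟨(x : F) * (b ^ i * (x : F)⁻¹ * (b ^ i)⁻¹),
        Q.mul_mem x.2 (conj_pow_mem Q b hbQ i _ (Q.inv_mem x.2))⟩
      have hσinj : Function.Injective σ := by
        intro x y hxy
        have h1 : (x : F) * (b ^ i * (x : F)⁻¹ * (b ^ i)⁻¹) = (y : F) * (b ^ i * (y : F)⁻¹ * (b ^ i)⁻¹) :=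
          congrArg Subtype.val hxy
        have h2 : ((y : F)⁻¹ * (x : F)) * b ^ i = b ^ i * ((y : F)⁻¹ * (x : F)) := by
          have h3 : (x : F) * b ^ i * (x : F)⁻¹ = (y : F) * b ^ i * (y : F)⁻¹ := by
            have : (x : F) * (b ^ i * (x : F)⁻¹ * (b ^ i)⁻¹) * b ^ i =
                (y : F) * (b ^ i * (y : F)⁻¹ * (b ^ i)⁻¹) * b ^ i := by rw [h1]
            calc (x : F) * b ^ i * (x : F)⁻¹ = (x : F) * (b ^ i * (x : F)⁻¹ * (b ^ i)⁻¹) * b ^ i := by group
              _ = (y : F) * (b ^ i * (y : F)⁻¹ * (b ^ i)⁻¹) * b ^ i := this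
              _ = (y : F) * b ^ i * (y : F)⁻¹ := by group
          calc ((y : F)⁻¹ * (x : F)) * b ^ i = (y : F)⁻¹ * ((x : F) * b ^ i * (x : F)⁻¹) * (x : F) := by group
            _ = (y : F)⁻¹ * ((y : F) * b ^ i * (y : F)⁻¹) * (x : F) := by rw [h3]
            _ = b ^ i * ((y : F)⁻¹ * (x : F)) := by group
        have h4 := commute_of_commute_pow hp b hb i hi0' hip _ h2
        have h5 := hfix _ (Q.mul_mem (Q.inv_mem y.2) x.2) h4
        apply Subtype.ext
        have : (x : F) = (y : F) * ((y : F)⁻¹ * (x : F)) := by group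
        rw [this, h5, mul_one]
      have hσbij : Function.Bijective σ := Finite.injective_iff_bijective.mp hσinj
      have h6 : ∀ x : Q, ρ ((x : F) * b ^ i * (x : F)⁻¹) a = ρ ((σ x : Q) : F) (ρ (b ^ i) a) := by
        intro x
        rw [← MulAut.mul_apply, ← map_mul]
        congr 2
        show (x : F) * b ^ i * (x : F)⁻¹ = (x : F) * (b ^ i * (x : F)⁻¹ * (b ^ i)⁻¹) * b ^ i
        group
      rw [Finset.prod_congr rfl (fun x _ => h6 x)]
      rw [Function.Bijective.prod_comp hσbij (fun y : Q => ρ (y : F) (ρ (b ^ i) a))]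
      exact htau _
    · intro h0
      exact absurd (Finset.mem_range.mpr hp0) h0
  rw [hsingle] at hA
  have hA' : a ^ Nat.card Q = 1 := by
    have h7 : ∀ x : Q, ρ ((x : F) * b ^ 0 * (x : F)⁻¹) a = a := by
      intro x
      rw [pow_zero, mul_one, mul_inv_cancel, map_one, MulAut.one_apply]
    rw [Finset.prod_congr rfl (fun x _ => h7 x), Finset.prod_const, Finset.card_univ,
      ← Nat.card_eq_fintype_card] at hA
    exact hA
  have h8 : orderOf a ∣ Nat.card Q := orderOf_dvd_of_pow_eq_one hA'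
  have h9 : orderOf a ∣ p := orderOf_dvd_of_pow_eq_one (hexp a)
  have h10 : orderOf a ∣ 1 := by
    have := Nat.dvd_gcd h8 h9
    rwa [hcop] at this
  exact orderOf_eq_one_iff.mp (Nat.dvd_one.mp h10)

end Cfsg.Agent.Lib.Helper14.FrobNorm
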