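import Mathlib
import Cfsg.Agent.Lib.Helper14.FrobNorm
import Cfsg.Agent.Lib.Helper17.ClassTwoP

/-!
# Norms of automorphisms of order `p` in class-2 groups (helper14)
-/

set_option autoImplicit false

namespace Cfsg.Agent.Lib.Helper14.FrobClass2

open Subgroup Cfsg.Agent.Lib.Helper17 Cfsg.Agent.Lib.Helper14.FrobNorm
open scoped commutatorElement

/-- the norm `u · β u ⋯ β^{k-1} u` -/
def nrm {P : Type*} [Group P] (β : MulAut P) (k : ℕ) (u : P) : P :=
  ((List.range k).map (fun i => (β ^ i) u)).prod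

section basic
variable {P : Type*} [Group P]

theorem nrm_zero (β : MulAut P) (u : P) : nrm β 0 u = 1 := by simp [nrm]

theorem nrm_succ (β : MulAut P) (k : ℕ) (u : P) : nrm β (k + 1) u = nrm β k u * (β ^ k) u := by
  unfold nrm
  rw [List.prod_range_succ]

theorem map_pow_apply {A : Type*} [Group A] (f : P →* A) (β : MulAut P) (γ : MulAut A)
    (h : ∀ x, f (β x) = γ (f x)) (i : ℕ) (x : P) : f ((β ^ i) x) = (γ ^ i) (f x) := by
  induction i generalizing x with
  | zero => simp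
  | succ i ih => rw [pow_succ, pow_succ, MulAut.mul_apply, MulAut.mul_apply, ih, h]

theorem map_nrm {A : Type*} [Group A] (f : P →* A) (β : MulAut P) (γ : MulAut A)
    (h : ∀ x, f (β x) = γ (f x)) (k : ℕ) (u : P) : f (nrm β k u) = nrm γ k (f u) := by
  induction k with
  | zero => rw [nrm_zero, nrm_zero, map_one]
  | succ k ih => rw [nrm_succ, nrm_succ, map_mul, ih, map_pow_apply f β γ h]

end basic

section comm
variable {A : Type*} [Group A]

theorem nrm_inv_eq (hcomm : ∀ x y : A, x * y = y * x) (γ : MulAut A) (n : ℕ)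
    (hγ : γ ^ (n + 1) = 1) (a : A) : nrm γ⁻¹ (n + 1) a = nrm γ (n + 1) a := by
  letI : CommGroup A := { (inferInstance : Group A) with mul_comm := hcomm }
  unfold nrm
  rw [list_range_prod_eq, list_range_prod_eq, Finset.prod_range_succ', Finset.prod_range_succ']
  have h1 : ∀ i ∈ Finset.range n, (γ⁻¹ ^ (i + 1)) a = (γ ^ (n - 1 - i + 1)) a := by
    intro i hi
    have hi' : i < n := Finset.mem_range.mp hi
    have e : γ⁻¹ ^ (i + 1) = γ ^ (n - 1 - i + 1) := by
      rw [inv_pow, inv_eq_iff_mul_eq_one, ← pow_add]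
      have : i + 1 + (n - 1 - i + 1) = n + 1 := by omega
      rw [this, hγ]
    rw [e]
  rw [Finset.prod_congr rfl h1]
  rw [Finset.prod_range_reflect (fun j => (γ ^ (j + 1)) a) n]
  simp

theorem nrm_fixed (hcomm : ∀ x y : A, x * y = y * x) (γ : MulAut A) (n : ℕ)
    (hγ : γ ^ n = 1) (a : A) : γ (nrm γ n a) = nrm γ n a := by
  letI : CommGroup A := { (inferInstance : Group A) with mul_comm := hcomm }
  have h1 : γ (nrm γ n a) = ∏ i ∈ Finset.range n, (γ ^ (i + 1)) a := by
    unfold nrm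
    rw [list_range_prod_eq, map_prod]
    apply Finset.prod_congr rfl
    intro i _
    rw [pow_succ', MulAut.mul_apply]
  have h2 : (∏ i ∈ Finset.range n, (γ ^ (i + 1)) a) * (γ ^ 0) a =
      (∏ i ∈ Finset.range n, (γ ^ i) a) * (γ ^ n) a := by
    rw [← Finset.prod_range_succ' (fun i => (γ ^ i) a) n, Finset.prod_range_succ]
  rw [hγ, pow_zero] at h2
  rw [h1]
  unfold nrm
  rw [list_range_prod_eq]
  exact mul_right_cancel h2

end comm

section classtwo
variable {P : Type*} [Group P] (hcl2 : ∀ a c : P, ⁅a, c⁆ ∈ center P)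

theorem central_swap (x y z w : P) (hy : y ∈ center P) (hz : z ∈ center P) (hw : w ∈ center P) :
    (x * y) * (z * w)⁻¹ = (x * z⁻¹) * (y * w⁻¹) := by
  have h1 : ∀ g : P, g * y = y * g := fun g => (mem_center_iff.mp hy g)
  have h2 : ∀ g : P, g * z⁻¹ = z⁻¹ * g := fun g => (mem_center_iff.mp (inv_mem hz) g)
  have h3 : ∀ g : P, g * w⁻¹ = w⁻¹ * g := fun g => (mem_center_iff.mp (inv_mem hw) g)
  rw [mul_inv_rev]
  calc x * y * (w⁻¹ * z⁻¹) = x * (y * w⁻¹) * z⁻¹ := by group
    _ = x * z⁻¹ * (y * w⁻¹) := by rw [mul_assoc x, h2, ← mul_assoc]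

variable (β : MulAut P) (V : Subgroup P)

include hcl2 in
theorem pow_comm_mem (hδ : ∀ a c : P, β ⁅a, c⁆ * ⁅a, c⁆⁻¹ ∈ V) (k : ℕ) (a c : P) :
    (β ^ k) ⁅a, c⁆ * ⁅a, c⁆⁻¹ ∈ V := by
  induction k with
  | zero => rw [pow_zero, MulAut.one_apply, mul_inv_cancel]; exact V.one_mem
  | succ k ih =>
    have h1 : (β ^ (k + 1)) ⁅a, c⁆ = β ⁅(β ^ k) a, (β ^ k) c⁆ := by
      rw [pow_succ', MulAut.mul_apply, map_commutatorElement]
    have h2 := hδ ((β ^ k) a) ((β ^ k) c)
    have h3 : (β ^ k) ⁅a, c⁆ = ⁅(β ^ k) a, (β ^ k) c⁆ := map_commutatorElement _ _ _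
    rw [h3] at ih
    rw [h1]
    have := V.mul_mem h2 ih
    have e : β ⁅(β ^ k) a, (β ^ k) c⁆ * ⁅(β ^ k) a, (β ^ k) c⁆⁻¹ *
        (⁅(β ^ k) a, (β ^ k) c⁆ * ⁅a, c⁆⁻¹) = β ⁅(β ^ k) a, (β ^ k) c⁆ * ⁅a, c⁆⁻¹ := by group
    rwa [e] at this

include hcl2 in
/-- the twisted symmetry of the commutator pairing with respect to the norm -/
theorem comm_nrm_mem (hδ : ∀ a c : P, β ⁅a, c⁆ * ⁅a, c⁆⁻¹ ∈ V) (k : ℕ) (u v : P) :
    ⁅nrm β k u, v⁆ * ⁅u, nrm β⁻¹ k v⁆⁻¹ ∈ V := by
  induction k with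
  | zero =>
    rw [nrm_zero, nrm_zero, commutatorElement_one_left, commutatorElement_one_right, inv_one,
      mul_one]
    exact V.one_mem
  | succ k ih =>
    rw [nrm_succ, nrm_succ, commutatorElement_mul_left_of_central hcl2,
      commutatorElement_mul_right_of_central hcl2]
    rw [central_swap _ _ _ _ (hcl2 _ _) (hcl2 _ _) (hcl2 _ _)]
    apply V.mul_mem ih
    -- `⁅β^k u, v⁆ = β^k ⁅u, β^{-k} v⁆`
    have h1 : ⁅(β ^ k) u, v⁆ = (β ^ k) ⁅u, (β⁻¹ ^ k) v⁆ := by
      rw [map_commutatorElement]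
      congr 1
      rw [inv_pow, ← MulAut.mul_apply, mul_inv_cancel, MulAut.one_apply]
    rw [h1]
    exact pow_comm_mem hcl2 β V hδ k _ _

include hcl2 in
/-- **The symmetry of the commutator pairing with respect to the norm.** -/
theorem comm_nrm_symm (hδ : ∀ a c : P, β ⁅a, c⁆ * ⁅a, c⁆⁻¹ ∈ V) (n : ℕ) (hβ : β ^ (n + 1) = 1)
    (u v : P) : ⁅nrm β (n + 1) u, v⁆ * ⁅u, nrm β (n + 1) v⁆⁻¹ ∈ V := by
  have h1 := comm_nrm_mem hcl2 β V hδ (n + 1) u v
  -- compare the two norms modulo the centre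
  set S := P ⧸ center P with hS
  have hScomm : ∀ x y : S, x * y = y * x := by
    intro x y
    induction x using QuotientGroup.induction_on with
    | H a =>
      induction y using QuotientGroup.induction_on with
      | H c =>
        rw [← QuotientGroup.mk_mul, ← QuotientGroup.mk_mul]
        apply QuotientGroup.eq.mpr
        have : (a * c)⁻¹ * (c * a) = ⁅c⁻¹, a⁻¹⁆ := by
          rw [commutatorElement_def]; group
        rw [this]
        exact hcl2 _ _
  have hchar : (center P).map (β : P ≃* P).toMonoidHom = center P :=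
    Subgroup.characteristic_iff_map_eq.mp inferInstance β
  set γ : MulAut S := QuotientGroup.congr (center P) (center P) β hchar with hγ
  have hγmk : ∀ x : P, (QuotientGroup.mk' (center P)) (β x) = γ ((QuotientGroup.mk' (center P)) x) := by
    intro x
    rfl
  have hγinv : ∀ x : P, (QuotientGroup.mk' (center P)) (β⁻¹ x) = γ⁻¹ ((QuotientGroup.mk' (center P)) x) := by
    intro x
    have := hγmk (β⁻¹ x)
    rw [← MulAut.mul_apply, mul_inv_cancel, MulAut.one_apply] at this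
    rw [this, ← MulAut.mul_apply, inv_mul_cancel, MulAut.one_apply]
  have hγp : γ ^ (n + 1) = 1 := by
    ext a
    induction a using QuotientGroup.induction_on with
    | H a =>
      have := map_pow_apply (QuotientGroup.mk' (center P)) β γ hγmk (n + 1) a
      rw [hβ, MulAut.one_apply] at this
      rw [MulAut.one_apply]
      exact this.symm
  have h2 : (QuotientGroup.mk' (center P)) (nrm β⁻¹ (n + 1) v) =
      (QuotientGroup.mk' (center P)) (nrm β (n + 1) v) := by
    rw [map_nrm _ β⁻¹ γ⁻¹ hγinv, map_nrm _ β γ hγmk]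
    exact nrm_inv_eq hScomm γ n hγp _
  have h3 : (nrm β (n + 1) v)⁻¹ * nrm β⁻¹ (n + 1) v ∈ center P := by
    have := QuotientGroup.eq.mp h2.symm
    exact this
  have h4 : ⁅u, nrm β⁻¹ (n + 1) v⁆ = ⁅u, nrm β (n + 1) v⁆ := by
    have e : nrm β⁻¹ (n + 1) v = nrm β (n + 1) v * ((nrm β (n + 1) v)⁻¹ * nrm β⁻¹ (n + 1) v) := by
      group
    rw [e, commutatorElement_mul_right_of_central hcl2]
    have : ⁅u, (nrm β (n + 1) v)⁻¹ * nrm β⁻¹ (n + 1) v⁆ = 1 := by
      rw [commutatorElement_eq_one_iff_mul_comm]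
      exact (mem_center_iff.mp h3 u)
    rw [this, mul_one]
  rwa [h4] at h1

end classtwo

end Cfsg.Agent.Lib.Helper14.FrobClass2
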