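import Mathlib
import Cfsg.Agent.Lib.Helper14.FrobClass2a
import Cfsg.Agent.Lib.Helper1.ThompsonAxB

/-!
# A Frobenius group `Q⟨b⟩` cannot act on a minimal class-2 group of exponent `p`
with `|C(b)| ≤ p` (helper14)
-/

set_option autoImplicit false
set_option maxHeartbeats 1000000

namespace Cfsg.Agent.Lib.Helper14.FrobClass2

open Subgroup Cfsg.Agent.Lib.Helper17 Cfsg.Agent.Lib.Helper14.FrobNorm
open scoped commutatorElement

section quot
variable {P : Type*} [Group P]

theorem quot_comm (hcl2 : ∀ a c : P, ⁅a, c⁆ ∈ center P) : ∀ x y : P ⧸ center P, x * y = y * x := by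
  intro x y
  induction x using QuotientGroup.induction_on with
  | H a =>
    induction y using QuotientGroup.induction_on with
    | H c =>
      rw [← QuotientGroup.mk_mul, ← QuotientGroup.mk_mul]
      apply QuotientGroup.eq.mpr
      have : (a * c)⁻¹ * (c * a) = ⁅c⁻¹, a⁻¹⁆ := by
        rw [commutatorElement_def]; group
      rw [this]
      exact hcl2 _ _

/-- the automorphism of `P / Z(P)` induced by an automorphism of `P` -/
noncomputable def indAut (α : MulAut P) : MulAut (P ⧸ center P) :=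
  QuotientGroup.congr (center P) (center P) α
    (Subgroup.characteristic_iff_map_eq.mp inferInstance α)

theorem indAut_mk (α : MulAut P) (x : P) :
    indAut α (QuotientGroup.mk' (center P) x) = QuotientGroup.mk' (center P) (α x) := rfl

/-- the induced action on `P / Z(P)` -/
noncomputable def indHom {F : Type*} [Group F] (φ : F →* MulAut P) : F →* MulAut (P ⧸ center P) where
  toFun x := indAut (φ x)
  map_one' := by
    ext a
    induction a using QuotientGroup.induction_on with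
    | H a =>
      show indAut (φ 1) (QuotientGroup.mk' (center P) a) = _
      rw [indAut_mk, map_one, MulAut.one_apply, MulAut.one_apply]
      rfl
  map_mul' x y := by
    ext a
    induction a using QuotientGroup.induction_on with
    | H a =>
      show indAut (φ (x * y)) (QuotientGroup.mk' (center P) a) =
        (indAut (φ x) * indAut (φ y)) (QuotientGroup.mk' (center P) a)
      rw [MulAut.mul_apply, indAut_mk, indAut_mk, indAut_mk, map_mul, MulAut.mul_apply]

theorem indHom_mk {F : Type*} [Group F] (φ : F →* MulAut P) (x : F) (r : P) :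
    indHom φ x (QuotientGroup.mk' (center P) r) = QuotientGroup.mk' (center P) (φ x r) := rfl

end quot

theorem false_of_frobenius {P F : Type*} [Group P] [Finite P] [Group F] {p : ℕ} [hp : Fact p.Prime]
    (hp2 : p ≠ 2) (φ : F →* MulAut P) (Q : Subgroup F) [Finite Q] (b : F)
    (hcl2 : ∀ a c : P, ⁅a, c⁆ ∈ center P) (hexp : ∀ a : P, a ^ p = 1) (hnab : center P ≠ ⊤)
    (hQc : (Nat.card Q).Coprime p) (hb : b ^ p = 1)
    (hbQ : ∀ x ∈ Q, b * x * b⁻¹ ∈ Q) (hbQ' : ∀ x ∈ Q, b⁻¹ * x * b ∈ Q)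
    (hfix : ∀ x ∈ Q, x * b = b * x → x = 1)
    (hQZ : ∀ x ∈ Q, ∀ z ∈ center P, φ x z = z)
    (hmin : ∀ Y : Subgroup P, center P ≤ Y → (∀ x ∈ Q, ∀ y ∈ Y, φ x y ∈ Y) →
      (∀ y ∈ Y, φ b y ∈ Y) → Y ≠ ⊤ → Y ≤ center P)
    (hQnt : ¬ ∀ x ∈ Q, ∀ r : P, r⁻¹ * φ x r ∈ center P)
    (hfp : Nat.card {x : P // φ b x = x} ≤ p)
    (hlt : ∀ W : Subgroup P, W ≠ ⊥ → (∀ w ∈ W, φ b w ∈ W) → ∃ w ∈ W, w ≠ 1 ∧ φ b w = w) :
    False := by
  classical
  set Z := center P with hZ
  set π := QuotientGroup.mk' Z with hπ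
  have hScomm := quot_comm hcl2
  set ρ := indHom φ with hρ
  have hρmk : ∀ (x : F) (r : P), ρ x (π r) = π (φ x r) := fun x r => rfl
  have hπeq : ∀ r s : P, π r = π s ↔ r⁻¹ * s ∈ Z := fun r s => QuotientGroup.eq
  have hπ1 : ∀ r : P, π r = 1 ↔ r ∈ Z := fun r => QuotientGroup.eq_one_iff r
  set β := φ b with hβ
  have hβp : β ^ p = 1 := by rw [hβ, ← map_pow, hb, map_one]
  have hρbp : (ρ b) ^ p = 1 := by rw [← map_pow, hb, map_one]
  have hπβ : ∀ x : P, π (β x) = ρ b (π x) := fun x => rfl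
  -- Step 1: no fixed points of `Q` on `P/Z`
  have hCQ : ∀ a : P ⧸ Z, (∀ x ∈ Q, ρ x a = a) → a = 1 := by
    intro a ha
    obtain ⟨r, rfl⟩ := QuotientGroup.mk'_surjective Z a
    let Y : Subgroup P :=
      { carrier := {y | ∀ x ∈ Q, ρ x (π y) = π y}
        one_mem' := by intro x _; rw [map_one, map_one]
        mul_mem' := by
          intro y y' hy hy' x hx
          rw [map_mul, map_mul, hy x hx, hy' x hx]
        inv_mem' := by
          intro y hy x hx
          rw [map_inv, map_inv, hy x hx] }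
    have hZY : Z ≤ Y := by
      intro z hz x _
      have : π z = 1 := (hπ1 z).mpr hz
      show ρ x (π z) = π z
      rw [this, map_one]
    have hYQ : ∀ x ∈ Q, ∀ y ∈ Y, φ x y ∈ Y := by
      intro q hq y hy x hx
      show ρ x (π (φ q y)) = π (φ q y)
      rw [← hρmk q y, ← MulAut.mul_apply, ← map_mul]
      have e : x * q = q * (q⁻¹ * x * q) := by group
      rw [e, map_mul, MulAut.mul_apply, hy _ (Q.mul_mem (Q.mul_mem (Q.inv_mem hq) hx) hq)]
    have hYb : ∀ y ∈ Y, φ b y ∈ Y := by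
      intro y hy x hx
      show ρ x (π (φ b y)) = π (φ b y)
      rw [← hρmk b y, ← MulAut.mul_apply, ← map_mul]
      have e : x * b = b * (b⁻¹ * x * b) := by group
      rw [e, map_mul, MulAut.mul_apply, hy _ (hbQ' x hx)]
    have hYtop : Y ≠ ⊤ := by
      intro h
      apply hQnt
      intro x hx s
      have hs : s ∈ Y := by rw [h]; trivial
      have h2 : ρ x (π s) = π s := hs x hx
      rw [hρmk] at h2
      exact (hπeq _ _).mp h2.symm
    have hYZ := hmin Y hZY hYQ hYb hYtop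
    have hr : r ∈ Y := ha
    exact (hπ1 r).mpr (hYZ hr)
  -- Step 2: the norm is nontrivial
  have hexpS : ∀ a : P ⧸ Z, a ^ p = 1 := by
    intro a
    obtain ⟨r, rfl⟩ := QuotientGroup.mk'_surjective Z a
    rw [← map_pow, hexp, map_one]
  have hnontriv : ¬ ∀ a : P ⧸ Z, a = 1 := by
    intro h
    apply hnab
    rw [eq_top_iff]
    intro r _
    exact (hπ1 r).mp (h _)
  have hnormne : ¬ ∀ a : P ⧸ Z, ((List.range p).map (fun i => ρ (b ^ i) a)).prod = 1 := by
    intro h
    exact hnontriv (eq_one_of_norm_trivial hp.out hScomm ρ Q b hbQ hb hfix hQc hexpS hCQ h)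
  push Not at hnormne
  obtain ⟨a₁, ha₁⟩ := hnormne
  obtain ⟨t₁, rfl⟩ := QuotientGroup.mk'_surjective Z a₁
  have hmapn : ∀ t : P, π (nrm β p t) = nrm (ρ b) p (π t) := fun t =>
    map_nrm π β (ρ b) hπβ p t
  have ha₁' : nrm (ρ b) p (π t₁) ≠ 1 := by
    unfold nrm
    have : (fun i => ((ρ b) ^ i) (π t₁)) = fun i => ρ (b ^ i) (π t₁) := by
      funext i; rw [map_pow]
    rw [this]
    exact ha₁
  set t₀ := nrm β p t₁ with ht₀
  have ht₀Z : t₀ ∉ Z := by
    intro h
    apply ha₁'
    rw [← hmapn]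
    exact (hπ1 _).mpr h
  -- Step 3: norms are fixed modulo the centre
  have hN : ∀ t : P, (nrm β p t)⁻¹ * β (nrm β p t) ∈ Z := by
    intro t
    apply (hπeq _ _).mp
    rw [hπβ, hmapn]
    exact (nrm_fixed hScomm (ρ b) p hρbp _).symm
  -- Step 4: the preimage of the fixed points
  let NZ : Subgroup P :=
    { carrier := {r | ρ b (π r) = π r}
      one_mem' := by show ρ b (π 1) = π 1; rw [map_one, map_one]
      mul_mem' := by
        intro y y' hy hy'
        show ρ b (π (y * y')) = π (y * y')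
        rw [map_mul, map_mul, hy, hy']
      inv_mem' := by
        intro y hy
        show ρ b (π y⁻¹) = π y⁻¹
        rw [map_inv, map_inv, hy] }
  have hNZmem : ∀ r : P, r ∈ NZ ↔ r⁻¹ * β r ∈ Z := by
    intro r
    constructor
    · intro h
      have h1 : ρ b (π r) = π r := h
      rw [← hπβ] at h1
      exact (hπeq _ _).mp h1.symm
    · intro h
      show ρ b (π r) = π r
      rw [← hπβ]
      exact ((hπeq _ _).mpr h).symm
  have hZNZ : Z ≤ NZ := by
    intro z hz
    show ρ b (π z) = π z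
    rw [(hπ1 z).mpr hz, map_one]
  have hNZcard : Nat.card NZ ≤ p * Nat.card Z := by
    let ψ : NZ →* Z :=
      { toFun := fun r => ⟨(r : P)⁻¹ * β r, (hNZmem r).mp r.2⟩
        map_one' := by
          apply Subtype.ext
          show ((1 : NZ) : P)⁻¹ * β ((1 : NZ) : P) = 1
          simp
        map_mul' := by
          intro r s
          apply Subtype.ext
          show ((r * s : NZ) : P)⁻¹ * β ((r * s : NZ) : P) = ((r : P)⁻¹ * β r) * ((s : P)⁻¹ * β s)
          have hc : ∀ g : P, g * ((r : P)⁻¹ * β r) = ((r : P)⁻¹ * β r) * g :=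
            fun g => mem_center_iff.mp ((hNZmem r).mp r.2) g
          rw [Subgroup.coe_mul, map_mul, mul_inv_rev]
          calc (s : P)⁻¹ * (r : P)⁻¹ * (β r * β s) = (s : P)⁻¹ * ((r : P)⁻¹ * β r) * β s := by group
            _ = ((r : P)⁻¹ * β r) * (s : P)⁻¹ * β s := by rw [hc]
            _ = _ := by group }
    have h1 := Subgroup.card_eq_card_quotient_mul_card_subgroup ψ.ker
    have h2 : Nat.card (NZ ⧸ ψ.ker) = Nat.card ψ.range :=
      Nat.card_congr (QuotientGroup.quotientKerEquivRange ψ).toEquiv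
    have h3 : Nat.card ψ.range ≤ Nat.card Z := Subgroup.card_le_card_group _
    have h4 : Nat.card ψ.ker ≤ p := by
      refine le_trans ?_ hfp
      apply Nat.card_le_card_of_injective
        (fun r : ψ.ker => (⟨((r : NZ) : P), by
          have h5 : ψ (r : NZ) = 1 := r.2
          have h6 : (((r : NZ) : P))⁻¹ * β ((r : NZ) : P) = 1 := congrArg Subtype.val h5
          have : β ((r : NZ) : P) = ((r : NZ) : P) := by
            have := congrArg (fun g => ((r : NZ) : P) * g) h6
            simpa using this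
          exact this⟩ : {x : P // φ b x = x}))
      intro r s hrs
      have hrs' : ((r : NZ) : P) = ((s : NZ) : P) := by
        have h7 := congrArg Subtype.val hrs
        exact h7
      exact Subtype.ext (Subtype.ext hrs')
    rw [h1, h2]
    calc Nat.card ψ.range * Nat.card ψ.ker ≤ Nat.card Z * p := Nat.mul_le_mul h3 h4
      _ = p * Nat.card Z := mul_comm _ _
  -- Step 5: the subgroup `V = [P', b]`
  set W := commutator P with hW
  have hWZ : W ≤ Z := by
    rw [hW, _root_.commutator_def, Subgroup.commutator_le]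
    intro a _ c _
    exact hcl2 a c
  have hcommW : ∀ a c : P, ⁅a, c⁆ ∈ W := by
    intro a c
    rw [hW, _root_.commutator_def]
    exact Subgroup.commutator_mem_commutator (mem_top a) (mem_top c)
  have hβW : ∀ w ∈ W, β w ∈ W := by
    intro w hw
    have h1 : W.map (β : P ≃* P).toMonoidHom ≤ W :=
      Subgroup.characteristic_iff_map_le.mp inferInstance β
    exact h1 (Subgroup.mem_map_of_mem _ hw)
  let δ : W →* W :=
    { toFun := fun w => ⟨β w * (w : P)⁻¹, W.mul_mem (hβW w w.2) (W.inv_mem w.2)⟩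
      map_one' := by
        apply Subtype.ext
        show β ((1 : W) : P) * (((1 : W) : P))⁻¹ = 1
        simp
      map_mul' := by
        intro w w'
        apply Subtype.ext
        show β ((w * w' : W) : P) * (((w * w' : W) : P))⁻¹ =
          (β w * (w : P)⁻¹) * (β w' * (w' : P)⁻¹)
        have hc : ∀ g : P, g * (β w' * (w' : P)⁻¹) = (β w' * (w' : P)⁻¹) * g :=
          fun g => mem_center_iff.mp (hWZ (W.mul_mem (hβW w' w'.2) (W.inv_mem w'.2))) g
        rw [Subgroup.coe_mul, map_mul, mul_inv_rev]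
        calc β w * β w' * ((w' : P)⁻¹ * (w : P)⁻¹) = β w * (β w' * (w' : P)⁻¹) * (w : P)⁻¹ := by group
          _ = β w * ((w : P)⁻¹ * (β w' * (w' : P)⁻¹)) := by rw [mul_assoc, hc]
          _ = _ := by group }
  set V := δ.range.map W.subtype with hV
  have hVW : V ≤ W := by
    rw [hV]
    exact Subgroup.map_subtype_le _
  have hVZ : V ≤ Z := hVW.trans hWZ
  have hδV : ∀ a c : P, β ⁅a, c⁆ * ⁅a, c⁆⁻¹ ∈ V := by
    intro a c
    exact ⟨δ ⟨⁅a, c⁆, hcommW a c⟩, ⟨_, rfl⟩, rfl⟩
  have hVb : ∀ v ∈ V, β v ∈ V := by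
    rintro _ ⟨_, ⟨w, rfl⟩, rfl⟩
    refine ⟨δ ⟨β w, hβW w w.2⟩, ⟨_, rfl⟩, ?_⟩
    show β (β w) * (β w)⁻¹ = β (β w * (w : P)⁻¹)
    rw [map_mul, map_inv]
  have hnotWV : ¬ W ≤ V := by
    intro hWV
    have hsurj : Function.Surjective δ := by
      intro w
      obtain ⟨y, ⟨x, rfl⟩, hy⟩ := hWV w.2
      exact ⟨x, Subtype.ext hy⟩
    have hinj : Function.Injective δ := Finite.injective_iff_surjective.mpr hsurj
    have hWne : W ≠ ⊥ := by
      intro hbot
      apply hnab
      rw [eq_top_iff]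
      intro a _
      rw [mem_center_iff]
      intro g
      have h1 : ⁅g, a⁆ ∈ W := hcommW g a
      rw [hbot, Subgroup.mem_bot, commutatorElement_eq_one_iff_mul_comm] at h1
      exact h1
    obtain ⟨w, hw, hw1, hwfix⟩ := hlt W hWne hβW
    apply hw1
    have h2 : δ ⟨w, hw⟩ = δ 1 := by
      rw [map_one]
      apply Subtype.ext
      show β w * w⁻¹ = 1
      rw [hwfix, mul_inv_cancel]
    have := hinj h2
    exact congrArg Subtype.val this
  -- Step 6: the symmetry
  have hE1 : ∀ u v : P, ⁅nrm β p u, v⁆ * ⁅u, nrm β p v⁆⁻¹ ∈ V := by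
    obtain ⟨n, hn⟩ := Nat.exists_eq_succ_of_ne_zero hp.out.ne_zero
    have hβn : β ^ (n + 1) = 1 := by rw [← Nat.succ_eq_add_one, ← hn]; exact hβp
    intro u v
    have := comm_nrm_symm hcl2 β V hδV n hβn u v
    rw [← Nat.succ_eq_add_one, ← hn] at this
    exact this
  -- Step 7
  set w₀ := ⁅t₀, t₁⁆ with hw₀
  have hw₀V : w₀ ∈ V := by
    have h1 := hE1 t₁ t₁
    rw [← ht₀, commutatorElement_inv, ← hw₀] at h1
    obtain ⟨m, hm⟩ := hp.out.eq_two_or_odd'.resolve_left hp2
    have h2 : (w₀ * w₀) ^ (m + 1) = w₀ := by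
      rw [← pow_two, ← pow_mul]
      have : 2 * (m + 1) = p + 1 := by omega
      rw [this, pow_succ, hexp, one_mul]
    rw [← h2]
    exact V.pow_mem h1 _
  let K₁ : Subgroup P := (V.subgroupOf Z).comap (commHomRight hcl2 t₁)
  have hK₁mem : ∀ r : P, r ∈ K₁ ↔ ⁅t₁, r⁆ ∈ V := fun r => Iff.rfl
  have hZK₁ : Z ≤ K₁ := by
    intro z hz
    rw [hK₁mem]
    have : ⁅t₁, z⁆ = 1 := by
      rw [commutatorElement_eq_one_iff_mul_comm]
      exact mem_center_iff.mp hz t₁
    rw [this]
    exact V.one_mem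
  have ht₀K₁ : t₀ ∈ K₁ := by
    rw [hK₁mem, ← commutatorElement_inv, ← hw₀]
    exact V.inv_mem hw₀V
  have ht₀NZ : t₀ ∈ NZ := (hNZmem t₀).mpr (hN t₁)
  have hNZK₁ : NZ ≤ K₁ := by
    have hP : IsPGroup p P := by
      intro g
      exact ⟨1, by rw [pow_one]; exact hexp g⟩
    set K₂ := K₁ ⊓ NZ with hK₂
    have hZK₂ : Z ≤ K₂ := le_inf hZK₁ hZNZ
    have hlt' : Z < K₂ := by
      refine lt_of_le_of_ne hZK₂ ?_
      intro h
      apply ht₀Z
      rw [h]
      exact ⟨ht₀K₁, ht₀NZ⟩
    obtain ⟨c, hc⟩ := IsPGroup.iff_card.mp (hP.to_subgroup Z)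
    obtain ⟨k, hk⟩ := IsPGroup.iff_card.mp (hP.to_subgroup K₂)
    have h1 : Nat.card Z < Nat.card K₂ := Cfsg.Agent.Lib.Helper1.natCard_lt_of_lt hlt'
    rw [hc, hk] at h1
    have h2 : c < k := (Nat.pow_lt_pow_iff_right hp.out.one_lt).mp h1
    have h3 : p * Nat.card Z ≤ Nat.card K₂ := by
      rw [hc, hk, ← pow_succ']
      exact Nat.pow_le_pow_right hp.out.pos h2
    have h4 : K₂ = NZ := by
      apply Subgroup.eq_of_le_of_card_ge inf_le_right
      exact hNZcard.trans h3
    rw [← h4]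
    exact inf_le_left
  have hclaimA : ∀ v : P, ⁅t₀, v⁆ ∈ V := by
    intro v
    have h1 := hE1 t₁ v
    rw [← ht₀] at h1
    have h2 : nrm β p v ∈ K₁ := hNZK₁ ((hNZmem _).mpr (hN v))
    rw [hK₁mem] at h2
    have := V.mul_mem h1 h2
    rwa [inv_mul_cancel_right] at this
  let Y₂ : Subgroup P :=
    { carrier := {r | ∀ v, ⁅r, v⁆ ∈ V}
      one_mem' := by
        intro v
        rw [commutatorElement_one_left]
        exact V.one_mem
      mul_mem' := by
        intro r s hr hs v
        rw [commutatorElement_mul_left_of_central hcl2]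
        exact V.mul_mem (hr v) (hs v)
      inv_mem' := by
        intro r hr v
        have h1 : ⁅r * r⁻¹, v⁆ = ⁅r, v⁆ * ⁅r⁻¹, v⁆ := commutatorElement_mul_left_of_central hcl2 _ _ _
        rw [mul_inv_cancel, commutatorElement_one_left] at h1
        have h2 : ⁅r⁻¹, v⁆ = ⁅r, v⁆⁻¹ := by
          have h3 : ⁅r, v⁆ * ⁅r⁻¹, v⁆ = 1 := h1.symm
          exact (inv_eq_of_mul_eq_one_right h3).symm
        rw [h2]
        exact V.inv_mem (hr v) }
  have hZY₂ : Z ≤ Y₂ := by
    intro z hz v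
    have : ⁅z, v⁆ = 1 := by
      rw [commutatorElement_eq_one_iff_mul_comm]
      exact (mem_center_iff.mp hz v).symm
    rw [this]
    exact V.one_mem
  have hY₂Q : ∀ x ∈ Q, ∀ y ∈ Y₂, φ x y ∈ Y₂ := by
    intro x hx y hy v
    have h1 : ⁅φ x y, v⁆ = φ x ⁅y, (φ x)⁻¹ v⁆ := by
      rw [map_commutatorElement]
      congr 1
      rw [← MulAut.mul_apply, mul_inv_cancel, MulAut.one_apply]
    rw [h1, hQZ x hx _ (hVZ (hy _))]
    exact hy _
  have hY₂b : ∀ y ∈ Y₂, φ b y ∈ Y₂ := by
    intro y hy v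
    have h1 : ⁅β y, v⁆ = β ⁅y, β⁻¹ v⁆ := by
      rw [map_commutatorElement]
      congr 1
      rw [← MulAut.mul_apply, mul_inv_cancel, MulAut.one_apply]
    show ⁅β y, v⁆ ∈ V
    rw [h1]
    exact hVb _ (hy _)
  have hY₂top : Y₂ = ⊤ := by
    by_contra hne
    exact ht₀Z (hmin Y₂ hZY₂ hY₂Q hY₂b hne hclaimA)
  apply hnotWV
  rw [hW, _root_.commutator_def, Subgroup.commutator_le]
  intro a _ c _
  have : a ∈ Y₂ := by rw [hY₂top]; trivial
  exact this c

end Cfsg.Agent.Lib.Helper14.FrobClass2
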