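import Mathlib
import Cfsg.Agent.Lib.Helper14.FrobAct1
import Cfsg.Agent.Lib.Helper14.FrobClass2b

/-!
# The Frobenius action lemma (helper14)

`centralizes_of_frobenius`: let `p` be odd, `Q` a `p'`-group, `b` of order dividing `p`
normalizing `Q` with `C_Q(b) = 1`, and `R` a `p`-group normalized by `Q` and `b` such that all
elements of order dividing `p` in `C_R(b)` lie in a subgroup `Z₀` of order at most `p` which is
centralized by `Q`.  Then `Q` centralizes `R`.
-/

set_option autoImplicit false
set_option maxHeartbeats 1000000

namespace Cfsg.Agent.Lib.Helper14.FrobAct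

open Subgroup Cfsg.Agent.Lib.Helper1
open scoped commutatorElement

variable {G : Type*} [Group G]

/-- conjugation action of the normalizer on the subgroup -/
def normConj (R : Subgroup G) : ↥(normalizer (R : Set G)) →* MulAut ↥R where
  toFun g := conjNormalizer R g g.2
  map_one' := by
    ext x
    rw [conjNormalizer_coe]
    simp
  map_mul' g h := by
    ext x
    rw [MulAut.mul_apply, conjNormalizer_coe, conjNormalizer_coe, conjNormalizer_coe]
    simp [mul_assoc]

theorem normConj_coe (R : Subgroup G) (g : ↥(normalizer (R : Set G))) (x : ↥R) :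
    ((normConj R g x : ↥R) : G) = g * x * (g : G)⁻¹ := rfl

theorem centralizes_of_frobenius [Finite G] (p : ℕ) [hp : Fact p.Prime] (hp2 : p ≠ 2)
    (Q : Subgroup G) (hQcop : (Nat.card Q).Coprime p) (b : G) (hb : b ^ p = 1)
    (hbQ : b ∈ normalizer (Q : Set G)) (hfix : ∀ q ∈ Q, q * b = b * q → q = 1)
    (Z₀ : Subgroup G) (hZ₀ : Nat.card Z₀ ≤ p) (hQZ₀ : Q ≤ centralizer (Z₀ : Set G)) :
    ∀ (n : ℕ) (R : Subgroup G), Nat.card R = n → IsPGroup p R →
      Q ≤ normalizer (R : Set G) → b ∈ normalizer (R : Set G) →
      (∀ x ∈ R, x ^ p = 1 → x * b = b * x → x ∈ Z₀) →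
      Q ≤ centralizer (R : Set G) := by
  intro n
  induction n using Nat.strong_induction_on with
  | _ n ih =>
    intro R hn hR hQR hbR hfixR
    have hcopR := coprime_card_of_isPGroup p Q R hR hQcop
    have finish : ⁅⁅R, Q⁆, Q⁆ = ⊥ → Q ≤ centralizer (R : Set G) := by
      intro h6
      have h7 : ⁅R, Q⁆ = ⊥ := commutator_eq_bot_of_commutator_commutator_eq_bot R Q hQR hcopR h6
      rw [Subgroup.commutator_eq_bot_iff_le_centralizer] at h7
      exact Subgroup.le_centralizer_iff.mp h7
    have ihS : ∀ S : Subgroup G, S < R → Q ≤ normalizer (S : Set G) →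
        b ∈ normalizer (S : Set G) → Q ≤ centralizer (S : Set G) := by
      intro S hS hQS hbS
      exact ih _ (hn ▸ natCard_lt_of_lt hS) S rfl (hR.to_le hS.le) hQS hbS
        (fun x hx => hfixR x (hS.le hx))
    by_cases hne : R = ⊥
    · rw [hne]
      intro a _
      rw [Subgroup.mem_centralizer_iff]
      intro h hh
      have : h = 1 := by simpa using hh
      rw [this, one_mul, mul_one]
    have hRQle : ⁅R, Q⁆ ≤ R := Subgroup.le_normalizer_iff_commutator_le_left.mp hQR
    rcases lt_or_eq_of_le hRQle with hlt | heq
    · have h1 := ihS ⁅R, Q⁆ hlt (Subgroup.normalizer_commutator_ge_right R Q)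
        (mem_normalizer_commutator R Q b hbR hbQ)
      apply finish
      rw [Subgroup.commutator_eq_bot_iff_le_centralizer]
      exact Subgroup.le_centralizer_iff.mp h1
    · exfalso
      -- `[R, Q] = R`
      have hD : ⁅R, R⁆ < R := commutator_lt_of_isPGroup p R R hR hR Subgroup.le_normalizer hne
      have hQD : Q ≤ centralizer ((⁅R, R⁆ : Subgroup G) : Set G) :=
        ihS _ hD (fun a ha => mem_normalizer_commutator R R a (hQR ha) (hQR ha))
          (mem_normalizer_commutator R R b hbR hbR)
      have hΦ := map_frattini_lt R hne
      have hQΦ : Q ≤ centralizer (((frattini R).map R.subtype : Subgroup G) : Set G) :=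
        ihS _ hΦ (fun a ha => mem_normalizer_map_of_characteristic R (frattini R) a (hQR ha))
          (mem_normalizer_map_of_characteristic R (frattini R) b hbR)
      have hDc : ⁅R, R⁆ ≤ centralizer (R : Set G) :=
        le_centralizer_of_commutator_eq R Q ⁅R, R⁆
          (Subgroup.normalizer_commutator_ge_left R R) hQD heq
      have hΦc : (frattini R).map R.subtype ≤ centralizer (R : Set G) :=
        le_centralizer_of_commutator_eq R Q _
          (fun x hx => mem_normalizer_map_of_characteristic R (frattini R) x
            (Subgroup.le_normalizer hx)) hQΦ heq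
      have hcen : ∀ a c : R, ⁅a, c⁆ ∈ center R := by
        intro a c
        rw [Subgroup.mem_center_iff]
        intro g
        have h1 : ((⁅a, c⁆ : R) : G) ∈ ⁅R, R⁆ := by
          have : ((⁅a, c⁆ : R) : G) = ⁅(a : G), (c : G)⁆ := by
            simp [commutatorElement_def]
          rw [this]
          exact Subgroup.commutator_mem_commutator a.2 c.2
        have h2 := hDc h1
        rw [Subgroup.mem_centralizer_iff] at h2
        apply Subtype.ext
        have := h2 (g : G) g.2
        simpa using this
      have hpowΦ : ∀ a : R, ((a ^ p : R) : G) ∈ (frattini R).map R.subtype := fun a =>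
        ⟨a ^ p, Cfsg.Agent.Lib.Helper11.pow_mem_frattini_of_isPGroup hR a, rfl⟩
      have hpow : ∀ a : R, a ^ p ∈ center R := by
        intro a
        rw [Subgroup.mem_center_iff]
        intro g
        have h2 := hΦc (hpowΦ a)
        rw [Subgroup.mem_centralizer_iff] at h2
        apply Subtype.ext
        have := h2 (g : G) g.2
        simpa using this
      have hmul := mul_pow_prime_of_central (P := R) hp.out hp2 hcen hpow
      -- exponent `p`
      let pw : ↥R →* ↥R :=
        { toFun := fun x => x ^ p
          map_one' := one_pow p
          map_mul' := hmul }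
      have hEle : ⁅R, Q⁆ ≤ pw.ker.map R.subtype := by
        rw [Subgroup.commutator_le]
        intro x hx a ha
        set φ := conjNormalizer R a (hQR ha) with hφ
        set x' : R := ⟨x, hx⟩ with hx'
        have hw : ⁅x, a⁆ = ((x' * φ x'⁻¹ : R) : G) := by
          simp [commutatorElement_def, hφ, hx', mul_assoc]
        have hwp : (x' * φ x'⁻¹) ^ p = 1 := by
          rw [hmul, ← map_pow, inv_pow]
          have hfix' : φ ((x' ^ p)⁻¹) = (x' ^ p)⁻¹ := by
            apply Subtype.ext
            rw [conjNormalizer_coe]
            have h2 := hQΦ ha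
            rw [Subgroup.mem_centralizer_iff] at h2
            have h3 := h2 _ (inv_mem (hpowΦ x'))
            have h4 : (((x' ^ p)⁻¹ : R) : G) = ((x' ^ p : R) : G)⁻¹ := rfl
            rw [h4, ← h3, mul_inv_cancel_right]
          rw [hfix', mul_inv_cancel]
        rw [hw]
        exact ⟨x' * φ x'⁻¹, hwp, rfl⟩
      have hexp : ∀ x ∈ R, x ^ p = 1 := by
        intro x hx
        rw [← heq] at hx
        obtain ⟨y, hy, rfl⟩ := hEle hx
        have h1 : y ^ p = 1 := hy
        have := congrArg (fun y : R => (y : G)) h1
        simpa using this
      have hCb : ∀ x ∈ R, x * b = b * x → x ∈ Z₀ := fun x hx => hfixR x hx (hexp x hx)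
      by_cases hab : ∀ x ∈ R, ∀ y ∈ R, x * y = y * x
      · -- abelian case
        obtain ⟨s, hs, hs1, hsb⟩ := exists_fixed_ne_one R hR hne b hb hbR
        have hsZ : s ∈ Z₀ := hCb s hs hsb.symm
        apply hs1
        apply eq_one_of_mem_centralizer_of_mem_commutator R Q hQR hab hcopR s
        · intro a ha
          have := Subgroup.mem_centralizer_iff.mp (hQZ₀ ha) s hsZ
          exact this.symm
        · rw [heq]; exact hs
      · -- nonabelian case
        set NR := normalizer (R : Set G) with hNR
        set φ := normConj R with hφ
        have hφc : ∀ (g : ↥NR) (x : ↥R), ((φ g x : ↥R) : G) = g * x * (g : G)⁻¹ :=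
          fun g x => rfl
        set Q' : Subgroup ↥NR := Q.subgroupOf NR with hQ'
        set b' : ↥NR := ⟨b, hbR⟩ with hb'
        have hZlt : (center ↥R).map R.subtype < R := by
          refine lt_of_le_of_ne (Subgroup.map_subtype_le _) ?_
          intro h
          apply hab
          intro x hx y hy
          rw [← h] at hx
          obtain ⟨z, hz, rfl⟩ := hx
          have := Subgroup.mem_center_iff.mp hz ⟨y, hy⟩
          have := congrArg (fun y : R => (y : G)) this
          simpa using this.symm
        have hQZ : Q ≤ centralizer (((center ↥R).map R.subtype : Subgroup G) : Set G) :=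
          ihS _ hZlt (fun a ha => mem_normalizer_map_of_characteristic R (center ↥R) a (hQR ha))
            (mem_normalizer_map_of_characteristic R (center ↥R) b hbR)
        refine Cfsg.Agent.Lib.Helper14.FrobClass2.false_of_frobenius (P := ↥R) (F := ↥NR) (p := p)
          hp2 φ Q' b' hcen ?_ ?_ ?_ ?_ ?_ ?_ ?_ ?_ ?_ ?_ ?_ ?_
        · -- exponent
          intro a
          apply Subtype.ext
          rw [Subgroup.coe_pow]
          exact hexp a a.2
        · -- center ≠ ⊤
          intro h
          apply hab
          intro x hx y hy
          have hxc : (⟨x, hx⟩ : ↥R) ∈ center ↥R := by rw [h]; trivial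
          have := Subgroup.mem_center_iff.mp hxc ⟨y, hy⟩
          have := congrArg (fun y : R => (y : G)) this
          simpa using this.symm
        · -- coprime
          have : Nat.card Q' = Nat.card Q :=
            Nat.card_congr (Subgroup.subgroupOfEquivOfLe hQR).toEquiv
          rw [this]; exact hQcop
        · -- b' ^ p = 1
          apply Subtype.ext
          rw [Subgroup.coe_pow]
          exact hb
        · -- hbQ
          intro x hx
          rw [hQ', Subgroup.mem_subgroupOf] at hx ⊢
          exact (Subgroup.mem_normalizer_iff.mp hbQ _).mp hx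
        · -- hbQ'
          intro x hx
          rw [hQ', Subgroup.mem_subgroupOf] at hx ⊢
          have := (Subgroup.mem_normalizer_iff.mp (inv_mem hbQ) _).mp hx
          simpa using this
        · -- hfix
          intro x hx hxb
          rw [hQ', Subgroup.mem_subgroupOf] at hx
          apply Subtype.ext
          have h1 := congrArg Subtype.val hxb
          exact hfix _ hx h1
        · -- hQZ
          intro x hx z hz
          rw [hQ', Subgroup.mem_subgroupOf] at hx
          apply Subtype.ext
          rw [hφc]
          have h1 := Subgroup.mem_centralizer_iff.mp (hQZ hx) (z : G) ⟨z, hz, rfl⟩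
          rw [← h1]; group
        · -- hmin
          intro Y hZY hYQ hYb hYtop
          set S := Y.map R.subtype with hS
          have hSlt : S < R := by
            refine lt_of_le_of_ne (Subgroup.map_subtype_le _) ?_
            intro h
            apply hYtop
            rw [eq_top_iff]
            intro x _
            have hx : (x : G) ∈ S := by rw [h]; exact x.2
            obtain ⟨y, hy, hyx⟩ := hx
            have : y = x := Subtype.ext hyx
            rw [← this]; exact hy
          have hQS : Q ≤ normalizer (S : Set G) := by
            intro a ha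
            apply mem_normalizer_of_conj_mem
            rintro _ ⟨y, hy, rfl⟩
            exact ⟨φ ⟨a, hQR ha⟩ y, hYQ ⟨a, hQR ha⟩ (by rw [hQ', Subgroup.mem_subgroupOf]; exact ha) y hy,
              rfl⟩
          have hbS : b ∈ normalizer (S : Set G) := by
            apply mem_normalizer_of_conj_mem
            rintro _ ⟨y, hy, rfl⟩
            exact ⟨φ b' y, hYb y hy, rfl⟩
          have hQcS := ihS S hSlt hQS hbS
          have hRS : R ≤ normalizer (S : Set G) := by
            intro r hr
            apply mem_normalizer_of_conj_mem
            rintro _ ⟨y, hy, rfl⟩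
            refine ⟨⁅(⟨r, hr⟩ : ↥R), y⁆ * y, Y.mul_mem (hZY (hcen _ _)) hy, ?_⟩
            show r * (y : G) * r⁻¹ * (y : G)⁻¹ * (y : G) = r * (y : G) * r⁻¹
            group
          have hSc := le_centralizer_of_commutator_eq R Q S hRS hQcS heq
          intro y hy
          rw [Subgroup.mem_center_iff]
          intro g
          have h1 := Subgroup.mem_centralizer_iff.mp (hSc ⟨y, hy, rfl⟩) (g : G) g.2
          exact Subtype.ext h1
        · -- hQnt
          intro h
          have hle : ⁅R, Q⁆ ≤ (center ↥R).map R.subtype := by
            rw [Subgroup.commutator_le]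
            intro r hr a ha
            have h1 := h ⟨a, hQR ha⟩ (by rw [hQ', Subgroup.mem_subgroupOf]; exact ha)
              (⟨r, hr⟩ : ↥R)⁻¹
            refine ⟨_, h1, ?_⟩
            show (r⁻¹)⁻¹ * (a * r⁻¹ * a⁻¹) = ⁅r, a⁆
            rw [commutatorElement_def]; group
          rw [heq] at hle
          exact hZlt.not_ge hle
        · -- hfp
          refine le_trans ?_ hZ₀
          have hmem : ∀ x : {x : ↥R // φ b' x = x}, ((x : ↥R) : G) ∈ Z₀ := by
            intro x
            apply hCb _ x.1.2
            have h1 := congrArg Subtype.val x.2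
            rw [hφc] at h1
            have h2 : b * ((x : ↥R) : G) * b⁻¹ = ((x : ↥R) : G) := h1
            calc ((x : ↥R) : G) * b = b * ((x : ↥R) : G) * b⁻¹ * b := by rw [h2]
              _ = b * ((x : ↥R) : G) := by group
          let f : {x : ↥R // φ b' x = x} → ↥Z₀ := fun x => ⟨((x : ↥R) : G), hmem x⟩
          apply Nat.card_le_card_of_injective f
          intro x y hxy
          have h1 : ((x : ↥R) : G) = ((y : ↥R) : G) := by
            have h7 := congrArg Subtype.val hxy
            exact h7
          exact Subtype.ext (Subtype.ext h1)
        · -- hlt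
          intro W hW hWb
          set S := W.map R.subtype with hS
          have hSne : S ≠ ⊥ := by
            intro h
            apply hW
            rw [eq_bot_iff]
            intro w hw
            have : (w : G) ∈ S := ⟨w, hw, rfl⟩
            rw [h, Subgroup.mem_bot] at this
            rw [Subgroup.mem_bot]
            exact Subtype.ext this
          have hSR : S ≤ R := Subgroup.map_subtype_le _
          have hbS : b ∈ normalizer (S : Set G) := by
            apply mem_normalizer_of_conj_mem
            rintro _ ⟨y, hy, rfl⟩
            exact ⟨φ b' y, hWb y hy, rfl⟩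
          obtain ⟨s, hs, hs1, hsb⟩ := exists_fixed_ne_one S (hR.to_le hSR) hSne b hb hbS
          obtain ⟨w, hw, rfl⟩ := hs
          refine ⟨w, hw, ?_, ?_⟩
          · intro h
            apply hs1
            rw [h]; rfl
          · apply Subtype.ext
            rw [hφc]
            show b * (w : G) * b⁻¹ = w
            have h3 : b * (w : G) = (w : G) * b := hsb
            rw [h3]; group

end Cfsg.Agent.Lib.Helper14.FrobAct
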