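import Mathlib

/-!
Hall–Wielandt, part 1: a finite-difference identity for sequences in an abelian group of
exponent `p`, and the resulting vanishing of the "norm" `∏_{i<p} Ψ(z⁻ⁱ v zⁱ)`.
-/

set_option autoImplicit false

namespace Cfsg.Agent.Lib.Helper14

open Finset

section Seq

variable {A : Type*} [CommGroup A]

/-- multiplicative forward difference of a sequence -/
def seqDiff (a : ℕ → A) : ℕ → A := fun i => a (i + 1) * (a i)⁻¹

theorem prod_range_eq_prod_seqDiff (n : ℕ) : ∀ a : ℕ → A,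
    ∏ i ∈ range n, a i = ∏ k ∈ range n, ((seqDiff^[k] a) 0) ^ (n.choose (k + 1)) := by
  induction n with
  | zero => intro a; simp
  | succ n ih =>
    intro a
    rw [Finset.prod_range_succ']
    have h1 : ∏ i ∈ range n, a (i + 1) =
        (∏ i ∈ range n, a i) * ∏ i ∈ range n, seqDiff a i := by
      rw [← Finset.prod_mul_distrib]
      apply Finset.prod_congr rfl
      intro i _
      unfold seqDiff
      rw [mul_comm (a (i + 1)), mul_inv_cancel_left]
    rw [h1, ih a, ih (seqDiff a)]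
    have h2 : ∏ k ∈ range (n + 1), ((seqDiff^[k] a) 0) ^ ((n + 1).choose (k + 1)) =
        (∏ k ∈ range (n + 1), ((seqDiff^[k] a) 0) ^ (n.choose k)) *
          ∏ k ∈ range (n + 1), ((seqDiff^[k] a) 0) ^ (n.choose (k + 1)) := by
      rw [← Finset.prod_mul_distrib]
      apply Finset.prod_congr rfl
      intro k _
      rw [Nat.choose_succ_succ', pow_add]
    rw [h2, Finset.prod_range_succ (fun k => ((seqDiff^[k] a) 0) ^ (n.choose (k + 1))),
      Nat.choose_succ_self, pow_zero, mul_one,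
      Finset.prod_range_succ' (fun k => ((seqDiff^[k] a) 0) ^ (n.choose k))]
    simp only [Function.iterate_succ_apply, Function.iterate_zero, id_eq, Nat.choose_zero_right,
      pow_one]
    ac_rfl

theorem prod_range_prime_eq_seqDiff {p : ℕ} (hp : p.Prime) (hA : ∀ a : A, a ^ p = 1)
    (a : ℕ → A) : ∏ i ∈ range p, a i = (seqDiff^[p - 1] a) 0 := by
  rw [prod_range_eq_prod_seqDiff]
  obtain ⟨m, rfl⟩ : ∃ m, p = m + 1 := ⟨p - 1, (Nat.sub_add_cancel hp.one_le).symm⟩
  rw [Finset.prod_range_succ, Nat.choose_self, pow_one, Nat.add_sub_cancel]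
  rw [Finset.prod_eq_one, one_mul]
  intro k hk
  rw [Finset.mem_range] at hk
  obtain ⟨c, hc⟩ := hp.dvd_choose_self (Nat.succ_ne_zero k) (Nat.succ_lt_succ hk)
  rw [hc, pow_mul, hA, one_pow]

end Seq

section Block

variable {G : Type*} [Group G] {A : Type*} [CommGroup A]

theorem block_prod_eq_one {p : ℕ} (hp : p.Prime) (hA : ∀ a : A, a ^ p = 1)
    (D : Subgroup G) (Ψ : G → A) (hmul : ∀ a ∈ D, ∀ b ∈ D, Ψ (a * b) = Ψ a * Ψ b)
    (z : G) (hz : ∀ d ∈ D, z⁻¹ * d * z ∈ D) (v : G) (hv : v ∈ D)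
    (hc : (fun y : G => y⁻¹ * z⁻¹ * y * z)^[p - 1] v = 1) :
    ∏ i ∈ range p, Ψ ((z ^ i)⁻¹ * v * z ^ i) = 1 := by
  have hΨ1 : Ψ 1 = 1 := by
    have h := hmul 1 (one_mem D) 1 (one_mem D)
    rw [mul_one] at h
    exact (mul_eq_left.mp h.symm)
  have hΨinv : ∀ x ∈ D, Ψ x⁻¹ = (Ψ x)⁻¹ := by
    intro x hx
    have h := hmul x⁻¹ (inv_mem hx) x hx
    rw [inv_mul_cancel, hΨ1] at h
    exact eq_inv_of_mul_eq_one_left h.symm
  have hzi : ∀ (i : ℕ), ∀ d ∈ D, (z ^ i)⁻¹ * d * z ^ i ∈ D := by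
    intro i
    induction i with
    | zero => intro d hd; simpa using hd
    | succ i ih =>
      intro d hd
      have e : (z ^ (i + 1))⁻¹ * d * z ^ (i + 1) = z⁻¹ * ((z ^ i)⁻¹ * d * z ^ i) * z := by
        rw [pow_succ]; group
      rw [e]
      exact hz _ (ih d hd)
  have hcD : ∀ d ∈ D, d⁻¹ * z⁻¹ * d * z ∈ D := by
    intro d hd
    have e : d⁻¹ * z⁻¹ * d * z = d⁻¹ * (z⁻¹ * d * z) := by group
    rw [e]
    exact mul_mem (inv_mem hd) (hz d hd)
  have hck : ∀ k : ℕ, (fun y : G => y⁻¹ * z⁻¹ * y * z)^[k] v ∈ D := by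
    intro k
    induction k with
    | zero => simpa using hv
    | succ k ih =>
      rw [Function.iterate_succ_apply']
      exact hcD _ ih
  have key : ∀ k i : ℕ, (seqDiff^[k] (fun i => Ψ ((z ^ i)⁻¹ * v * z ^ i))) i =
      Ψ ((z ^ i)⁻¹ * ((fun y : G => y⁻¹ * z⁻¹ * y * z)^[k] v) * z ^ i) := by
    intro k
    induction k with
    | zero => intro i; rfl
    | succ k ih =>
      intro i
      rw [Function.iterate_succ_apply', Function.iterate_succ_apply']
      have hs : ∀ (b : ℕ → A) (i : ℕ), seqDiff b i = b (i + 1) * (b i)⁻¹ := fun _ _ => rfl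
      rw [hs, ih (i + 1), ih i]
      set w := (fun y : G => y⁻¹ * z⁻¹ * y * z)^[k] v with hw
      have hwD : w ∈ D := hck k
      have e : (z ^ i)⁻¹ * (w⁻¹ * z⁻¹ * w * z) * z ^ i =
          ((z ^ i)⁻¹ * w * z ^ i)⁻¹ * ((z ^ (i + 1))⁻¹ * w * z ^ (i + 1)) := by
        rw [pow_succ']; group
      rw [e, hmul _ (inv_mem (hzi i w hwD)) _ (hzi (i + 1) w hwD), hΨinv _ (hzi i w hwD), mul_comm]
  rw [prod_range_prime_eq_seqDiff hp hA, key, hc]
  simp [hΨ1]

end Block

end Cfsg.Agent.Lib.Helper14
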