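import Mathlib
import Cfsg.Prelude.Def_Transfer
import Cfsg.Agent.Lib.Helper24.Gruen
import Cfsg.Agent.Lib.Helper11.FrobeniusLocal
import Cfsg.Agent.Lib.Helper11.WeaklyClosed
import Cfsg.Agent.Lib.Helper14.HallWielandt1

/-!
Hall–Wielandt, part 2: group-theoretic preliminaries.
-/

set_option autoImplicit false
set_option linter.unusedSectionVars false

namespace Cfsg.Agent.Lib.Helper14

open Subgroup Finset
open scoped Pointwise
open Cfsg.Agent.Lib.Helper24 (extOne extOne_of_mem extOne_mul extOne_conj extOne_one extOne_pow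
  smul_coset_eq_iff inv_conj_pow)

section Blocks

theorem prod_eq_one_of_blocks {ι A : Type*} [CommMonoid A] [DecidableEq ι] (s : Finset ι)
    (f : ι → A) (b : ι → Finset ι)
    (h1 : ∀ i ∈ s, i ∈ b i) (h2 : ∀ i ∈ s, b i ⊆ s) (h3 : ∀ i ∈ s, ∀ j ∈ b i, b j = b i)
    (h4 : ∀ i ∈ s, ∏ j ∈ b i, f j = 1) : ∏ i ∈ s, f i = 1 := by
  classical
  rw [← Finset.prod_fiberwise_of_maps_to (t := s.image b) (g := b)
    (fun i hi => Finset.mem_image_of_mem b hi) f]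
  apply Finset.prod_eq_one
  intro B hB
  obtain ⟨i₀, hi₀, rfl⟩ := Finset.mem_image.mp hB
  have : s.filter (fun j => b j = b i₀) = b i₀ := by
    ext j
    rw [Finset.mem_filter]
    constructor
    · rintro ⟨hj, hbj⟩
      rw [← hbj]; exact h1 j hj
    · intro hj
      exact ⟨h2 i₀ hi₀ hj, h3 i₀ hi₀ j hj⟩
  rw [this]
  exact h4 i₀ hi₀

end Blocks

section WC

variable {G : Type*} [Group G] [Finite G] {p : ℕ} [Fact p.Prime]

theorem exists_conj_not_mem_normalizer_of_weaklyClosed (P : Sylow p G) (Q : Subgroup G)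
    (hQ : Cfsg.IsWeaklyClosed Q (P : Subgroup G)) {y : G} (hy : y ∉ normalizer (Q : Set G)) :
    ∃ q ∈ Q, y⁻¹ * q * y ∉ normalizer (Q : Set G) := by
  by_contra h
  push Not at h
  obtain ⟨hQP, hclosed⟩ := hQ
  have hQp : IsPGroup p Q := P.2.to_le hQP
  obtain ⟨Qy, hQy⟩ : ∃ Qy : Subgroup G, Qy = Q.map (MulAut.conj y⁻¹).toMonoidHom := ⟨_, rfl⟩
  have hQyp : IsPGroup p Qy := by rw [hQy]; exact hQp.map _
  have hQyN : Qy ≤ normalizer (Q : Set G) := by
    rw [hQy]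
    rintro w ⟨q, hq, rfl⟩
    have := h q hq
    change y⁻¹ * q * y⁻¹⁻¹ ∈ normalizer (Q : Set G)
    rwa [inv_inv]
  have hsup : IsPGroup p (Qy ⊔ Q : Subgroup G) := IsPGroup.to_sup_of_normal_right' hQyp hQp hQyN
  obtain ⟨S, hS⟩ := hsup.exists_le_sylow
  obtain ⟨g, hg⟩ := MulAction.exists_smul_eq G P S
  have h1 : Q.map (MulAut.conj g⁻¹).toMonoidHom = Q := by
    apply hclosed
    rintro w ⟨q, hq, rfl⟩
    have hqS : q ∈ (S : Subgroup G) := hS (Subgroup.mem_sup_right hq)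
    rw [← hg, Cfsg.Agent.Lib.Helper11.mem_smul_sylow_iff] at hqS
    change g⁻¹ * q * g⁻¹⁻¹ ∈ (P : Subgroup G)
    rwa [inv_inv]
  have h2 : Q.map (MulAut.conj (g⁻¹ * y⁻¹)).toMonoidHom = Q := by
    apply hclosed
    rintro w ⟨q, hq, rfl⟩
    have hqy : y⁻¹ * q * y ∈ Qy := by
      rw [hQy]
      refine ⟨q, hq, ?_⟩
      change y⁻¹ * q * y⁻¹⁻¹ = _
      rw [inv_inv]
    have hqS : y⁻¹ * q * y ∈ (S : Subgroup G) := hS (Subgroup.mem_sup_left hqy)
    rw [← hg, Cfsg.Agent.Lib.Helper11.mem_smul_sylow_iff] at hqS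
    change (g⁻¹ * y⁻¹) * q * (g⁻¹ * y⁻¹)⁻¹ ∈ (P : Subgroup G)
    have e : (g⁻¹ * y⁻¹) * q * (g⁻¹ * y⁻¹)⁻¹ = g⁻¹ * (y⁻¹ * q * y) * g := by group
    rw [e]; exact hqS
  have hn1 : g⁻¹ ∈ normalizer (Q : Set G) := mem_normalizer_iff_map_conj_eq.mpr h1
  have hn2 : g⁻¹ * y⁻¹ ∈ normalizer (Q : Set G) := mem_normalizer_iff_map_conj_eq.mpr h2
  apply hy
  have e : y = (g⁻¹ * y⁻¹)⁻¹ * g⁻¹ := by group
  rw [e]
  exact mul_mem (inv_mem hn2) hn1

theorem exists_conj_mem_sylow_of_le (P : Sylow p G) (N : Subgroup G)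
    (hPN : (P : Subgroup G) ≤ N) {w : G} (hwN : w ∈ N) (hw : ∃ j : ℕ, w ^ p ^ j = 1) :
    ∃ n ∈ N, n⁻¹ * w * n ∈ (P : Subgroup G) := by
  have hz : IsPGroup p (zpowers (⟨w, hwN⟩ : N)) := by
    obtain ⟨j, hj⟩ := hw
    apply IsPGroup.of_card_dvd_pow (n := j)
    rw [Nat.card_zpowers]
    apply orderOf_dvd_of_pow_eq_one
    apply Subtype.ext
    simpa using hj
  obtain ⟨S, hS⟩ := hz.exists_le_sylow
  obtain ⟨n, hn⟩ := MulAction.exists_smul_eq N (P.subtype hPN) S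
  have h1 : (⟨w, hwN⟩ : N) ∈ (S : Subgroup N) := hS (mem_zpowers _)
  rw [← hn, Cfsg.Agent.Lib.Helper11.mem_smul_sylow_iff] at h1
  refine ⟨(n : G), n.2, ?_⟩
  rw [Sylow.coe_subtype, mem_subgroupOf] at h1
  simpa using h1

theorem le_normalizer_of_weaklyClosed {P Q : Subgroup G}
    (hQ : Cfsg.IsWeaklyClosed Q P) : P ≤ normalizer (Q : Set G) := by
  intro x hx
  rw [mem_normalizer_iff_map_conj_eq]
  apply hQ.2
  rintro w ⟨q, hq, rfl⟩
  exact mul_mem (mul_mem hx (hQ.1 hq)) (inv_mem hx)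

theorem exists_z_of_weaklyClosed (P : Sylow p G) (Q : Subgroup G)
    (hQ : Cfsg.IsWeaklyClosed Q (P : Subgroup G))
    (x₀ : G ⧸ normalizer (Q : Set G)) (hx₀ : x₀ ≠ ((1 : G) : G ⧸ normalizer (Q : Set G))) :
    ∃ z : G, z ∈ Q ∧ z ∉ (P : Subgroup G) ⊓ MulAction.stabilizer G x₀ ∧
      z ^ p ∈ (P : Subgroup G) ⊓ MulAction.stabilizer G x₀ ∧
      ∀ d ∈ (P : Subgroup G) ⊓ MulAction.stabilizer G x₀,
        z⁻¹ * d * z ∈ (P : Subgroup G) ⊓ MulAction.stabilizer G x₀ := by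
  have hPN : (P : Subgroup G) ≤ normalizer (Q : Set G) := le_normalizer_of_weaklyClosed hQ
  obtain ⟨D, hD⟩ : ∃ D : Subgroup G, D = (P : Subgroup G) ⊓ MulAction.stabilizer G x₀ := ⟨_, rfl⟩
  rw [← hD]
  obtain ⟨y, hy⟩ : ∃ y : G, (y : G ⧸ normalizer (Q : Set G)) = x₀ := ⟨x₀.out, QuotientGroup.out_eq' x₀⟩
  have hyN : y ∉ normalizer (Q : Set G) := by
    intro h
    apply hx₀
    rw [← hy]
    exact QuotientGroup.eq.mpr (by simpa using inv_mem h)
  obtain ⟨q, hq, hqy⟩ := exists_conj_not_mem_normalizer_of_weaklyClosed P Q hQ hyN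
  have hqD : q ∉ D := by
    intro h
    rw [hD] at h
    have h2 : q • x₀ = x₀ := MulAction.mem_stabilizer_iff.mp h.2
    rw [← hy, smul_coset_eq_iff] at h2
    exact hqy h2
  have hlt : D < D ⊔ Q := by
    refine lt_of_le_of_ne le_sup_left ?_
    intro h
    apply hqD
    rw [h]
    exact Subgroup.mem_sup_right hq
  have hDP : D ≤ (P : Subgroup G) := by rw [hD]; exact inf_le_left
  have hpg : IsPGroup p (D ⊔ Q : Subgroup G) := P.2.to_le (sup_le hDP hQ.1)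
  have h1 := Cfsg.Agent.Lib.Helper11.lt_inf_normalizer_of_lt (D ⊔ Q) D hpg hlt
  obtain ⟨g, hg, hgD⟩ := SetLike.exists_of_lt h1
  have hDN : D ≤ normalizer (Q : Set G) := hDP.trans hPN
  have hmul : ((D ⊔ Q : Subgroup G) : Set G) = (D : Set G) * (Q : Set G) :=
    coe_mul_of_left_le_normalizer_right D Q hDN
  have hg1 : g ∈ ((D ⊔ Q : Subgroup G) : Set G) := hg.1
  rw [hmul] at hg1
  obtain ⟨d, hd, q', hq', rfl⟩ := hg1
  have hq'N : q' ∈ normalizer (D : Set G) := by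
    have e : q' = d⁻¹ * (d * q') := by group
    rw [e]
    exact mul_mem (inv_mem (le_normalizer hd)) hg.2
  have hq'D : q' ∉ D := fun h => hgD (mul_mem hd h)
  have hq'P : q' ∈ (P : Subgroup G) := hQ.1 hq'
  obtain ⟨m, hm⟩ := P.2 ⟨q', hq'P⟩
  have hm' : q' ^ p ^ m = 1 := by
    have := congrArg Subtype.val hm
    simpa using this
  have hex : ∃ j : ℕ, q' ^ p ^ j ∈ D := ⟨m, by rw [hm']; exact one_mem D⟩
  classical
  obtain ⟨k, hk⟩ : ∃ k, Nat.find hex = k + 1 := by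
    apply Nat.exists_eq_succ_of_ne_zero
    intro h0
    have := Nat.find_spec hex
    rw [h0, pow_zero, pow_one] at this
    exact hq'D this
  refine ⟨q' ^ p ^ k, pow_mem hq' _, ?_, ?_, ?_⟩
  · exact Nat.find_min hex (by rw [hk]; exact Nat.lt_succ_self k)
  · have := Nat.find_spec hex
    rw [hk, pow_succ, pow_mul] at this
    exact this
  · intro d' hd'
    have hzN : (q' ^ p ^ k)⁻¹ ∈ normalizer (D : Set G) := inv_mem (pow_mem hq'N _)
    have := (mem_normalizer_iff.mp hzN d').mp hd'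
    rwa [inv_inv] at this

theorem conj_pow_mem' (D : Subgroup G) (z : G) (hz : ∀ d ∈ D, z⁻¹ * d * z ∈ D) (i : ℕ) :
    ∀ d ∈ D, (z ^ i)⁻¹ * d * z ^ i ∈ D := by
  induction i with
  | zero => intro d hd; simpa using hd
  | succ i ih =>
    intro d hd
    have e : (z ^ (i + 1))⁻¹ * d * z ^ (i + 1) = z⁻¹ * ((z ^ i)⁻¹ * d * z ^ i) * z := by
      rw [pow_succ]; group
    rw [e]
    exact hz _ (ih d hd)

theorem pow_smul_mod {X : Type*} [MulAction G X] (x₀ : X) (z : G) (n : ℕ)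
    (hzn : z ^ n • x₀ = x₀) (k : ℕ) : z ^ k • x₀ = z ^ (k % n) • x₀ := by
  conv_lhs => rw [← Nat.mod_add_div k n]
  rw [pow_add, mul_smul, pow_mul]
  congr 1
  have hmem : z ^ n ∈ MulAction.stabilizer G x₀ := MulAction.mem_stabilizer_iff.mpr hzn
  exact MulAction.mem_stabilizer_iff.mp (pow_mem hmem _)

theorem pow_smul_inj {X : Type*} [MulAction G X] (x₀ : X) (z : G)
    (hzo : ∃ e : ℕ, orderOf z = p ^ e) (hz : z • x₀ ≠ x₀) {i j : ℕ} (hi : i < p) (hj : j < p)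
    (h : z ^ i • x₀ = z ^ j • x₀) : i = j := by
  have hp : p.Prime := Fact.out
  have key : ∀ a b : ℕ, a ≤ b → b < p → z ^ a • x₀ = z ^ b • x₀ → a = b := by
    intro a b hab hb hh
    by_contra hne
    have hlt : a < b := lt_of_le_of_ne hab hne
    have h1 : z ^ (b - a) • x₀ = x₀ := by
      have e : z ^ b = z ^ a * z ^ (b - a) := by rw [← pow_add, Nat.add_sub_cancel' hab]
      rw [e, mul_smul] at hh
      exact (smul_left_cancel _ hh).symm
    have hcop : Nat.Coprime (b - a) (orderOf z) := by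
      obtain ⟨e, he⟩ := hzo
      rw [he]
      apply Nat.Coprime.pow_right
      apply Nat.Coprime.symm
      rw [Nat.Prime.coprime_iff_not_dvd hp]
      exact Nat.not_dvd_of_pos_of_lt (Nat.sub_pos_of_lt hlt) (lt_of_le_of_lt (Nat.sub_le _ _) hb)
    obtain ⟨m, hm⟩ := exists_pow_eq_self_of_coprime hcop
    apply hz
    have hmem : z ^ (b - a) ∈ MulAction.stabilizer G x₀ := MulAction.mem_stabilizer_iff.mpr h1
    have := MulAction.mem_stabilizer_iff.mp (pow_mem hmem m)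
    rwa [hm] at this
  rcases Nat.le_total i j with hij | hij
  · exact key i j hij hj h
  · exact (key j i hij hi h.symm).symm

end WC

end Cfsg.Agent.Lib.Helper14
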