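import Mathlib
import Cfsg.Prelude.Def_Transfer
import Cfsg.Agent.Lib.Helper14.HallWielandt2

/-!
Hall–Wielandt, part 3: the product over the fixed points and the transfer computation.
-/

set_option autoImplicit false
set_option linter.unusedSectionVars false

namespace Cfsg.Agent.Lib.Helper14

open Subgroup Finset
open Cfsg.Agent.Lib.Helper24 (extOne extOne_of_mem extOne_mul extOne_conj extOne_one extOne_pow
  smul_coset_eq_iff inv_conj_pow)

section Blk

variable {G : Type*} [Group G] [Finite G] {p : ℕ} [Fact p.Prime]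

theorem smul_block_fixed {X : Type*} [MulAction G X] (P' : Subgroup G) (x₀ : X) (z : G)
    (hzn : ∀ d ∈ P' ⊓ MulAction.stabilizer G x₀, z⁻¹ * d * z ∈ P' ⊓ MulAction.stabilizer G x₀)
    {u t : G} (hu : u ∈ P') (ht : t ∈ P') (hfix : u • (t • x₀) = t • x₀) (i : ℕ) :
    u • ((t * z ^ i) • x₀) = (t * z ^ i) • x₀ := by
  have hvD : t⁻¹ * u * t ∈ P' ⊓ MulAction.stabilizer G x₀ := by
    refine Subgroup.mem_inf.mpr ⟨mul_mem (mul_mem (inv_mem ht) hu) ht, ?_⟩
    rw [MulAction.mem_stabilizer_iff, mul_smul, mul_smul, hfix, inv_smul_smul]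
  have h1 := (Subgroup.mem_inf.mp (conj_pow_mem' _ z hzn i _ hvD)).2
  rw [MulAction.mem_stabilizer_iff] at h1
  have e : u * (t * z ^ i) = (t * z ^ i) * ((z ^ i)⁻¹ * (t⁻¹ * u * t) * z ^ i) := by group
  rw [← mul_smul, e, mul_smul, h1]

theorem blk_shift {X : Type*} [MulAction G X] (P' : Subgroup G) (x₀ : X) (z : G) (n : ℕ)
    (hzn : ∀ d ∈ P' ⊓ MulAction.stabilizer G x₀, z⁻¹ * d * z ∈ P' ⊓ MulAction.stabilizer G x₀)
    (hzp : z ^ n • x₀ = x₀) (hzP : z ∈ P') {t t' : G} (ht : t ∈ P') (ht' : t' ∈ P') (i : ℕ)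
    (h : t' • x₀ = (t * z ^ i) • x₀) (j : ℕ) :
    (t' * z ^ j) • x₀ = (t * z ^ ((i + j) % n)) • x₀ := by
  have hdD : (t * z ^ i)⁻¹ * t' ∈ P' ⊓ MulAction.stabilizer G x₀ := by
    refine Subgroup.mem_inf.mpr ⟨mul_mem (inv_mem (mul_mem ht (pow_mem hzP i))) ht', ?_⟩
    rw [MulAction.mem_stabilizer_iff, mul_smul, h, inv_smul_smul]
  have h1 := (Subgroup.mem_inf.mp (conj_pow_mem' _ z hzn j _ hdD)).2
  rw [MulAction.mem_stabilizer_iff] at h1
  have e : t' * z ^ j = t * z ^ (i + j) * ((z ^ j)⁻¹ * ((t * z ^ i)⁻¹ * t') * z ^ j) := by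
    rw [pow_add]; group
  rw [e, mul_smul, h1, mul_smul, pow_smul_mod x₀ z n hzp (i + j), ← mul_smul]

theorem blk_injOn {X : Type*} [MulAction G X] (x₀ : X) (z : G)
    (hzo : ∃ e : ℕ, orderOf z = p ^ e) (hz : z • x₀ ≠ x₀) (t : G) :
    Set.InjOn (fun i : ℕ => (t * z ^ i) • x₀) ((range p : Finset ℕ) : Set ℕ) := by
  intro i hi j hj h
  simp only [mul_smul] at h
  exact pow_smul_inj x₀ z hzo hz (mem_range.mp (Finset.mem_coe.mp hi))
    (mem_range.mp (Finset.mem_coe.mp hj)) (smul_left_cancel _ h)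

end Blk

section Fixed

variable {G : Type*} [Group G] [Finite G] {p : ℕ} [Fact p.Prime] (P : Sylow p G) (Q : Subgroup G)
  {A : Type*} [CommGroup A] (φ : ↥(normalizer (Q : Set G)) →* A)

/-- independence of the coset representative -/
theorem extOne_out_conj (u : G) (x : G ⧸ normalizer (Q : Set G)) (hx : u • x = x) (k : G)
    (hk : (k : G ⧸ normalizer (Q : Set G)) = x) :
    extOne φ (x.out⁻¹ * u * x.out) = extOne φ (k⁻¹ * u * k) := by
  have hout : ((x.out : G) : G ⧸ normalizer (Q : Set G)) = x := QuotientGroup.out_eq' x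
  have hn : k⁻¹ * x.out ∈ normalizer (Q : Set G) := by rw [← QuotientGroup.eq, hk, hout]
  have hkN : k⁻¹ * u * k ∈ normalizer (Q : Set G) := by rw [← smul_coset_eq_iff, hk]; exact hx
  have e : x.out⁻¹ * u * x.out = (k⁻¹ * x.out)⁻¹ * (k⁻¹ * u * k) * (k⁻¹ * x.out) := by group
  rw [e, extOne_conj φ hkN hn]

theorem block_prod_fixed (hQ : Cfsg.IsWeaklyClosed Q (P : Subgroup G))
    (hstar : ∀ u ∈ (P : Subgroup G), ∀ z ∈ Q, (fun y : G => y⁻¹ * z⁻¹ * y * z)^[p - 1] u = 1)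
    (hA : ∀ a : A, a ^ p = 1) {u : G} (hu : u ∈ (P : Subgroup G))
    (x₀ : G ⧸ normalizer (Q : Set G)) (z : G) (hzQ : z ∈ Q)
    (hzn : ∀ d ∈ (P : Subgroup G) ⊓ MulAction.stabilizer G x₀,
      z⁻¹ * d * z ∈ (P : Subgroup G) ⊓ MulAction.stabilizer G x₀)
    {t : G} (ht : t ∈ (P : Subgroup G)) (hfix : u • (t • x₀) = t • x₀) :
    ∏ i ∈ range p, extOne φ ((((t * z ^ i) • x₀).out)⁻¹ * u * ((t * z ^ i) • x₀).out) = 1 := by
  have hp : p.Prime := Fact.out
  obtain ⟨y, hy⟩ : ∃ y : G, (y : G ⧸ normalizer (Q : Set G)) = x₀ :=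
    ⟨x₀.out, QuotientGroup.out_eq' x₀⟩
  have hvP : t⁻¹ * u * t ∈ (P : Subgroup G) := mul_mem (mul_mem (inv_mem ht) hu) ht
  have hvD : t⁻¹ * u * t ∈ (P : Subgroup G) ⊓ MulAction.stabilizer G x₀ := by
    refine Subgroup.mem_inf.mpr ⟨hvP, ?_⟩
    rw [MulAction.mem_stabilizer_iff, mul_smul, mul_smul, hfix, inv_smul_smul]
  have hterm : ∀ i : ℕ, extOne φ ((((t * z ^ i) • x₀).out)⁻¹ * u * ((t * z ^ i) • x₀).out) =
      extOne φ (y⁻¹ * ((z ^ i)⁻¹ * (t⁻¹ * u * t) * z ^ i) * y) := by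
    intro i
    have hk : ((t * z ^ i * y : G) : G ⧸ normalizer (Q : Set G)) = (t * z ^ i) • x₀ := by
      rw [← hy, MulAction.Quotient.smul_coe, smul_eq_mul]
    rw [extOne_out_conj Q φ u _ (smul_block_fixed _ x₀ z hzn hu ht hfix i) (t * z ^ i * y) hk]
    congr 1
    group
  rw [Finset.prod_congr rfl (fun i _ => hterm i)]
  apply block_prod_eq_one hp hA ((P : Subgroup G) ⊓ MulAction.stabilizer G x₀)
    (fun d => extOne φ (y⁻¹ * d * y)) ?_ z hzn _ hvD (hstar _ hvP z hzQ)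
  intro a ha b hb
  have haN : y⁻¹ * a * y ∈ normalizer (Q : Set G) := by
    rw [← smul_coset_eq_iff, hy]; exact MulAction.mem_stabilizer_iff.mp (Subgroup.mem_inf.mp ha).2
  have hbN : y⁻¹ * b * y ∈ normalizer (Q : Set G) := by
    rw [← smul_coset_eq_iff, hy]; exact MulAction.mem_stabilizer_iff.mp (Subgroup.mem_inf.mp hb).2
  have e : y⁻¹ * (a * b) * y = (y⁻¹ * a * y) * (y⁻¹ * b * y) := by group
  show extOne φ (y⁻¹ * (a * b) * y) = _
  rw [e, extOne_mul φ haN hbN]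

theorem prod_fixed_eq (hQ : Cfsg.IsWeaklyClosed Q (P : Subgroup G))
    (hstar : ∀ u ∈ (P : Subgroup G), ∀ z ∈ Q, (fun y : G => y⁻¹ * z⁻¹ * y * z)^[p - 1] u = 1)
    (hA : ∀ a : A, a ^ p = 1) {u : G} (hu : u ∈ (P : Subgroup G))
    [Fintype (G ⧸ normalizer (Q : Set G))] [DecidableEq (G ⧸ normalizer (Q : Set G))] :
    ∏ x ∈ (Finset.univ.filter (fun x : G ⧸ normalizer (Q : Set G) => u • x = x)),
      extOne φ (x.out⁻¹ * u * x.out) = extOne φ u := by
  classical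
  have hp : p.Prime := Fact.out
  have hPN : (P : Subgroup G) ≤ normalizer (Q : Set G) := le_normalizer_of_weaklyClosed hQ
  obtain ⟨x1, hx1⟩ : ∃ x1 : G ⧸ normalizer (Q : Set G), x1 = ((1 : G) : G ⧸ normalizer (Q : Set G)) :=
    ⟨_, rfl⟩
  have hPfix : ∀ t ∈ (P : Subgroup G), t • x1 = x1 := by
    intro t ht
    rw [hx1, smul_coset_eq_iff]
    simpa using hPN ht
  obtain ⟨F, hF⟩ : ∃ F : Finset (G ⧸ normalizer (Q : Set G)),
      F = Finset.univ.filter (fun x : G ⧸ normalizer (Q : Set G) => u • x = x) := ⟨_, rfl⟩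
  rw [← hF]
  have hmemF : ∀ x, x ∈ F ↔ u • x = x := by
    intro x; rw [hF, Finset.mem_filter]; simp
  have hx1F : x1 ∈ F := (hmemF x1).mpr (hPfix u hu)
  rw [← Finset.mul_prod_erase F _ hx1F]
  have hfx1 : extOne φ (x1.out⁻¹ * u * x1.out) = extOne φ u := by
    rw [extOne_out_conj Q φ u x1 (hPfix u hu) 1 hx1.symm]; simp
  rw [hfx1]
  suffices h : ∏ x ∈ F.erase x1, extOne φ (x.out⁻¹ * u * x.out) = 1 by rw [h, mul_one]
  -- orbit representatives
  obtain ⟨rep, hrepdef⟩ : ∃ rep : G ⧸ normalizer (Q : Set G) → G ⧸ normalizer (Q : Set G),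
      rep = fun x => (Quotient.mk'' x : MulAction.orbitRel.Quotient (P : Subgroup G)
        (G ⧸ normalizer (Q : Set G))).out := ⟨_, rfl⟩
  have hrep : ∀ x, ∃ t : G, t ∈ (P : Subgroup G) ∧ t • rep x = x := by
    intro x
    have h := Quotient.out_eq' (Quotient.mk'' x : MulAction.orbitRel.Quotient (P : Subgroup G)
        (G ⧸ normalizer (Q : Set G)))
    have h' := Quotient.exact' h
    rw [MulAction.orbitRel_apply] at h'
    obtain ⟨⟨g, hg⟩, hgx⟩ := h'
    refine ⟨g⁻¹, inv_mem hg, ?_⟩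
    rw [hrepdef]
    beta_reduce
    rw [← hgx]
    beta_reduce
    show g⁻¹ • (g • x) = x
    exact inv_smul_smul g x
  have hrep_const : ∀ (x x' : G ⧸ normalizer (Q : Set G)) (s : G), s ∈ (P : Subgroup G) →
      s • x = x' → rep x' = rep x := by
    intro x x' s hs hsx
    rw [hrepdef]
    show (Quotient.mk'' x' : MulAction.orbitRel.Quotient (P : Subgroup G) _).out =
      (Quotient.mk'' x : MulAction.orbitRel.Quotient (P : Subgroup G) _).out
    congr 1
    apply Quotient.sound'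
    rw [MulAction.orbitRel_apply]
    exact ⟨⟨s, hs⟩, hsx⟩
  choose tc htcP htc using hrep
  have hzex : ∀ x₀ : G ⧸ normalizer (Q : Set G), ∃ z : G, x₀ ≠ x1 →
      (z ∈ Q ∧ z ∉ (P : Subgroup G) ⊓ MulAction.stabilizer G x₀ ∧
      z ^ p ∈ (P : Subgroup G) ⊓ MulAction.stabilizer G x₀ ∧
      ∀ d ∈ (P : Subgroup G) ⊓ MulAction.stabilizer G x₀,
        z⁻¹ * d * z ∈ (P : Subgroup G) ⊓ MulAction.stabilizer G x₀) := by
    intro x₀
    by_cases h : x₀ = x1
    · exact ⟨1, fun h' => absurd h h'⟩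
    · rw [hx1] at h
      obtain ⟨z, hz⟩ := exists_z_of_weaklyClosed P Q hQ x₀ h
      exact ⟨z, fun _ => hz⟩
  choose zc hzc using hzex
  have hrepne : ∀ x, x ≠ x1 → rep x ≠ x1 := by
    intro x hx h
    apply hx
    rw [← htc x, h]
    exact hPfix _ (htcP x)
  -- facts about `z`
  have hzfacts : ∀ x₀, x₀ ≠ x1 → zc x₀ ∈ (P : Subgroup G) ∧ (∃ e : ℕ, orderOf (zc x₀) = p ^ e) ∧
      zc x₀ • x₀ ≠ x₀ ∧ zc x₀ ^ p • x₀ = x₀ := by
    intro x₀ hx₀
    obtain ⟨hzQ, hzD, hzp, hzn⟩ := hzc x₀ hx₀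
    have hzP : zc x₀ ∈ (P : Subgroup G) := hQ.1 hzQ
    refine ⟨hzP, ?_, ?_, ?_⟩
    · obtain ⟨j, hj⟩ := P.2 ⟨zc x₀, hzP⟩
      have hj' : zc x₀ ^ p ^ j = 1 := by
        have := congrArg Subtype.val hj; simpa using this
      obtain ⟨e, -, he⟩ := (Nat.dvd_prime_pow hp).mp (orderOf_dvd_of_pow_eq_one hj')
      exact ⟨e, he⟩
    · intro h
      exact hzD (Subgroup.mem_inf.mpr ⟨hzP, MulAction.mem_stabilizer_iff.mpr h⟩)
    · exact MulAction.mem_stabilizer_iff.mp (Subgroup.mem_inf.mp hzp).2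
  apply prod_eq_one_of_blocks (F.erase x1) _
    (fun x => (range p).image (fun i => (tc x * (zc (rep x)) ^ i) • rep x))
  · -- h1
    intro x _
    rw [Finset.mem_image]
    refine ⟨0, Finset.mem_range.mpr hp.pos, ?_⟩
    rw [pow_zero, mul_one]
    exact htc x
  · -- h2
    intro x hx x' hx'
    obtain ⟨i, -, rfl⟩ := Finset.mem_image.mp hx'
    obtain ⟨hxne, hxF⟩ := Finset.mem_erase.mp hx
    have hxfix : u • x = x := (hmemF x).mp hxF
    have hx₀ := hrepne x hxne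
    obtain ⟨hzQ, hzD, hzp, hzn⟩ := hzc (rep x) hx₀
    obtain ⟨hzP, hzo, hzx, hzpx⟩ := hzfacts (rep x) hx₀
    rw [Finset.mem_erase, hmemF]
    constructor
    · intro h
      apply hx₀
      have : rep x = (tc x * zc (rep x) ^ i)⁻¹ • x1 := by rw [← h, inv_smul_smul]
      rw [this]
      exact hPfix _ (inv_mem (mul_mem (htcP x) (pow_mem hzP i)))
    · apply smul_block_fixed (P : Subgroup G) (rep x) (zc (rep x)) hzn hu (htcP x)
      rw [htc x]; exact hxfix
  · -- h3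
    intro x hx x' hx'
    obtain ⟨i, -, hix'⟩ := Finset.mem_image.mp hx'
    obtain ⟨hxne, hxF⟩ := Finset.mem_erase.mp hx
    have hx₀ := hrepne x hxne
    obtain ⟨hzQ, hzD, hzp, hzn⟩ := hzc (rep x) hx₀
    obtain ⟨hzP, hzo, hzx, hzpx⟩ := hzfacts (rep x) hx₀
    have hrx' : rep x' = rep x := by
      have h1 : rep x' = rep (rep x) :=
        hrep_const (rep x) x' (tc x * zc (rep x) ^ i) (mul_mem (htcP x) (pow_mem hzP i)) hix'
      have h2 : rep x = rep (rep x) := hrep_const (rep x) x (tc x) (htcP x) (htc x)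
      rw [h1, ← h2]
    have ht' : tc x' • rep x = x' := by
      have := htc x'; rwa [hrx'] at this
    show (range p).image (fun j => (tc x' * (zc (rep x')) ^ j) • rep x') =
      (range p).image (fun j => (tc x * (zc (rep x)) ^ j) • rep x)
    rw [hrx']
    apply Finset.eq_of_subset_of_card_le
    · intro w hw
      obtain ⟨j, -, rfl⟩ := Finset.mem_image.mp hw
      rw [Finset.mem_image]
      refine ⟨(i + j) % p, Finset.mem_range.mpr (Nat.mod_lt _ hp.pos), ?_⟩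
      exact (blk_shift (P : Subgroup G) (rep x) (zc (rep x)) p hzn hzpx hzP (htcP x) (htcP x') i
        (by rw [ht', hix']) j).symm
    · rw [Finset.card_image_of_injOn (blk_injOn (rep x) (zc (rep x)) hzo hzx (tc x)),
        Finset.card_image_of_injOn (blk_injOn (rep x) (zc (rep x)) hzo hzx (tc x'))]
  · -- h4
    intro x hx
    obtain ⟨hxne, hxF⟩ := Finset.mem_erase.mp hx
    have hxfix : u • x = x := (hmemF x).mp hxF
    have hx₀ := hrepne x hxne
    obtain ⟨hzQ, hzD, hzp, hzn⟩ := hzc (rep x) hx₀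
    obtain ⟨hzP, hzo, hzx, hzpx⟩ := hzfacts (rep x) hx₀
    rw [Finset.prod_image (blk_injOn (rep x) (zc (rep x)) hzo hzx (tc x))]
    apply block_prod_fixed P Q φ hQ hstar hA hu (rep x) (zc (rep x)) hzQ hzn (htcP x)
    rw [htc x]; exact hxfix

end Fixed

end Cfsg.Agent.Lib.Helper14
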