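import Mathlib
import Cfsg.Prelude.Def_Transfer
import Cfsg.Agent.Lib.Helper14.HallWielandt3

/-!
Hall–Wielandt, part 4: the transfer into `N_G(Q)` of an exponent-`p` valued homomorphism
restricts to the original homomorphism on the Sylow subgroup.
-/

set_option autoImplicit false
set_option linter.unusedSectionVars false

namespace Cfsg.Agent.Lib.Helper14

open Subgroup Finset
open Cfsg.Agent.Lib.Helper24 (extOne extOne_of_mem extOne_mul extOne_conj extOne_one extOne_pow
  smul_coset_eq_iff inv_conj_pow)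

section Core

variable {G : Type*} [Group G] [Finite G] {p : ℕ} [Fact p.Prime] (P : Sylow p G) (Q : Subgroup G)
  {A : Type*} [CommGroup A] (φ : ↥(normalizer (Q : Set G)) →* A)

theorem orderOf_inv_conj (k v : G) : orderOf (k⁻¹ * v * k) = orderOf v := by
  have := (MulAut.conj k⁻¹).orderOf_eq v
  rwa [MulAut.conj_apply, inv_inv] at this

theorem hw_transfer_eq (hQ : Cfsg.IsWeaklyClosed Q (P : Subgroup G))
    (hstar : ∀ u ∈ (P : Subgroup G), ∀ z ∈ Q, (fun y : G => y⁻¹ * z⁻¹ * y * z)^[p - 1] u = 1)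
    (hA : ∀ a : A, a ^ p = 1) {u : G} (hu : u ∈ (P : Subgroup G))
    (IH : ∀ v ∈ (P : Subgroup G), orderOf v < orderOf u → ∀ k : G,
      k⁻¹ * v * k ∈ (P : Subgroup G) → extOne φ (k⁻¹ * v * k) = extOne φ v) :
    MonoidHom.transfer φ u = extOne φ u := by
  have hPN : (P : Subgroup G) ≤ normalizer (Q : Set G) := le_normalizer_of_weaklyClosed hQ
  by_cases hne : u = 1
  · subst hne; rw [map_one, extOne_one]
  classical
  haveI : Fintype (G ⧸ normalizer (Q : Set G)) := Fintype.ofFinite _
  haveI : Fintype (Quotient (MulAction.orbitRel (Subgroup.zpowers u)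
    (G ⧸ normalizer (Q : Set G)))) := Fintype.ofFinite _
  have hp : p.Prime := Fact.out
  obtain ⟨e, he⟩ : ∃ e, orderOf u = p ^ e := by
    obtain ⟨j, hj⟩ := P.2 ⟨u, hu⟩
    have hj' : u ^ (p ^ j) = 1 := by
      have := congrArg Subtype.val hj; simpa using this
    obtain ⟨e, -, he⟩ := (Nat.dvd_prime_pow hp).mp (orderOf_dvd_of_pow_eq_one hj')
    exact ⟨e, he⟩
  have hepos : 0 < e := by
    rcases Nat.eq_zero_or_pos e with h0 | h0
    · rw [h0, pow_zero, orderOf_eq_one_iff] at he; exact absurd he hne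
    · exact h0
  have K1 : ∀ m : ℕ, p ∣ m → ∀ k : G, k⁻¹ * u ^ m * k ∈ normalizer (Q : Set G) →
      extOne φ (k⁻¹ * u ^ m * k) = 1 := by
    intro m hm k hk
    have hlt : orderOf (u ^ m) < orderOf u := by
      obtain ⟨m', rfl⟩ := hm
      have h1' : (u ^ (p * m')) ^ (p ^ (e - 1)) = 1 := by
        have e3 : p * m' * p ^ (e - 1) = p ^ e * m' := by
          have : p ^ e = p ^ (e - 1) * p := by rw [← pow_succ, Nat.sub_add_cancel hepos]
          rw [this]; ring
        rw [← pow_mul, e3, pow_mul, ← he, pow_orderOf_eq_one, one_pow]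
      have := Nat.le_of_dvd (pow_pos hp.pos _) (orderOf_dvd_of_pow_eq_one h1')
      rw [he]
      exact lt_of_le_of_lt this (Nat.pow_lt_pow_right hp.one_lt (Nat.sub_lt hepos one_pos))
    have hwp : ∃ j : ℕ, (k⁻¹ * u ^ m * k) ^ p ^ j = 1 := by
      refine ⟨e, ?_⟩
      rw [inv_conj_pow, ← pow_mul, mul_comm, pow_mul, ← he, pow_orderOf_eq_one, one_pow]
      group
    obtain ⟨n, hn, hnP⟩ := exists_conj_mem_sylow_of_le P _ hPN hk hwp
    have e1 : n⁻¹ * (k⁻¹ * u ^ m * k) * n = (k * n)⁻¹ * u ^ m * (k * n) := by group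
    rw [← extOne_conj φ hk hn, e1]
    rw [e1] at hnP
    rw [IH (u ^ m) (pow_mem hu m) hlt (k * n) hnP, extOne_pow φ (hPN hu)]
    obtain ⟨c, rfl⟩ := hm
    rw [pow_mul, hA, one_pow]
  have K2 : ∀ x : G ⧸ normalizer (Q : Set G), Function.minimalPeriod (u • ·) x = 1 ∨
      p ∣ Function.minimalPeriod (u • ·) x := by
    intro x
    have hd : Function.minimalPeriod (u • ·) x ∣ orderOf u := by
      rw [← MulAction.pow_smul_eq_iff_minimalPeriod_dvd, pow_orderOf_eq_one, one_smul]
    rw [he] at hd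
    obtain ⟨j, -, hj⟩ := (Nat.dvd_prime_pow hp).mp hd
    rcases Nat.eq_zero_or_pos j with h0 | h0
    · left; rw [hj, h0, pow_zero]
    · right; rw [hj]; exact dvd_pow_self p h0.ne'
  rw [MonoidHom.transfer_eq_prod_quotient_orbitRel_zpowers_quot]
  have hterm : ∀ q : Quotient (MulAction.orbitRel (Subgroup.zpowers u)
      (G ⧸ normalizer (Q : Set G))),
      φ ⟨q.out.out⁻¹ * u ^ Function.minimalPeriod (u • ·) q.out * q.out.out,
        QuotientGroup.out_conj_pow_minimalPeriod_mem (normalizer (Q : Set G)) u q.out⟩ =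
      extOne φ (q.out.out⁻¹ * u ^ Function.minimalPeriod (u • ·) q.out * q.out.out) :=
    fun q => (extOne_of_mem φ _).symm
  rw [Finset.prod_congr rfl (fun q _ => hterm q)]
  rw [← Finset.prod_filter_mul_prod_filter_not Finset.univ
      (fun q : Quotient (MulAction.orbitRel (Subgroup.zpowers u)
        (G ⧸ normalizer (Q : Set G))) => Function.minimalPeriod (u • ·) q.out = 1)
      (fun q => extOne φ (q.out.out⁻¹ * u ^ Function.minimalPeriod (u • ·) q.out * q.out.out))]
  have hrest : ∏ q ∈ Finset.univ.filter (fun q : Quotient (MulAction.orbitRel (Subgroup.zpowers u)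
        (G ⧸ normalizer (Q : Set G))) => ¬ Function.minimalPeriod (u • ·) q.out = 1),
      extOne φ (q.out.out⁻¹ * u ^ Function.minimalPeriod (u • ·) q.out * q.out.out) = 1 := by
    apply Finset.prod_eq_one
    intro q hq
    rw [Finset.mem_filter] at hq
    have hpd := (K2 q.out).resolve_left hq.2
    exact K1 _ hpd _ (QuotientGroup.out_conj_pow_minimalPeriod_mem (normalizer (Q : Set G)) u q.out)
  rw [hrest, mul_one]
  obtain ⟨F, hF⟩ : ∃ F : Finset (G ⧸ normalizer (Q : Set G)),
      F = Finset.univ.filter (fun x : G ⧸ normalizer (Q : Set G) => u • x = x) := ⟨_, rfl⟩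
  have hout : ∀ x : G ⧸ normalizer (Q : Set G), u • x = x →
      (Quotient.mk'' x : Quotient (MulAction.orbitRel (Subgroup.zpowers u)
        (G ⧸ normalizer (Q : Set G)))).out = x := by
    intro x hx
    have h := Quotient.out_eq' (Quotient.mk'' x : Quotient (MulAction.orbitRel
      (Subgroup.zpowers u) (G ⧸ normalizer (Q : Set G))))
    have h' := Quotient.exact' h
    rw [MulAction.orbitRel_apply] at h'
    obtain ⟨⟨z, hz⟩, hzx⟩ := h'
    obtain ⟨i, rfl⟩ := Subgroup.mem_zpowers_iff.mp hz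
    rw [← hzx]
    have hmem : u ∈ MulAction.stabilizer G x := MulAction.mem_stabilizer_iff.mpr hx
    exact MulAction.mem_stabilizer_iff.mp (zpow_mem hmem i)
  have hfix : ∀ q : Quotient (MulAction.orbitRel (Subgroup.zpowers u)
      (G ⧸ normalizer (Q : Set G))),
      Function.minimalPeriod (u • ·) q.out = 1 ↔ u • q.out = q.out :=
    fun q => Function.minimalPeriod_eq_one_iff_isFixedPt
  have e1 : ∏ q ∈ Finset.univ.filter (fun q : Quotient (MulAction.orbitRel (Subgroup.zpowers u)
        (G ⧸ normalizer (Q : Set G))) => Function.minimalPeriod (u • ·) q.out = 1),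
        extOne φ (q.out.out⁻¹ * u ^ Function.minimalPeriod (u • ·) q.out * q.out.out) =
      ∏ x ∈ F, extOne φ (x.out⁻¹ * u * x.out) := by
    apply Finset.prod_nbij' (fun q => q.out) (fun x => Quotient.mk'' x)
    · intro q hq
      rw [Finset.mem_filter] at hq
      rw [hF, Finset.mem_filter]
      exact ⟨Finset.mem_univ _, (hfix q).mp hq.2⟩
    · intro x hx
      rw [hF, Finset.mem_filter] at hx
      rw [Finset.mem_filter]
      refine ⟨Finset.mem_univ _, ?_⟩
      rw [hfix, hout x hx.2]; exact hx.2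
    · intro q _; exact Quotient.out_eq' q
    · intro x hx
      rw [hF, Finset.mem_filter] at hx
      exact hout x hx.2
    · intro q hq
      rw [Finset.mem_filter] at hq
      rw [hq.2, pow_one]
  rw [e1, hF]
  exact prod_fixed_eq P Q φ hQ hstar hA hu

theorem hw_transfer (hQ : Cfsg.IsWeaklyClosed Q (P : Subgroup G))
    (hstar : ∀ u ∈ (P : Subgroup G), ∀ z ∈ Q, (fun y : G => y⁻¹ * z⁻¹ * y * z)^[p - 1] u = 1)
    (hA : ∀ a : A, a ^ p = 1) :
    ∀ u ∈ (P : Subgroup G), MonoidHom.transfer φ u = extOne φ u := by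
  have key : ∀ n : ℕ, ∀ u ∈ (P : Subgroup G), orderOf u = n →
      MonoidHom.transfer φ u = extOne φ u := by
    intro n
    induction n using Nat.strong_induction_on with
    | _ n ih =>
      intro u hu hn
      apply hw_transfer_eq P Q φ hQ hstar hA hu
      intro v hv hlt k hk
      have h1 := ih (orderOf v) (hn ▸ hlt) v hv rfl
      have h2 := ih (orderOf (k⁻¹ * v * k)) (by rw [orderOf_inv_conj]; exact hn ▸ hlt)
        (k⁻¹ * v * k) hk rfl
      rw [← h1, ← h2, map_mul, map_mul, map_inv, mul_comm, mul_inv_cancel_left]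
  exact fun u hu => key _ u hu rfl

end Core

end Cfsg.Agent.Lib.Helper14
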