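import Mathlib
import Cfsg.Prelude.Def_Transfer
import Cfsg.Agent.Lib.Helper24.Tate

/-!
Hall–Wielandt, part 5: the splitting behind Tate's theorem, in a form usable for the
relative version.  (The construction is the one of `Cfsg.Agent.Lib.Helper24.tate_core`.)
-/

set_option autoImplicit false
set_option linter.unusedSectionVars false

namespace Cfsg.Agent.Lib.Helper14

open Subgroup
open Cfsg.Agent.Lib.Helper24

section TateSplit

open scoped IsMulCommutative

variable {G : Type*} [Group G] [Finite G] (P L : Subgroup G) [hLn : L.Normal]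
  {p : ℕ} [Fact p.Prime]

theorem tate_split (hP : IsPGroup p P) (hidx : ¬ p ∣ P.index)
    (hL : L ≤ closure {g | g ∈ L ∧ (orderOf g).Coprime p}) :
    ∃ K : Subgroup P, K.Normal ∧ K ⊔ L.subgroupOf P = ⊤ ∧
      K ⊓ L.subgroupOf P ≤ ⁅L.subgroupOf P, (⊤ : Subgroup P)⁆ := by
  have hp : p.Prime := Fact.out
  -- the transfer
  have hfinQ : Finite (TateQ P L) := inferInstance
  have hfinE : Finite (tateE P L) := inferInstance
  have hfi : (tateH P L).FiniteIndex := inferInstance
  obtain ⟨T, hT⟩ : ∃ T : (↥(tateE P L) →* ↥(tatePhi P L).range),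
      T = MonoidHom.transfer (H := tateH P L) (A := ↥(tatePhi P L).range) (tatePhi P L).rangeRestrict :=
    ⟨MonoidHom.transfer (H := tateH P L) (A := ↥(tatePhi P L).range) (tatePhi P L).rangeRestrict, rfl⟩
  have hQ : IsPGroup p (TateQ P L) := hP.to_quotient _
  have hA : IsPGroup p (tatePhi P L).range := (hQ.to_subgroup _).to_subgroup _
  -- `T` kills `p'`-elements
  have hkill : ∀ e : tateE P L, (orderOf e).Coprime p → T e = 1 := by
    intro e he
    obtain ⟨k, hk⟩ := hA.exists_orderOf_eq_pow (T e)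
    have h1 : orderOf (T e) ∣ orderOf e := orderOf_map_dvd T e
    have h2 : (orderOf (T e)).Coprime p := Nat.Coprime.coprime_dvd_left h1 he
    rw [hk] at h2
    rcases Nat.eq_zero_or_pos k with rfl | hk0
    · rwa [pow_zero, orderOf_eq_one_iff] at hk
    · exfalso
      have h3 : Nat.Coprime p p := Nat.Coprime.coprime_dvd_left (dvd_pow_self p hk0.ne') h2
      rw [Nat.coprime_self] at h3
      exact hp.one_lt.ne' h3
  -- `T` kills `L`
  have hTL : ∀ l : L, T (tateJ P L l) = 1 := by
    have hle : L ≤ ((T.comp (tateJ P L)).ker).map L.subtype := by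
      refine le_trans hL ?_
      rw [closure_le]
      rintro g ⟨hgL, hg⟩
      refine ⟨⟨g, hgL⟩, ?_, rfl⟩
      rw [SetLike.mem_coe, MonoidHom.mem_ker, MonoidHom.comp_apply]
      apply hkill
      have h1 : orderOf (tateJ P L ⟨g, hgL⟩) ∣ orderOf (⟨g, hgL⟩ : L) := orderOf_map_dvd _ _
      have h3 : orderOf (⟨g, hgL⟩ : L) = orderOf g := Subgroup.orderOf_mk g hgL
      rw [h3] at h1
      exact Nat.Coprime.coprime_dvd_left h1 hg
    intro l
    obtain ⟨l', hl', hll⟩ := hle l.2
    have : l' = l := Subtype.ext hll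
    rw [← this]
    exact hl'
  -- the index of `H` in `E` is prime to `p`
  have hn : ¬ p ∣ (tateH P L).index := by
    obtain ⟨π₁, hπ₁⟩ : ∃ π₁ : tateE P L →* G,
        π₁ = (MonoidHom.fst G (TateQ P L)).comp (tateE P L).subtype := ⟨_, rfl⟩
    have h1 : tateH P L = P.comap π₁ := by
      ext x
      rw [mem_tateH, Subgroup.mem_comap, hπ₁]
      rfl
    have h2 : P ≤ π₁.range := by
      intro s hs
      refine ⟨tateI P L ⟨s, hs⟩, ?_⟩
      rw [hπ₁]; rfl
    rw [h1, Subgroup.index_comap]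
    intro h3
    exact hidx (dvd_trans h3 (Subgroup.relIndex_dvd_index_of_le h2))
  -- the value of `T` on the central elements
  have hTZ : ∀ (r : P) (hr : r ∈ L.subgroupOf P),
      (((T (tateZ P L r hr) : (tatePhi P L).range) : Subgroup.center (TateQ P L)) : TateQ P L) =
        (tateMk P L r) ^ (tateH P L).index := by
    intro r hr
    have key : ∀ (k : ℕ) (g₀ : tateE P L),
        g₀⁻¹ * tateZ P L r hr ^ k * g₀ ∈ tateH P L →
        g₀⁻¹ * tateZ P L r hr ^ k * g₀ = tateZ P L r hr ^ k := by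
      intro k g₀ _
      have hc : Commute g₀ (tateZ P L r hr ^ k) :=
        Commute.pow_right (tateZ_central P L r hr g₀) k
      calc g₀⁻¹ * tateZ P L r hr ^ k * g₀ = g₀⁻¹ * (tateZ P L r hr ^ k * g₀) := mul_assoc _ _ _
        _ = g₀⁻¹ * (g₀ * tateZ P L r hr ^ k) := by rw [hc.eq]
        _ = tateZ P L r hr ^ k := inv_mul_cancel_left _ _
    have h1 := MonoidHom.transfer_eq_pow (H := tateH P L) (A := ↥(tatePhi P L).range)
      (tatePhi P L).rangeRestrict (tateZ P L r hr) key
    rw [hT, h1]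
    show (tateMk P L ⟨((tateZ P L r hr ^ (tateH P L).index : tateE P L) : G × TateQ P L).1, _⟩)⁻¹ *
      ((tateZ P L r hr ^ (tateH P L).index : tateE P L) : G × TateQ P L).2 = _
    have e1 : ((tateZ P L r hr ^ (tateH P L).index : tateE P L) : G × TateQ P L) =
        (1, (tateMk P L r) ^ (tateH P L).index) := by
      rw [Subgroup.coe_pow]
      show ((1 : G), tateMk P L r) ^ (tateH P L).index = _
      rw [Prod.pow_mk, one_pow]
    have e2 : ∀ (h : ((tateZ P L r hr ^ (tateH P L).index : tateE P L) : G × TateQ P L).1 ∈ P),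
        (⟨((tateZ P L r hr ^ (tateH P L).index : tateE P L) : G × TateQ P L).1, h⟩ : P) = 1 := by
      intro h
      apply Subtype.ext
      show ((tateZ P L r hr ^ (tateH P L).index : tateE P L) : G × TateQ P L).1 = 1
      rw [e1]
    rw [e2, map_one, inv_one, one_mul, e1]
  -- the homomorphism `δ : P → A`
  obtain ⟨δ, hδ⟩ : ∃ δ : P →* (tatePhi P L).range, δ = T.comp (tateI P L) := ⟨_, rfl⟩
  have hδR : ∀ (r : P) (hr : r ∈ L.subgroupOf P),
      (((δ r : (tatePhi P L).range) : Subgroup.center (TateQ P L)) : TateQ P L) =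
        (tateMk P L r) ^ (tateH P L).index := by
    intro r hr
    rw [hδ, MonoidHom.comp_apply, tateI_eq P L r hr, map_mul, hTL, one_mul]
    exact hTZ r hr
  have hcop : ∀ y : TateQ P L, Nat.Coprime (tateH P L).index (orderOf y) := by
    intro y
    obtain ⟨k, hk⟩ := hQ.exists_orderOf_eq_pow y
    rw [hk]
    exact Nat.Coprime.pow_right k ((Nat.Prime.coprime_iff_not_dvd hp).mpr hn).symm
  -- every value of `δ` is attained on `L ∩ P`
  have ha : ∀ s : P, ∃ r : P, r ∈ L.subgroupOf P ∧ δ s = δ r := by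
    intro s
    obtain ⟨x, hx⟩ := (δ s).2
    obtain ⟨r₀, hr₀, e⟩ := tateH_key P L (x : tateE P L) ((mem_tateH P L).mp x.2)
    obtain ⟨m, hm⟩ := exists_pow_eq_self_of_coprime (hcop (tateMk P L r₀))
    refine ⟨r₀ ^ m, pow_mem hr₀ m, ?_⟩
    apply Subtype.ext
    apply Subtype.ext
    rw [hδR (r₀ ^ m) (pow_mem hr₀ m), map_pow, ← pow_mul, mul_comm, pow_mul, hm, ← e,
      ← tatePhi_coe P L x, hx]
  -- hence `ker δ` together with `L ∩ P` generates `P`
  have hb : δ.ker ⊔ L.subgroupOf P = ⊤ := by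
    rw [eq_top_iff]
    intro s _
    obtain ⟨r, hr, hsr⟩ := ha s
    have h1 : s * r⁻¹ ∈ δ.ker := by
      rw [MonoidHom.mem_ker, map_mul, map_inv, hsr, mul_inv_cancel]
    have e : s = (s * r⁻¹) * r := by group
    rw [e]
    exact mul_mem (Subgroup.mem_sup_left h1) (Subgroup.mem_sup_right hr)
  refine ⟨δ.ker, inferInstance, hb, ?_⟩
  intro r hr
  obtain ⟨hrK, hrL⟩ := Subgroup.mem_inf.mp hr
  have h1 : δ r = 1 := hrK
  have h2 := hδR r hrL
  rw [h1] at h2
  have h3 : (tateMk P L r) ^ (tateH P L).index = 1 := h2.symm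
  have h4 : tateMk P L r = 1 := by
    have h5 : orderOf (tateMk P L r) ∣ (tateH P L).index := orderOf_dvd_of_pow_eq_one h3
    have h6 := Nat.Coprime.eq_one_of_dvd (hcop (tateMk P L r)).symm h5
    exact orderOf_eq_one_iff.mp h6
  unfold tateMk at h4
  rw [QuotientGroup.mk'_apply, QuotientGroup.eq_one_iff] at h4
  exact h4

end TateSplit

end Cfsg.Agent.Lib.Helper14
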