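import Mathlib
import Cfsg.Prelude.Def_Transfer
import Cfsg.Prelude.Def_BaumannBlocks
import Cfsg.Agent.Lib.Helper14.HallWielandt4
import Cfsg.Agent.Lib.Helper14.HallWielandt5
import Cfsg.Agent.Lib.Helper14.FrattiniQuot
import Cfsg.Agent.Lib.Helper16.ResidualQuot

/-!
Hall–Wielandt, part 6: extension of exponent-`p` quotients, relative Tate, final statement.
-/

set_option autoImplicit false
set_option linter.unusedSectionVars false
set_option linter.style.haveILetI false

namespace Cfsg.Agent.Lib.Helper14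

open Subgroup
open scoped commutatorElement
open Cfsg.Agent.Lib.Helper24 (extOne extOne_of_mem)
open Cfsg.Agent.Lib.Helper16 (opUp map_pResidual_eq_opUp opUp_le pResidual_normal
  exists_opUp_mul_sylow pResidual_sup_sylow)

section Ext

variable {G : Type*} [Group G] [Finite G] {p : ℕ} [Fact p.Prime]

/-- Hall–Wielandt, extension form: every quotient of `N_G(Q)` which is abelian of exponent `p`
is, on `P`, the restriction of a homomorphism defined on `G`. -/
theorem hw_extension (P : Sylow p G) (Q : Subgroup G)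
    (hQ : Cfsg.IsWeaklyClosed Q (P : Subgroup G))
    (hstar : ∀ u ∈ (P : Subgroup G), ∀ z ∈ Q, (fun y : G => y⁻¹ * z⁻¹ * y * z)^[p - 1] u = 1)
    (M : Subgroup ↥(normalizer (Q : Set G))) [M.Normal]
    (hcomm : ∀ a b : ↥(normalizer (Q : Set G)), (a * b)⁻¹ * (b * a) ∈ M)
    (hpow : ∀ a : ↥(normalizer (Q : Set G)), a ^ p ∈ M) :
    ∃ V : G →* (↥(normalizer (Q : Set G)) ⧸ M), ∀ (u : G) (hu : u ∈ (P : Subgroup G)),
      V u = QuotientGroup.mk ⟨u, le_normalizer_of_weaklyClosed hQ hu⟩ := by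
  have hc : ∀ x y : ↥(normalizer (Q : Set G)) ⧸ M, x * y = y * x := by
    intro x y
    obtain ⟨a, rfl⟩ := QuotientGroup.mk_surjective x
    obtain ⟨b, rfl⟩ := QuotientGroup.mk_surjective y
    rw [← QuotientGroup.mk_mul, ← QuotientGroup.mk_mul, QuotientGroup.eq]
    exact hcomm a b
  letI : CommGroup (↥(normalizer (Q : Set G)) ⧸ M) :=
    { (inferInstance : Group (↥(normalizer (Q : Set G)) ⧸ M)) with mul_comm := hc }
  have hA : ∀ a : ↥(normalizer (Q : Set G)) ⧸ M, a ^ p = 1 := by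
    intro x
    obtain ⟨a, rfl⟩ := QuotientGroup.mk_surjective x
    rw [← QuotientGroup.mk_pow, QuotientGroup.eq_one_iff]
    exact hpow a
  refine ⟨MonoidHom.transfer (QuotientGroup.mk' M), fun u hu => ?_⟩
  rw [hw_transfer P Q (QuotientGroup.mk' M) hQ hstar hA u hu,
    extOne_of_mem _ (le_normalizer_of_weaklyClosed hQ hu)]
  rfl

theorem opUp_conj_mem (N : Subgroup G) {n : G} (hn : n ∈ N) {g : G} (hg : g ∈ opUp p N) :
    n * g * n⁻¹ ∈ opUp p N := by
  unfold opUp at hg ⊢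
  induction hg using Subgroup.closure_induction with
  | mem g hg =>
    apply Subgroup.subset_closure
    refine ⟨mul_mem (mul_mem hn hg.1) (inv_mem hn), ?_⟩
    have : orderOf (n * g * n⁻¹) = orderOf g := by
      have := (MulAut.conj n).orderOf_eq g
      rwa [MulAut.conj_apply] at this
    rw [this]; exact hg.2
  | one => simp
  | mul a b _ _ ha hb =>
    have : n * (a * b) * n⁻¹ = (n * a * n⁻¹) * (n * b * n⁻¹) := by group
    rw [this]; exact mul_mem ha hb
  | inv a _ ha =>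
    have : n * a⁻¹ * n⁻¹ = (n * a * n⁻¹)⁻¹ := by group
    rw [this]; exact inv_mem ha

/-- Relative form of Tate's theorem. -/
theorem relative_tate (P : Sylow p G) (N : Subgroup G) (hPN : (P : Subgroup G) ≤ N)
    (hext : ∀ (M : Subgroup ↥N) [M.Normal], (∀ a b : ↥N, (a * b)⁻¹ * (b * a) ∈ M) →
      (∀ a : ↥N, a ^ p ∈ M) →
      ∃ V : G →* (↥N ⧸ M), ∀ (u : G) (hu : u ∈ (P : Subgroup G)),
        V u = QuotientGroup.mk ⟨u, hPN hu⟩) :
    Cfsg.pResidual p G ⊓ N ≤ opUp p N := by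
  classical
  have hp : p.Prime := Fact.out
  haveI hLn : (Cfsg.pResidual p G).Normal := pResidual_normal p
  have hcopL : ∀ g : G, (orderOf g).Coprime p → g ∈ Cfsg.pResidual p G :=
    fun g hg => Subgroup.subset_closure hg
  have hL : Cfsg.pResidual p G ≤
      closure {g | g ∈ Cfsg.pResidual p G ∧ (orderOf g).Coprime p} := by
    conv_lhs => unfold Cfsg.pResidual
    apply Subgroup.closure_mono
    intro g hg
    exact ⟨hcopL g hg, hg⟩
  obtain ⟨K, hKn, hKsup, hKinf⟩ :=
    tate_split (P : Subgroup G) (Cfsg.pResidual p G) P.2 P.not_dvd_index hL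
  obtain ⟨R', hR'⟩ : ∃ R' : Subgroup ↥(P : Subgroup G),
      R' = (Cfsg.pResidual p G).subgroupOf (P : Subgroup G) := ⟨_, rfl⟩
  obtain ⟨S', hS'⟩ : ∃ S' : Subgroup ↥(P : Subgroup G),
      S' = (opUp p N).subgroupOf (P : Subgroup G) := ⟨_, rfl⟩
  rw [← hR'] at hKsup hKinf
  have hopL : opUp p N ≤ Cfsg.pResidual p G := by
    unfold opUp
    rw [closure_le]
    rintro g ⟨-, hg⟩
    exact hcopL g hg
  have hSR : S' ≤ R' := by
    intro x hx
    rw [hS', mem_subgroupOf] at hx
    rw [hR', mem_subgroupOf]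
    exact hopL hx
  haveI hS'n : S'.Normal := by
    rw [hS']
    constructor
    intro s hs x
    rw [mem_subgroupOf] at hs ⊢
    simpa using opUp_conj_mem N (hPN x.2) hs
  haveI hR'n : R'.Normal := by rw [hR']; infer_instance
  have hPp : IsPGroup p ↥(P : Subgroup G) := P.2
  -- (2a)
  have h2a : R' ≤ S' ⊔ frattini ↥(P : Subgroup G) := by
    haveI hOn : (Cfsg.pResidual p ↥N).Normal := pResidual_normal p
    obtain ⟨π, hπ⟩ : ∃ π : ↥(P : Subgroup G) →* ↥N ⧸ Cfsg.pResidual p ↥N,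
        π = (QuotientGroup.mk' (Cfsg.pResidual p ↥N)).comp (Subgroup.inclusion hPN) := ⟨_, rfl⟩
    have hπsurj : Function.Surjective π := by
      intro y
      obtain ⟨n, rfl⟩ := QuotientGroup.mk_surjective y
      have h1 : n ∈ ((Cfsg.pResidual p ↥N ⊔ ((P.subtype hPN : Sylow p ↥N) : Subgroup ↥N) :
          Subgroup ↥N) : Set ↥N) := by
        rw [pResidual_sup_sylow]; trivial
      rw [Subgroup.normal_mul] at h1
      obtain ⟨c, hc, y, hy, rfl⟩ := h1
      have hyP : (y : G) ∈ (P : Subgroup G) := by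
        rw [SetLike.mem_coe, Sylow.coe_subtype, mem_subgroupOf] at hy; exact hy
      refine ⟨⟨(y : G), hyP⟩, ?_⟩
      rw [hπ, MonoidHom.comp_apply, QuotientGroup.mk'_apply, QuotientGroup.eq]
      have e : Subgroup.inclusion hPN ⟨(y : G), hyP⟩ = y := Subtype.ext rfl
      rw [e]
      have := hOn.conj_mem c hc y⁻¹
      simpa [mul_assoc] using this
    have hker : ∀ a : ↥(P : Subgroup G), π a = 1 → a ∈ S' := by
      intro a ha
      rw [hπ, MonoidHom.comp_apply, QuotientGroup.mk'_apply, QuotientGroup.eq_one_iff] at ha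
      rw [hS', mem_subgroupOf, ← map_pResidual_eq_opUp]
      exact ⟨_, ha, rfl⟩
    obtain ⟨X, hX⟩ : ∃ X : Subgroup ↥(P : Subgroup G),
        X = S' ⊔ frattini ↥(P : Subgroup G) := ⟨_, rfl⟩
    rw [← hX]
    haveI hXn : X.Normal := by rw [hX]; infer_instance
    have hfX : frattini ↥(P : Subgroup G) ≤ X := by rw [hX]; exact le_sup_right
    have hSX : S' ≤ X := by rw [hX]; exact le_sup_left
    haveI hXbar : (X.map π).Normal := Subgroup.Normal.map hXn π hπsurj
    obtain ⟨M, hM⟩ : ∃ M : Subgroup ↥N,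
        M = (X.map π).comap (QuotientGroup.mk' (Cfsg.pResidual p ↥N)) := ⟨_, rfl⟩
    haveI hMn : M.Normal := by rw [hM]; infer_instance
    have hcomm : ∀ a b : ↥N, (a * b)⁻¹ * (b * a) ∈ M := by
      intro a b
      obtain ⟨x, hx⟩ := hπsurj (QuotientGroup.mk' _ a)
      obtain ⟨x', hx'⟩ := hπsurj (QuotientGroup.mk' _ b)
      rw [hM, mem_comap, map_mul, map_inv, map_mul, map_mul, ← hx, ← hx', ← map_mul, ← map_mul,
        ← map_inv, ← map_mul]
      apply Subgroup.mem_map_of_mem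
      apply hfX
      apply commutator_le_frattini_of_isPGroup' hPp
      have e : (x * x')⁻¹ * (x' * x) = ⁅x'⁻¹, x⁻¹⁆ := by
        rw [commutatorElement_def]; group
      rw [e, _root_.commutator_def]
      exact Subgroup.commutator_mem_commutator (Subgroup.mem_top _) (Subgroup.mem_top _)
    have hpow : ∀ a : ↥N, a ^ p ∈ M := by
      intro a
      obtain ⟨x, hx⟩ := hπsurj (QuotientGroup.mk' _ a)
      rw [hM, mem_comap, map_pow, ← hx, ← map_pow]
      apply Subgroup.mem_map_of_mem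
      exact hfX (pow_mem_frattini_of_isPGroup' hPp x)
    obtain ⟨V, hV⟩ := hext M hcomm hpow
    have hVp : ∀ y : ↥N ⧸ M, y ^ p = 1 := by
      intro y
      obtain ⟨a, rfl⟩ := QuotientGroup.mk_surjective y
      rw [← QuotientGroup.mk_pow, QuotientGroup.eq_one_iff]
      exact hpow a
    have hVcop : ∀ g : G, (orderOf g).Coprime p → V g = 1 := by
      intro g hg
      have h1 : orderOf (V g) ∣ orderOf g := orderOf_map_dvd V g
      have h2 : orderOf (V g) ∣ p := orderOf_dvd_of_pow_eq_one (hVp _)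
      have h3 : orderOf (V g) ∣ Nat.gcd (orderOf g) p := Nat.dvd_gcd h1 h2
      rw [hg.gcd_eq_one, Nat.dvd_one, orderOf_eq_one_iff] at h3
      exact h3
    have hVL : Cfsg.pResidual p G ≤ V.ker := by
      unfold Cfsg.pResidual
      rw [closure_le]
      intro g hg
      exact MonoidHom.mem_ker.mpr (hVcop g hg)
    intro r hr
    rw [hR', mem_subgroupOf] at hr
    have h1 : V (r : G) = 1 := MonoidHom.mem_ker.mp (hVL hr)
    rw [hV (r : G) r.2, QuotientGroup.eq_one_iff, hM, mem_comap] at h1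
    obtain ⟨x, hxX, hxr⟩ := h1
    have hxr' : π x = π r := by
      rw [hxr, hπ]; rfl
    have h2 : π (x⁻¹ * r) = 1 := by rw [map_mul, map_inv, hxr', inv_mul_cancel]
    have h3 : x⁻¹ * r ∈ X := hSX (hker _ h2)
    have e : r = x * (x⁻¹ * r) := by group
    rw [e]
    exact mul_mem hxX h3
  -- (2c)
  have h2c : K ⊔ S' = ⊤ := by
    apply frattini_nongenerating
    rw [eq_top_iff, ← hKsup, sup_assoc]
    exact sup_le_sup_left h2a _
  -- (2d)
  have h2d : R' ≤ S' ⊔ ⁅R', (⊤ : Subgroup ↥(P : Subgroup G))⁆ := by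
    intro r hr
    have h1 : r ∈ ((K ⊔ S' : Subgroup ↥(P : Subgroup G)) : Set ↥(P : Subgroup G)) := by
      rw [h2c]; trivial
    rw [Subgroup.mul_normal] at h1
    obtain ⟨k, hk, s, hs, rfl⟩ := h1
    have hkR : k ∈ R' := by
      have e : k = (k * s) * s⁻¹ := by group
      rw [e]
      exact mul_mem hr (inv_mem (hSR hs))
    have hk2 : k ∈ ⁅R', (⊤ : Subgroup ↥(P : Subgroup G))⁆ := hKinf (Subgroup.mem_inf.mpr ⟨hk, hkR⟩)
    exact mul_mem (Subgroup.mem_sup_right hk2) (Subgroup.mem_sup_left hs)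
  -- (2e)
  have h2e : R' ≤ S' := by
    by_contra hnot
    obtain ⟨ρ, hρ⟩ : ∃ ρ : ↥(P : Subgroup G) →* ↥(P : Subgroup G) ⧸ S', ρ = QuotientGroup.mk' S' :=
      ⟨_, rfl⟩
    have hρsurj : Function.Surjective ρ := by rw [hρ]; exact QuotientGroup.mk'_surjective S'
    haveI : (R'.map ρ).Normal := Subgroup.Normal.map hR'n ρ hρsurj
    have hne : R'.map ρ ≠ ⊥ := by
      intro h
      apply hnot
      rw [Subgroup.map_eq_bot_iff, hρ, QuotientGroup.ker_mk'] at h
      exact h
    have hQp : IsPGroup p (↥(P : Subgroup G) ⧸ S') := hPp.to_quotient _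
    have hlt := Cfsg.Agent.Lib.Helper24.commutator_top_lt_of_ne_bot hQp (R'.map ρ) hne
    apply not_le_of_gt hlt
    calc R'.map ρ ≤ (S' ⊔ ⁅R', (⊤ : Subgroup ↥(P : Subgroup G))⁆).map ρ := Subgroup.map_mono h2d
      _ = S'.map ρ ⊔ ⁅R'.map ρ, (⊤ : Subgroup ↥(P : Subgroup G)).map ρ⁆ := by
          rw [Subgroup.map_sup, Subgroup.map_commutator]
      _ = ⁅R'.map ρ, (⊤ : Subgroup (↥(P : Subgroup G) ⧸ S'))⁆ := by
          have h1 : S'.map ρ = ⊥ := by
            rw [Subgroup.map_eq_bot_iff, hρ, QuotientGroup.ker_mk']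
          rw [h1, bot_sup_eq, Subgroup.map_top_of_surjective ρ hρsurj]
      _ ≤ _ := le_rfl
  -- conclusion
  intro g hg
  obtain ⟨hgL, hgN⟩ := Subgroup.mem_inf.mp hg
  obtain ⟨c, hc, y, hy, rfl⟩ := exists_opUp_mul_sylow p N (P.subtype hPN) hgN
  obtain ⟨y', hy', rfl⟩ := hy
  have hyP : (y' : G) ∈ (P : Subgroup G) := by
    rw [SetLike.mem_coe, Sylow.coe_subtype, mem_subgroupOf] at hy'; exact hy'
  have hyL : (y' : G) ∈ Cfsg.pResidual p G := by
    have e : (y' : G) = c⁻¹ * (c * N.subtype y') := by simp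
    rw [e]
    exact mul_mem (inv_mem (hopL hc)) hgL
  have h1 : (⟨(y' : G), hyP⟩ : ↥(P : Subgroup G)) ∈ R' := by
    rw [hR', mem_subgroupOf]; exact hyL
  have h2 := h2e h1
  rw [hS', mem_subgroupOf] at h2
  exact mul_mem hc h2

end Ext

end Cfsg.Agent.Lib.Helper14
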