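import Mathlib
import Cfsg.Prelude
import Cfsg.Agent.Lib.Helper14.FrobAct1

/-!
# The property `KP` (helper14)

`KP p B b₀`: every `x` with `x ^ p = 1` commuting with `b₀` and generating a `p`-group together
with `B` lies in `B`.  It follows from `B = Ω₁(P)` for a Sylow `p`-subgroup `P` of `C_G(b₀)`, and
passes to subgroups containing `B` and to quotients by normal `p'`-subgroups.
-/

set_option autoImplicit false
set_option maxHeartbeats 1000000

namespace Cfsg.Agent.Lib.Helper14.KP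

open Subgroup Cfsg.Agent.Lib.Helper14.FrobAct
open scoped commutatorElement

variable {G : Type*} [Group G]

def KP (p : ℕ) (B : Subgroup G) (b₀ : G) : Prop :=
  ∀ x : G, x ^ p = 1 → x * b₀ = b₀ * x → IsPGroup p ↥(B ⊔ zpowers x) → x ∈ B

theorem kp_of_sylow_aux [Finite G] {p : ℕ} [hp : Fact p.Prime] (B : Subgroup G)
    (hB : Cfsg.IsElementaryAbelian p B) (C : Subgroup G) (hBC : B ≤ C)
    (P : Sylow p ↥C)
    (hBP : B = closure {x : G | x ∈ ((P : Subgroup ↥C).map C.subtype : Subgroup G) ∧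
      orderOf x = p}) (x : G) (hxC : x ∈ C) (hxp : x ^ p = 1)
    (hT : IsPGroup p ↥(B ⊔ zpowers x)) : x ∈ B := by
  set T := B ⊔ zpowers x with hTdef
  have hTC : T ≤ C := sup_le hBC (zpowers_le.mpr hxC)
  have hT' : IsPGroup p ↥(T.subgroupOf C) := hT.comap_subtype
  obtain ⟨P', hP'⟩ := hT'.exists_le_sylow
  obtain ⟨g, hg⟩ := MulAction.exists_smul_eq ↥C P P'
  set c : G := (g : G) with hc
  have key : ∀ t ∈ T, t ^ p = 1 → c⁻¹ * t * c ∈ B := by
    intro t ht htp
    by_cases ht1 : t = 1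
    · rw [ht1]; simp
    have h1 : (⟨t, hTC ht⟩ : ↥C) ∈ (P' : Subgroup ↥C) := hP' (by
      rw [mem_subgroupOf]; exact ht)
    rw [← hg, Sylow.coe_subgroup_smul, mem_pointwise_smul_iff_inv_smul_mem] at h1
    have h2 : ((MulAut.conj g)⁻¹ • (⟨t, hTC ht⟩ : ↥C) : ↥C) = g⁻¹ * ⟨t, hTC ht⟩ * g := by
      rw [MulAut.smul_def, ← map_inv, MulAut.conj_apply, inv_inv]
    rw [h2] at h1
    have h3 : c⁻¹ * t * c ∈ ((P : Subgroup ↥C).map C.subtype : Subgroup G) :=
      ⟨_, h1, rfl⟩
    have h4 : (c⁻¹ * t * c) ^ p = 1 := by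
      have := conj_pow (i := p) (a := c⁻¹) (b := t)
      rw [inv_inv] at this
      rw [this, htp]; group
    have h5 : c⁻¹ * t * c ≠ 1 := by
      intro h
      apply ht1
      have : t = c * (c⁻¹ * t * c) * c⁻¹ := by group
      rw [this, h]; group
    rw [hBP]
    exact subset_closure ⟨h3, orderOf_eq_prime h4 h5⟩
  have hnorm : c⁻¹ ∈ normalizer (B : Set G) := by
    apply mem_normalizer_of_conj_mem
    intro s hs
    rw [inv_inv]
    exact key s (le_sup_left (a := B) hs) (hB.2 s hs)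
  have hx' := key x (le_sup_right (b := zpowers x) (mem_zpowers x)) hxp
  have := (mem_normalizer_iff.mp hnorm x).mpr (by rw [inv_inv]; exact hx')
  exact this

theorem kp_of_sylow [Finite G] {p : ℕ} [hp : Fact p.Prime] (B : Subgroup G)
    (hB : Cfsg.IsElementaryAbelian p B) (b₀ : G) (hb₀ : b₀ ∈ B)
    (P : Sylow p ↥(centralizer ({b₀} : Set G)))
    (hBP : B = closure {x : G | x ∈ ((P : Subgroup ↥(centralizer ({b₀} : Set G))).map
      (centralizer ({b₀} : Set G)).subtype : Subgroup G) ∧ orderOf x = p}) :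
    KP p B b₀ := by
  intro x hxp hxb hT
  have hBC : B ≤ centralizer ({b₀} : Set G) := by
    intro y hy
    rw [mem_centralizer_iff]
    intro h hh
    rw [Set.mem_singleton_iff] at hh
    rw [hh]
    have := hB.1.is_comm.comm (⟨b₀, hb₀⟩ : ↥B) ⟨y, hy⟩
    exact congrArg Subtype.val this
  have hxC : x ∈ centralizer ({b₀} : Set G) := by
    rw [mem_centralizer_iff]
    intro h hh
    rw [Set.mem_singleton_iff] at hh
    rw [hh]
    exact hxb.symm
  exact kp_of_sylow_aux B hB _ hBC P hBP x hxC hxp hT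

theorem kp_subgroup {p : ℕ} (B : Subgroup G) (b₀ : G) (H : Subgroup G) (hBH : B ≤ H)
    (hb₀ : b₀ ∈ H) (h : KP p B b₀) : KP p (B.subgroupOf H) (⟨b₀, hb₀⟩ : ↥H) := by
  intro x hxp hxb hT
  rw [mem_subgroupOf]
  apply h (x : G)
  · have := congrArg Subtype.val hxp
    simpa using this
  · exact congrArg Subtype.val hxb
  · have h1 : (B.subgroupOf H ⊔ zpowers x).map H.subtype = B ⊔ zpowers (x : G) := by
      rw [Subgroup.map_sup, map_subgroupOf_eq_of_le hBH, MonoidHom.map_zpowers]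
      rfl
    rw [← h1]
    exact hT.map _

theorem kp_quotient [Finite G] {p : ℕ} [hp : Fact p.Prime] (B : Subgroup G)
    (hBp : IsPGroup p B)
    (b₀ : G) (hb₀ : b₀ ∈ B) (N : Subgroup G) [hNn : N.Normal]
    (hN : (Nat.card N).Coprime p) (h : KP p B b₀) :
    KP p (B.map (QuotientGroup.mk' N)) (QuotientGroup.mk' N b₀) := by
  intro xb hxp hxb hTb
  set π := QuotientGroup.mk' N with hπ
  set Tb := B.map π ⊔ zpowers xb with hTbdef
  set L := Tb.comap π with hL
  have hπ1 : ∀ y : G, π y = 1 ↔ y ∈ N := fun y => QuotientGroup.eq_one_iff y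
  have hBL : B ≤ L := by
    intro y hy
    rw [hL, mem_comap]
    exact le_sup_left (a := B.map π) (mem_map_of_mem π hy)
  have hBL' : IsPGroup p ↥(B.subgroupOf L) := hBp.comap_subtype
  obtain ⟨SL, hBS⟩ := hBL'.exists_le_sylow
  set NL : Subgroup ↥L := N.subgroupOf L with hNL
  haveI : NL.Normal := Subgroup.normal_subgroupOf
  have hquot : IsPGroup p (↥L ⧸ NL) := by
    intro yb
    induction yb using QuotientGroup.induction_on with
    | H y =>
      have hy : π (y : G) ∈ Tb := y.2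
      obtain ⟨k, hk⟩ := hTb ⟨π (y : G), hy⟩
      refine ⟨k, ?_⟩
      have h1 : (π (y : G)) ^ (p ^ k) = 1 := by
        have := congrArg Subtype.val hk
        simpa using this
      rw [← map_pow, hπ1] at h1
      rw [← QuotientGroup.mk_pow]
      apply (QuotientGroup.eq_one_iff _).mpr
      rw [hNL, mem_subgroupOf]
      simpa using h1
  obtain ⟨m, hm⟩ := IsPGroup.iff_card.mp hquot
  have hidx : NL.index = p ^ m := by rw [Subgroup.index_eq_card]; exact hm
  have hsup : (SL : Subgroup ↥L) ⊔ NL = ⊤ := by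
    rw [← Subgroup.index_eq_one]
    have h1 : ((SL : Subgroup ↥L) ⊔ NL).index ∣ (SL : Subgroup ↥L).index :=
      Subgroup.index_dvd_of_le le_sup_left
    have h2 : ((SL : Subgroup ↥L) ⊔ NL).index ∣ p ^ m := by
      rw [← hidx]; exact Subgroup.index_dvd_of_le le_sup_right
    have h3 : Nat.Coprime (SL : Subgroup ↥L).index (p ^ m) := by
      apply Nat.Coprime.pow_right
      exact ((Nat.Prime.coprime_iff_not_dvd hp.out).mpr SL.not_dvd_index).symm
    have := Nat.dvd_gcd h1 h2
    rw [h3.gcd_eq_one] at this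
    exact Nat.dvd_one.mp this
  set S : Subgroup G := (SL : Subgroup ↥L).map L.subtype with hS
  have hSp : IsPGroup p S := SL.2.map _
  have hBS' : B ≤ S := by
    intro y hy
    exact ⟨⟨y, hBL hy⟩, hBS (by rw [mem_subgroupOf]; exact hy), rfl⟩
  have hSN : S ⊓ N = ⊥ := by
    apply Subgroup.inf_eq_bot_of_coprime
    obtain ⟨k, hk⟩ := IsPGroup.iff_card.mp hSp
    rw [hk]
    exact Nat.Coprime.pow_left k hN.symm
  have hxbT : xb ∈ Tb := le_sup_right (b := zpowers xb) (mem_zpowers xb)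
  obtain ⟨y, hy⟩ := QuotientGroup.mk'_surjective N xb
  have hyL : y ∈ L := by
    rw [hL, mem_comap]
    show π y ∈ Tb
    rw [hy]; exact hxbT
  have hmem : (⟨y, hyL⟩ : ↥L) ∈ (SL : Subgroup ↥L) ⊔ NL := by rw [hsup]; trivial
  rw [Subgroup.mem_sup_of_normal_right] at hmem
  obtain ⟨s, hs, n, hn, hsn⟩ := hmem
  set x : G := ((s : ↥L) : G) with hx
  have hxS : x ∈ S := ⟨s, hs, rfl⟩
  have hπx : π x = xb := by
    have h1 : ((s * n : ↥L) : G) = y := congrArg Subtype.val hsn
    rw [Subgroup.coe_mul] at h1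
    have h2 : π (n : G) = 1 := (hπ1 _).mpr (by
      have := hn
      rw [hNL, mem_subgroupOf] at this
      exact this)
    rw [← hy, ← h1, map_mul, h2, mul_one]
  have hxp' : x ^ p = 1 := by
    have h1 : x ^ p ∈ S ⊓ N := by
      refine ⟨S.pow_mem hxS _, ?_⟩
      apply (hπ1 _).mp
      rw [map_pow, hπx]
      exact hxp
    rw [hSN, mem_bot] at h1
    exact h1
  have hxb' : x * b₀ = b₀ * x := by
    have h1 : ⁅x, b₀⁆ ∈ S ⊓ N := by
      refine ⟨?_, ?_⟩
      · rw [commutatorElement_def]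
        exact S.mul_mem (S.mul_mem (S.mul_mem hxS (hBS' hb₀)) (S.inv_mem hxS))
          (S.inv_mem (hBS' hb₀))
      · apply (hπ1 _).mp
        rw [map_commutatorElement, hπx, commutatorElement_eq_one_iff_mul_comm]
        exact hxb
    rw [hSN, mem_bot, commutatorElement_eq_one_iff_mul_comm] at h1
    exact h1
  have hT : IsPGroup p ↥(B ⊔ zpowers x) :=
    hSp.to_le (sup_le hBS' (zpowers_le.mpr hxS))
  have := h x hxp' hxb' hT
  rw [← hπx]
  exact mem_map_of_mem π this

end Cfsg.Agent.Lib.Helper14.KP
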