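import Mathlib
import Cfsg.Prelude
import Cfsg.Agent.Lib.Helper14.KPProp
import Cfsg.Agent.Lib.Helper14.FrobAct2
import Cfsg.Agent.Lib.Helper3.PSolvable
import Cfsg.Agent.Lib.Helper16.ThompsonAxB
import Cfsg.Agent.Lib.Lead.SL2PSolv

/-!
# Invariant `p'`-subgroups for `B = Ω₁(P)` of rank two in `p`-solvable groups (helper14)
-/

set_option autoImplicit false
set_option maxHeartbeats 1000000

namespace Cfsg.Agent.Lib.Helper14.KP

open Subgroup Cfsg Cfsg.Agent.Lib.Helper14.FrobAct Cfsg.Agent.Lib.Helper1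
open scoped commutatorElement

universe u

/-- the inductive goal -/
def Goal (p : ℕ) (G : Type u) [Group G] : Prop :=
  ∀ (B : Subgroup G), Cfsg.IsElementaryAbelian p B → Nat.card B = p ^ 2 →
    ∀ (b₀ : G), b₀ ∈ B → b₀ ≠ 1 → KP p B b₀ →
    ∀ (Q : Subgroup G), (Nat.card Q).Coprime p → (∀ b ∈ B, ∀ x ∈ Q, b * x * b⁻¹ ∈ Q) →
    Q ≤ Cfsg.pPrimeCore p G

/-- Tool T1 -/
theorem tool_T1 {p : ℕ} [hp : Fact p.Prime] (G : Type u) [Group G] [Finite G]
    (IH : ∀ (G' : Type u) [Group G'] [Finite G'], Nat.card G' < Nat.card G →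
      Cfsg.IsPSolvable p G' → Goal p G')
    (hsol : Cfsg.IsPSolvable p G) (B : Subgroup G) (hB : Cfsg.IsElementaryAbelian p B)
    (hBc : Nat.card B = p ^ 2) (b₀ : G) (hb₀ : b₀ ∈ B) (hb₁ : b₀ ≠ 1) (hKP : KP p B b₀)
    (H : Subgroup G) (hH : H ≠ ⊤) (hBH : B ≤ H) (Q₁ : Subgroup G)
    (hQ₁ : (Nat.card Q₁).Coprime p) (hQ₁H : Q₁ ≤ H)
    (hinv₁ : ∀ b ∈ B, ∀ x ∈ Q₁, b * x * b⁻¹ ∈ Q₁)
    (X : Subgroup G) (hX : IsPGroup p X) (hXH : X ≤ H) (hHX : H ≤ normalizer (X : Set G)) :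
    Q₁ ≤ centralizer (X : Set G) := by
  have hcard : Nat.card ↥H < Nat.card G := by
    have := natCard_lt_of_lt (lt_top_iff_ne_top.mpr hH)
    rwa [Subgroup.card_top] at this
  have hsolH : Cfsg.IsPSolvable p ↥H := Cfsg.Agent.Lib.Lead.SL2PSolv.isPSolvable_subgroup hp.out hsol H
  have hB' : Cfsg.IsElementaryAbelian p (B.subgroupOf H) := by
    haveI := hB.1
    refine ⟨Subgroup.subgroupOf_isMulCommutative H B, ?_⟩
    intro a ha
    apply Subtype.ext
    rw [Subgroup.coe_pow]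
    exact hB.2 _ ha
  have hBc' : Nat.card (B.subgroupOf H) = p ^ 2 := by
    rw [← hBc]
    exact Nat.card_congr (Subgroup.subgroupOfEquivOfLe hBH).toEquiv
  have hQc' : (Nat.card (Q₁.subgroupOf H)).Coprime p := by
    have : Nat.card (Q₁.subgroupOf H) = Nat.card Q₁ :=
      Nat.card_congr (Subgroup.subgroupOfEquivOfLe hQ₁H).toEquiv
    rw [this]; exact hQ₁
  have hgoal := IH ↥H hcard hsolH (B.subgroupOf H) hB' hBc' ⟨b₀, hBH hb₀⟩
    (by rw [mem_subgroupOf]; exact hb₀) (fun h => hb₁ (congrArg Subtype.val h))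
    (kp_subgroup B b₀ H hBH (hBH hb₀) hKP) (Q₁.subgroupOf H) hQc'
    (by
      intro b hb x hx
      rw [mem_subgroupOf] at hb hx ⊢
      exact hinv₁ _ hb _ hx)
  set O := Cfsg.pPrimeCore p ↥H with hO
  have hOn : O.Normal := Cfsg.Agent.Lib.Helper2.pPrimeCore_normal p
  have hOc : (Nat.card O).Coprime p := Cfsg.Agent.Lib.Helper2.pPrimeCore_coprime p
  have hX'n : (X.subgroupOf H).Normal :=
    (Subgroup.normal_subgroupOf_iff_le_normalizer hXH).mpr hHX
  have hX'p : IsPGroup p ↥(X.subgroupOf H) := hX.comap_subtype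
  have hdisj : Disjoint O (X.subgroupOf H) := by
    rw [disjoint_iff]
    apply Subgroup.inf_eq_bot_of_coprime
    obtain ⟨k, hk⟩ := IsPGroup.iff_card.mp hX'p
    rw [hk]
    exact Nat.Coprime.pow_right k hOc
  intro q hq
  rw [mem_centralizer_iff]
  intro x hx
  have h1 := Subgroup.commute_of_normal_of_disjoint O (X.subgroupOf H) hOn hX'n hdisj
    ⟨q, hQ₁H hq⟩ ⟨x, hXH hx⟩ (hgoal (by rw [mem_subgroupOf]; exact hq))
    (by rw [mem_subgroupOf]; exact hx)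
  have h2 := congrArg Subtype.val h1.eq
  exact h2.symm

/-- Step (i): a non-central `b ∈ B#` acts fixed-point-freely on `Q` when `O_{p'}(G) = 1`. -/
theorem frob_step {p : ℕ} [hp : Fact p.Prime] (G : Type u) [Group G] [Finite G]
    (IH : ∀ (G' : Type u) [Group G'] [Finite G'], Nat.card G' < Nat.card G →
      Cfsg.IsPSolvable p G' → Goal p G')
    (hsol : Cfsg.IsPSolvable p G) (hOp' : Cfsg.pPrimeCore p G = ⊥)
    (B : Subgroup G) (hB : Cfsg.IsElementaryAbelian p B)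
    (hBc : Nat.card B = p ^ 2) (b₀ : G) (hb₀ : b₀ ∈ B) (hb₁ : b₀ ≠ 1) (hKP : KP p B b₀)
    (Q : Subgroup G) (hQ : (Nat.card Q).Coprime p)
    (hinv : ∀ b ∈ B, ∀ x ∈ Q, b * x * b⁻¹ ∈ Q)
    (b : G) (hbB : b ∈ B) (hbc : ¬ ∀ g : G, g * b = b * g) :
    ∀ q ∈ Q, q * b = b * q → q = 1 := by
  set R₀ := Cfsg.pCore p G with hR₀
  haveI hR₀n : R₀.Normal := Cfsg.Agent.Lib.Helper2.pCore_normal p
  have hR₀p : IsPGroup p R₀ := Cfsg.Agent.Lib.Helper2.pCore_isPGroup p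
  have hCR₀ : centralizer (R₀ : Set G) ≤ R₀ :=
    Cfsg.Agent.Lib.Helper3.centralizer_pCore_le hsol hOp'
  have hQR₀ : Q ⊓ R₀ = ⊥ := by
    apply Subgroup.inf_eq_bot_of_coprime
    obtain ⟨k, hk⟩ := IsPGroup.iff_card.mp hR₀p
    rw [hk]
    exact Nat.Coprime.pow_right k hQ
  set H := centralizer ({b} : Set G) with hH
  have hHmem : ∀ g : G, g ∈ H ↔ b * g = g * b := by
    intro g
    rw [hH, mem_centralizer_iff]
    constructor
    · intro h; exact h b rfl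
    · intro h y hy
      rw [Set.mem_singleton_iff] at hy
      rw [hy]; exact h
  have hHtop : H ≠ ⊤ := by
    intro h
    apply hbc
    intro g
    have : g ∈ H := by rw [h]; trivial
    exact ((hHmem g).mp this).symm
  have hBH : B ≤ H := by
    intro y hy
    rw [hHmem]
    have := hB.1.is_comm.comm (⟨b, hbB⟩ : ↥B) ⟨y, hy⟩
    exact congrArg Subtype.val this
  set Q₁ := Q ⊓ H with hQ₁
  have hQ₁c : (Nat.card Q₁).Coprime p :=
    Nat.Coprime.coprime_dvd_left (Subgroup.card_dvd_of_le inf_le_left) hQ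
  have hinv₁ : ∀ c ∈ B, ∀ x ∈ Q₁, c * x * c⁻¹ ∈ Q₁ := by
    intro c hc x hx
    exact ⟨hinv c hc x hx.1, H.mul_mem (H.mul_mem (hBH hc) hx.2) (H.inv_mem (hBH hc))⟩
  set X := R₀ ⊓ H with hX
  have hXp : IsPGroup p X := hR₀p.to_le inf_le_left
  have hHX : H ≤ normalizer (X : Set G) := by
    intro h hh
    apply mem_normalizer_of_conj_mem
    intro s hs
    exact ⟨hR₀n.conj_mem s hs.1 h, H.mul_mem (H.mul_mem hh hs.2) (H.inv_mem hh)⟩
  have hT1 := tool_T1 G IH hsol B hB hBc b₀ hb₀ hb₁ hKP H hHtop hBH Q₁ hQ₁c inf_le_right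
    hinv₁ X hXp inf_le_right hHX
  intro q hq hqb
  have hqQ₁ : q ∈ Q₁ := ⟨hq, (hHmem q).mpr hqb.symm⟩
  have hbp : b ^ p = 1 := hB.2 b hbB
  have hqcop : (orderOf q).Coprime p := by
    have h1 : orderOf q ∣ Nat.card Q := by
      have := orderOf_dvd_natCard (⟨q, hq⟩ : ↥Q)
      rwa [Subgroup.orderOf_mk] at this
    exact Nat.Coprime.coprime_dvd_left h1 hQ
  have hqB : q ∈ centralizer ((zpowers b : Subgroup G) : Set G) := by
    rw [mem_centralizer_iff]
    intro h hh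
    obtain ⟨k, rfl⟩ := mem_zpowers_iff.mp hh
    have hc : Commute b q := hqb.symm
    exact (hc.zpow_left k).eq
  have hnormtop : normalizer (R₀ : Set G) = ⊤ := Subgroup.normalizer_eq_top R₀
  have hle : (R₀ ⊓ centralizer ((zpowers b : Subgroup G) : Set G) : Subgroup G) ≤ X := by
    apply inf_le_inf_left
    apply Subgroup.centralizer_le
    intro y hy
    rw [Set.mem_singleton_iff] at hy
    rw [hy]
    exact mem_zpowers b
  have hqfix : q ∈ centralizer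
      ((R₀ ⊓ centralizer ((zpowers b : Subgroup G) : Set G) : Subgroup G) : Set G) :=
    Subgroup.centralizer_le hle (hT1 hqQ₁)
  have hqR₀ := Cfsg.Agent.Lib.Helper16.thompson_AxB (zpowers b) R₀ q
    (isPGroup_zpowers_of_pow_eq_one b hbp) hR₀p hqcop hqB
    (by rw [hnormtop]; exact le_top) (by rw [hnormtop]; trivial) hqfix
  have : q ∈ Q ⊓ R₀ := ⟨hq, hCR₀ hqR₀⟩
  rw [hQR₀, mem_bot] at this
  exact this

end Cfsg.Agent.Lib.Helper14.KP
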