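import Mathlib
import Cfsg.Prelude
import Cfsg.Agent.Lib.Helper14.KPMain

/-!
# The main induction for S1902 (helper14)
-/

set_option autoImplicit false
set_option maxHeartbeats 1000000

namespace Cfsg.Agent.Lib.Helper14.KP

open Subgroup Cfsg Cfsg.Agent.Lib.Helper14.FrobAct Cfsg.Agent.Lib.Helper1
open scoped commutatorElement

universe u

/-- the case `O_{p'}(G) = 1` -/
theorem goal_of_pPrimeCore_eq_bot {p : ℕ} [hp : Fact p.Prime] (hp2 : p ≠ 2)
    (G : Type u) [Group G] [Finite G]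
    (IH : ∀ (G' : Type u) [Group G'] [Finite G'], Nat.card G' < Nat.card G →
      Cfsg.IsPSolvable p G' → Goal p G')
    (hsol : Cfsg.IsPSolvable p G) (hOp' : Cfsg.pPrimeCore p G = ⊥) : Goal p G := by
  intro B hB hBc b₀ hb₀ hb₁ hKP Q hQ hinv
  set R₀ := Cfsg.pCore p G with hR₀
  haveI hR₀n : R₀.Normal := Cfsg.Agent.Lib.Helper2.pCore_normal p
  have hR₀p : IsPGroup p R₀ := Cfsg.Agent.Lib.Helper2.pCore_isPGroup p
  have hCR₀ : centralizer (R₀ : Set G) ≤ R₀ :=
    Cfsg.Agent.Lib.Helper3.centralizer_pCore_le hsol hOp'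
  have hQR₀ : Q ⊓ R₀ = ⊥ := by
    apply Subgroup.inf_eq_bot_of_coprime
    obtain ⟨k, hk⟩ := IsPGroup.iff_card.mp hR₀p
    rw [hk]
    exact Nat.Coprime.pow_right k hQ
  have hBp : IsPGroup p B := IsPGroup.of_card hBc
  have hnormtop : normalizer (R₀ : Set G) = ⊤ := Subgroup.normalizer_eq_top R₀
  -- it suffices to show that `Q` centralizes `R₀`
  suffices hsuff : Q ≤ centralizer (R₀ : Set G) by
    intro q hq
    have : q ∈ Q ⊓ R₀ := ⟨hq, hCR₀ (hsuff hq)⟩
    rw [hQR₀, mem_bot] at this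
    rw [this]
    exact one_mem _
  have hcommBR : ∀ x ∈ B, x ∈ R₀ → ∀ q ∈ Q, q * x = x * q := by
    intro x hxB hxR q hq
    have h1 : ⁅x, q⁆ ∈ Q ⊓ R₀ := by
      refine ⟨?_, ?_⟩
      · rw [commutatorElement_def]
        exact Q.mul_mem (hinv x hxB q hq) (Q.inv_mem hq)
      · have : ⁅x, q⁆ = x * (q * x⁻¹ * q⁻¹) := by rw [commutatorElement_def]; group
        rw [this]
        exact R₀.mul_mem hxR (hR₀n.conj_mem _ (R₀.inv_mem hxR) q)
    rw [hQR₀, mem_bot, commutatorElement_eq_one_iff_mul_comm] at h1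
    exact h1.symm
  have hΩ : ∀ x ∈ R₀, x ^ p = 1 → x * b₀ = b₀ * x → x ∈ B := by
    intro x hx hxp hxb
    apply hKP x hxp hxb
    have h1 : IsPGroup p ↥(B ⊔ R₀) := IsPGroup.to_sup_of_normal_right hBp hR₀p
    exact h1.to_le (sup_le le_sup_left ((zpowers_le.mpr hx).trans le_sup_right))
  by_cases hb₀c : ∀ g : G, g * b₀ = b₀ * g
  · -- `b₀` central
    apply centralizes_of_centralizes_omega_one p hp2 Q hQ (Nat.card R₀) R₀ rfl hR₀p
      (by rw [hnormtop]; exact le_top)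
    intro x hx hxp q hq
    rw [mem_centralizer_iff]
    intro y hy
    rw [Set.mem_singleton_iff] at hy
    rw [hy]
    exact (hcommBR x (hΩ x hx hxp (hb₀c x)) hx q hq).symm
  · -- `b₀` not central
    have hfixQ := frob_step G IH hsol hOp' B hB hBc b₀ hb₀ hb₁ hKP Q hQ hinv b₀ hb₀ hb₀c
    by_cases hb₀R : b₀ ∈ R₀
    · intro q hq
      have := hfixQ q hq (hcommBR b₀ hb₀ hb₀R q hq)
      rw [this]
      exact one_mem _
    · set Z₀ := B ⊓ R₀ with hZ₀
      have hZ₀card : Nat.card Z₀ ≤ p := by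
        have hlt : Z₀ < B := by
          refine lt_of_le_of_ne inf_le_left ?_
          intro h
          apply hb₀R
          have : b₀ ∈ Z₀ := by rw [h]; exact hb₀
          exact this.2
        have h1 : Nat.card Z₀ < p ^ 2 := by
          rw [← hBc]; exact natCard_lt_of_lt hlt
        have h2 : Nat.card Z₀ ∣ p ^ 2 := by
          rw [← hBc]; exact Subgroup.card_dvd_of_le inf_le_left
        obtain ⟨k, hk, hk'⟩ := (Nat.dvd_prime_pow hp.out).mp h2
        rw [hk'] at h1 ⊢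
        have h3 : k < 2 := (Nat.pow_lt_pow_iff_right hp.out.one_lt).mp h1
        calc p ^ k ≤ p ^ 1 := Nat.pow_le_pow_right hp.out.pos (by omega)
          _ = p := pow_one p
      have hQZ₀ : Q ≤ centralizer (Z₀ : Set G) := by
        intro q hq
        rw [mem_centralizer_iff]
        intro x hx
        exact (hcommBR x hx.1 hx.2 q hq).symm
      have hb₀Q : b₀ ∈ normalizer (Q : Set G) :=
        mem_normalizer_of_conj_mem Q b₀ (hinv b₀ hb₀)
      exact centralizes_of_frobenius p hp2 Q hQ b₀ (hB.2 b₀ hb₀) hb₀Q hfixQ Z₀ hZ₀card hQZ₀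
        (Nat.card R₀) R₀ rfl hR₀p (by rw [hnormtop]; exact le_top)
        (by rw [hnormtop]; trivial)
        (fun x hx hxp hxb => ⟨hΩ x hx hxp hxb, hx⟩)

/-- the case `O_{p'}(G) ≠ 1` -/
theorem goal_of_pPrimeCore_ne_bot {p : ℕ} [hp : Fact p.Prime]
    (G : Type u) [Group G] [Finite G]
    (IH : ∀ (G' : Type u) [Group G'] [Finite G'], Nat.card G' < Nat.card G →
      Cfsg.IsPSolvable p G' → Goal p G')
    (hsol : Cfsg.IsPSolvable p G) (hOp' : Cfsg.pPrimeCore p G ≠ ⊥) : Goal p G := by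
  intro B hB hBc b₀ hb₀ hb₁ hKP Q hQ hinv
  set N := Cfsg.pPrimeCore p G with hN
  haveI hNn : N.Normal := Cfsg.Agent.Lib.Helper2.pPrimeCore_normal p
  have hNc : (Nat.card N).Coprime p := Cfsg.Agent.Lib.Helper2.pPrimeCore_coprime p
  have hBp : IsPGroup p B := IsPGroup.of_card hBc
  set π := QuotientGroup.mk' N with hπ
  have hπ1 : ∀ y : G, π y = 1 ↔ y ∈ N := fun y => QuotientGroup.eq_one_iff y
  have hcard : Nat.card (G ⧸ N) < Nat.card G := by
    have h1 := Subgroup.card_eq_card_quotient_mul_card_subgroup N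
    have h2 : 1 < Nat.card N := (Subgroup.one_lt_card_iff_ne_bot N).mpr hOp'
    have h3 : 0 < Nat.card (G ⧸ N) := Nat.card_pos
    rw [h1]
    nlinarith
  have hsolQ : Cfsg.IsPSolvable p (G ⧸ N) :=
    Cfsg.Agent.Lib.Helper3.isPSolvable_quotient hp.out hsol N
  have hBN : B ⊓ N = ⊥ := by
    apply Subgroup.inf_eq_bot_of_coprime
    rw [hBc]
    exact Nat.Coprime.pow_left 2 hNc.symm
  have hB' : Cfsg.IsElementaryAbelian p (B.map π) := by
    haveI := hB.1
    refine ⟨Subgroup.map_isMulCommutative B π, ?_⟩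
    rintro _ ⟨y, hy, rfl⟩
    rw [← map_pow, hB.2 y hy, map_one]
  have hBc' : Nat.card (B.map π) = p ^ 2 := by
    rw [← hBc]
    have hinj : Function.Injective (π.comp B.subtype) := by
      rw [injective_iff_map_eq_one]
      intro y hy
      have h1 : π (y : G) = 1 := hy
      rw [hπ1] at h1
      have : (y : G) ∈ B ⊓ N := ⟨y.2, h1⟩
      rw [hBN, mem_bot] at this
      exact Subtype.ext this
    have hrange : (π.comp B.subtype).range = B.map π := by
      rw [MonoidHom.range_comp, Subgroup.range_subtype]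
    rw [← hrange]
    exact (Nat.card_congr (MonoidHom.ofInjective hinj).toEquiv).symm
  have hb₁' : π b₀ ≠ 1 := by
    intro h
    rw [hπ1] at h
    have : b₀ ∈ B ⊓ N := ⟨hb₀, h⟩
    rw [hBN, mem_bot] at this
    exact hb₁ this
  have hQ' : (Nat.card (Q.map π)).Coprime p :=
    Nat.Coprime.coprime_dvd_left (Subgroup.card_map_dvd Q π) hQ
  have hinv' : ∀ b ∈ B.map π, ∀ x ∈ Q.map π, b * x * b⁻¹ ∈ Q.map π := by
    rintro _ ⟨b, hb, rfl⟩ _ ⟨x, hx, rfl⟩
    exact ⟨b * x * b⁻¹, hinv b hb x hx, by rw [map_mul, map_mul, map_inv]⟩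
  have hgoal := IH (G ⧸ N) hcard hsolQ (B.map π) hB' hBc' (π b₀) (mem_map_of_mem π hb₀) hb₁'
    (kp_quotient B hBp b₀ hb₀ N hNc hKP) (Q.map π) hQ' hinv'
  rw [Cfsg.Agent.Lib.Helper3.pPrimeCore_quotient_pPrimeCore p] at hgoal
  intro q hq
  have h1 : π q ∈ (⊥ : Subgroup (G ⧸ N)) := hgoal (mem_map_of_mem π hq)
  rw [mem_bot, hπ1] at h1
  exact h1

theorem main_induction {p : ℕ} [hp : Fact p.Prime] (hp2 : p ≠ 2) :
    ∀ (n : ℕ) (G : Type u) [Group G] [Finite G], Nat.card G = n →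
      Cfsg.IsPSolvable p G → Goal p G := by
  intro n
  induction n using Nat.strong_induction_on with
  | _ n ih =>
    intro G _ _ hn hsol
    have IH : ∀ (G' : Type u) [Group G'] [Finite G'], Nat.card G' < Nat.card G →
        Cfsg.IsPSolvable p G' → Goal p G' := by
      intro G' _ _ hlt hsol'
      exact ih (Nat.card G') (hn ▸ hlt) G' rfl hsol'
    by_cases hOp' : Cfsg.pPrimeCore p G = ⊥
    · exact goal_of_pPrimeCore_eq_bot hp2 G IH hsol hOp'
    · exact goal_of_pPrimeCore_ne_bot G IH hsol hOp'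

end Cfsg.Agent.Lib.Helper14.KP
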