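import Mathlib
import Cfsg.Agent.Lib.Helper2.NilpotentCoprime
import Cfsg.Agent.Lib.Helper14.KpClassesB

/-!
# Counting classes of π-elements (helper14)

The number of classes of `π`-elements is at most the number of classes of `r`-elements times the
`π ∖ {r}`-part of the group order.
-/

set_option autoImplicit false
set_option maxHeartbeats 1000000

universe u

namespace Cfsg.Agent.Lib.Helper14.KpClasses

/-- the classes of `σ`-elements -/
abbrev PiCls (σ : Finset ℕ) (G : Type*) [Group G] : Type _ :=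
  {c : ConjClasses G // ∀ x ∈ c.carrier, ∀ s : ℕ, s.Prime → s ∣ orderOf x → s ∈ σ}

/-- the `σ`-part of the group order -/
noncomputable def piPart (σ : Finset ℕ) (G : Type*) [Group G] : ℕ :=
  σ.prod (fun s => s ^ (Nat.card G).factorization s)

/-- a representative of a class -/
noncomputable def rep {G : Type*} [Group G] (c : ConjClasses G) : G := (ConjClasses.exists_rep c).choose

theorem mk_rep {G : Type*} [Group G] (c : ConjClasses G) : ConjClasses.mk (rep c) = c :=
  (ConjClasses.exists_rep c).choose_spec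

section

variable {G : Type u} [Group G]

theorem mem_carrier_of_mk {c : ConjClasses G} {x : G} (h : ConjClasses.mk x = c) :
    x ∈ c.carrier := by
  rw [ConjClasses.mem_carrier_iff_mk_eq]
  exact h

/-- the property defining the decomposition map -/
def DecProp (r : ℕ) (σ : Finset ℕ)
    (q : Σ c : PiCls {r} G, PiCls σ ↥(Subgroup.centralizer {rep c.1}))
    (C : PiCls (insert r σ) G) : Prop :=
  ∃ w : ↥(Subgroup.centralizer {rep q.1.1}), ConjClasses.mk w = q.2.1 ∧
    rep q.1.1 * (w : G) ∈ C.1.carrier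

theorem exists_dec [Finite G] (r : ℕ) (hr : r.Prime) (σ : Finset ℕ) (C : PiCls (insert r σ) G) :
    ∃ q : Σ c : PiCls {r} G, PiCls σ ↥(Subgroup.centralizer {rep c.1}), DecProp r σ q C := by
  obtain ⟨C, hC⟩ := C
  obtain ⟨x, rfl⟩ := ConjClasses.exists_rep C
  have hx := hC x ConjClasses.mem_carrier_mk
  obtain ⟨a, b, ha, hb, hxab, ⟨k, hk⟩, hcop⟩ :=
    Cfsg.Agent.Lib.Helper2.exists_p_decomp x r hr
  have hab : a * b = b * a := by
    obtain ⟨i, rfl⟩ := Subgroup.mem_zpowers_iff.mp ha
    obtain ⟨j, rfl⟩ := Subgroup.mem_zpowers_iff.mp hb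
    rw [← zpow_add, ← zpow_add, add_comm]
  -- the class of the `r`-part
  have hca : ∀ x' ∈ (ConjClasses.mk a).carrier, ∀ s : ℕ, s.Prime → s ∣ orderOf x' → s ∈ ({r} : Finset ℕ) := by
    intro x' hx' s hs hsd
    rw [ConjClasses.mem_carrier_iff_mk_eq, ConjClasses.mk_eq_mk_iff_isConj] at hx'
    rw [orderOf_of_isConj hx'] at hsd
    have := (Nat.prime_dvd_prime_iff_eq hs hr).mp (hs.dvd_of_dvd_pow (hsd.trans hk))
    rw [Finset.mem_singleton]
    exact this
  obtain ⟨c, hcdef⟩ : ∃ c : PiCls {r} G, c = ⟨ConjClasses.mk a, hca⟩ := ⟨_, rfl⟩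
  have hy : ConjClasses.mk (rep c.1) = ConjClasses.mk a := by
    rw [mk_rep, hcdef]
  rw [ConjClasses.mk_eq_mk_iff_isConj, isConj_comm, isConj_iff] at hy
  obtain ⟨g, hg⟩ := hy
  have hw₀ : g * b * g⁻¹ ∈ Subgroup.centralizer {rep c.1} := by
    rw [Subgroup.mem_centralizer_singleton_iff, ← hg]
    calc g * b * g⁻¹ * (g * a * g⁻¹) = g * (b * a) * g⁻¹ := by group
      _ = g * (a * b) * g⁻¹ := by rw [hab]
      _ = g * a * g⁻¹ * (g * b * g⁻¹) := by group
  have hord : orderOf (⟨g * b * g⁻¹, hw₀⟩ : ↥(Subgroup.centralizer {rep c.1})) = orderOf b := by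
    rw [Subgroup.orderOf_mk]
    have := MulEquiv.orderOf_eq (MulAut.conj g) b
    rwa [MulAut.conj_apply] at this
  have hbx : orderOf b ∣ orderOf x := by
    obtain ⟨j, rfl⟩ := Subgroup.mem_zpowers_iff.mp hb
    exact orderOf_dvd_of_pow_eq_one (by rw [← zpow_natCast, ← zpow_mul, mul_comm, zpow_mul,
      zpow_natCast, pow_orderOf_eq_one, one_zpow])
  have hcd : ∀ w' ∈ (ConjClasses.mk (⟨g * b * g⁻¹, hw₀⟩ :
      ↥(Subgroup.centralizer {rep c.1}))).carrier,
      ∀ s : ℕ, s.Prime → s ∣ orderOf w' → s ∈ σ := by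
    intro w' hw' s hs hsd
    rw [ConjClasses.mem_carrier_iff_mk_eq, ConjClasses.mk_eq_mk_iff_isConj] at hw'
    rw [orderOf_of_isConj hw', hord] at hsd
    have h1 := hx s hs (hsd.trans hbx)
    rcases Finset.mem_insert.mp h1 with h | h
    · exfalso
      rw [h] at hsd
      have := Nat.Coprime.eq_one_of_dvd hcop.symm hsd
      exact hr.one_lt.ne' this
    · exact h
  refine ⟨⟨c, ⟨ConjClasses.mk ⟨g * b * g⁻¹, hw₀⟩, hcd⟩⟩, ⟨g * b * g⁻¹, hw₀⟩, rfl, ?_⟩
  show rep c.1 * (g * b * g⁻¹) ∈ (ConjClasses.mk x).carrier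
  rw [ConjClasses.mem_carrier_iff_mk_eq, ConjClasses.mk_eq_mk_iff_isConj, isConj_comm, isConj_iff]
  refine ⟨g, ?_⟩
  rw [← hg, hxab]
  group

theorem dec_inj (r : ℕ) (σ : Finset ℕ)
    (q : Σ c : PiCls {r} G, PiCls σ ↥(Subgroup.centralizer {rep c.1}))
    (C C' : PiCls (insert r σ) G) (h : DecProp r σ q C) (h' : DecProp r σ q C') : C = C' := by
  obtain ⟨w, hw, hC⟩ := h
  obtain ⟨w', hw', hC'⟩ := h'
  rw [ConjClasses.mem_carrier_iff_mk_eq] at hC hC'
  apply Subtype.ext
  rw [← hC, ← hC', ConjClasses.mk_eq_mk_iff_isConj, isConj_iff]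
  have h1 : ConjClasses.mk w = ConjClasses.mk w' := by rw [hw, hw']
  rw [ConjClasses.mk_eq_mk_iff_isConj, isConj_iff] at h1
  obtain ⟨h, hh⟩ := h1
  refine ⟨(h : G), ?_⟩
  have h2 : (h : G) * (w : G) * (h : G)⁻¹ = (w' : G) := by
    have := congrArg Subtype.val hh
    simpa using this
  have h3 : (h : G) * rep q.1.1 = rep q.1.1 * (h : G) :=
    Subgroup.mem_centralizer_singleton_iff.mp h.2
  rw [← h2]
  calc (h : G) * (rep q.1.1 * (w : G)) * (h : G)⁻¹
      = ((h : G) * rep q.1.1) * (w : G) * (h : G)⁻¹ := by group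
    _ = (rep q.1.1 * (h : G)) * (w : G) * (h : G)⁻¹ := by rw [h3]
    _ = rep q.1.1 * ((h : G) * (w : G) * (h : G)⁻¹) := by group

/-- the decomposition inequality -/
theorem card_insert_le [Finite G] (r : ℕ) (hr : r.Prime) (σ : Finset ℕ) :
    Nat.card (PiCls (insert r σ) G) ≤
      Nat.card (Σ c : PiCls {r} G, PiCls σ ↥(Subgroup.centralizer {rep c.1})) := by
  apply Nat.card_le_card_of_injective (fun C => (exists_dec r hr σ C).choose)
  intro C C' hCC'
  have h1 := (exists_dec r hr σ C).choose_spec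
  have h2 := (exists_dec r hr σ C').choose_spec
  simp only at hCC'
  rw [← hCC'] at h2
  exact dec_inj r σ _ C C' h1 h2

end

section

theorem pred_single_iff {G : Type*} [Group G] [Finite G] (r : ℕ) (hr : r.Prime) (x : G) :
    (∀ s : ℕ, s.Prime → s ∣ orderOf x → s ∈ ({r} : Finset ℕ)) ↔ ∃ k : ℕ, orderOf x = r ^ k := by
  constructor
  · intro h
    refine ⟨_, Nat.eq_prime_pow_of_unique_prime_dvd (orderOf_pos x).ne' ?_⟩
    intro d hd hdx
    exact Finset.mem_singleton.mp (h d hd hdx)
  · rintro ⟨k, hk⟩ s hs hsd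
    rw [hk] at hsd
    rw [Finset.mem_singleton]
    exact (Nat.prime_dvd_prime_iff_eq hs hr).mp (hs.dvd_of_dvd_pow hsd)

theorem card_single_le {G : Type*} [Group G] [Finite G] (r : ℕ) (hr : r.Prime) :
    Nat.card (PiCls {r} G) ≤ r ^ (Nat.card G).factorization r := by
  haveI : Fact r.Prime := ⟨hr⟩
  have h1 : Nat.card (PiCls {r} G) = Nat.card (PCls r G) := by
    apply Nat.card_congr
    apply Equiv.subtypeEquivRight
    intro c
    constructor
    · intro h x hx
      exact (pred_single_iff r hr x).mp (h x hx)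
    · intro h x hx
      exact (pred_single_iff r hr x).mpr (h x hx)
  rw [h1, ← Sylow.card_eq_multiplicity (default : Sylow r G)]
  exact Nat.card_le_card_of_surjective _ (clsMap_surjective (default : Sylow r G))

theorem piPart_mono {G : Type*} [Group G] [Finite G] (σ : Finset ℕ) (hσ : ∀ s ∈ σ, s.Prime)
    (H : Subgroup G) : piPart σ ↥H ≤ piPart σ G := by
  unfold piPart
  apply Finset.prod_le_prod'
  intro s hs
  apply Nat.pow_le_pow_right (hσ s hs).pos
  have hd : Nat.card ↥H ∣ Nat.card G := Subgroup.card_subgroup_dvd_card H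
  exact (Nat.factorization_le_iff_dvd Nat.card_pos.ne' Nat.card_pos.ne').mpr hd s

theorem step (σ : Finset ℕ) (hσ : ∀ s ∈ σ, s.Prime)
    (IH : ∀ (D : Type u) [Group D] [Finite D], Nat.card (PiCls σ D) ≤ piPart σ D)
    (r : ℕ) (hr : r.Prime) (G : Type u) [Group G] [Finite G] :
    Nat.card (PiCls (insert r σ) G) ≤ Nat.card (PiCls {r} G) * piPart σ G := by
  classical
  haveI : Fintype (PiCls {r} G) := Fintype.ofFinite _
  refine (card_insert_le r hr σ).trans ?_
  rw [Nat.card_sigma]
  calc ∑ c : PiCls {r} G, Nat.card (PiCls σ ↥(Subgroup.centralizer {rep c.1}))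
      ≤ ∑ _c : PiCls {r} G, piPart σ G := by
        apply Finset.sum_le_sum
        intro c _
        exact (IH _).trans (piPart_mono σ hσ _)
    _ = Nat.card (PiCls {r} G) * piPart σ G := by
        rw [Finset.sum_const, Finset.card_univ, smul_eq_mul, Nat.card_eq_fintype_card]

theorem card_le_piPart (σ : Finset ℕ) : (∀ s ∈ σ, s.Prime) →
    ∀ (G : Type u) [Group G] [Finite G], Nat.card (PiCls σ G) ≤ piPart σ G := by
  classical
  induction σ using Finset.induction_on with
  | empty =>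
    intro _ G _ _
    unfold piPart
    rw [Finset.prod_empty, Finite.card_le_one_iff_subsingleton]
    have key : ∀ c : PiCls ∅ G, c.1 = ConjClasses.mk 1 := by
      rintro ⟨C, hC⟩
      obtain ⟨x, rfl⟩ := ConjClasses.exists_rep C
      have hx := hC x ConjClasses.mem_carrier_mk
      have h1 : orderOf x = 1 := by
        rw [Nat.eq_one_iff_not_exists_prime_dvd]
        intro s hs hsd
        exact absurd (hx s hs hsd) (Finset.notMem_empty s)
      show ConjClasses.mk x = ConjClasses.mk 1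
      rw [orderOf_eq_one_iff.mp h1]
    constructor
    intro c c'
    apply Subtype.ext
    rw [key c, key c']
  | insert r σ hrσ ih =>
    intro hσ G _ _
    have hr : r.Prime := hσ r (Finset.mem_insert_self r σ)
    have hσ' : ∀ s ∈ σ, s.Prime := fun s hs => hσ s (Finset.mem_insert_of_mem hs)
    refine (step σ hσ' (ih hσ') r hr G).trans ?_
    unfold piPart
    rw [Finset.prod_insert hrσ]
    exact Nat.mul_le_mul_right _ (card_single_le r hr)

/-- the number of classes of `π`-elements against the number of classes of `r`-elements -/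
theorem card_insert_le_mul (σ : Finset ℕ) (hσ : ∀ s ∈ σ, s.Prime) (r : ℕ) (hr : r.Prime)
    (G : Type u) [Group G] [Finite G] :
    Nat.card (PiCls (insert r σ) G) ≤ Nat.card (PiCls {r} G) * piPart σ G :=
  step σ hσ (card_le_piPart σ hσ) r hr G

end

end Cfsg.Agent.Lib.Helper14.KpClasses
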