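import Mathlib
import Cfsg.Prelude.Def_OddOrderLocal
import Cfsg.Agent.Lib.Helper14.KpClassesC

/-!
# Counting classes of π-elements, the main theorem (helper14)
-/

set_option autoImplicit false
set_option maxHeartbeats 1000000

universe u

namespace Cfsg.Agent.Lib.Helper14.KpClasses

variable {G : Type u} [Group G] [Finite G]

theorem card_single_eq (r : ℕ) (hr : r.Prime) :
    Nat.card (PiCls {r} G) = Nat.card (PCls r G) := by
  apply Nat.card_congr
  apply Equiv.subtypeEquivRight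
  intro c
  constructor
  · intro h x hx
    exact (pred_single_iff r hr x).mp (h x hx)
  · intro h x hx
    exact (pred_single_iff r hr x).mpr (h x hx)

theorem piPart_pos (σ : Finset ℕ) (hσ : ∀ s ∈ σ, s.Prime) : 0 < piPart σ G := by
  unfold piPart
  apply Finset.prod_pos
  intro s hs
  exact pow_pos (hσ s hs).pos _

/-- the data attached to a prime with many classes of `r`-elements -/
theorem stepA (r : ℕ) (hr : r.Prime)
    (h : (r + 1) * r ^ (Nat.card G).factorization r < 2 * r * Nat.card (PiCls {r} G)) :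
    ∃ N : Subgroup G, N.Normal ∧ (Nat.card N).Coprime r ∧ (∃ k : ℕ, N.index = r ^ k) ∧
      ∀ g h : G, g * h * g⁻¹ * h⁻¹ ∈ N := by
  haveI : Fact r.Prime := ⟨hr⟩
  obtain ⟨P, hPdef⟩ : ∃ P : Sylow r G, P = default := ⟨_, rfl⟩
  rw [card_single_eq r hr, ← Sylow.card_eq_multiplicity P] at h
  obtain ⟨⟨P₀, N, hN, hc⟩, hcomm⟩ := forward P h
  have hcard : Nat.card ↥(P : Subgroup G) = Nat.card ↥(P₀ : Subgroup G) := by
    rw [Sylow.card_eq_multiplicity, Sylow.card_eq_multiplicity]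
  have h1 : Nat.card N * Nat.card ↥(P : Subgroup G) = Nat.card G := by
    rw [hcard]
    exact hc.card_mul_card
  have hcopr : (Nat.card N).Coprime r := by
    rw [← hc.index_eq_card]
    exact ((Nat.Prime.coprime_iff_not_dvd hr).mpr P₀.not_dvd_index).symm
  have h2 : (Nat.card N).Coprime (Nat.card ↥(P : Subgroup G)) := by
    obtain ⟨k, hk⟩ := IsPGroup.iff_card.mp P.isPGroup'
    rw [hk]
    exact Nat.Coprime.pow_right _ hcopr
  have hc' : N.IsComplement' (P : Subgroup G) := Subgroup.isComplement'_of_coprime h1 h2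
  refine ⟨N, hN, hcopr, ?_, ?_⟩
  · obtain ⟨k, hk⟩ := IsPGroup.iff_card.mp P.isPGroup'
    exact ⟨k, by rw [← hk]; exact hc'.symm.index_eq_card⟩
  · intro g h
    haveI := hN
    rw [← QuotientGroup.eq_one_iff]
    obtain ⟨⟨n, a⟩, hna, _⟩ := hc'.existsUnique g
    obtain ⟨⟨m, b⟩, hmb, _⟩ := hc'.existsUnique h
    simp only at hna hmb
    have hg : (QuotientGroup.mk g : G ⧸ N) = QuotientGroup.mk (a : G) := by
      rw [← hna, QuotientGroup.mk_mul, (QuotientGroup.eq_one_iff (n : G)).mpr n.2, one_mul]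
    have hh : (QuotientGroup.mk h : G ⧸ N) = QuotientGroup.mk (b : G) := by
      rw [← hmb, QuotientGroup.mk_mul, (QuotientGroup.eq_one_iff (m : G)).mpr m.2, one_mul]
    have hab : (a : G) * (b : G) = (b : G) * (a : G) :=
      congrArg Subtype.val (hcomm.is_comm.comm a b)
    rw [QuotientGroup.mk_mul, QuotientGroup.mk_mul, QuotientGroup.mk_mul, QuotientGroup.mk_inv,
      QuotientGroup.mk_inv, hg, hh, ← QuotientGroup.mk_inv, ← QuotientGroup.mk_inv,
      ← QuotientGroup.mk_mul, ← QuotientGroup.mk_mul, ← QuotientGroup.mk_mul]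
    have e : (a : G) * (b : G) * (a : G)⁻¹ * (b : G)⁻¹ = 1 := by
      rw [hab]
      group
    rw [e]
    rfl

theorem many_classes_prime (π : Finset ℕ) (hπ : ∀ r ∈ π, r.Prime) (p : ℕ) (hp : p ∈ π)
    (hmin : ∀ r ∈ π, p ≤ r)
    (hk : (p + 1) * piPart π G < 2 * p * Nat.card (PiCls π G)) (r : ℕ) (hr : r ∈ π) :
    (r + 1) * r ^ (Nat.card G).factorization r < 2 * r * Nat.card (PiCls {r} G) := by
  classical
  have hrp : r.Prime := hπ r hr
  have hσ : ∀ s ∈ π.erase r, s.Prime := fun s hs => hπ s (Finset.mem_of_mem_erase hs)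
  have h1 := card_insert_le_mul (π.erase r) hσ r hrp G
  rw [Finset.insert_erase hr] at h1
  have h2 : piPart π G = r ^ (Nat.card G).factorization r * piPart (π.erase r) G := by
    unfold piPart
    conv_lhs => rw [← Finset.insert_erase hr]
    rw [Finset.prod_insert (Finset.notMem_erase r π)]
  have hQ : 0 < piPart (π.erase r) G := piPart_pos _ hσ
  have hpr : p ≤ r := hmin r hr
  have hp0 : 0 < p := (hπ p hp).pos
  rw [h2] at hk
  obtain ⟨Q, hQdef⟩ : ∃ Q, Q = piPart (π.erase r) G := ⟨_, rfl⟩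
  obtain ⟨v, hvdef⟩ : ∃ v, v = r ^ (Nat.card G).factorization r := ⟨_, rfl⟩
  obtain ⟨kπ, hkπ⟩ : ∃ k, k = Nat.card (PiCls π G) := ⟨_, rfl⟩
  obtain ⟨kr, hkr⟩ : ∃ k, k = Nat.card (PiCls {r} G) := ⟨_, rfl⟩
  rw [← hQdef, ← hvdef, ← hkπ] at hk
  rw [← hQdef, ← hkπ, ← hkr] at h1
  rw [← hQdef] at hQ
  rw [← hvdef, ← hkr]
  -- (p+1) v Q < 2 p kπ ≤ 2 p kr Q
  have h3 : (p + 1) * v * Q < 2 * p * kr * Q := by
    calc (p + 1) * v * Q = (p + 1) * (v * Q) := by ring
      _ < 2 * p * kπ := hk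
      _ ≤ 2 * p * (kr * Q) := Nat.mul_le_mul_left _ h1
      _ = 2 * p * kr * Q := by ring
  have h4 : (p + 1) * v < 2 * p * kr := Nat.lt_of_mul_lt_mul_right h3
  -- pass from p to r
  have h5 : (r + 1) * v * p ≤ (p + 1) * v * r := by nlinarith
  have h6 : (r + 1) * v * p < 2 * r * kr * p := by
    calc (r + 1) * v * p ≤ (p + 1) * v * r := h5
      _ < 2 * p * kr * r := Nat.mul_lt_mul_of_pos_right h4 hrp.pos
      _ = 2 * r * kr * p := by ring
  exact Nat.lt_of_mul_lt_mul_right h6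

/-- many classes of `π`-elements give a normal `π`-complement and an abelian Hall `π`-subgroup -/
theorem main_pi (π : Finset ℕ) (hπ : ∀ r ∈ π, r.Prime) (p : ℕ) (hp : p ∈ π)
    (hmin : ∀ r ∈ π, p ≤ r)
    (hk : (p + 1) * piPart π G < 2 * p * Nat.card (PiCls π G)) :
    (∃ N : Subgroup G, N.Normal ∧ (∀ r : ℕ, r.Prime → r ∣ Nat.card ↥N → r ∉ π) ∧
      ∀ r : ℕ, r.Prime → r ∣ N.index → r ∈ π) ∧
    ∃ H : Subgroup G, Cfsg.IsPiHall (↑π : Set ℕ) H ∧ IsMulCommutative ↥H := by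
  classical
  have hA : ∀ r : {r // r ∈ π}, ∃ N : Subgroup G, N.Normal ∧ (Nat.card N).Coprime r.1 ∧
      (∃ k : ℕ, N.index = r.1 ^ k) ∧ ∀ g h : G, g * h * g⁻¹ * h⁻¹ ∈ N := fun r =>
    stepA r.1 (hπ r.1 r.2) (many_classes_prime π hπ p hp hmin hk r.1 r.2)
  choose Nf hNf using hA
  obtain ⟨N, hNdef⟩ : ∃ N : Subgroup G, N = ⨅ r : {r // r ∈ π}, Nf r := ⟨_, rfl⟩
  have hNn : N.Normal := by
    rw [hNdef]
    exact Subgroup.normal_iInf_normal (fun r => (hNf r).1)
  have hNle : ∀ r : {r // r ∈ π}, N ≤ Nf r := by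
    intro r
    rw [hNdef]
    exact iInf_le _ r
  have hcard : ∀ r : ℕ, r.Prime → r ∣ Nat.card ↥N → r ∉ π := by
    intro r hr hrd hrπ
    have h1 : Nat.card ↥N ∣ Nat.card ↥(Nf ⟨r, hrπ⟩) := Subgroup.card_dvd_of_le (hNle ⟨r, hrπ⟩)
    have h2 := (hNf ⟨r, hrπ⟩).2.1
    have h3 : r ∣ Nat.gcd (Nat.card ↥(Nf ⟨r, hrπ⟩)) r := Nat.dvd_gcd (hrd.trans h1) dvd_rfl
    rw [h2] at h3
    exact hr.one_lt.ne' (Nat.dvd_one.mp h3)
  have hidx : ∀ s : ℕ, s.Prime → s ∣ N.index → s ∈ π := by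
    intro s hs hsd
    by_contra hsπ
    haveI := hNn
    haveI : Fact s.Prime := ⟨hs⟩
    have h1 : s ∣ Nat.card (G ⧸ N) := hsd
    obtain ⟨x, hx⟩ := exists_prime_orderOf_dvd_card' s h1
    obtain ⟨g, rfl⟩ := QuotientGroup.mk_surjective x
    have hgs : g ^ s ∈ N := by
      rw [← QuotientGroup.eq_one_iff, QuotientGroup.mk_pow, ← hx, pow_orderOf_eq_one]
    have hgN : g ∈ N := by
      rw [hNdef, Subgroup.mem_iInf]
      intro r
      obtain ⟨hrn, hrc, ⟨k, hrk⟩, _⟩ := hNf r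
      haveI := hrn
      rw [← QuotientGroup.eq_one_iff]
      have h2 : (QuotientGroup.mk g : G ⧸ Nf r) ^ s = 1 := by
        rw [← QuotientGroup.mk_pow, QuotientGroup.eq_one_iff]
        exact hNle r hgs
      have h3 : (QuotientGroup.mk g : G ⧸ Nf r) ^ (r.1 ^ k) = 1 := by
        have : Nat.card (G ⧸ Nf r) = r.1 ^ k := hrk
        rw [← this]
        exact pow_card_eq_one'
      have h4 : orderOf (QuotientGroup.mk g : G ⧸ Nf r) ∣ Nat.gcd s (r.1 ^ k) :=
        Nat.dvd_gcd (orderOf_dvd_of_pow_eq_one h2) (orderOf_dvd_of_pow_eq_one h3)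
      have h5 : Nat.Coprime s (r.1 ^ k) := by
        apply Nat.Coprime.pow_right
        rw [Nat.coprime_primes hs (hπ r.1 r.2)]
        intro he
        exact hsπ (he ▸ r.2)
      rw [h5] at h4
      exact orderOf_eq_one_iff.mp (Nat.dvd_one.mp h4)
    have h6 : (QuotientGroup.mk g : G ⧸ N) = 1 := (QuotientGroup.eq_one_iff g).mpr hgN
    rw [h6, orderOf_one] at hx
    exact hs.one_lt.ne' hx.symm
  have hcomm : ∀ g h : G, g * h * g⁻¹ * h⁻¹ ∈ N := by
    intro g h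
    rw [hNdef, Subgroup.mem_iInf]
    intro r
    exact (hNf r).2.2.2 g h
  refine ⟨⟨N, hNn, hcard, hidx⟩, ?_⟩
  have hcop : Nat.Coprime (Nat.card N) N.index := by
    apply Nat.coprime_of_dvd
    intro s hs h1 h2
    exact hcard s hs h1 (hidx s hs h2)
  haveI := hNn
  obtain ⟨H, hH⟩ := Subgroup.exists_right_complement'_of_coprime hcop
  refine ⟨H, ⟨?_, ?_⟩, ?_⟩
  · intro s hs hsd
    rw [← hH.symm.index_eq_card] at hsd
    exact Finset.mem_coe.mpr (hidx s hs hsd)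
  · intro s hs hsπ hsd
    rw [hH.index_eq_card] at hsd
    exact hcard s hs hsd (Finset.mem_coe.mp hsπ)
  · refine ⟨⟨fun a b => ?_⟩⟩
    apply Subtype.ext
    have h1 : (a : G) * (b : G) * (a : G)⁻¹ * (b : G)⁻¹ ∈ N := hcomm a b
    have h2 : (a : G) * (b : G) * (a : G)⁻¹ * (b : G)⁻¹ ∈ H :=
      H.mul_mem (H.mul_mem (H.mul_mem a.2 b.2) (H.inv_mem a.2)) (H.inv_mem b.2)
    have h3 := Subgroup.disjoint_def.mp hH.disjoint h1 h2
    show (a : G) * (b : G) = (b : G) * (a : G)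
    have e : (a : G) * (b : G) = ((a : G) * (b : G) * (a : G)⁻¹ * (b : G)⁻¹) * ((b : G) * (a : G)) := by
      group
    rw [e, h3, one_mul]

end Cfsg.Agent.Lib.Helper14.KpClasses
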