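import Mathlib
import Cfsg.Agent.Lib.Helper14.Meta2Aut
import Cfsg.Agent.Lib.Helper17.ClassTwoP

/-! Metacyclic 2-groups with an automorphism of order 3, part 2: the nonabelian case. -/

set_option autoImplicit false
set_option maxHeartbeats 1000000
namespace Cfsg.Agent.Lib.Helper14
open Cfsg Cfsg.Agent.Lib.Helper17
open scoped commutatorElement

universe u v

section Main

/-- main dichotomy -/
theorem meta2_main_aux : ∀ N : ℕ, ∀ (X : Type u) [Group X] [Finite X] (A : Type v) [Group A] [Finite A]
    [MulDistribMulAction A X], Nat.card X = N → IsPGroup 2 X → IsMetacyclic X → Nat.card A = 3 →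
    actComm A X = ⊤ → (∀ x y : X, x * y = y * x) ∨
      (Nat.card X = 8 ∧ ∃ z₀ : X, z₀ ≠ 1 ∧ z₀ ^ 2 = 1 ∧ z₀ ∈ Subgroup.center X ∧
        (∀ x y : X, ⁅x, y⁆ = 1 ∨ ⁅x, y⁆ = z₀) ∧ (∀ x : X, x ^ 2 = 1 ∨ x ^ 2 = z₀) ∧
        (∀ a : A, a • z₀ = z₀)) := by
  intro N
  induction N using Nat.strong_induction_on with
  | _ N ih =>
    intro X _ _ A _ _ _ hN hX hmc hA hact
    classical
    haveI : Fact (Nat.Prime 2) := ⟨Nat.prime_two⟩
    by_cases hab : ∀ x y : X, x * y = y * x
    · exact Or.inl hab
    right
    have hRc : IsCyclic (commutator X) := isCyclic_commutator_of_isMetacyclic hmc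
    have hcle : commutator X ≤ Subgroup.center X :=
      commutator_le_center_of_isCyclic_of_actComm_top hRc hact
    have hcommem : ∀ a b : X, ⁅a, b⁆ ∈ commutator X := by
      intro a b
      rw [commutator_def]
      exact Subgroup.commutator_mem_commutator (Subgroup.mem_top a) (Subgroup.mem_top b)
    have hcomm : ∀ a b : X, ⁅a, b⁆ ∈ Subgroup.center X := fun a b => hcle (hcommem a b)
    have hcne : commutator X ≠ ⊥ := by
      intro h
      apply hab
      intro x y
      have h1 := hcommem x y
      rw [h, Subgroup.mem_bot, commutatorElement_eq_one_iff_mul_comm] at h1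
      exact h1
    let Z₀ : Subgroup X :=
      { carrier := {d | d ∈ commutator X ∧ d ^ 2 = 1}
        one_mem' := ⟨Subgroup.one_mem _, one_pow 2⟩
        mul_mem' := by
          rintro z w ⟨hz, hz2⟩ ⟨hw, hw2⟩
          refine ⟨Subgroup.mul_mem _ hz hw, ?_⟩
          have : Commute z w := (Subgroup.mem_center_iff.mp (hcle hz) w).symm
          rw [this.mul_pow, hz2, hw2, one_mul]
        inv_mem' := by
          rintro z ⟨hz, hz2⟩
          exact ⟨Subgroup.inv_mem _ hz, by rw [inv_pow, hz2, inv_one]⟩ }
    have hZ₀mem : ∀ d, d ∈ Z₀ ↔ d ∈ commutator X ∧ d ^ 2 = 1 := fun d => Iff.rfl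
    have hZ₀c : Z₀ ≤ Subgroup.center X := fun d hd => hcle hd.1
    haveI hZ₀n : Z₀.Normal := ⟨fun n hn g => by
      have := (Subgroup.mem_center_iff.mp (hZ₀c hn)) g
      rw [this, mul_inv_cancel_right]
      exact hn⟩
    have hZ₀le2 : Nat.card Z₀ ≤ 2 := by
      haveI := hRc
      refine le_trans ?_ (card_pow_eq_one_le_of_isCyclic (commutator X) 2 (by norm_num))
      apply Nat.card_le_card_of_injective (fun d : Z₀ => (⟨⟨d.1, d.2.1⟩, by
        apply Subtype.ext
        rw [Subgroup.coe_pow, Subgroup.coe_one]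
        exact d.2.2⟩ : {x : commutator X // x ^ 2 = 1}))
      intro d d' hdd'
      have : d.1 = d'.1 := congrArg (fun z : {x : commutator X // x ^ 2 = 1} => ((z : commutator X) : X)) hdd'
      exact Subtype.ext this
    -- an involution in X'
    have hc2 : 2 ∣ Nat.card (commutator X) := by
      obtain ⟨k, hk⟩ := IsPGroup.iff_card.mp (hX.to_subgroup (commutator X))
      have hk0 : k ≠ 0 := by
        rintro rfl
        rw [pow_zero, Subgroup.card_eq_one] at hk
        exact hcne hk
      rw [hk]; exact dvd_pow_self 2 hk0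
    obtain ⟨t, ht⟩ := exists_prime_orderOf_dvd_card' 2 hc2
    set z₀ : X := t.1 with hz₀def
    have hz₀2 : z₀ ^ 2 = 1 := by
      have : t ^ 2 = 1 := by rw [← ht, pow_orderOf_eq_one]
      have h2 := congrArg Subtype.val this
      simpa using h2
    have hz₀1 : z₀ ≠ 1 := by
      intro h
      have : t = 1 := Subtype.ext h
      rw [this, orderOf_one] at ht
      norm_num at ht
    have hz₀Z : z₀ ∈ Z₀ := ⟨t.2, hz₀2⟩
    have hZ₀card : Nat.card Z₀ = 2 := by
      apply le_antisymm hZ₀le2
      have : Z₀ ≠ ⊥ := by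
        intro h
        rw [h, Subgroup.mem_bot] at hz₀Z
        exact hz₀1 hz₀Z
      exact (Subgroup.one_lt_card_iff_ne_bot Z₀).mpr this
    have hZ₀el : ∀ d ∈ Z₀, d = 1 ∨ d = z₀ := by
      intro d hd
      by_cases hd1 : d = 1
      · exact Or.inl hd1
      right
      have hidx : (⊥ : Subgroup Z₀).index = 2 := by
        rw [Subgroup.index_bot, hZ₀card]
      have h1 := (Subgroup.mul_mem_iff_of_index_two hidx (a := (⟨d, hd⟩ : Z₀)) (b := (⟨z₀, hz₀Z⟩ : Z₀)))
      have h2 : (⟨d, hd⟩ : Z₀) * ⟨z₀, hz₀Z⟩ ∈ (⊥ : Subgroup Z₀) := by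
        rw [h1, Subgroup.mem_bot, Subgroup.mem_bot]
        constructor
        · intro h; exact absurd (congrArg Subtype.val h) hd1
        · intro h; exact absurd (congrArg Subtype.val h) hz₀1
      rw [Subgroup.mem_bot] at h2
      have h3 : d * z₀ = 1 := congrArg Subtype.val h2
      calc d = d * z₀ ^ 2 := by rw [hz₀2, mul_one]
        _ = (d * z₀) * z₀ := by rw [sq, mul_assoc]
        _ = z₀ := by rw [h3, one_mul]
    have hZ₀inv : ∀ a : A, ∀ x ∈ Z₀, a • x ∈ Z₀ := by
      rintro a x ⟨hx, hx2⟩
      exact ⟨smul_mem_commutator a hx, by rw [← smul_pow', hx2, smul_one]⟩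
    have hfixz : ∀ a : A, a • z₀ = z₀ := by
      intro a
      rcases hZ₀el _ (hZ₀inv a z₀ hz₀Z) with h | h
      · exfalso
        apply hz₀1
        have h2 : a • z₀ = a • (1 : X) := by rw [h, smul_one]
        exact MulAction.injective a h2
      · exact h
    -- squares central ⟹ X' ≤ Z₀
    have hshared : (∀ x : X, x ^ 2 ∈ Subgroup.center X) → commutator X ≤ Z₀ := by
      intro hsq
      rw [commutator_eq_closure, Subgroup.closure_le]
      rintro _ ⟨x, y, rfl⟩
      refine ⟨hcommem x y, ?_⟩
      rw [← commutatorElement_pow_left_of_central hcomm]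
      exact commutatorElement_eq_one_of_mem_center_left _ (hsq x)
    letI instQ : MulDistribMulAction A (X ⧸ Z₀) := quotMulDistribMulAction Z₀ hZ₀inv
    have hactQ : actComm A (X ⧸ Z₀) = ⊤ := actComm_quot_eq_top Z₀ hZ₀inv hact
    have hcardX : Nat.card X = 2 * Nat.card (X ⧸ Z₀) := by
      rw [← hZ₀card, ← Subgroup.index_eq_card, Subgroup.card_mul_index]
    by_cases hle : commutator X ≤ Z₀
    · -- |X'| = 2
      have hQc : ∀ u v : X ⧸ Z₀, u * v = v * u := by
        have : IsMulCommutative (X ⧸ Z₀) :=
          Subgroup.Normal.quotient_commutative_iff_commutator_le.mpr hle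
        exact fun u v => this.is_comm.comm u v
      have hcel : ∀ x y : X, ⁅x, y⁆ = 1 ∨ ⁅x, y⁆ = z₀ := fun x y => hZ₀el _ (hle (hcommem x y))
      have hsqc : ∀ x : X, x ^ 2 ∈ Subgroup.center X := by
        intro x
        rw [Subgroup.mem_center_iff]
        intro g
        have h1 : ⁅x ^ 2, g⁆ = 1 := by
          rw [commutatorElement_pow_left_of_central hcomm]
          exact (hle (hcommem x g)).2
        rw [commutatorElement_eq_one_iff_mul_comm] at h1
        exact h1.symm
      have hcent := smul_eq_of_mem_center hX hmc hA z₀ (hZ₀c hz₀Z) hz₀1 hz₀2 hfixz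
      have hsqZ : ∀ x : X, x ^ 2 ∈ Z₀ := by
        intro x
        rw [← QuotientGroup.eq_one_iff]
        apply eq_one_of_fixed_of_actComm_top hQc (hX.to_quotient Z₀) hA hactQ
        intro a
        show ((a • (x ^ 2) : X) : X ⧸ Z₀) = _
        rw [hcent a _ (hsqc x)]
      have hQ4 : Nat.card (X ⧸ Z₀) ≤ 4 := by
        have := card_le_sq_of_exponent (isMetacyclic_quotient hmc Z₀) ⊤ 2 (by norm_num) (by
          intro v _
          obtain ⟨x, rfl⟩ := QuotientGroup.mk_surjective v
          rw [← QuotientGroup.mk_pow, QuotientGroup.eq_one_iff]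
          exact hsqZ x)
        rw [Subgroup.card_top] at this
        simpa using this
      have hX8 : Nat.card X = 8 := by
        obtain ⟨k, hk⟩ := IsPGroup.iff_card.mp (hX.to_quotient Z₀)
        have hk2 : k ≤ 2 := by
          by_contra hlt
          push Not at hlt
          have : 2 ^ 3 ≤ 2 ^ k := Nat.pow_le_pow_right (by norm_num) hlt
          omega
        interval_cases k
        · exfalso
          apply hab
          have h2 : Nat.card X = 2 := by rw [hcardX, hk]; norm_num
          have := isCyclic_of_prime_card h2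
          exact fun x y => (IsCyclic.isMulCommutative (α := X)).is_comm.comm x y
        · exfalso
          apply hab
          have h4 : Nat.card X = 2 ^ 2 := by rw [hcardX, hk]; norm_num
          exact fun x y => (IsPGroup.isMulCommutative_of_card_eq_prime_sq h4).is_comm.comm x y
        · rw [hcardX, hk]; norm_num
      exact ⟨hX8, z₀, hz₀1, hz₀2, hZ₀c hz₀Z, hcel, fun x => hZ₀el _ (hsqZ x), hfixz⟩
    · -- X / Z₀ nonabelian: impossible
      exfalso
      have hlt : Nat.card (X ⧸ Z₀) < N := by
        rw [← hN, hcardX]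
        have : 0 < Nat.card (X ⧸ Z₀) := Nat.card_pos
        omega
      rcases ih _ hlt (X ⧸ Z₀) A rfl (hX.to_quotient Z₀) (isMetacyclic_quotient hmc Z₀) hA hactQ with hQab | ⟨hQ8, -⟩
      · apply hle
        have : IsMulCommutative (X ⧸ Z₀) := ⟨⟨hQab⟩⟩
        exact Subgroup.Normal.quotient_commutative_iff_commutator_le.mp this
      · have hX16 : Nat.card X = 16 := by rw [hcardX, hQ8]
        obtain ⟨r, hr2, hr⟩ := exists_index_frattini_le_two_of_isMetacyclic hX hmc
        have hncyc : ¬ IsCyclic X := by
          intro h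
          apply hab
          exact fun x y => (IsCyclic.isMulCommutative (α := X)).is_comm.comm x y
        have h4 := sq_dvd_index_frattini_of_not_isCyclic hX hncyc
        rw [hr] at h4
        have hr' : r = 2 := by
          have := (Nat.pow_dvd_pow_iff_le_right (by norm_num : 1 < 2)).mp h4
          omega
        rw [hr'] at hr
        have hΦcard : Nat.card (frattini X) = 4 := by
          have := (frattini X).card_mul_index
          rw [hr, hX16] at this
          omega
        have hcΦ : commutator X ≤ frattini X := commutator_le_frattini_of_isPGroup' hX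
        have hZlt : Z₀ < commutator X := lt_of_le_of_ne (fun d hd => hd.1) (by
          intro h
          apply hle
          rw [← h])
        have hclt : Nat.card Z₀ < Nat.card (commutator X) := by
          have h5 : Nat.card Z₀ ∣ Nat.card (commutator X) := Subgroup.card_dvd_of_le hZlt.le
          have h6 : Nat.card Z₀ ≠ Nat.card (commutator X) := by
            intro h
            exact hZlt.ne (Subgroup.eq_of_le_of_card_ge hZlt.le h.ge)
          exact lt_of_le_of_ne (Nat.le_of_dvd Nat.card_pos h5) h6
        have hcd : Nat.card (commutator X) ∣ 4 := hΦcard ▸ Subgroup.card_dvd_of_le hcΦ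
        have hc4 : Nat.card (commutator X) = 4 := by
          rw [hZ₀card] at hclt
          have hle4 : Nat.card (commutator X) ≤ 4 := Nat.le_of_dvd (by norm_num) hcd
          interval_cases h : Nat.card (commutator X)
          · norm_num at hcd
          · rfl
        have heq : commutator X = frattini X :=
          Subgroup.eq_of_le_of_card_ge hcΦ (by rw [hc4, hΦcard])
        apply hle
        apply hshared
        intro x
        apply hcle
        rw [heq]
        exact pow_mem_frattini_of_isPGroup' hX x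

theorem meta2_main {X : Type u} [Group X] [Finite X] {A : Type v} [Group A] [Finite A]
    [MulDistribMulAction A X] (hX : IsPGroup 2 X) (hmc : IsMetacyclic X) (hA : Nat.card A = 3)
    (hact : actComm A X = ⊤) : (∀ x y : X, x * y = y * x) ∨
      (Nat.card X = 8 ∧ ∃ z₀ : X, z₀ ≠ 1 ∧ z₀ ^ 2 = 1 ∧ z₀ ∈ Subgroup.center X ∧
        (∀ x y : X, ⁅x, y⁆ = 1 ∨ ⁅x, y⁆ = z₀) ∧ (∀ x : X, x ^ 2 = 1 ∨ x ^ 2 = z₀) ∧
        (∀ a : A, a • z₀ = z₀)) :=
  meta2_main_aux _ X A rfl hX hmc hA hact

end Main

end Cfsg.Agent.Lib.Helper14
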