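import Mathlib
import Cfsg.Agent.Lib.Helper14.Meta2Aut2
import Cfsg.Agent.Lib.Lead.QuatIso

/-! Metacyclic 2-groups with an automorphism of order 3, part 3: recognition of `Q₈`,
and `[X, A] = X`. -/

set_option autoImplicit false
set_option maxHeartbeats 1000000
namespace Cfsg.Agent.Lib.Helper14
open Cfsg
open scoped commutatorElement

universe u v

section Q8
variable {X : Type u} [Group X] [Finite X] {A : Type v} [Group A] [Finite A] [MulDistribMulAction A X]

theorem nonempty_mulEquiv_quaternion_of_data (hX : IsPGroup 2 X) (hA : Nat.card A = 3)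
    (hact : actComm A X = ⊤) (h8 : Nat.card X = 8) (z₀ : X) (hz1 : z₀ ≠ 1) (hz2 : z₀ ^ 2 = 1)
    (hzc : z₀ ∈ Subgroup.center X) (hcomm : ∀ x y : X, ⁅x, y⁆ = 1 ∨ ⁅x, y⁆ = z₀)
    (hsq : ∀ x : X, x ^ 2 = 1 ∨ x ^ 2 = z₀) (hfix : ∀ a : A, a • z₀ = z₀)
    (hnab : ¬ ∀ x y : X, x * y = y * x) : Nonempty (X ≃* QuaternionGroup 2) := by
  classical
  haveI : Fact (Nat.Prime 2) := ⟨Nat.prime_two⟩
  haveI : Fact (Nat.Prime 3) := ⟨Nat.prime_three⟩
  set Z₀ : Subgroup X := Subgroup.zpowers z₀ with hZ₀def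
  have hz₀ord : orderOf z₀ = 2 := orderOf_eq_prime (by simpa using hz2) hz1
  have hZ₀card : Nat.card Z₀ = 2 := by rw [hZ₀def, Nat.card_zpowers, hz₀ord]
  have hZ₀el : ∀ d ∈ Z₀, d = 1 ∨ d = z₀ := by
    intro d hd
    rw [hZ₀def, ← mem_powers_iff_mem_zpowers, Submonoid.mem_powers_iff] at hd
    obtain ⟨k, rfl⟩ := hd
    rcases Nat.even_or_odd' k with ⟨m, rfl | rfl⟩
    · left; rw [pow_mul, hz2, one_pow]
    · right; rw [pow_succ, pow_mul, hz2, one_pow, one_mul]
  have hZ₀c : Z₀ ≤ Subgroup.center X := by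
    rw [hZ₀def, Subgroup.zpowers_le]; exact hzc
  haveI hZ₀n : Z₀.Normal := ⟨fun n hn g => by
    have := (Subgroup.mem_center_iff.mp (hZ₀c hn)) g
    rw [this, mul_inv_cancel_right]
    exact hn⟩
  have hZ₀inv : ∀ a : A, ∀ x ∈ Z₀, a • x ∈ Z₀ := by
    intro a x hx
    rcases hZ₀el x hx with rfl | rfl
    · rw [smul_one]; exact Subgroup.one_mem _
    · rw [hfix]; exact Subgroup.mem_zpowers _
  letI instQ : MulDistribMulAction A (X ⧸ Z₀) := quotMulDistribMulAction Z₀ hZ₀inv
  have hactQ : actComm A (X ⧸ Z₀) = ⊤ := actComm_quot_eq_top Z₀ hZ₀inv hact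
  have hQcard : Nat.card (X ⧸ Z₀) = 2 ^ 2 := by
    have := Z₀.card_mul_index
    rw [hZ₀card, h8, Subgroup.index_eq_card] at this
    omega
  have hQexp : ∀ v : X ⧸ Z₀, v ^ 2 = 1 := by
    intro v
    obtain ⟨x, rfl⟩ := QuotientGroup.mk_surjective v
    rw [← QuotientGroup.mk_pow, QuotientGroup.eq_one_iff]
    rcases hsq x with h | h
    · rw [h]; exact Subgroup.one_mem _
    · rw [h]; exact Subgroup.mem_zpowers _
  have hQc : ∀ u v : X ⧸ Z₀, u * v = v * u := fun u v =>
    (IsPGroup.isMulCommutative_of_card_eq_prime_sq hQcard).is_comm.comm u v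
  have hQnofix : ∀ v : X ⧸ Z₀, (∀ a : A, a • v = v) → v = 1 := fun v hv =>
    eq_one_of_fixed_of_actComm_top hQc (hX.to_quotient Z₀) hA hactQ hv
  have hsmk : ∀ (a : A) (x : X), a • (QuotientGroup.mk x : X ⧸ Z₀) = QuotientGroup.mk (a • x) := fun a x => rfl
  -- a subgroup containing Z₀ and two independent elements is everything
  have hK : ∀ (K : Subgroup X) (t u : X), Z₀ ≤ K → t ∈ K → u ∈ K → t ∉ Z₀ → t⁻¹ * u ∉ Z₀ → u ∉ Z₀ → K = ⊤ := by
    intro K t u hZK ht hu htZ htu huZ
    have hKm : K.map (QuotientGroup.mk' Z₀) = ⊤ := by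
      by_contra hne
      have htbar : (QuotientGroup.mk t : X ⧸ Z₀) ≠ 1 := by
        rw [Ne, QuotientGroup.eq_one_iff]; exact htZ
      have h1 := eq_zpowers_of_card_sq hQcard hQexp _ hne (u := (QuotientGroup.mk t : X ⧸ Z₀)) ⟨t, ht, rfl⟩ htbar
      have h2 : (QuotientGroup.mk u : X ⧸ Z₀) ∈ Subgroup.zpowers (QuotientGroup.mk t : X ⧸ Z₀) := by
        rw [← h1]; exact ⟨u, hu, rfl⟩
      rw [← mem_powers_iff_mem_zpowers, Submonoid.mem_powers_iff] at h2
      obtain ⟨k, hk⟩ := h2
      rcases Nat.even_or_odd' k with ⟨m, rfl | rfl⟩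
      · rw [pow_mul, hQexp, one_pow] at hk
        exact huZ ((QuotientGroup.eq_one_iff u).mp hk.symm)
      · rw [pow_succ, pow_mul, hQexp, one_pow, one_mul] at hk
        exact htu (QuotientGroup.eq.mp hk)
    rw [eq_top_iff]
    intro g _
    have hg : (QuotientGroup.mk' Z₀) g ∈ K.map (QuotientGroup.mk' Z₀) := by rw [hKm]; trivial
    obtain ⟨g', hg', hgg'⟩ := hg
    have h3 : g'⁻¹ * g ∈ Z₀ := QuotientGroup.eq.mp hgg'
    have : g = g' * (g'⁻¹ * g) := by group
    rw [this]
    exact K.mul_mem hg' (hZK h3)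
  -- commuting independent pair ⟹ abelian
  have hAB : ∀ t u : X, t ∉ Z₀ → u ∉ Z₀ → t⁻¹ * u ∉ Z₀ → t * u = u * t → False := by
    intro t u htZ huZ htu hcomm'
    have hZcent : ∀ g : X, Z₀ ≤ Subgroup.centralizer ({g} : Set X) := by
      intro g d hd
      rw [Subgroup.mem_centralizer_singleton_iff]
      exact ((Subgroup.mem_center_iff.mp (hZ₀c hd)) g).symm
    have h1 := hK (Subgroup.centralizer ({t} : Set X)) t u (hZcent t)
      (Subgroup.mem_centralizer_singleton_iff.mpr rfl)
      (Subgroup.mem_centralizer_singleton_iff.mpr hcomm'.symm) htZ htu huZ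
    have h2 := hK (Subgroup.centralizer ({u} : Set X)) t u (hZcent u)
      (Subgroup.mem_centralizer_singleton_iff.mpr hcomm')
      (Subgroup.mem_centralizer_singleton_iff.mpr rfl) htZ htu huZ
    apply hnab
    intro x y
    have h3 := hK (Subgroup.centralizer ({x} : Set X)) t u (hZcent x)
      (by
        have : x ∈ Subgroup.centralizer ({t} : Set X) := by rw [h1]; trivial
        rw [Subgroup.mem_centralizer_singleton_iff] at this ⊢
        exact this.symm)
      (by
        have : x ∈ Subgroup.centralizer ({u} : Set X) := by rw [h2]; trivial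
        rw [Subgroup.mem_centralizer_singleton_iff] at this ⊢
        exact this.symm) htZ htu huZ
    have : y ∈ Subgroup.centralizer ({x} : Set X) := by rw [h3]; trivial
    exact (Subgroup.mem_centralizer_singleton_iff.mp this).symm
  -- every element outside Z₀ squares to z₀
  have hsq' : ∀ t : X, t ∉ Z₀ → t ^ 2 = z₀ := by
    intro t htZ
    rcases hsq t with ht2 | ht2
    swap
    · exact ht2
    exfalso
    have htbar : (QuotientGroup.mk t : X ⧸ Z₀) ≠ 1 := by
      rw [Ne, QuotientGroup.eq_one_iff]; exact htZ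
    obtain ⟨a, ha⟩ : ∃ a : A, a • (QuotientGroup.mk t : X ⧸ Z₀) ≠ QuotientGroup.mk t := by
      by_contra hall
      push Not at hall
      exact htbar (hQnofix _ hall)
    have ha1 : a ≠ 1 := by
      rintro rfl
      exact ha (one_smul _ _)
    have hatop : Subgroup.zpowers a = ⊤ := zpowers_eq_top_of_prime_card hA ha1
    have ha3 : a ^ 3 = 1 := by
      rw [← hA]; exact pow_card_eq_one'
    set u : X := a • t with hu
    set v : X := a • u with hv
    have hav : a • v = t := by
      rw [hv, hu, ← mul_smul, ← mul_smul, ← pow_two, ← pow_succ, ha3, one_smul]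
    -- w̄ = t̄ ū v̄ is fixed
    have hwfix : ∀ b : A, b • (QuotientGroup.mk (t * u * v) : X ⧸ Z₀) = QuotientGroup.mk (t * u * v) := by
      have hafix : a • (QuotientGroup.mk (t * u * v) : X ⧸ Z₀) = QuotientGroup.mk (t * u * v) := by
        rw [hsmk, smul_mul', smul_mul', ← hu, ← hv, hav]
        rw [QuotientGroup.mk_mul, QuotientGroup.mk_mul, QuotientGroup.mk_mul, QuotientGroup.mk_mul]
        rw [hQc (QuotientGroup.mk u * QuotientGroup.mk v) (QuotientGroup.mk t), mul_assoc]
      intro b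
      have hb : b ∈ MulAction.stabilizer A (QuotientGroup.mk (t * u * v) : X ⧸ Z₀) := by
        have h1 : Subgroup.zpowers a ≤ MulAction.stabilizer A (QuotientGroup.mk (t * u * v) : X ⧸ Z₀) := by
          rw [Subgroup.zpowers_le]; exact hafix
        rw [hatop] at h1
        exact h1 (Subgroup.mem_top b)
      exact hb
    have hw1 := hQnofix _ hwfix
    rw [QuotientGroup.eq_one_iff] at hw1
    have hu2 : u ^ 2 = 1 := by rw [hu, ← smul_pow', ht2, smul_one]
    have hv2 : v ^ 2 = 1 := by rw [hv, ← smul_pow', hu2, smul_one]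
    -- t u = ζ v⁻¹
    have htu2 : (t * u) ^ 2 = 1 := by
      have h1 : t * u = (t * u * v) * v⁻¹ := by group
      have hcz : Commute (t * u * v) v⁻¹ := (Subgroup.mem_center_iff.mp (hZ₀c hw1) v⁻¹).symm
      rw [h1, hcz.mul_pow, inv_pow, hv2, inv_one, mul_one]
      rcases hZ₀el _ hw1 with h | h
      · rw [h, one_pow]
      · rw [h, hz2]
    have hcomm' : t * u = u * t := by
      have h1 : t * u * (t * u) = 1 := by rw [← sq, htu2]
      have h2 : t * t = 1 := by rw [← sq, ht2]
      have h3 : u * u = 1 := by rw [← sq, hu2]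
      calc t * u = t * u * (u * t * (t * u)) * 1 := by
              rw [mul_one]
              have : u * t * (t * u) = 1 := by
                calc u * t * (t * u) = u * (t * t) * u := by group
                  _ = 1 := by rw [h2, mul_one, h3]
              rw [this, mul_one]
        _ = (t * u * (u * t)) * (t * u) * 1 := by group
        _ = u * t := by
              have : t * u * (u * t) = 1 := by
                calc t * u * (u * t) = t * (u * u) * t := by group
                  _ = 1 := by rw [h3, mul_one, h2]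
              rw [this, one_mul, mul_one]
              -- need t * u = u * t: use (t u)^2 = 1
              have h4 : (t * u)⁻¹ = t * u := by
                rw [inv_eq_iff_mul_eq_one]; exact h1
              have h5 : (t * u)⁻¹ = u * t := by
                rw [mul_inv_rev]
                have hti : t⁻¹ = t := by rw [inv_eq_iff_mul_eq_one]; exact h2
                have hui : u⁻¹ = u := by rw [inv_eq_iff_mul_eq_one]; exact h3
                rw [hti, hui]
              rw [← h4, h5]
    have huZ : u ∉ Z₀ := by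
      intro h
      apply htZ
      have : t = a⁻¹ • u := by rw [hu, inv_smul_smul]
      rw [this]
      exact hZ₀inv _ _ h
    have htuZ : t⁻¹ * u ∉ Z₀ := by
      intro h
      apply ha
      rw [hsmk]
      exact (QuotientGroup.eq.mpr h).symm
    exact hAB t u htZ huZ htuZ hcomm'
  -- choose a₀ ∉ Z₀
  obtain ⟨a₀, ha₀⟩ : ∃ a₀ : X, a₀ ∉ Z₀ := by
    by_contra hall
    push Not at hall
    have : Z₀ = ⊤ := by rw [eq_top_iff]; intro x _; exact hall x
    rw [this, Subgroup.card_top, h8] at hZ₀card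
    norm_num at hZ₀card
  have ha₀2 : a₀ ^ 2 = z₀ := hsq' a₀ ha₀
  have ha₀ord : orderOf a₀ = 2 * 2 := by
    have := orderOf_eq_prime_pow (x := a₀) (p := 2) (n := 1) (by rw [pow_one, ha₀2]; exact hz1)
      (by rw [show (2 : ℕ) ^ (1 + 1) = 2 * 2 by norm_num, pow_mul, ha₀2, hz2])
    simpa using this
  obtain ⟨b, hb⟩ : ∃ b : X, b ∉ Subgroup.zpowers a₀ := by
    by_contra hall
    push Not at hall
    have : Subgroup.zpowers a₀ = ⊤ := by rw [eq_top_iff]; intro x _; exact hall x
    have h1 : Nat.card (Subgroup.zpowers a₀) = 4 := by rw [Nat.card_zpowers, ha₀ord]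
    rw [this, Subgroup.card_top, h8] at h1
    norm_num at h1
  have hZ₀a : Z₀ ≤ Subgroup.zpowers a₀ := by
    rw [hZ₀def, Subgroup.zpowers_le, ← ha₀2]
    exact Subgroup.pow_mem _ (Subgroup.mem_zpowers _) 2
  have hbZ : b ∉ Z₀ := fun h => hb (hZ₀a h)
  have hb2 : b ^ 2 = a₀ ^ 2 := by rw [hsq' b hbZ, ha₀2]
  have hba : ⁅b, a₀⁆ = z₀ := by
    rcases hcomm b a₀ with h | h
    swap
    · exact h
    exfalso
    rw [commutatorElement_eq_one_iff_mul_comm] at h
    apply hAB a₀ b ha₀ hbZ _ h.symm
    intro h2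
    apply hb
    have : b = a₀ * (a₀⁻¹ * b) := by group
    rw [this]
    exact Subgroup.mul_mem _ (Subgroup.mem_zpowers _) (hZ₀a h2)
  have hinv : b * a₀ * b⁻¹ = a₀⁻¹ := by
    have h1 : b * a₀ * b⁻¹ = ⁅b, a₀⁆ * a₀ := by rw [commutatorElement_def]; group
    rw [h1, hba, ← ha₀2]
    have h4 : a₀ ^ 4 = 1 := by
      rw [show (4 : ℕ) = 2 * 2 by norm_num, ← ha₀ord, pow_orderOf_eq_one]
    rw [eq_inv_iff_mul_eq_one, ← pow_succ, ← pow_succ]
    exact h4
  exact Cfsg.Agent.Lib.Lead.QuatIso.nonempty_mulEquiv_quaternionGroup (N := 2) ha₀ord hb2 hinv hb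
    (by rw [h8])

end Q8

section ActTop

/-- an automorphism group of order 3 of a 2-group with Frattini quotient of order ≤ 4 has `[X, A] = X` -/
theorem actComm_eq_top_of_card_three {X : Type u} [Group X] [Finite X] (hX : IsPGroup 2 X) {r : ℕ}
    (hr : (frattini X).index = 2 ^ r) (hr2 : r ≤ 2) (A : Subgroup (MulAut X))
    (hA : Nat.card A = 3) : actComm A X = ⊤ := by
  classical
  haveI : Fact (Nat.Prime 2) := ⟨Nat.prime_two⟩
  by_contra hne
  -- a maximal subgroup containing [X, A]
  obtain ⟨M, hM, hKM⟩ := (eq_top_or_exists_le_coatom (actComm A X)).resolve_left hne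
  have hMidx : M.index = 2 := index_of_isCoatom_of_isPGroup' hX hM
  have hΦM : frattini X ≤ M := by
    unfold frattini Order.radical
    exact iInf₂_le M hM
  have hmem : ∀ (a : A) (x : X), a • x * x⁻¹ ∈ M := fun a x => hKM (smul_mul_inv_mem_actComm a x)
  have hΦinv : ∀ (a : A) (x : X), x ∈ frattini X → a • x ∈ frattini X := by
    intro a x hx
    have hchar : (frattini X).Characteristic := frattini_characteristic
    have h : a • x ∈ (frattini X).comap ((a : MulAut X)⁻¹).toMonoidHom := by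
      rw [Subgroup.mem_comap]
      have : ((a : MulAut X)⁻¹).toMonoidHom (a • x) = x := by
        show ((a : MulAut X)⁻¹) ((a : MulAut X) x) = x
        rw [← MulAut.mul_apply, inv_mul_cancel, MulAut.one_apply]
      rw [this]; exact hx
    rwa [hchar.fixed] at h
  have hMinv : ∀ (a : A) (m : X), m ∈ M → a • m ∈ M := by
    intro a m hm
    have : a • m = (a • m * m⁻¹) * m := by group
    rw [this]
    exact M.mul_mem (hmem a m) hm
  have hrel : (frattini X).relIndex M * 2 = 2 ^ r := by
    have := Subgroup.relIndex_mul_index hΦM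
    rw [hMidx, hr] at this
    exact this
  -- A acts trivially on M/Φ
  have hMΦ : ∀ (a : A) (m : X), m ∈ M → a • m * m⁻¹ ∈ frattini X := by
    intro a m hm
    have hcase : (frattini X).relIndex M = 1 ∨ (frattini X).relIndex M = 2 := by
      interval_cases r
      · omega
      · left; omega
      · right; omega
    rcases hcase with h1 | h2
    · have hMΦ' : M ≤ frattini X := Subgroup.relIndex_eq_one.mp h1
      exact (frattini X).mul_mem (hΦinv a m (hMΦ' hm)) ((frattini X).inv_mem (hMΦ' hm))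
    · have hidx : ((frattini X).subgroupOf M).index = 2 := h2
      have key := Subgroup.mul_mem_iff_of_index_two hidx
        (a := (⟨a • m, hMinv a m hm⟩ : M)) (b := (⟨m, hm⟩ : M)⁻¹)
      have h3 : ((⟨a • m, hMinv a m hm⟩ : M) * (⟨m, hm⟩ : M)⁻¹ ∈ (frattini X).subgroupOf M) ↔
          a • m * m⁻¹ ∈ frattini X := by
        rw [Subgroup.mem_subgroupOf]; rfl
      rw [← h3, key, Subgroup.inv_mem_iff, Subgroup.mem_subgroupOf, Subgroup.mem_subgroupOf]
      show a • m ∈ frattini X ↔ m ∈ frattini X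
      constructor
      · intro h
        have := hΦinv a⁻¹ _ h
        rwa [inv_smul_smul] at this
      · exact hΦinv a m
  have hsq2 : ∀ (a : A) (x : X), (a * a) • x * x⁻¹ ∈ frattini X := by
    intro a x
    have hm := hmem a x
    have h1 := hMΦ a _ hm
    have h2 : (a • x * x⁻¹) ^ 2 ∈ frattini X := pow_mem_frattini_of_isPGroup' hX _
    have hgen : ∀ u v w : X, u * w⁻¹ = (u * v⁻¹ * (v * w⁻¹)⁻¹) * (v * w⁻¹) ^ 2 := by
      intro u v w
      rw [pow_two]
      group
    have h3 : (a * a) • x * x⁻¹ = (a • (a • x * x⁻¹) * (a • x * x⁻¹)⁻¹) * (a • x * x⁻¹) ^ 2 := by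
      rw [mul_smul, smul_mul' a (a • x) x⁻¹, smul_inv']
      exact hgen _ _ _
    rw [h3]
    exact (frattini X).mul_mem h1 h2
  have hall' : ∀ (b : A) (x : X), b • x * x⁻¹ ∈ frattini X := by
    intro b x
    have h3 : b ^ 3 = 1 := by rw [← hA]; exact pow_card_eq_one'
    have h4 : b = (b * b) * (b * b) := by
      have : (b * b) * (b * b) = b ^ 3 * b := by
        rw [pow_succ, pow_succ, pow_one, mul_assoc, mul_assoc, mul_assoc]
      rw [this, h3, one_mul]
    have h5 := hsq2 (b * b) x
    rw [← h4] at h5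
    exact h5
  have hall : ∀ α ∈ A, ∀ x : X, α x * x⁻¹ ∈ frattini X := by
    intro α hα x
    exact hall' ⟨α, hα⟩ x
  have hdvd := card_dvd_of_trivial_on_frattini_quot hX hr A hall
  rw [hA] at hdvd
  obtain ⟨k, hk⟩ := IsPGroup.iff_card.mp (hX.to_subgroup (frattini X))
  rw [hk, ← pow_mul] at hdvd
  have := (Nat.prime_dvd_prime_iff_eq Nat.prime_three Nat.prime_two).mp
    (Nat.prime_three.dvd_of_dvd_pow hdvd)
  omega

end ActTop

end Cfsg.Agent.Lib.Helper14
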