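import Mathlib
import Cfsg.Prelude.Def_PLocal
import Cfsg.Prelude.Def_BaumannBlocks
import Cfsg.Agent.Lib.Helper14.CDMeasure

/-! Subgroups of metacyclic `p`-groups (`p` odd): `|R : R'| = |G : G'|` for non-abelian `R`. -/

set_option autoImplicit false
set_option maxHeartbeats 400000
namespace Cfsg.Agent.Lib.Helper14
open Cfsg
open scoped commutatorElement

universe u

theorem card_center_subgroup {G : Type*} [Group G] (M : Subgroup G) :
    Nat.card (Subgroup.center ↥M) = Nat.card ↥(M ⊓ Subgroup.centralizer (M : Set G)) := by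
  have h : (Subgroup.center ↥M).map M.subtype = M ⊓ Subgroup.centralizer (M : Set G) := by
    ext x
    constructor
    · rintro ⟨y, hy, rfl⟩
      refine ⟨y.2, ?_⟩
      change M.subtype y ∈ Subgroup.centralizer (M : Set G)
      rw [Subgroup.mem_centralizer_iff]
      intro m hm
      have hy' : y ∈ Subgroup.center ↥M := hy
      have := Subgroup.mem_center_iff.mp hy' ⟨m, hm⟩
      exact congrArg Subtype.val this
    · rintro ⟨hxM, hxC⟩
      have hxC' : x ∈ Subgroup.centralizer (M : Set G) := hxC
      refine ⟨⟨x, hxM⟩, ?_, rfl⟩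
      change (⟨x, hxM⟩ : ↥M) ∈ Subgroup.center ↥M
      rw [Subgroup.mem_center_iff]
      intro m
      apply Subtype.ext
      exact Subgroup.mem_centralizer_iff.mp hxC' m.1 m.2
  rw [← h, Subgroup.card_map_of_injective M.subtype_injective]

theorem card_commutator_congr {H K : Type*} [Group H] [Group K] (e : H ≃* K) :
    Nat.card (commutator H) = Nat.card (commutator K) := by
  have h : (commutator H).map e.toMonoidHom = commutator K := by
    rw [commutator_def, commutator_def, Subgroup.map_commutator,
      Subgroup.map_top_of_surjective _ e.surjective]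
  rw [← h, Subgroup.card_map_of_injective e.injective]

theorem card_commutator_top {G : Type*} [Group G] :
    Nat.card (commutator ↥(⊤ : Subgroup G)) = Nat.card (commutator G) :=
  card_commutator_congr Subgroup.topEquiv

theorem isMulCommutative_subgroup_of {G : Type*} [Group G] (h : IsMulCommutative G) (M : Subgroup G) :
    IsMulCommutative ↥M :=
  ⟨⟨fun a b => Subtype.ext (mul_comm' a.1 b.1)⟩⟩

section
variable {G : Type u} [Group G] [Finite G] {p : ℕ} [hp : Fact p.Prime]

theorem one_le_of_not_isMulCommutative (hna : ¬ IsMulCommutative G) {n : ℕ}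
    (hn : Nat.card (commutator G) = p ^ n) : 1 ≤ n := by
  by_contra h0
  have h0' : n = 0 := by omega
  rw [h0', pow_zero, Subgroup.card_eq_one] at hn
  apply hna
  refine ⟨⟨fun a b => ?_⟩⟩
  rw [← commutatorElement_eq_one_iff_mul_comm, ← Subgroup.mem_bot, ← hn, commutator_def]
  exact Subgroup.commutator_mem_commutator (Subgroup.mem_top a) (Subgroup.mem_top b)

theorem sup_zpowers_eq_of_card (R R₁ : Subgroup G) (hle : R ≤ R₁) (hcard : Nat.card R₁ = p * Nat.card R)
    {u : G} (huR₁ : u ∈ R₁) (huR : u ∉ R) : R ⊔ Subgroup.zpowers u = R₁ := by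
  have hle' : R ⊔ Subgroup.zpowers u ≤ R₁ := sup_le hle (by rw [Subgroup.zpowers_le]; exact huR₁)
  apply Subgroup.eq_of_le_of_card_ge hle'
  have h1 : Nat.card R ∣ Nat.card ↥(R ⊔ Subgroup.zpowers u) := Subgroup.card_dvd_of_le le_sup_left
  obtain ⟨k, hk⟩ := h1
  have h2 : Nat.card ↥(R ⊔ Subgroup.zpowers u) ∣ Nat.card R₁ := Subgroup.card_dvd_of_le hle'
  rw [hk, hcard, mul_comm p] at h2
  have hpos : 0 < Nat.card R := Nat.card_pos
  have h3 : k ∣ p := Nat.dvd_of_mul_dvd_mul_left hpos h2
  rcases (Nat.dvd_prime hp.out).mp h3 with h | h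
  · exfalso
    rw [h, mul_one] at hk
    have : R ⊔ Subgroup.zpowers u = R := (Subgroup.eq_of_le_of_card_ge le_sup_left hk.le).symm
    apply huR
    rw [← this]
    exact le_sup_right (a := R) (Subgroup.mem_zpowers u)
  · rw [hk, h, hcard, mul_comm]

/-- derived subgroup of a non-abelian maximal subgroup -/
theorem card_commutator_of_index_p (hp2 : p ≠ 2) (hG : IsPGroup p G) (hmc : IsMetacyclic G)
    (M : Subgroup G) (hM : Nat.card G = p * Nat.card M) (hMna : ¬ IsMulCommutative ↥M) :
    Nat.card (commutator ↥M) * p = Nat.card (commutator G) := by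
  have hp1 := hp.out.one_lt
  have hppos := hp.out.pos
  have hreg := isRegularPGroup_of_isMetacyclic hp2 hG hmc
  have hc := isCyclic_commutator_of_isMetacyclic hmc
  have hGM : IsPGroup p ↥M := hG.to_subgroup M
  have hmcM := isMetacyclic_subgroup hmc M
  have hregM := isRegularPGroup_of_isMetacyclic hp2 hGM hmcM
  obtain ⟨n, hn⟩ := (hG.to_subgroup (commutator G)).exists_card_eq
  obtain ⟨n', hn'⟩ := (hGM.to_subgroup (commutator ↥M)).exists_card_eq
  have hna : ¬ IsMulCommutative G := fun h => hMna (isMulCommutative_subgroup_of h M)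
  have hn1 : 1 ≤ n := one_le_of_not_isMulCommutative hna hn
  set Z := Subgroup.center G with hZ
  have hidx : M.index = p := by
    have := Subgroup.card_mul_index M
    rw [hM, mul_comm] at this
    exact Nat.eq_of_mul_eq_mul_right Nat.card_pos this
  have hZM : Z ≤ M := by
    rw [hZ, (metacyclic_center hreg hmc hn).2.1]
    rintro _ ⟨y, rfl⟩
    obtain ⟨k, rfl⟩ := Nat.exists_eq_add_of_le hn1
    have := pow_mem_of_index_le hG M 1 (by rw [hidx, pow_one]) (y ^ p ^ k)
    rw [pow_one, ← pow_mul, ← pow_succ] at this
    rwa [add_comm]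
  set C := Subgroup.centralizer (M : Set G) with hC
  have hZC : Z ≤ C := Subgroup.center_le_centralizer _
  have hcd := cd_measure_eq hreg hc M hZM
  have hcardZ := Subgroup.card_mul_index Z
  rw [(metacyclic_center hreg hmc hn).1] at hcardZ
  have hMpos : 0 < Nat.card M := Nat.card_pos
  have hZpos : 0 < Nat.card Z := Nat.card_pos
  have hcardC : Nat.card C = p * Nat.card Z := by
    have : Nat.card M * Nat.card C = Nat.card M * (p * Nat.card Z) := by
      rw [hcd, hM]; ring
    exact Nat.eq_of_mul_eq_mul_left hMpos this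
  have hcenM := (metacyclic_center hregM hmcM hn').1
  have hcardZM := Subgroup.card_mul_index (Subgroup.center ↥M)
  rw [hcenM, card_center_subgroup] at hcardZM
  have hCM : C ≤ M := by
    by_contra hnot
    obtain ⟨u, huC, huM⟩ := SetLike.not_le_iff_exists.mp hnot
    have hsup : M ⊔ Subgroup.zpowers u = ⊤ :=
      sup_zpowers_eq_of_card M ⊤ le_top (by rw [Subgroup.card_top]; exact hM) (Subgroup.mem_top u) huM
    have h1 : M ⊓ C ≤ Z := by
      rintro z ⟨hzM, hzC⟩
      have h2 : M ⊔ Subgroup.zpowers u ≤ Subgroup.centralizer {z} := by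
        apply sup_le
        · intro m hm
          rw [Subgroup.mem_centralizer_singleton_iff]
          exact (Subgroup.mem_centralizer_iff.mp hzC m hm)
        · rw [Subgroup.zpowers_le, Subgroup.mem_centralizer_singleton_iff]
          exact (Subgroup.mem_centralizer_iff.mp huC z hzM).symm
      rw [hsup] at h2
      rw [hZ, Subgroup.mem_center_iff]
      intro g
      have := h2 (Subgroup.mem_top g)
      rw [Subgroup.mem_centralizer_singleton_iff] at this
      exact this
    have h3 : M ⊓ C = Z := le_antisymm h1 (le_inf hZM hZC)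
    rw [h3] at hcardZM
    -- card Z * p^(2n') = card M,  card Z * p^(2n) = p * card M
    have h4 : Nat.card Z * p ^ (2 * n) = Nat.card Z * p ^ (2 * n' + 1) := by
      rw [hcardZ, hM, ← hcardZM, pow_succ]; ring
    have h5 := Nat.eq_of_mul_eq_mul_left hZpos h4
    have h6 := Nat.pow_right_injective (show 2 ≤ p from hp1) h5
    omega
  have h3 : M ⊓ C = C := inf_eq_right.mpr hCM
  rw [h3, hcardC] at hcardZM
  have h4 : Nat.card Z * p ^ (2 * n) = Nat.card Z * p ^ (2 * n' + 2) := by
    rw [hcardZ, hM, ← hcardZM, pow_succ, pow_succ]; ring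
  have h5 := Nat.eq_of_mul_eq_mul_left hZpos h4
  have h6 := Nat.pow_right_injective (show 2 ≤ p from hp1) h5
  rw [hn, hn', ← pow_succ]
  congr 1
  omega

end

/-- `|R| · |G'| = |G| · |R'|` for non-abelian subgroups `R` of a metacyclic `p`-group, `p` odd -/
theorem card_mul_card_commutator_of_not_comm (p : ℕ) [hp : Fact p.Prime] (hp2 : p ≠ 2) :
    ∀ (m : ℕ) (G : Type u) [Group G] [Finite G], Nat.card G = m → IsPGroup p G → IsMetacyclic G →
      ∀ R : Subgroup G, ¬ IsMulCommutative ↥R →
        Nat.card R * Nat.card (commutator G) = Nat.card G * Nat.card (commutator ↥R) := by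
  intro m
  induction m using Nat.strong_induction_on with
  | _ m ih =>
    intro G _ _ hm hG hmc R hR
    by_cases hRtop : R = ⊤
    · subst hRtop
      rw [card_commutator_top, Subgroup.card_top]
    · obtain ⟨M, hRM, -, hcard⟩ := exists_index_p_below hG R ⊤ le_top hRtop
      rw [Subgroup.card_top] at hcard
      have hMna : ¬ IsMulCommutative ↥M := by
        intro h
        apply hR
        refine ⟨⟨fun a b => ?_⟩⟩
        have := mul_comm' (⟨a.1, hRM a.2⟩ : ↥M) ⟨b.1, hRM b.2⟩
        have h2 : a.1 * b.1 = b.1 * a.1 := congrArg Subtype.val this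
        exact Subtype.ext h2
      have hlt : Nat.card M < m := by
        rw [← hm, hcard]
        have hpos : 0 < Nat.card M := Nat.card_pos
        have := hp.out.one_lt
        nlinarith
      let e : ↥(R.subgroupOf M) ≃* ↥R := Subgroup.subgroupOfEquivOfLe hRM
      have hRna : ¬ IsMulCommutative ↥(R.subgroupOf M) := by
        intro h
        apply hR
        refine ⟨⟨fun a b => ?_⟩⟩
        have := mul_comm' (e.symm a) (e.symm b)
        have h2 := congrArg e this
        simpa using h2
      have h1 := ih _ hlt ↥M rfl (hG.to_subgroup M) (isMetacyclic_subgroup hmc M) (R.subgroupOf M) hRna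
      rw [Nat.card_congr e.toEquiv, card_commutator_congr e] at h1
      have h2 := card_commutator_of_index_p hp2 hG hmc M hcard hMna
      calc Nat.card R * Nat.card (commutator G)
          = Nat.card R * Nat.card (commutator ↥M) * p := by rw [← h2]; ring
        _ = Nat.card M * Nat.card (commutator ↥R) * p := by rw [h1]
        _ = Nat.card G * Nat.card (commutator ↥R) := by rw [hcard]; ring

section
variable {G : Type u} [Group G] [Finite G] {p : ℕ} [hp : Fact p.Prime]

theorem card_eq_index_mul_of_not_comm (hp2 : p ≠ 2) (hG : IsPGroup p G) (hmc : IsMetacyclic G)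
    (R : Subgroup G) (hR : ¬ IsMulCommutative ↥R) :
    Nat.card R = (commutator G).index * Nat.card (commutator ↥R) := by
  have h1 := card_mul_card_commutator_of_not_comm p hp2 _ G rfl hG hmc R hR
  have h2 := Subgroup.card_mul_index (commutator G)
  rw [← h2] at h1
  have hpos : 0 < Nat.card (commutator G) := Nat.card_pos
  have : Nat.card (commutator G) * Nat.card R =
      Nat.card (commutator G) * ((commutator G).index * Nat.card (commutator ↥R)) := by
    rw [mul_comm, h1]; ring
  exact Nat.eq_of_mul_eq_mul_left hpos this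

/-- a subgroup of a metacyclic `p`-group (`p` odd) is abelian iff its order is at most `|G : G'|` -/
theorem isMulCommutative_iff_card_le (hp2 : p ≠ 2) (hG : IsPGroup p G) (hmc : IsMetacyclic G)
    (L : Subgroup G) : IsMulCommutative ↥L ↔ Nat.card ↥L ≤ (commutator G).index := by
  have hreg := isRegularPGroup_of_isMetacyclic hp2 hG hmc
  have hc := isCyclic_commutator_of_isMetacyclic hmc
  obtain ⟨n, hn⟩ := (hG.to_subgroup (commutator G)).exists_card_eq
  constructor
  · intro hab
    have h1 : L ≤ Subgroup.centralizer (L : Set G) := Subgroup.le_centralizer_iff_isMulCommutative.mpr hab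
    have h2 : Nat.card L ≤ Nat.card (Subgroup.centralizer (L : Set G)) := Subgroup.card_le_of_le h1
    have h3 := cd_measure_le hreg hc _ L rfl
    have h4 : Nat.card L * Nat.card L ≤ Nat.card G * Nat.card (Subgroup.center G) :=
      (Nat.mul_le_mul_left _ h2).trans h3
    have hcardZ := Subgroup.card_mul_index (Subgroup.center G)
    rw [(metacyclic_center hreg hmc hn).1] at hcardZ
    have hcardI := Subgroup.card_mul_index (commutator G)
    rw [hn] at hcardI
    -- (card L)^2 * p^(2n) ≤ card G * card G = I^2 * p^(2n)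
    have h5 : (Nat.card L * p ^ n) * (Nat.card L * p ^ n) ≤
        ((commutator G).index * p ^ n) * ((commutator G).index * p ^ n) := by
      calc (Nat.card L * p ^ n) * (Nat.card L * p ^ n)
          = (Nat.card L * Nat.card L) * p ^ (2 * n) := by rw [two_mul, pow_add]; ring
        _ ≤ (Nat.card G * Nat.card (Subgroup.center G)) * p ^ (2 * n) := Nat.mul_le_mul_right _ h4
        _ = Nat.card G * Nat.card G := by rw [mul_assoc, hcardZ]
        _ = _ := by rw [← hcardI]; ring
    have h6 := Nat.mul_self_le_mul_self_iff.mp h5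
    exact Nat.le_of_mul_le_mul_right h6 (pow_pos hp.out.pos n)
  · intro hle
    by_contra hna
    have h1 := card_eq_index_mul_of_not_comm hp2 hG hmc L hna
    have h2 : Nat.card (commutator ↥L) ≠ 1 := by
      intro h
      obtain h' := one_le_of_not_isMulCommutative (p := p) (n := 0) hna (by rw [h, pow_zero])
      omega
    have h3 : 2 ≤ Nat.card (commutator ↥L) := by
      have : 0 < Nat.card (commutator ↥L) := Nat.card_pos
      omega
    have hI : 0 < (commutator G).index := Nat.pos_of_ne_zero Subgroup.index_ne_zero_of_finite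
    have : (commutator G).index * 2 ≤ Nat.card L := by
      rw [h1]; exact Nat.mul_le_mul_left _ h3
    omega

/-- maximal abelian subgroups are those of order `|G : G'|` -/
theorem maximal_isMulCommutative_iff_card_eq (hp2 : p ≠ 2) (hG : IsPGroup p G) (hmc : IsMetacyclic G)
    (L : Subgroup G) :
    Maximal (fun K : Subgroup G => IsMulCommutative ↥K) L ↔ Nat.card ↥L = (commutator G).index := by
  constructor
  · intro hmax
    have h1 := (isMulCommutative_iff_card_le hp2 hG hmc L).mp hmax.prop
    by_contra hne
    have hlt : Nat.card L < (commutator G).index := lt_of_le_of_ne h1 hne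
    have hLtop : L ≠ ⊤ := by
      rintro rfl
      rw [Subgroup.card_top] at hlt
      have := Nat.le_of_dvd Nat.card_pos (Subgroup.index_dvd_card (commutator G))
      omega
    obtain ⟨L₁, hLL₁, hcard⟩ := exists_index_p_above hG L hLtop
    obtain ⟨l, hl⟩ := (hG.to_subgroup L).exists_card_eq
    obtain ⟨g, hg⟩ := hG.exists_card_eq
    have hI : (commutator G).index ∣ p ^ g := hg ▸ Subgroup.index_dvd_card _
    obtain ⟨i, -, hi⟩ := (Nat.dvd_prime_pow hp.out).mp hI
    rw [hl, hi, Nat.pow_lt_pow_iff_right hp.out.one_lt] at hlt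
    have h2 : Nat.card L₁ ≤ (commutator G).index := by
      rw [hcard, hl, hi, ← pow_succ']
      exact Nat.pow_le_pow_right hp.out.pos hlt
    have h3 := (isMulCommutative_iff_card_le hp2 hG hmc L₁).mpr h2
    have h4 := hmax.le_of_ge h3 hLL₁
    have h5 := Subgroup.card_le_of_le h4
    rw [hcard] at h5
    have hpos : 0 < Nat.card L := Nat.card_pos
    have := hp.out.one_lt
    nlinarith
  · intro hcard
    refine ⟨(isMulCommutative_iff_card_le hp2 hG hmc L).mpr hcard.le, ?_⟩
    intro K hK hLK
    have h1 := (isMulCommutative_iff_card_le hp2 hG hmc K).mp hK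
    rw [← hcard] at h1
    exact (Subgroup.eq_of_le_of_card_ge hLK h1).ge

end

end Cfsg.Agent.Lib.Helper14
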