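import Mathlib
import Cfsg.Agent.Lib.Helper2.NilpotentCoprime

/-!
# Nilpotent minimal covers of symmetric and alternating groups (helper14)
-/

set_option autoImplicit false
set_option maxHeartbeats 1000000

namespace Cfsg.Agent.Lib.Helper14.NilCover

/-- abstract replacement argument -/
theorem no_min_cover_of_pair {G : Type*} [Group G]
    (c c' : G) (M : Subgroup G) (hM : M ≠ ⊤)
    (h1 : ∀ A : Subgroup G, Group.IsNilpotent A → c ∈ A → A ≤ M)
    (h2 : ∀ A : Subgroup G, Group.IsNilpotent A → c' ∈ A → A ≤ M)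
    (h3 : ∀ A : Subgroup G, Group.IsNilpotent A → c ∈ A → c' ∈ A → False) :
    ¬ ∃ 𝓐 : Finset (Subgroup G), ((∀ A ∈ 𝓐, A ≠ ⊤) ∧ (∀ g : G, ∃ A ∈ 𝓐, g ∈ A)) ∧
      (∀ 𝓑 : Finset (Subgroup G), (∀ A ∈ 𝓑, A ≠ ⊤) ∧ (∀ g : G, ∃ A ∈ 𝓑, g ∈ A) →
        𝓐.card ≤ 𝓑.card) ∧
      (∀ A ∈ 𝓐, Group.IsNilpotent ↥A) := by
  classical
  rintro ⟨𝓐, hcov, hmin, hnil⟩
  obtain ⟨A, hA, hcA⟩ := hcov.2 c
  obtain ⟨A', hA', hcA'⟩ := hcov.2 c'
  have hne : A ≠ A' := by
    rintro rfl
    exact h3 A (hnil A hA) hcA hcA'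
  set 𝓑 : Finset (Subgroup G) := insert M ((𝓐.erase A).erase A') with h𝓑
  have hcov𝓑 : (∀ B ∈ 𝓑, B ≠ ⊤) ∧ (∀ g : G, ∃ B ∈ 𝓑, g ∈ B) := by
    constructor
    · intro B hB
      rcases Finset.mem_insert.mp hB with rfl | hB
      · exact hM
      · exact hcov.1 B (Finset.mem_of_mem_erase (Finset.mem_of_mem_erase hB))
    · intro g
      obtain ⟨B, hB, hg⟩ := hcov.2 g
      by_cases hBA : B = A
      · subst hBA
        exact ⟨M, Finset.mem_insert_self _ _, h1 B (hnil B hA) hcA hg⟩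
      by_cases hBA' : B = A'
      · subst hBA'
        exact ⟨M, Finset.mem_insert_self _ _, h2 B (hnil B hA') hcA' hg⟩
      · refine ⟨B, Finset.mem_insert_of_mem ?_, hg⟩
        exact Finset.mem_erase.mpr ⟨hBA', Finset.mem_erase.mpr ⟨hBA, hB⟩⟩
  have hle := hmin 𝓑 hcov𝓑
  have hA'mem : A' ∈ 𝓐.erase A := Finset.mem_erase.mpr ⟨hne.symm, hA'⟩
  have hc1 : ((𝓐.erase A).erase A').card = (𝓐.erase A).card - 1 := Finset.card_erase_of_mem hA'mem
  have hc2 : (𝓐.erase A).card = 𝓐.card - 1 := Finset.card_erase_of_mem hA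
  have hc3 : 𝓑.card ≤ ((𝓐.erase A).erase A').card + 1 := Finset.card_insert_le _ _
  have hc4 : 0 < (𝓐.erase A).card := Finset.card_pos.mpr ⟨A', hA'mem⟩
  have hc5 : 0 < 𝓐.card := Finset.card_pos.mpr ⟨A, hA⟩
  omega

/-- the `p`-adic valuation of `n!` is one for `p ≤ n < 2p` -/
theorem factorization_factorial_eq_one {n p : ℕ} (hp : p.Prime) (hpn : p ≤ n) (hnp : n < 2 * p) :
    (n.factorial).factorization p = 1 := by
  haveI : Fact p.Prime := ⟨hp⟩
  rw [Nat.factorization_def _ hp]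
  have hlog : Nat.log p n < 2 := by
    apply Nat.log_lt_of_lt_pow (by omega)
    have : 2 ≤ p := hp.two_le
    nlinarith
  rw [padicValNat_factorial hlog]
  have : Finset.Ico 1 2 = {1} := by decide
  rw [this, Finset.sum_singleton, pow_one]
  exact Nat.div_eq_of_lt_le (by omega) (by omega)

/-- a nilpotent subgroup of `S_n` containing an element of prime order `p > n/2` centralizes
it -/
theorem nilpotent_commute {n p : ℕ} (hp : p.Prime) (hpn : p ≤ n) (hnp : n < 2 * p)
    (A : Subgroup (Equiv.Perm (Fin n))) (hA : Group.IsNilpotent A) (c : Equiv.Perm (Fin n))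
    (hcA : c ∈ A) (hc : orderOf c = p) : ∀ x ∈ A, x * c = c * x := by
  haveI : Fact p.Prime := ⟨hp⟩
  have hsyl := ((Group.isNilpotent_of_finite_tfae (G := A)).out 0 3).mp hA
  set P : Sylow p A := default with hP
  have hPn : (P : Subgroup A).Normal := hsyl p ⟨hp⟩ P
  haveI : Subsingleton (Sylow p A) := (Sylow.unique_of_normal P hPn).instSubsingleton
  set c0 : A := ⟨c, hcA⟩ with hc0
  have hc0ord : orderOf c0 = p := by rw [hc0, Subgroup.orderOf_mk, hc]
  have hc0P : c0 ∈ (P : Subgroup A) := by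
    have hpg : IsPGroup p (Subgroup.zpowers c0) := by
      apply IsPGroup.of_card (n := 1)
      rw [Nat.card_zpowers, hc0ord, pow_one]
    obtain ⟨Q, hQ⟩ := hpg.exists_le_sylow
    have : Q = P := Subsingleton.elim _ _
    rw [← this]
    exact hQ (Subgroup.mem_zpowers c0)
  have hcardA : Nat.card A ∣ n.factorial := by
    have := Subgroup.card_subgroup_dvd_card A
    rwa [Nat.card_eq_fintype_card (α := Equiv.Perm (Fin n)), Fintype.card_perm,
      Fintype.card_fin] at this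
  have hcardP : Nat.card P = p := by
    have h1 := Sylow.card_eq_multiplicity P
    have hA0 : Nat.card A ≠ 0 := Nat.card_pos.ne'
    have h2 : (Nat.card A).factorization p ≤ 1 := by
      rw [← factorization_factorial_eq_one hp hpn hnp]
      exact (Nat.factorization_le_iff_dvd hA0 (Nat.factorial_ne_zero n)).mpr hcardA p
    have h3 : p ∣ Nat.card P := by
      have := orderOf_dvd_natCard (⟨c0, hc0P⟩ : (P : Subgroup A))
      rwa [Subgroup.orderOf_mk, hc0ord] at this
    rw [h1] at h3 ⊢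
    have h4 : (Nat.card A).factorization p ≠ 0 := by
      intro h0
      rw [h0, pow_zero] at h3
      exact hp.one_lt.ne' (Nat.dvd_one.mp h3)
    have h5 : (Nat.card A).factorization p = 1 := by omega
    rw [h5, pow_one]
  have hPz : ∀ a : A, a ∈ (P : Subgroup A) → a ∈ Subgroup.zpowers c0 := by
    have hle : Subgroup.zpowers c0 ≤ (P : Subgroup A) := by
      rw [Subgroup.zpowers_le]; exact hc0P
    have heq : Subgroup.zpowers c0 = (P : Subgroup A) := by
      apply Subgroup.eq_of_le_of_card_ge hle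
      rw [Nat.card_zpowers, hc0ord]
      exact hcardP.le
    intro a ha
    rw [heq]; exact ha
  intro x hx
  obtain ⟨a, b, ha, hb, hxab, ⟨k, hak⟩, hbp⟩ :=
    Cfsg.Agent.Lib.Helper2.exists_p_decomp (⟨x, hx⟩ : A) p hp
  have haP : a ∈ (P : Subgroup A) := by
    have hpg : IsPGroup p (Subgroup.zpowers a) := by
      obtain ⟨j, -, hj⟩ := (Nat.dvd_prime_pow hp).mp hak
      apply IsPGroup.of_card (n := j)
      rw [Nat.card_zpowers, hj]
    obtain ⟨Q, hQ⟩ := hpg.exists_le_sylow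
    have : Q = P := Subsingleton.elim _ _
    rw [← this]
    exact hQ (Subgroup.mem_zpowers a)
  have hac : a * c0 = c0 * a := by
    obtain ⟨j, rfl⟩ := Subgroup.mem_zpowers_iff.mp (hPz a haP)
    exact ((Commute.refl c0).zpow_left j).eq
  have hbc : b * c0 = c0 * b := by
    apply Cfsg.Agent.Lib.Helper2.commute_of_coprime_orderOf
    rw [hc0ord]; exact hbp
  have hxc : (⟨x, hx⟩ : A) * c0 = c0 * ⟨x, hx⟩ := by
    rw [hxab, mul_assoc, hbc, ← mul_assoc, hac, mul_assoc]
  exact congrArg Subtype.val hxc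

end Cfsg.Agent.Lib.Helper14.NilCover
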