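import Mathlib
import Cfsg.Agent.Lib.Helper14.NilCoverA

/-!
# Nilpotent minimal covers of symmetric and alternating groups, part B (helper14)
-/

set_option autoImplicit false
set_option maxHeartbeats 1000000

namespace Cfsg.Agent.Lib.Helper14.NilCover

open Equiv Equiv.Perm

/-- the cover statement for a group -/
def HasNilMinCover (G : Type*) [Group G] : Prop :=
  ∃ 𝓐 : Finset (Subgroup G), ((∀ A ∈ 𝓐, A ≠ ⊤) ∧ (∀ g : G, ∃ A ∈ 𝓐, g ∈ A)) ∧
    (∀ 𝓑 : Finset (Subgroup G), (∀ A ∈ 𝓑, A ≠ ⊤) ∧ (∀ g : G, ∃ A ∈ 𝓑, g ∈ A) →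
      𝓐.card ≤ 𝓑.card) ∧
    (∀ A ∈ 𝓐, Group.IsNilpotent ↥A)

theorem no_cover_perm {n p : ℕ} (hp : p.Prime) (hpn : p ≤ n) (hnp : n < 2 * p)
    (c c' : Perm (Fin n)) (hc : orderOf c = p) (hc' : orderOf c' = p)
    (hcc' : c * c' ≠ c' * c)
    (M : Subgroup (Perm (Fin n))) (hM : M ≠ ⊤) (hcM : ∀ x, x * c = c * x → x ∈ M)
    (hc'M : ∀ x, x * c' = c' * x → x ∈ M) : ¬ HasNilMinCover (Perm (Fin n)) := by
  apply no_min_cover_of_pair c c' M hM
  · intro A hA hcA x hx
    exact hcM x (nilpotent_commute hp hpn hnp A hA c hcA hc x hx)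
  · intro A hA hcA x hx
    exact hc'M x (nilpotent_commute hp hpn hnp A hA c' hcA hc' x hx)
  · intro A hA hcA hc'A
    exact hcc' (nilpotent_commute hp hpn hnp A hA c' hc'A hc' c hcA)

theorem no_cover_alt {n p : ℕ} (hp : p.Prime) (hpn : p ≤ n) (hnp : n < 2 * p)
    (c c' : Perm (Fin n)) (hcs : c ∈ alternatingGroup (Fin n))
    (hc's : c' ∈ alternatingGroup (Fin n)) (hc : orderOf c = p) (hc' : orderOf c' = p)
    (hcc' : c * c' ≠ c' * c)
    (M : Subgroup (Perm (Fin n))) (hM : ∃ g ∈ alternatingGroup (Fin n), g ∉ M)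
    (hcM : ∀ x ∈ alternatingGroup (Fin n), x * c = c * x → x ∈ M)
    (hc'M : ∀ x ∈ alternatingGroup (Fin n), x * c' = c' * x → x ∈ M) :
    ¬ HasNilMinCover ↥(alternatingGroup (Fin n)) := by
  have key : ∀ (A : Subgroup ↥(alternatingGroup (Fin n))), Group.IsNilpotent A →
      ∀ d : Perm (Fin n), ∀ hd : d ∈ alternatingGroup (Fin n), orderOf d = p →
      (⟨d, hd⟩ : ↥(alternatingGroup (Fin n))) ∈ A → ∀ x ∈ A, (x : Perm (Fin n)) * d = d * x := by
    intro A hA d hd hdo hdA x hx
    set B : Subgroup (Perm (Fin n)) := A.map (alternatingGroup (Fin n)).subtype with hB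
    have hBn : Group.IsNilpotent B := by
      haveI := hA
      exact Group.nilpotent_of_mulEquiv
        (A.equivMapOfInjective (alternatingGroup (Fin n)).subtype
          (alternatingGroup (Fin n)).subtype_injective)
    have hdB : d ∈ B := ⟨⟨d, hd⟩, hdA, rfl⟩
    have hxB : (x : Perm (Fin n)) ∈ B := ⟨x, hx, rfl⟩
    exact nilpotent_commute hp hpn hnp B hBn d hdB hdo _ hxB
  apply no_min_cover_of_pair (⟨c, hcs⟩ : ↥(alternatingGroup (Fin n))) ⟨c', hc's⟩
    (M.subgroupOf (alternatingGroup (Fin n)))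
  · obtain ⟨g, hg, hgM⟩ := hM
    intro h
    apply hgM
    have : (⟨g, hg⟩ : ↥(alternatingGroup (Fin n))) ∈ M.subgroupOf (alternatingGroup (Fin n)) := by
      rw [h]; trivial
    exact Subgroup.mem_subgroupOf.mp this
  · intro A hA hcA x hx
    rw [Subgroup.mem_subgroupOf]
    exact hcM x x.2 (key A hA c hcs hc hcA x hx)
  · intro A hA hcA x hx
    rw [Subgroup.mem_subgroupOf]
    exact hc'M x x.2 (key A hA c' hc's hc' hcA x hx)
  · intro A hA hcA hc'A
    exact hcc' (key A hA c' hc's hc' hc'A ⟨c, hcs⟩ hcA)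

section main

variable {n : ℕ} (i : Fin n)

/-- the setwise stabilizer of `{0, ..., i}` -/
def stab : Subgroup (Perm (Fin n)) where
  carrier := {x | ∀ j : Fin n, (x j).val ≤ i.val ↔ j.val ≤ i.val}
  one_mem' := fun j => Iff.rfl
  mul_mem' := by
    intro x y hx hy j
    rw [Perm.mul_apply, hx, hy]
  inv_mem' := by
    intro x hx j
    have := hx (x⁻¹ j)
    rw [show x (x⁻¹ j) = j from by simp] at this
    exact this.symm

theorem mem_stab (x : Perm (Fin n)) :
    x ∈ stab i ↔ ∀ j : Fin n, (x j).val ≤ i.val ↔ j.val ≤ i.val := Iff.rfl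

theorem c_lt (j : Fin n) (h : j.val < i.val) : (Fin.cycleRange i j).val = j.val + 1 :=
  Fin.coe_cycleRange_of_lt (Fin.lt_def.mpr h)

theorem c_eq : (Fin.cycleRange i i).val = 0 := by
  rw [Fin.coe_cycleRange_of_le le_rfl, if_pos rfl]

theorem c_gt (j : Fin n) (h : i.val < j.val) : Fin.cycleRange i j = j :=
  Fin.cycleRange_of_gt (Fin.lt_def.mpr h)

theorem mem_support_c (hi : 0 < i.val) (j : Fin n) :
    j ∈ (Fin.cycleRange i).support ↔ j.val ≤ i.val := by
  rw [Perm.mem_support]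
  constructor
  · intro h
    by_contra hlt
    exact h (c_gt i j (by omega))
  · intro h hj
    rcases Nat.lt_or_ge j.val i.val with h1 | h1
    · have := c_lt i j h1
      rw [hj] at this
      omega
    · have hji : j = i := Fin.ext (by omega)
      subst hji
      have := c_eq j
      rw [hj] at this
      omega

theorem commute_c_mem_stab (hi : 0 < i.val) (x : Perm (Fin n))
    (hx : x * Fin.cycleRange i = Fin.cycleRange i * x) : x ∈ stab i := by
  intro j
  have := mem_support_iff_of_commute (g := x) (c := Fin.cycleRange i) hx j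
  rw [mem_support_c i hi, mem_support_c i hi] at this
  exact this

theorem orderOf_c [NeZero n] (hi : 0 < i.val) : orderOf (Fin.cycleRange i) = i.val + 1 := by
  have h0 : i ≠ 0 := by
    intro h
    rw [h] at hi
    simp at hi
  rw [← Perm.lcm_cycleType, Fin.cycleType_cycleRange h0, Multiset.lcm_singleton]
  simp

end main

end Cfsg.Agent.Lib.Helper14.NilCover
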