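import Mathlib
import Cfsg.Agent.Lib.Helper14.NilCoverB

/-!
# Nilpotent minimal covers of symmetric and alternating groups, part C (helper14)
-/

set_option autoImplicit false
set_option maxHeartbeats 1000000
set_option maxRecDepth 100000

namespace Cfsg.Agent.Lib.Helper14.NilCover

open Equiv Equiv.Perm

section main2

variable {n : ℕ}

/-- the data of the main case -/
theorem main_data [NeZero n] (i : Fin n) (hi4 : 4 ≤ i.val) (hin : i.val + 1 < n) :
    ∃ (c c' g : Perm (Fin n)), orderOf c = i.val + 1 ∧ orderOf c' = i.val + 1 ∧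
      c * c' ≠ c' * c ∧ (∀ x, x * c = c * x → x ∈ stab i) ∧
      (∀ x, x * c' = c' * x → x ∈ stab i) ∧ g ∉ stab i ∧ Perm.sign g = 1 ∧
      Perm.sign c = (-1) ^ i.val ∧ Perm.sign c' = (-1) ^ i.val := by
  obtain ⟨e0, he0⟩ : ∃ e : Fin n, e.val = 0 := ⟨⟨0, by omega⟩, rfl⟩
  obtain ⟨e1, he1⟩ : ∃ e : Fin n, e.val = 1 := ⟨⟨1, by omega⟩, rfl⟩
  obtain ⟨e2, he2⟩ : ∃ e : Fin n, e.val = 2 := ⟨⟨2, by omega⟩, rfl⟩
  obtain ⟨e3, he3⟩ : ∃ e : Fin n, e.val = 3 := ⟨⟨3, by omega⟩, rfl⟩
  obtain ⟨eN, heN⟩ : ∃ e : Fin n, e.val = i.val + 1 := ⟨⟨i.val + 1, hin⟩, rfl⟩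
  set c : Perm (Fin n) := Fin.cycleRange i with hc
  set τ : Perm (Fin n) := swap e0 e1 with hτ
  set c' : Perm (Fin n) := τ * c * τ⁻¹ with hc'
  set g : Perm (Fin n) := swap e0 eN * swap e1 e2 with hg
  have h01 : e0 ≠ e1 := by intro h; rw [h] at he0; omega
  have h02 : e0 ≠ e2 := by intro h; rw [h] at he0; omega
  have h12 : e1 ≠ e2 := by intro h; rw [h] at he1; omega
  have h03 : e0 ≠ e3 := by intro h; rw [h] at he0; omega
  have h0N : e0 ≠ eN := by intro h; rw [h] at he0; omega
  have hc01 : c e0 = e1 := Fin.ext (by rw [hc, c_lt i e0 (by omega), he0, he1])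
  have hc12 : c e1 = e2 := Fin.ext (by rw [hc, c_lt i e1 (by omega), he1, he2])
  have hc23 : c e2 = e3 := Fin.ext (by rw [hc, c_lt i e2 (by omega), he2, he3])
  have hτ0 : τ e0 = e1 := swap_apply_left _ _
  have hτ1 : τ e1 = e0 := swap_apply_right _ _
  have hτ2 : τ e2 = e2 := swap_apply_of_ne_of_ne h02.symm h12.symm
  have hτinv : τ⁻¹ = τ := swap_inv _ _
  have hτmem : τ ∈ stab i := by
    intro j
    rw [hτ, swap_apply_def]
    split_ifs with h1 h2
    · subst h1; constructor <;> intro _ <;> omega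
    · subst h2; constructor <;> intro _ <;> omega
    · rfl
  have hcord : orderOf c = i.val + 1 := orderOf_c i (by omega)
  have hc'ord : orderOf c' = i.val + 1 := by
    rw [← hcord]
    exact orderOf_injective (MulAut.conj τ).toMonoidHom (MulAut.conj τ).injective c
  refine ⟨c, c', g, hcord, hc'ord, ?_, ?_, ?_, ?_, ?_, ?_, ?_⟩
  · intro h
    have h1 : (c * c') e0 = e3 := by
      rw [hc', hτinv]
      simp only [Perm.mul_apply]
      rw [hτ0, hc12, hτ2, hc23]
    have h2 : (c' * c) e0 = e0 := by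
      rw [hc', hτinv]
      simp only [Perm.mul_apply]
      rw [hc01, hτ1, hc01, hτ1]
    rw [h, h2] at h1
    exact h03 h1
  · intro x hx
    exact commute_c_mem_stab i (by omega) x hx
  · intro x hx
    have hy : (τ⁻¹ * x * τ) * c = c * (τ⁻¹ * x * τ) := by
      calc (τ⁻¹ * x * τ) * c = τ⁻¹ * (x * (τ * c * τ⁻¹)) * τ := by group
        _ = τ⁻¹ * ((τ * c * τ⁻¹) * x) * τ := by rw [← hc', hx]
        _ = c * (τ⁻¹ * x * τ) := by group
    have hmem := commute_c_mem_stab i (by omega) _ hy
    have : x = τ * (τ⁻¹ * x * τ) * τ⁻¹ := by group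
    rw [this]
    exact (stab i).mul_mem ((stab i).mul_mem hτmem hmem) ((stab i).inv_mem hτmem)
  · intro h
    have h1 := (mem_stab i g).mp h e0
    have h2 : g e0 = eN := by
      rw [hg, Perm.mul_apply, swap_apply_of_ne_of_ne h01 h02, swap_apply_left]
    rw [h2] at h1
    have := h1.mpr (by omega)
    omega
  · rw [hg, Perm.sign_mul, Perm.sign_swap h0N, Perm.sign_swap h12]
    rfl
  · rw [hc, Fin.sign_cycleRange]
  · rw [hc', Perm.sign_mul, Perm.sign_mul, Perm.sign_inv, hc, Fin.sign_cycleRange, mul_comm,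
      ← mul_assoc, Int.units_mul_self, one_mul]

theorem stab_ne_top_of {i : Fin n} {g : Perm (Fin n)} (hg : g ∉ stab i) : stab i ≠ ⊤ := by
  intro h
  apply hg
  rw [h]
  trivial

theorem main_perm [NeZero n] (i : Fin n) (hi4 : 4 ≤ i.val) (hin : i.val + 1 < n)
    (hp : (i.val + 1).Prime) (hn2 : n < 2 * (i.val + 1)) : ¬ HasNilMinCover (Perm (Fin n)) := by
  obtain ⟨c, c', g, hc, hc', hcc', h1, h2, hg, -, -, -⟩ := main_data i hi4 hin
  exact no_cover_perm hp hin.le hn2 c c' hc hc' hcc' (stab i) (stab_ne_top_of hg) h1 h2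

theorem main_alt [NeZero n] (i : Fin n) (hi4 : 4 ≤ i.val) (hin : i.val + 1 < n)
    (hp : (i.val + 1).Prime) (hn2 : n < 2 * (i.val + 1)) (hev : Even i.val) :
    ¬ HasNilMinCover ↥(alternatingGroup (Fin n)) := by
  obtain ⟨c, c', g, hc, hc', hcc', h1, h2, hg, hgs, hcs, hc's⟩ := main_data i hi4 hin
  rw [hev.neg_one_pow] at hcs hc's
  exact no_cover_alt hp hin.le hn2 c c' (Perm.mem_alternatingGroup.mpr hcs)
    (Perm.mem_alternatingGroup.mpr hc's) hc hc' hcc' (stab i)
    ⟨g, Perm.mem_alternatingGroup.mpr hgs, hg⟩ (fun x _ hx => h1 x hx) (fun x _ hx => h2 x hx)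

theorem exists_prime (hn : 6 ≤ n) : ∃ p, p.Prime ∧ 5 ≤ p ∧ p < n ∧ n < 2 * p := by
  obtain ⟨p, hp, h1, h2⟩ := Nat.exists_prime_lt_and_le_two_mul (n / 2) (by omega)
  refine ⟨p, hp, ?_, ?_, by omega⟩
  · have h4 : 4 ≤ p := by omega
    rcases Nat.lt_or_ge 4 p with h | h
    · exact h
    · have : p = 4 := by omega
      rw [this] at hp
      norm_num at hp
  · rcases Nat.lt_or_ge p n with h | h
    · exact h
    · exfalso
      have hpn : p = n := by omega
      have h2n : 2 ∣ p := ⟨n / 2, by omega⟩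
      rcases (Nat.dvd_prime hp).mp h2n with h | h <;> omega

theorem large_perm (hn : 6 ≤ n) : ¬ HasNilMinCover (Perm (Fin n)) := by
  obtain ⟨p, hp, h5, hpn, hnp⟩ := exists_prime hn
  haveI : NeZero n := ⟨by omega⟩
  have e : (p - 1) + 1 = p := by omega
  exact main_perm (⟨p - 1, by omega⟩ : Fin n) (by simp; omega) (by simp; omega)
    (by simpa [e] using hp) (by simp [e]; omega)

theorem large_alt (hn : 6 ≤ n) : ¬ HasNilMinCover ↥(alternatingGroup (Fin n)) := by
  obtain ⟨p, hp, h5, hpn, hnp⟩ := exists_prime hn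
  haveI : NeZero n := ⟨by omega⟩
  have e : (p - 1) + 1 = p := by omega
  have hodd : Odd p := hp.odd_of_ne_two (by omega)
  exact main_alt (⟨p - 1, by omega⟩ : Fin n) (by simp; omega) (by simp; omega)
    (by simpa [e] using hp) (by simp [e]; omega) (by simpa using Nat.Odd.sub_odd hodd odd_one)

end main2

section small

def c4 : Perm (Fin 4) := swap 0 1 * swap 1 2
def c4' : Perm (Fin 4) := swap 0 1 * swap 1 3

theorem perm_four : ¬ HasNilMinCover (Perm (Fin 4)) := by
  apply no_cover_perm (p := 3) (by norm_num) (by norm_num) (by norm_num) c4 c4'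
    (orderOf_eq_prime (by decide) (by decide)) (orderOf_eq_prime (by decide) (by decide))
    (by decide) (alternatingGroup (Fin 4))
  · intro h
    have : swap (0 : Fin 4) 1 ∈ alternatingGroup (Fin 4) := by rw [h]; trivial
    rw [Perm.mem_alternatingGroup] at this
    revert this
    decide
  · intro x hx
    rw [Perm.mem_alternatingGroup]
    revert x
    decide
  · intro x hx
    rw [Perm.mem_alternatingGroup]
    revert x
    decide

def c5 : Perm (Fin 5) := swap 0 1 * swap 1 2 * swap 2 3 * swap 3 4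
def c5' : Perm (Fin 5) := swap 0 1 * c5 * swap 0 1

theorem perm_five : ¬ HasNilMinCover (Perm (Fin 5)) := by
  haveI : Fact (Nat.Prime 5) := ⟨by norm_num⟩
  apply no_cover_perm (p := 5) (by norm_num) (by norm_num) (by norm_num) c5 c5'
    (orderOf_eq_prime (by decide) (by decide)) (orderOf_eq_prime (by decide) (by decide))
    (by decide) (alternatingGroup (Fin 5))
  · intro h
    have : swap (0 : Fin 5) 1 ∈ alternatingGroup (Fin 5) := by rw [h]; trivial
    rw [Perm.mem_alternatingGroup] at this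
    revert this
    decide
  · intro x hx
    rw [Perm.mem_alternatingGroup]
    revert x
    decide
  · intro x hx
    rw [Perm.mem_alternatingGroup]
    revert x
    decide

def d5 : Perm (Fin 5) := swap 0 1 * swap 1 2
def d5' : Perm (Fin 5) := swap 0 1 * swap 1 3
def g5 : Perm (Fin 5) := swap 0 1 * swap 3 4

theorem alt_five : ¬ HasNilMinCover ↥(alternatingGroup (Fin 5)) := by
  apply no_cover_alt (p := 3) (by norm_num) (by norm_num) (by norm_num) d5 d5'
    (Perm.mem_alternatingGroup.mpr (by decide)) (Perm.mem_alternatingGroup.mpr (by decide))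
    (orderOf_eq_prime (by decide) (by decide)) (orderOf_eq_prime (by decide) (by decide))
    (by decide) (stab (3 : Fin 5))
  · refine ⟨g5, Perm.mem_alternatingGroup.mpr (by decide), ?_⟩
    rw [mem_stab]
    decide
  · intro x hx
    rw [Perm.mem_alternatingGroup] at hx
    rw [mem_stab]
    revert x
    decide
  · intro x hx
    rw [Perm.mem_alternatingGroup] at hx
    rw [mem_stab]
    revert x
    decide

end small

end Cfsg.Agent.Lib.Helper14.NilCover
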