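import Mathlib
import Cfsg.Agent.Lib.Helper14.DkSub4

/-!
# `Out(PSL₂(q))`, part A: matrix identities (helper14)
-/

set_option autoImplicit false
set_option maxHeartbeats 1000000

namespace Cfsg.Agent.Lib.Helper14.OutL2

open Subgroup
open Cfsg.Agent.Lib.Helper12 Cfsg.Agent.Lib.Helper12.SL2 Cfsg.Agent.S0805 Cfsg.Agent.S0807
open Cfsg.Agent.Lib.Helper1.DkOrders Cfsg.Agent.Lib.Helper14.DkSub

local notation "SL2" => Matrix.SpecialLinearGroup (Fin 2)
local notation "PSL2" => Matrix.ProjectiveSpecialLinearGroup (Fin 2)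

variable {F : Type*} [Field F]

theorem up_add (s t : F) : up (s + t) = up s * up t := by
  apply SL2.ext4 <;> simp [SL2.mul_apply', up, add_comm]

theorem lo_add (s t : F) : lo (s + t) = lo s * lo t := by
  apply SL2.ext4 <;> simp [SL2.mul_apply', lo]

theorem up_zero : up (0 : F) = 1 := by
  apply SL2.ext4 <;> simp [up]

theorem lo_zero : lo (0 : F) = 1 := by
  apply SL2.ext4 <;> simp [lo]

theorem up_inv (t : F) : (up t)⁻¹ = up (-t) := by
  rw [inv_eq_iff_mul_eq_one, ← up_add, add_neg_cancel, up_zero]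

theorem lo_inv (t : F) : (lo t)⁻¹ = lo (-t) := by
  rw [inv_eq_iff_mul_eq_one, ← lo_add, add_neg_cancel, lo_zero]

/-- image of the upper unitriangular matrix in `PSL₂` -/
noncomputable def ub (t : F) : PSL2 F := mkH (up t)

/-- image of the lower unitriangular matrix in `PSL₂` -/
noncomputable def lb (t : F) : PSL2 F := mkH (lo t)

theorem ub_add (s t : F) : ub (s + t) = ub s * ub t := by
  unfold ub; rw [up_add, map_mul]

theorem lb_add (s t : F) : lb (s + t) = lb s * lb t := by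
  unfold lb; rw [lo_add, map_mul]

theorem ub_zero : ub (0 : F) = 1 := by unfold ub; rw [up_zero, map_one]

theorem lb_zero : lb (0 : F) = 1 := by unfold lb; rw [lo_zero, map_one]

theorem ub_inv (t : F) : (ub t)⁻¹ = ub (-t) := by
  unfold ub; rw [← map_inv, up_inv]

theorem lb_inv (t : F) : (lb t)⁻¹ = lb (-t) := by
  unfold lb; rw [← map_inv, lo_inv]

theorem ub_injective : Function.Injective (ub : F → PSL2 F) := by
  intro s t h
  unfold ub at h
  rw [DkSub.mkH_eq_iff] at h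
  obtain ⟨c, -, h⟩ := h
  have h00 := h 0 0
  have h01 := h 0 1
  simp only [up, SL2.mk_00, SL2.mk_01] at h00 h01
  rw [mul_one] at h00
  rw [← h00, one_mul] at h01
  exact h01.symm

theorem lb_injective : Function.Injective (lb : F → PSL2 F) := by
  intro s t h
  unfold lb at h
  rw [DkSub.mkH_eq_iff] at h
  obtain ⟨c, -, h⟩ := h
  have h00 := h 0 0
  have h10 := h 1 0
  simp only [lo, SL2.mk_00, SL2.mk_10] at h00 h10
  rw [mul_one] at h00
  rw [← h00, one_mul] at h10
  exact h10.symm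

theorem mem_UppP_iff (x : PSL2 F) : x ∈ UppP F ↔ ∃ t : F, x = ub t := by
  constructor
  · rintro ⟨g, ⟨g00, g10, g11⟩, rfl⟩
    refine ⟨g 0 1, ?_⟩
    unfold ub
    congr 1
    apply SL2.ext4 <;> simp [up, g00, g10, g11]
  · rintro ⟨t, rfl⟩
    exact ⟨up t, up_mem_Upp t, rfl⟩

theorem ub_mem (t : F) : ub t ∈ UppP F := (mem_UppP_iff _).mpr ⟨t, rfl⟩

/-- the image of the lower unitriangular group -/
noncomputable def LowP (F : Type*) [Field F] : Subgroup (PSL2 F) where
  carrier := {x | ∃ t : F, x = lb t}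
  one_mem' := ⟨0, lb_zero.symm⟩
  mul_mem' := by
    rintro _ _ ⟨s, rfl⟩ ⟨t, rfl⟩
    exact ⟨s + t, (lb_add s t).symm⟩
  inv_mem' := by
    rintro _ ⟨s, rfl⟩
    exact ⟨-s, lb_inv s⟩

theorem mem_LowP_iff (x : PSL2 F) : x ∈ LowP F ↔ ∃ t : F, x = lb t := Iff.rfl

theorem lb_mem (t : F) : lb t ∈ LowP F := ⟨t, rfl⟩

/-- conjugating an upper unipotent by a matrix with nonzero lower left entry -/
theorem conj_up_of_ne (g : SL2 F) (hc : g 1 0 ≠ 0) (t : F) :
    g * up t * g⁻¹ =
      up (g 0 0 / g 1 0) * lo (-(g 1 0) ^ 2 * t) * (up (g 0 0 / g 1 0))⁻¹ := by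
  have hd := SL2.det_eq g
  rw [up_inv]
  apply SL2.ext4
  · simp only [SL2.mul_apply', inv_00, inv_01, inv_10, inv_11, up, lo, SL2.mk_00, SL2.mk_01,
      SL2.mk_10, SL2.mk_11]
    field_simp
    linear_combination (g 1 0) * hd
  · simp only [SL2.mul_apply', inv_00, inv_01, inv_10, inv_11, up, lo, SL2.mk_00, SL2.mk_01,
      SL2.mk_10, SL2.mk_11]
    field_simp
    ring
  · simp only [SL2.mul_apply', inv_00, inv_01, inv_10, inv_11, up, lo, SL2.mk_00, SL2.mk_01,
      SL2.mk_10, SL2.mk_11]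
    ring
  · simp only [SL2.mul_apply', inv_00, inv_01, inv_10, inv_11, up, lo, SL2.mk_00, SL2.mk_01,
      SL2.mk_10, SL2.mk_11]
    field_simp
    linear_combination (g 1 0) * hd

/-- conjugating an upper unipotent by an upper triangular matrix -/
theorem conj_up_of_eq (g : SL2 F) (hc : g 1 0 = 0) (t : F) :
    g * up t * g⁻¹ = up ((g 0 0) ^ 2 * t) := by
  have hd := SL2.det_eq g
  rw [hc, mul_zero, sub_zero] at hd
  apply SL2.ext4
  · simp only [SL2.mul_apply', inv_00, inv_01, inv_10, inv_11, up, SL2.mk_00, SL2.mk_01,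
      SL2.mk_10, SL2.mk_11, hc]
    linear_combination hd
  · simp only [SL2.mul_apply', inv_00, inv_01, inv_10, inv_11, up, SL2.mk_00, SL2.mk_01,
      SL2.mk_10, SL2.mk_11, hc]
    ring
  · simp only [SL2.mul_apply', inv_00, inv_01, inv_10, inv_11, up, SL2.mk_00, SL2.mk_01,
      SL2.mk_10, SL2.mk_11, hc]
    ring
  · simp only [SL2.mul_apply', inv_00, inv_01, inv_10, inv_11, up, SL2.mk_00, SL2.mk_01,
      SL2.mk_10, SL2.mk_11, hc]
    linear_combination hd

theorem conj_ub_of_ne (g : SL2 F) (hc : g 1 0 ≠ 0) (t : F) :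
    mkH g * ub t * (mkH g)⁻¹ =
      ub (g 0 0 / g 1 0) * lb (-(g 1 0) ^ 2 * t) * (ub (g 0 0 / g 1 0))⁻¹ := by
  unfold ub lb
  rw [← map_inv, ← map_mul, ← map_mul, conj_up_of_ne g hc t, map_mul, map_mul, map_inv]

theorem conj_ub_of_eq (g : SL2 F) (hc : g 1 0 = 0) (t : F) :
    mkH g * ub t * (mkH g)⁻¹ = ub ((g 0 0) ^ 2 * t) := by
  unfold ub
  rw [← map_inv, ← map_mul, ← map_mul, conj_up_of_eq g hc t]

/-- the relation between the two unipotent groups -/
theorem conj_lb_ub (s : F) (hs : s ≠ 0) (t : F) :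
    lb s * ub t * (lb s)⁻¹ = ub (1 / s) * lb (-s ^ 2 * t) * (ub (1 / s))⁻¹ := by
  have := conj_ub_of_ne (lo s) (by simpa [lo] using hs) t
  simpa [lb, lo] using this

/-- two conjugates of lower unipotent elements by upper unipotents -/
theorem ub_lb_conj_inj (x₁ x₂ r₁ r₂ : F) (hr : r₁ ≠ 0)
    (h : ub x₁ * lb r₁ * (ub x₁)⁻¹ = ub x₂ * lb r₂ * (ub x₂)⁻¹) : x₁ = x₂ := by
  rw [ub_inv, ub_inv] at h
  unfold ub lb at h
  rw [← map_mul, ← map_mul, ← map_mul, ← map_mul, DkSub.mkH_eq_iff] at h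
  obtain ⟨c, hc, h⟩ := h
  have hc0 : c ≠ 0 := by
    rintro rfl
    simp at hc
  have h00 := h 0 0
  have h01 := h 0 1
  have h10 := h 1 0
  have h11 := h 1 1
  simp only [SL2.mul_apply', up, lo, SL2.mk_00, SL2.mk_01, SL2.mk_10, SL2.mk_11] at h00 h01 h10 h11
  have e1 : r₂ = c * r₁ := by linear_combination h10
  by_contra hne
  have hd : x₁ - x₂ ≠ 0 := sub_ne_zero.mpr hne
  have e4 : (2 : F) * (c * r₁ * (x₁ - x₂)) = 0 := by
    rw [e1] at h00 h11
    linear_combination h11 - h00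
  have h2 : (2 : F) = 0 := by
    rcases mul_eq_zero.mp e4 with h | h
    · exact h
    · exact absurd h (mul_ne_zero (mul_ne_zero hc0 hr) hd)
  have e5 : c * r₁ * ((x₁ - x₂) * (x₁ + x₂)) = 0 := by
    rw [e1] at h01
    linear_combination h01
  have e6 : x₁ + x₂ = 0 := by
    rcases mul_eq_zero.mp e5 with h | h
    · exact absurd h (mul_ne_zero hc0 hr)
    · rcases mul_eq_zero.mp h with h | h
      · exact absurd h hd
      · exact h
  apply hd
  linear_combination e6 - x₂ * h2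

end Cfsg.Agent.Lib.Helper14.OutL2
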