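import Mathlib
import Cfsg.Agent.Lib.Helper14.OutL2a

/-!
# `Out(PSL₂(q))`, part B: every automorphism is semilinear on the unipotent subgroup (helper14)
-/

set_option autoImplicit false
set_option maxHeartbeats 1000000

namespace Cfsg.Agent.Lib.Helper14.OutL2

open Subgroup
open scoped Pointwise
open Cfsg.Agent.Lib.Helper12 Cfsg.Agent.Lib.Helper12.SL2 Cfsg.Agent.S0805 Cfsg.Agent.S0807
open Cfsg.Agent.Lib.Helper1.DkOrders Cfsg.Agent.Lib.Helper14.DkSub

local notation "SL2" => Matrix.SpecialLinearGroup (Fin 2)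
local notation "PSL2" => Matrix.ProjectiveSpecialLinearGroup (Fin 2)

theorem mem_normalizer_of_conj_mem {G : Type*} [Group G] [Finite G] (S : Subgroup G) (a : G)
    (h : ∀ s ∈ S, a * s * a⁻¹ ∈ S) : a ∈ normalizer (S : Set G) := by
  have hle : S.map (MulAut.conj a).toMonoidHom ≤ S := by
    rintro _ ⟨s, hs, rfl⟩
    exact h s hs
  have hcard : Nat.card (S.map (MulAut.conj a).toMonoidHom) = Nat.card S :=
    Subgroup.card_map_of_injective (MulAut.conj a).injective
  have heq : S.map (MulAut.conj a).toMonoidHom = S := Subgroup.eq_of_le_of_card_ge hle hcard.ge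
  rw [mem_normalizer_iff]
  intro s
  constructor
  · exact h s
  · intro hs
    rw [← heq] at hs
    obtain ⟨t, ht, hts⟩ := hs
    have : t = s := by
      have h1 : a * t * a⁻¹ = a * s * a⁻¹ := hts
      exact mul_left_cancel (mul_right_cancel h1)
    rwa [← this]

section field

variable {F : Type*} [Field F]

/-- a semilinear-on-squares additive bijection is a scalar times a field automorphism -/
theorem exists_ringEquiv_of_semilinear [Finite F] (f : F → F)
    (hadd : ∀ s t, f (s + t) = f s + f t) (hbij : Function.Bijective f)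
    (hsq : ∀ a t : F, f (a ^ 2 * t) * f 1 = f (a ^ 2) * f t) :
    ∃ (c : F) (τ : F ≃+* F), c ≠ 0 ∧ ∀ t, f t = c * τ t := by
  have h0 : f 0 = 0 := by
    have := hadd 0 0
    rw [add_zero] at this
    linear_combination -this
  have hc : f 1 ≠ 0 := by
    intro h
    rw [← h0] at h
    exact one_ne_zero (hbij.1 h)
  set c := f 1 with hcdef
  set g : F → F := fun t => f t / c with hg
  have g1 : g 1 = 1 := by simp only [hg]; rw [← hcdef]; exact div_self hc
  have gadd : ∀ s t, g (s + t) = g s + g t := by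
    intro s t
    simp only [hg]
    rw [hadd, add_div]
  have g0 : g 0 = 0 := by simp only [hg]; rw [h0, zero_div]
  have gneg : ∀ t, g (-t) = -g t := by
    intro t
    have := gadd t (-t)
    rw [add_neg_cancel, g0] at this
    linear_combination -this
  have gsub : ∀ s t, g (s - t) = g s - g t := by
    intro s t
    rw [sub_eq_add_neg, gadd, gneg, sub_eq_add_neg]
  have gsq : ∀ a t : F, g (a ^ 2 * t) = g (a ^ 2) * g t := by
    intro a t
    simp only [hg]
    have := hsq a t
    field_simp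
    linear_combination this
  have gmul : ∀ x t : F, g (x * t) = g x * g t := by
    intro x t
    by_cases h2 : (2 : F) = 0
    · haveI : CharP F 2 := CharTwo.of_one_ne_zero_of_two_eq_zero one_ne_zero h2
      haveI : Fintype F := Fintype.ofFinite F
      have hch : ringChar F = 2 := ringChar.eq F 2
      obtain ⟨r, hr⟩ := FiniteField.isSquare_of_char_two hch x
      rw [hr, ← pow_two]
      exact gsq r t
    · have hx : x = ((x + 1) / 2) ^ 2 - ((x - 1) / 2) ^ 2 := by
        field_simp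
        ring
      have e1 : x * t = ((x + 1) / 2) ^ 2 * t - ((x - 1) / 2) ^ 2 * t := by
        rw [← sub_mul, ← hx]
      rw [e1, gsub, gsq, gsq, ← sub_mul, ← gsub, ← hx]
  have gbij : Function.Bijective g := by
    constructor
    · intro s t h
      simp only [hg] at h
      apply hbij.1
      field_simp at h
      exact h
    · intro y
      obtain ⟨x, hx⟩ := hbij.2 (y * c)
      refine ⟨x, ?_⟩
      simp only [hg]
      rw [hx]
      field_simp
  let gh : F →+* F :=
    { toFun := g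
      map_one' := g1
      map_mul' := gmul
      map_zero' := g0
      map_add' := gadd }
  refine ⟨c, RingEquiv.ofBijective gh gbij, hc, fun t => ?_⟩
  show f t = c * g t
  simp only [hg]
  field_simp

end field

section main

variable {F : Type*} [Field F] [Fintype F]

/-- elements of `N(U)` act on `U` by multiplication by a nonzero square -/
theorem conj_ub_of_mem_normalizer (x : PSL2 F)
    (hx : x ∈ normalizer ((UppP F : Subgroup (PSL2 F)) : Set (PSL2 F))) :
    ∃ a : F, a ≠ 0 ∧ ∀ t, x * ub t * x⁻¹ = ub (a ^ 2 * t) := by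
  obtain ⟨g, hg, rfl⟩ := normalizer_UppP_le hx
  have hg' : g 1 0 = 0 := hg
  refine ⟨g 0 0, ?_, fun t => conj_ub_of_eq g hg' t⟩
  have hd := SL2.det_eq g
  rw [hg', mul_zero, sub_zero] at hd
  exact left_ne_zero_of_mul_eq_one hd

theorem key_normalizer (z : PSL2 F) (φ ψ : F → F) (hφ : Function.Surjective φ)
    (h : ∀ t, z * ub (φ t) * z⁻¹ = ub (ψ t)) :
    ∃ a : F, a ≠ 0 ∧ ∀ t, ψ t = a ^ 2 * φ t := by
  have hz : z ∈ normalizer ((UppP F : Subgroup (PSL2 F)) : Set (PSL2 F)) := by
    apply mem_normalizer_of_conj_mem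
    intro s hs
    obtain ⟨u, rfl⟩ := (mem_UppP_iff s).mp hs
    obtain ⟨t, rfl⟩ := hφ u
    rw [h t]
    exact ub_mem _
  obtain ⟨a, ha, hconj⟩ := conj_ub_of_mem_normalizer z hz
  refine ⟨a, ha, fun t => ?_⟩
  apply ub_injective
  rw [← h t, hconj]

/-- the diagonal element -/
noncomputable def hd (a : F) (ha : a ≠ 0) : PSL2 F :=
  mkH (SL2.mk a 0 0 a⁻¹ (by rw [mul_inv_cancel₀ ha]; ring))

theorem hd_conj (a : F) (ha : a ≠ 0) (t : F) :
    hd a ha * ub t * (hd a ha)⁻¹ = ub (a ^ 2 * t) := by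
  unfold hd
  rw [conj_ub_of_eq _ (by simp)]
  simp

theorem exists_conj_image (p : ℕ) [Fact p.Prime] [CharP F p] (α : PSL2 F ≃* PSL2 F) :
    ∃ y : PSL2 F, ∀ t : F, ∃ s : F, α (ub t) = y * ub s * y⁻¹ := by
  have hpg : IsPGroup p ((UppP F).map α.toMonoidHom) := (isPGroup_UppP p).map _
  obtain ⟨Q, hQ⟩ := hpg.exists_le_sylow
  obtain ⟨g, hg⟩ := MulAction.exists_smul_eq (PSL2 F) (sylUppP (F := F) p) Q
  have hP : (Q : Subgroup (PSL2 F)) = MulAut.conj g • UppP F := by
    rw [← hg, Sylow.coe_subgroup_smul, coe_sylUppP]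
  refine ⟨g, fun t => ?_⟩
  have h1 : α (ub t) ∈ (Q : Subgroup (PSL2 F)) := hQ ⟨ub t, ub_mem t, rfl⟩
  rw [hP, mem_conj_smul_iff, mem_UppP_iff] at h1
  obtain ⟨s, hs⟩ := h1
  refine ⟨s, ?_⟩
  rw [← hs]; group

/-- `α` acts on `U` as `t ↦ c τ(t)` up to conjugation -/
def IsSemi (α : PSL2 F ≃* PSL2 F) (τ : F ≃+* F) : Prop :=
  ∃ (y : PSL2 F) (c : F), c ≠ 0 ∧ ∀ t, α (ub t) = y * ub (c * τ t) * y⁻¹

theorem exists_isSemi (p : ℕ) [Fact p.Prime] [CharP F p] (α : PSL2 F ≃* PSL2 F) :
    ∃ τ : F ≃+* F, IsSemi α τ := by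
  obtain ⟨y, hy⟩ := exists_conj_image p α
  choose f hf using hy
  have hconj : ∀ s t : F, y * ub s * y⁻¹ = y * ub t * y⁻¹ → s = t := by
    intro s t h
    exact ub_injective (mul_left_cancel (mul_right_cancel h))
  have hadd : ∀ s t, f (s + t) = f s + f t := by
    intro s t
    apply hconj
    rw [← hf, ub_add, map_mul, hf, hf, ub_add]
    group
  have hinj : Function.Injective f := by
    intro s t h
    have : α (ub s) = α (ub t) := by rw [hf, hf, h]
    exact ub_injective (α.injective this)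
  have hbij : Function.Bijective f := Finite.injective_iff_bijective.mp hinj
  have hsq : ∀ a t : F, f (a ^ 2 * t) * f 1 = f (a ^ 2) * f t := by
    intro a t
    by_cases ha : a = 0
    · subst ha
      have h0 : f 0 = 0 := by
        have := hadd 0 0
        rw [add_zero] at this
        linear_combination -this
      simp [h0]
    · set z := y⁻¹ * α (hd a ha) * y with hz
      have hkey : ∀ t, z * ub (f t) * z⁻¹ = ub (f (a ^ 2 * t)) := by
        intro t
        have h1 : α (hd a ha * ub t * (hd a ha)⁻¹) = α (ub (a ^ 2 * t)) := by rw [hd_conj]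
        rw [map_mul, map_mul, map_inv, hf, hf] at h1
        rw [hz]
        have h2 : y⁻¹ * α (hd a ha) * y * ub (f t) * (y⁻¹ * α (hd a ha) * y)⁻¹ =
            y⁻¹ * (α (hd a ha) * (y * ub (f t) * y⁻¹) * (α (hd a ha))⁻¹) * y := by group
        rw [h2, h1]
        group
      obtain ⟨a', ha', hq⟩ := key_normalizer z f (fun t => f (a ^ 2 * t)) hbij.2 hkey
      have e1 := hq 1
      have e2 := hq t
      simp only [mul_one] at e1
      rw [e1, e2]
      ring
  obtain ⟨c, τ, hc, hτ⟩ := exists_ringEquiv_of_semilinear f hadd hbij hsq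
  exact ⟨τ, y, c, hc, fun t => by rw [hf, hτ]⟩

omit [Fintype F] in
theorem isSemi_congr {α : PSL2 F ≃* PSL2 F} {τ τ' : F ≃+* F} (h : τ = τ') (hs : IsSemi α τ) :
    IsSemi α τ' := h ▸ hs

theorem isSemi_unique {α : PSL2 F ≃* PSL2 F} {τ τ' : F ≃+* F} {y y' : PSL2 F} {c c' : F}
    (hc : c ≠ 0) (hc' : c' ≠ 0)
    (h : ∀ t, α (ub t) = y * ub (c * τ t) * y⁻¹)
    (h' : ∀ t, α (ub t) = y' * ub (c' * τ' t) * y'⁻¹) :
    τ = τ' ∧ ∃ a : F, a ≠ 0 ∧ c' = a ^ 2 * c := by
  set z := y'⁻¹ * y with hz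
  have hkey : ∀ t, z * ub (c * τ t) * z⁻¹ = ub (c' * τ' t) := by
    intro t
    have h1 : y * ub (c * τ t) * y⁻¹ = y' * ub (c' * τ' t) * y'⁻¹ := by rw [← h, ← h']
    rw [hz]
    have h2 : y'⁻¹ * y * ub (c * τ t) * (y'⁻¹ * y)⁻¹ = y'⁻¹ * (y * ub (c * τ t) * y⁻¹) * y' := by
      group
    rw [h2, h1]
    group
  have hsurj : Function.Surjective (fun t => c * τ t) := by
    intro u
    refine ⟨τ.symm (u / c), ?_⟩
    simp only [RingEquiv.apply_symm_apply]
    field_simp
  obtain ⟨a, ha, hq⟩ := key_normalizer z (fun t => c * τ t) (fun t => c' * τ' t) hsurj hkey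
  have e1 := hq 1
  simp only [map_one, mul_one] at e1
  refine ⟨?_, a, ha, e1⟩
  ext t
  have e2 : c' * τ' t = a ^ 2 * (c * τ t) := hq t
  rw [e1] at e2
  have : a ^ 2 * c ≠ 0 := by rw [← e1]; exact hc'
  have e3 : a ^ 2 * c * τ' t = a ^ 2 * c * τ t := by linear_combination e2
  exact (mul_left_cancel₀ this e3).symm

theorem isSemi_unique' {α : PSL2 F ≃* PSL2 F} {τ τ' : F ≃+* F} (h : IsSemi α τ)
    (h' : IsSemi α τ') : τ = τ' := by
  obtain ⟨y, c, hc, h⟩ := h
  obtain ⟨y', c', hc', h'⟩ := h'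
  exact (isSemi_unique hc hc' h h').1

omit [Fintype F] in
theorem isSemi_mul {α β : MulAut (PSL2 F)} {τ τ' : RingAut F} (h : IsSemi α τ)
    (h' : IsSemi β τ') : IsSemi (α * β) (τ * τ') := by
  obtain ⟨y, c, hc, h⟩ := h
  obtain ⟨y', c', hc', h'⟩ := h'
  refine ⟨α y' * y, c * τ c', mul_ne_zero hc ((map_ne_zero τ).mpr hc'), fun t => ?_⟩
  rw [MulAut.mul_apply, h', map_mul, map_mul, map_inv, h]
  have : c * τ (c' * τ' t) = c * τ c' * (τ * τ') t := by
    rw [map_mul, RingAut.mul_apply, mul_assoc]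
  rw [this]
  group

omit [Fintype F] in
theorem isSemi_conj (g : PSL2 F) : IsSemi (MulAut.conj g) (1 : RingAut F) := by
  refine ⟨g, 1, one_ne_zero, fun t => ?_⟩
  rw [MulAut.conj_apply, RingAut.one_apply, one_mul]

variable (p : ℕ) [Fact p.Prime] [CharP F p]

/-- the field automorphism attached to an automorphism of `PSL₂(F)` -/
noncomputable def sig (α : PSL2 F ≃* PSL2 F) : F ≃+* F := Classical.choose (exists_isSemi p α)

theorem sig_spec (α : PSL2 F ≃* PSL2 F) : IsSemi α (sig p α) :=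
  Classical.choose_spec (exists_isSemi p α)

theorem sig_eq {α : PSL2 F ≃* PSL2 F} {τ : F ≃+* F} (h : IsSemi α τ) : sig p α = τ :=
  isSemi_unique' (sig_spec p α) h

/-- the homomorphism `Aut(PSL₂(F)) → Aut(F)` -/
noncomputable def sigHom : MulAut (PSL2 F) →* RingAut F where
  toFun α := sig p α
  map_one' := by
    apply sig_eq
    have := isSemi_conj (1 : PSL2 F)
    rwa [map_one] at this
  map_mul' α β := by
    apply sig_eq
    exact isSemi_mul (sig_spec p α) (sig_spec p β)

theorem sigHom_apply (α : MulAut (PSL2 F)) : sigHom p α = sig p α := rfl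

theorem sigHom_conj (g : PSL2 F) : sigHom p (MulAut.conj g) = 1 := by
  rw [sigHom_apply]
  exact sig_eq p (isSemi_conj g)

end main

end Cfsg.Agent.Lib.Helper14.OutL2
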