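import Mathlib
import Cfsg.Agent.Lib.Helper14.OutL2b

/-!
# `Out(PSL₂(q))`, part C: field and diagonal automorphisms, the kernel (helper14)
-/

set_option autoImplicit false
set_option maxHeartbeats 1000000

namespace Cfsg.Agent.Lib.Helper14.OutL2

open Subgroup
open scoped Pointwise
open Cfsg.Agent.Lib.Helper12 Cfsg.Agent.Lib.Helper12.SL2 Cfsg.Agent.S0805 Cfsg.Agent.S0807
open Cfsg.Agent.Lib.Helper1.DkOrders Cfsg.Agent.Lib.Helper14.DkSub

local notation "SL2" => Matrix.SpecialLinearGroup (Fin 2)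
local notation "PSL2" => Matrix.ProjectiveSpecialLinearGroup (Fin 2)

section diag

variable {F : Type*} [Field F]

/-- conjugation by `diag(c, 1)` on `SL₂` -/
def dconjFun (c : Fˣ) (g : SL2 F) : SL2 F :=
  SL2.mk (g 0 0) (c * g 0 1) ((c⁻¹ : Fˣ) * g 1 0) (g 1 1) (by
    have hd := SL2.det_eq g
    have hc : (c : F) * ((c⁻¹ : Fˣ) : F) = 1 := by simp
    linear_combination hd - g 0 1 * g 1 0 * hc)

theorem dconjFun_mul (c : Fˣ) (g h : SL2 F) : dconjFun c (g * h) = dconjFun c g * dconjFun c h := by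
  have hc : (c : F) * ((c⁻¹ : Fˣ) : F) = 1 := by simp
  apply SL2.ext4
  · simp only [dconjFun, SL2.mul_apply', SL2.mk_00, SL2.mk_01, SL2.mk_10, SL2.mk_11]
    linear_combination (-(g 0 1 * h 1 0)) * hc
  · simp only [dconjFun, SL2.mul_apply', SL2.mk_00, SL2.mk_01, SL2.mk_10, SL2.mk_11]
    ring
  · simp only [dconjFun, SL2.mul_apply', SL2.mk_00, SL2.mk_01, SL2.mk_10, SL2.mk_11]
    ring
  · simp only [dconjFun, SL2.mul_apply', SL2.mk_00, SL2.mk_01, SL2.mk_10, SL2.mk_11]
    linear_combination (-(g 1 0 * h 0 1)) * hc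

theorem dconjFun_one (g : SL2 F) : dconjFun 1 g = g := by
  apply SL2.ext4 <;> simp [dconjFun]

theorem dconjFun_comp (c d : Fˣ) (g : SL2 F) : dconjFun c (dconjFun d g) = dconjFun (c * d) g := by
  apply SL2.ext4
  · simp [dconjFun]
  · simp only [dconjFun, SL2.mk_00, SL2.mk_01, SL2.mk_10, SL2.mk_11, Units.val_mul]
    ring
  · simp only [dconjFun, SL2.mk_00, SL2.mk_01, SL2.mk_10, SL2.mk_11, mul_inv, Units.val_mul]
    ring
  · simp [dconjFun]

/-- conjugation by `diag(c, 1)` as a homomorphism of `SL₂` -/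
def dconjHom (c : Fˣ) : SL2 F →* SL2 F where
  toFun := dconjFun c
  map_one' := by
    apply SL2.ext4 <;> simp [dconjFun]
  map_mul' := dconjFun_mul c

theorem dconjHom_apply (c : Fˣ) (g : SL2 F) : dconjHom c g = dconjFun c g := rfl

theorem dconjFun_center (c : Fˣ) (g : SL2 F) (hg : g ∈ Subgroup.center (SL2 F)) :
    dconjFun c g = g := by
  rw [Matrix.SpecialLinearGroup.mem_center_iff] at hg
  obtain ⟨r, -, hr⟩ := hg
  have h01 : g 0 1 = 0 := by rw [← hr]; simp
  have h10 : g 1 0 = 0 := by rw [← hr]; simp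
  apply SL2.ext4 <;> simp [dconjFun, h01, h10]

/-- conjugation by `diag(c, 1)` as a homomorphism of `PSL₂` -/
noncomputable def dP (c : Fˣ) : PSL2 F →* PSL2 F :=
  QuotientGroup.map _ _ (dconjHom c) (by
    intro g hg
    rw [Subgroup.mem_comap, dconjHom_apply, dconjFun_center c g hg]
    exact hg)

theorem dP_mk (c : Fˣ) (g : SL2 F) : dP c (mkH g) = mkH (dconjFun c g) := rfl

theorem dP_comp (c d : Fˣ) (x : PSL2 F) : dP c (dP d x) = dP (c * d) x := by
  obtain ⟨g, rfl⟩ := QuotientGroup.mk'_surjective (Subgroup.center (SL2 F)) x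
  show dP c (dP d (mkH g)) = dP (c * d) (mkH g)
  rw [dP_mk, dP_mk, dP_mk, dconjFun_comp]

theorem dP_one (x : PSL2 F) : dP 1 x = x := by
  obtain ⟨g, rfl⟩ := QuotientGroup.mk'_surjective (Subgroup.center (SL2 F)) x
  show dP 1 (mkH g) = mkH g
  rw [dP_mk, dconjFun_one]

/-- the diagonal automorphism -/
noncomputable def dAut (c : Fˣ) : MulAut (PSL2 F) where
  toFun := dP c
  invFun := dP c⁻¹
  left_inv x := by rw [dP_comp, inv_mul_cancel, dP_one]
  right_inv x := by rw [dP_comp, mul_inv_cancel, dP_one]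
  map_mul' := map_mul (dP c)

theorem dAut_apply (c : Fˣ) (x : PSL2 F) : dAut c x = dP c x := rfl

/-- the diagonal automorphisms as a homomorphism -/
noncomputable def dAutHom : Fˣ →* MulAut (PSL2 F) where
  toFun := dAut
  map_one' := by
    ext x
    rw [dAut_apply, dP_one, MulAut.one_apply]
  map_mul' c d := by
    ext x
    rw [MulAut.mul_apply, dAut_apply, dAut_apply, dAut_apply, dP_comp]

theorem dAutHom_apply (c : Fˣ) : dAutHom c = dAut c := rfl

theorem dAut_ub (c : Fˣ) (t : F) : dAut c (ub t) = ub (c * t) := by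
  rw [dAut_apply]
  unfold ub
  rw [dP_mk]
  congr 1
  apply SL2.ext4 <;> simp [dconjFun, up]

theorem dAut_lb (c : Fˣ) (t : F) : dAut c (lb t) = lb ((c⁻¹ : Fˣ) * t) := by
  rw [dAut_apply]
  unfold lb
  rw [dP_mk]
  congr 1
  apply SL2.ext4 <;> simp [dconjFun, lo]

/-- the diagonal automorphism attached to a square is inner -/
theorem dAut_sq [Fintype F] (a : Fˣ) : dAut (a * a) = MulAut.conj (hd (a : F) a.ne_zero) := by
  ext x
  obtain ⟨g, rfl⟩ := QuotientGroup.mk'_surjective (Subgroup.center (SL2 F)) x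
  show dAut (a * a) (mkH g) = _
  rw [dAut_apply, dP_mk, MulAut.conj_apply]
  unfold hd
  rw [← map_inv, ← map_mul, ← map_mul]
  congr 1
  have ha : (a : F) ≠ 0 := a.ne_zero
  apply SL2.ext4
  · simp only [dconjFun, SL2.mul_apply', inv_00, inv_01, inv_10, inv_11, SL2.mk_00, SL2.mk_01,
      SL2.mk_10, SL2.mk_11]
    field_simp
    ring
  · simp only [dconjFun, SL2.mul_apply', inv_00, inv_01, inv_10, inv_11, SL2.mk_00, SL2.mk_01,
      SL2.mk_10, SL2.mk_11, Units.val_mul]
    ring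
  · simp only [dconjFun, SL2.mul_apply', inv_00, inv_01, inv_10, inv_11, SL2.mk_00, SL2.mk_01,
      SL2.mk_10, SL2.mk_11, mul_inv, Units.val_mul, Units.val_inv_eq_inv_val]
    ring
  · simp only [dconjFun, SL2.mul_apply', inv_00, inv_01, inv_10, inv_11, SL2.mk_00, SL2.mk_01,
      SL2.mk_10, SL2.mk_11]
    field_simp
    ring

end diag

end Cfsg.Agent.Lib.Helper14.OutL2
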