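import Mathlib
import Cfsg.Agent.Lib.Helper14.OutL2c

/-!
# `Out(PSL₂(q))`, part D: field automorphisms; automorphisms fixing `U` pointwise (helper14)
-/

set_option autoImplicit false
set_option maxHeartbeats 1000000

namespace Cfsg.Agent.Lib.Helper14.OutL2

open Subgroup
open scoped Pointwise
open Cfsg.Agent.Lib.Helper12 Cfsg.Agent.Lib.Helper12.SL2 Cfsg.Agent.S0805 Cfsg.Agent.S0807
open Cfsg.Agent.Lib.Helper1.DkOrders Cfsg.Agent.Lib.Helper14.DkSub

local notation "SL2" => Matrix.SpecialLinearGroup (Fin 2)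
local notation "PSL2" => Matrix.ProjectiveSpecialLinearGroup (Fin 2)

section fld

variable {F : Type*} [Field F] [Fintype F]

/-- the automorphism of `PSL₂(F)` induced by a field automorphism -/
noncomputable def fAut (τ : F ≃+* F) : MulAut (PSL2 F) :=
  MulEquiv.ofBijective (pslMap (τ : F →+* F))
    (Finite.injective_iff_bijective.mp (pslMap_injective _))

theorem fAut_ub (τ : F ≃+* F) (t : F) : fAut τ (ub t) = ub (τ t) := by
  show pslMap (τ : F →+* F) (mkH (up t)) = mkH (up (τ t))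
  rw [pslMap_mkH, map_up]
  rfl

theorem isSemi_fAut (τ : F ≃+* F) : IsSemi (fAut τ) τ := by
  refine ⟨1, 1, one_ne_zero, fun t => ?_⟩
  rw [fAut_ub, one_mul, one_mul, inv_one, mul_one]

theorem sigHom_surjective (p : ℕ) [Fact p.Prime] [CharP F p] :
    Function.Surjective (sigHom (F := F) p) := by
  intro τ
  exact ⟨fAut τ, sig_eq p (isSemi_fAut τ)⟩

omit [Fintype F] in
theorem isSemi_dAut (c : Fˣ) : IsSemi (dAut c) (1 : RingAut F) := by
  refine ⟨1, c, c.ne_zero, fun t => ?_⟩
  rw [dAut_ub, one_mul, inv_one, mul_one, RingAut.one_apply]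

theorem sigHom_dAut (p : ℕ) [Fact p.Prime] [CharP F p] (c : Fˣ) : sigHom p (dAut c) = 1 :=
  sig_eq p (isSemi_dAut c)

end fld

section fix

variable {F : Type*} [Field F]

/-- an automorphism fixing both unipotent subgroups pointwise is trivial -/
theorem eq_one_of_fix (γ : MulAut (PSL2 F)) (hU : ∀ t : F, γ (ub t) = ub t)
    (hL : ∀ t : F, γ (lb t) = lb t) : γ = 1 := by
  set H : Subgroup (SL2 F) :=
    (MonoidHom.eqLocus (γ.toMonoidHom) (MonoidHom.id (PSL2 F))).comap mkH with hH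
  have htop : H = ⊤ := by
    apply eq_top_of_up_lo
    · intro b
      show γ (mkH (up b)) = mkH (up b)
      exact hU b
    · intro c
      show γ (mkH (lo c)) = mkH (lo c)
      exact hL c
  ext x
  obtain ⟨g, rfl⟩ := QuotientGroup.mk'_surjective (Subgroup.center (SL2 F)) x
  have : g ∈ H := by rw [htop]; exact Subgroup.mem_top g
  rw [MulAut.one_apply]
  exact this

/-- an automorphism fixing `U` pointwise and stabilizing `U⁻` fixes `U⁻` pointwise -/
theorem fix_lb_of_fix_ub (γ : MulAut (PSL2 F)) (hU : ∀ t : F, γ (ub t) = ub t)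
    (hL : ∀ s : F, ∃ s' : F, γ (lb s) = lb s') (s : F) : γ (lb s) = lb s := by
  by_cases hs : s = 0
  · subst hs
    rw [lb_zero, map_one]
  obtain ⟨s', hs'⟩ := hL s
  have hs'0 : s' ≠ 0 := by
    rintro rfl
    rw [lb_zero] at hs'
    have : lb s = 1 := by
      apply γ.injective
      rw [hs', map_one]
    rw [← lb_zero] at this
    exact hs (lb_injective this)
  obtain ⟨r₂, hr₂⟩ := hL (-s ^ 2 * 1)
  have h1 := conj_lb_ub s hs 1
  have h2 := congrArg γ h1
  rw [map_mul, map_mul, map_inv, map_mul, map_mul, map_inv, hU, hU, hs', hr₂,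
    conj_lb_ub s' hs'0 1] at h2
  have h3 := ub_lb_conj_inj (1 / s') (1 / s) (-s' ^ 2 * 1) r₂
    (by simpa using hs'0) h2
  have : s' = s := by
    field_simp at h3
    exact h3.symm
  rw [hs', this]

/-- the Weyl element -/
noncomputable def wP (F : Type*) [Field F] : PSL2 F := mkH (SL2.mk 0 (-1) 1 0 (by ring))

theorem wP_conj (t : F) : wP F * ub t * (wP F)⁻¹ = lb (-t) := by
  unfold wP
  rw [conj_ub_of_ne _ (by simp)]
  simp [ub_zero]

theorem lb_ne_ub (t : F) : lb (1 : F) ≠ ub t := by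
  intro h
  unfold lb ub at h
  rw [DkSub.mkH_eq_iff] at h
  obtain ⟨c, hc, h⟩ := h
  have h10 := h 1 0
  simp only [up, lo, SL2.mk_10, mul_one] at h10
  rw [← h10] at hc
  simp at hc

/-- an automorphism fixing `U` pointwise is conjugation by an element of `U` -/
theorem eq_conj_of_fix_ub (γ : MulAut (PSL2 F)) (hU : ∀ t : F, γ (ub t) = ub t) :
    ∃ x : F, γ = MulAut.conj (ub x) := by
  obtain ⟨g, hg⟩ := QuotientGroup.mk'_surjective (Subgroup.center (SL2 F)) (γ (wP F))
  have hg' : mkH g = γ (wP F) := hg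
  have hlb : ∀ s : F, γ (lb s) = mkH g * ub (-s) * (mkH g)⁻¹ := by
    intro s
    have h1 := wP_conj (-s)
    rw [neg_neg] at h1
    rw [← h1, map_mul, map_mul, map_inv, hU, hg']
  by_cases hc : g 1 0 = 0
  · exfalso
    have h1 := hlb 1
    rw [conj_ub_of_eq g hc, ← hU] at h1
    exact lb_ne_ub _ (γ.injective h1)
  · set x := g 0 0 / g 1 0 with hx
    refine ⟨x, ?_⟩
    set γ' : MulAut (PSL2 F) := (MulAut.conj (ub x))⁻¹ * γ with hγ'
    have hU' : ∀ t : F, γ' (ub t) = ub t := by
      intro t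
      rw [hγ', MulAut.mul_apply, hU, ← map_inv, MulAut.conj_apply, inv_inv, ub_inv, ← ub_add,
        ← ub_add]
      congr 1
      ring
    have hL' : ∀ s : F, ∃ s' : F, γ' (lb s) = lb s' := by
      intro s
      refine ⟨-(g 1 0) ^ 2 * -s, ?_⟩
      rw [hγ', MulAut.mul_apply, hlb, conj_ub_of_ne g hc, ← map_inv, MulAut.conj_apply, ← hx]
      group
    have hone : γ' = 1 := eq_one_of_fix γ' hU' (fix_lb_of_fix_ub γ' hU' hL')
    rw [hγ'] at hone
    have := congrArg (fun z => MulAut.conj (ub x) * z) hone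
    simpa using this

end fix

section ker

variable {F : Type*} [Field F] [Fintype F] (p : ℕ) [Fact p.Prime] [CharP F p]

/-- the automorphisms with trivial field automorphism are inner-diagonal -/
theorem exists_of_sigHom_eq_one (α : MulAut (PSL2 F)) (h : sigHom p α = 1) :
    ∃ (y : PSL2 F) (c : Fˣ), α = MulAut.conj y * dAut c := by
  have hs := sig_spec p α
  rw [← sigHom_apply, h] at hs
  obtain ⟨y, c, hc, hα⟩ := hs
  set cu : Fˣ := Units.mk0 c hc with hcu
  set γ : MulAut (PSL2 F) := (dAut cu)⁻¹ * (MulAut.conj y)⁻¹ * α with hγ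
  have hU : ∀ t : F, γ (ub t) = ub t := by
    intro t
    rw [hγ, MulAut.mul_apply, MulAut.mul_apply, hα, RingAut.one_apply, ← map_inv,
      MulAut.conj_apply]
    have e1 : y⁻¹ * (y * ub (c * t) * y⁻¹) * y⁻¹⁻¹ = ub (c * t) := by group
    rw [e1]
    have e2 : dAut cu (ub t) = ub (c * t) := by rw [dAut_ub]; rfl
    rw [← e2]
    simp
  obtain ⟨x, hx⟩ := eq_conj_of_fix_ub γ hU
  -- `α = conj y * dAut cu * conj (ub x)`
  have e3 : α = MulAut.conj y * dAut cu * MulAut.conj (ub x) := by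
    rw [← hx, hγ]
    group
  refine ⟨y * dAut cu (ub x), cu, ?_⟩
  rw [e3]
  ext z
  simp only [MulAut.mul_apply, MulAut.conj_apply, map_mul, map_inv]
  try group

/-- the diagonal automorphism `dAut c` is inner iff `c` is a square -/
theorem dAut_mem_inn_iff (c : Fˣ) :
    dAut c ∈ (MulAut.conj : PSL2 F →* MulAut (PSL2 F)).range ↔ ∃ a : Fˣ, c = a ^ 2 := by
  constructor
  · rintro ⟨y, hy⟩
    have h1 : ∀ t : F, dAut c (ub t) = y * ub ((1 : F) * (1 : RingAut F) t) * y⁻¹ := by
      intro t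
      rw [← hy, MulAut.conj_apply, RingAut.one_apply, one_mul]
    have h2 : ∀ t : F, dAut c (ub t) = 1 * ub ((c : F) * (1 : RingAut F) t) * (1 : PSL2 F)⁻¹ := by
      intro t
      rw [dAut_ub, RingAut.one_apply, one_mul, inv_one, mul_one]
    obtain ⟨-, a, ha, hca⟩ := isSemi_unique (α := dAut c) one_ne_zero c.ne_zero h1 h2
    refine ⟨Units.mk0 a ha, ?_⟩
    apply Units.ext
    rw [hca, mul_one]
    simp
  · rintro ⟨a, rfl⟩
    rw [pow_two, dAut_sq]
    exact ⟨_, rfl⟩

end ker

end Cfsg.Agent.Lib.Helper14.OutL2
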