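import Mathlib
import Cfsg.Prelude.Def_KGroupFacts
import Cfsg.Agent.Lib.Helper14.OutL2d

/-!
# `Out(PSL₂(q))`, part E: assembly (helper14)
-/

set_option autoImplicit false
set_option maxHeartbeats 1000000

namespace Cfsg.Agent.Lib.Helper14.OutL2

open Subgroup
open Cfsg.Agent.Lib.Helper12 Cfsg.Agent.Lib.Helper12.SL2 Cfsg.Agent.S0805 Cfsg.Agent.S0807
open Cfsg.Agent.Lib.Helper1.DkOrders Cfsg.Agent.Lib.Helper14.DkSub

local notation "SL2" => Matrix.SpecialLinearGroup (Fin 2)
local notation "PSL2" => Matrix.ProjectiveSpecialLinearGroup (Fin 2)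

section gal

variable (F : Type*) [Field F] [Fintype F] (p : ℕ) [Fact p.Prime] [CharP F p]

/-- ring automorphisms of a finite field are algebra automorphisms over the prime field -/
noncomputable def galEquiv :
    letI := ZMod.algebra F p
    (F ≃ₐ[ZMod p] F) ≃* RingAut F :=
  letI := ZMod.algebra F p
  { toFun := fun e => e.toRingEquiv
    invFun := fun τ => AlgEquiv.ofRingEquiv (f := τ) (fun x => by
      have h : ((τ : F →+* F).comp (algebraMap (ZMod p) F)) = algebraMap (ZMod p) F :=
        Subsingleton.elim _ _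
      exact RingHom.congr_fun h x)
    left_inv := fun e => by ext; rfl
    right_inv := fun τ => by ext; rfl
    map_mul' := fun a b => by ext; rfl }

include p in
theorem isCyclic_ringAut : IsCyclic (RingAut F) := by
  letI := ZMod.algebra F p
  exact isCyclic_of_surjective (galEquiv F p).toMonoidHom (galEquiv F p).surjective

theorem card_ringAut (f : ℕ) (hF : Fintype.card F = p ^ f) : Nat.card (RingAut F) = f := by
  letI := ZMod.algebra F p
  have h1 : Nat.card (RingAut F) = Nat.card (F ≃ₐ[ZMod p] F) :=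
    (Nat.card_congr (galEquiv F p).toEquiv).symm
  have h2 := Nat.card_eq_of_bijective _
    (FiniteField.bijective_frobeniusAlgEquivOfAlgebraic_pow (ZMod p) F)
  rw [Nat.card_eq_fintype_card, Fintype.card_fin] at h2
  rw [h1, ← h2]
  have h3 : Fintype.card F = p ^ Module.finrank (ZMod p) F := by
    rw [Module.card_eq_pow_finrank (K := ZMod p) (V := F), ZMod.card]
  rw [hF] at h3
  exact (Nat.pow_right_injective (Fact.out : p.Prime).two_le h3).symm

end gal

section final

variable {F : Type*} [Field F] [Fintype F]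

theorem out_psl2 (p f : ℕ) [Fact p.Prime] (hF : Fintype.card F = p ^ f) :
    ∃ φ : Cfsg.Out (PSL2 F) →* Multiplicative (ZMod f),
      Function.Surjective φ ∧ IsCyclic φ.ker ∧ Nat.card φ.ker = Nat.gcd 2 (p ^ f - 1) := by
  classical
  haveI : CharP F p := charP_of_card_eq_prime_pow hF
  -- the map to field automorphisms
  have hInn : Cfsg.Inn (PSL2 F) ≤ (sigHom (F := F) p).ker := by
    rintro _ ⟨g, rfl⟩
    exact sigHom_conj p g
  set σb : Cfsg.Out (PSL2 F) →* RingAut F := QuotientGroup.lift (Cfsg.Inn (PSL2 F)) (sigHom p) hInn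
    with hσb
  have hσsurj : Function.Surjective σb := by
    intro τ
    obtain ⟨α, hα⟩ := sigHom_surjective p τ
    exact ⟨QuotientGroup.mk α, hα⟩
  -- the diagonal automorphisms
  set ψ : Fˣ →* Cfsg.Out (PSL2 F) := (QuotientGroup.mk' (Cfsg.Inn (PSL2 F))).comp dAutHom with hψ
  have hker : σb.ker = ψ.range := by
    ext x
    obtain ⟨α, rfl⟩ := QuotientGroup.mk'_surjective (Cfsg.Inn (PSL2 F)) x
    rw [MonoidHom.mem_ker, MonoidHom.mem_range]
    constructor
    · intro h
      have h1 : sigHom p α = 1 := h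
      obtain ⟨y, c, hα⟩ := exists_of_sigHom_eq_one p α h1
      refine ⟨c, ?_⟩
      rw [hψ, MonoidHom.comp_apply, dAutHom_apply, hα, map_mul]
      have : (QuotientGroup.mk' (Cfsg.Inn (PSL2 F))) (MulAut.conj y) = 1 := by
        rw [QuotientGroup.mk'_apply, QuotientGroup.eq_one_iff]
        exact ⟨y, rfl⟩
      rw [this, one_mul]
    · rintro ⟨c, hc⟩
      rw [← hc]
      exact sigHom_dAut p c
  have hψker : ψ.ker = (powMonoidHom 2 : Fˣ →* Fˣ).range := by
    ext c
    rw [MonoidHom.mem_ker, MonoidHom.mem_range, hψ, MonoidHom.comp_apply, QuotientGroup.mk'_apply,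
      QuotientGroup.eq_one_iff, dAutHom_apply, dAut_mem_inn_iff]
    constructor
    · rintro ⟨a, rfl⟩
      exact ⟨a, rfl⟩
    · rintro ⟨a, ha⟩
      exact ⟨a, ha.symm⟩
  have hcardker : Nat.card ψ.range = Nat.gcd 2 (p ^ f - 1) := by
    rw [← Subgroup.index_ker, hψker, IsCyclic.index_powMonoidHom_range, Nat.card_units,
      Nat.card_eq_fintype_card, hF, Nat.gcd_comm]
  -- the target
  haveI hcyc : IsCyclic (RingAut F) := isCyclic_ringAut F p
  have hcard : Nat.card (RingAut F) = f := card_ringAut F p f hF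
  obtain rfl : Nat.card (RingAut F) = f := hcard
  set e : RingAut F ≃* Multiplicative (ZMod (Nat.card (RingAut F))) :=
    (zmodCyclicMulEquiv hcyc).symm with he
  refine ⟨e.toMonoidHom.comp σb, ?_, ?_⟩
  · exact e.surjective.comp hσsurj
  · have hk : (e.toMonoidHom.comp σb).ker = ψ.range := by
      rw [← hker]
      ext x
      rw [MonoidHom.mem_ker, MonoidHom.mem_ker, MonoidHom.comp_apply]
      constructor
      · intro h
        apply e.injective
        rw [map_one]
        exact h
      · intro h
        rw [h, map_one]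
    rw [hk]
    refine ⟨?_, hcardker⟩
    exact isCyclic_of_surjective ψ.rangeRestrict ψ.rangeRestrict_surjective

end final

end Cfsg.Agent.Lib.Helper14.OutL2
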