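import Mathlib
import Cfsg.Agent.Lib.Helper14.NilCoverA

/-!
# Nilpotent minimal covers of groups between PSL and PGL, part A (helper14)

Abstract control lemmas.
-/

set_option autoImplicit false
set_option maxHeartbeats 1000000

namespace Cfsg.Agent.Lib.Helper14.PGLCover

variable {Γ : Type*} [Group Γ]

/-- iterated commutators `[..[[x, c], c].., c]` -/
def cseq (x c : Γ) : ℕ → Γ
  | 0 => x
  | (k + 1) => cseq x c k * c * (cseq x c k)⁻¹ * c⁻¹

theorem cseq_zero (x c : Γ) : cseq x c 0 = x := rfl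

theorem cseq_succ (x c : Γ) (k : ℕ) :
    cseq x c (k + 1) = cseq x c k * c * (cseq x c k)⁻¹ * c⁻¹ := rfl

theorem cseq_mem_lcs (A : Subgroup Γ) {x c : Γ} (hx : x ∈ A) (hc : c ∈ A) (k : ℕ) :
    cseq x c k ∈ A.lowerCentralSeries k := by
  induction k with
  | zero => exact hx
  | succ k ih =>
    rw [cseq_succ, Subgroup.lowerCentralSeries_succ]
    have := Subgroup.commutator_mem_commutator ih hc
    rwa [commutatorElement_def] at this

/-- in a nilpotent subgroup iterated commutators are eventually trivial -/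
theorem cseq_eq_one (A : Subgroup Γ) (hA : Group.IsNilpotent A) {x c : Γ} (hx : x ∈ A)
    (hc : c ∈ A) : ∃ n, cseq x c n = 1 := by
  obtain ⟨n, hn⟩ := (Subgroup.isNilpotent_iff_lowerCentralSeries A).mp hA
  refine ⟨n, ?_⟩
  have := cseq_mem_lcs A hx hc n
  rw [hn, Subgroup.mem_bot] at this
  exact this

/-- the control lemma: if `M` contains `c` and every element conjugating `c` into `M`, then
`M` contains every nilpotent subgroup containing `c` -/
theorem le_of_control (M : Subgroup Γ) (c : Γ) (hcM : c ∈ M)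
    (hctl : ∀ g : Γ, g⁻¹ * c * g ∈ M → g ∈ M) (A : Subgroup Γ) (hA : Group.IsNilpotent A)
    (hcA : c ∈ A) : A ≤ M := by
  intro x hx
  obtain ⟨n, hn⟩ := cseq_eq_one A hA hx hcA
  have step : ∀ k, cseq x c (k + 1) ∈ M → cseq x c k ∈ M := by
    intro k hk
    rw [cseq_succ] at hk
    set y := cseq x c k with hy
    have h1 : y * c * y⁻¹ ∈ M := by
      have := M.mul_mem hk hcM
      have e : y * c * y⁻¹ * c⁻¹ * c = y * c * y⁻¹ := by group
      rwa [e] at this
    have h2 : y⁻¹ ∈ M := by
      apply hctl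
      rwa [inv_inv]
    have := M.inv_mem h2
    rwa [inv_inv] at this
  have all : ∀ j, j ≤ n → cseq x c (n - j) ∈ M := by
    intro j
    induction j with
    | zero =>
      intro _
      rw [Nat.sub_zero, hn]
      exact M.one_mem
    | succ j ih =>
      intro hj
      apply step
      have : n - (j + 1) + 1 = n - j := by omega
      rw [this]
      exact ih (by omega)
  have := all n le_rfl
  rwa [Nat.sub_self] at this

/-- conjugating the control hypothesis -/
theorem control_conj (M : Subgroup Γ) (c m : Γ) (hm : m ∈ M)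
    (hctl : ∀ g : Γ, g⁻¹ * c * g ∈ M → g ∈ M) :
    ∀ g : Γ, g⁻¹ * (m * c * m⁻¹) * g ∈ M → g ∈ M := by
  intro g hg
  have h1 : (m⁻¹ * g)⁻¹ * c * (m⁻¹ * g) ∈ M := by
    have e : (m⁻¹ * g)⁻¹ * c * (m⁻¹ * g) = g⁻¹ * (m * c * m⁻¹) * g := by group
    rwa [e]
  have h2 := hctl _ h1
  have := M.mul_mem hm h2
  rwa [mul_inv_cancel_left] at this

end Cfsg.Agent.Lib.Helper14.PGLCover
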