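import Mathlib
import Cfsg.Agent.Lib.Helper14.PGLCoverA

/-!
# Nilpotent minimal covers of groups between PSL and PGL, part B (helper14)

Matrix facts: the Jordan block and the stabilizers of a column / row.
-/

set_option autoImplicit false
set_option maxHeartbeats 1000000

namespace Cfsg.Agent.Lib.Helper14.PGLCover

open Matrix

variable {F : Type*} [Field F] {n : ℕ}

/-- the stabilizer of the line spanned by the basis vector `i₀` -/
def colStab (F : Type*) [Field F] {n : ℕ} (i₀ : Fin n) : Subgroup (GL (Fin n) F) where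
  carrier := {g | ∀ i, i ≠ i₀ → (g : Matrix (Fin n) (Fin n) F) i i₀ = 0}
  one_mem' := by
    intro i hi
    simp [Matrix.one_apply, hi]
  mul_mem' := by
    intro g h hg hh i hi
    rw [Units.val_mul, Matrix.mul_apply]
    apply Finset.sum_eq_zero
    intro k _
    by_cases hk : k = i₀
    · rw [hk, hg i hi, zero_mul]
    · rw [hh k hk, mul_zero]
  inv_mem' := by
    intro g hg i hi
    have h1 : ((g⁻¹ * g : GL (Fin n) F) : Matrix (Fin n) (Fin n) F) = 1 := by
      rw [inv_mul_cancel]; rfl
    rw [Units.val_mul] at h1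
    have key : ∀ a, ((g⁻¹ : GL (Fin n) F) : Matrix (Fin n) (Fin n) F) a i₀ *
        (g : Matrix (Fin n) (Fin n) F) i₀ i₀ = (1 : Matrix (Fin n) (Fin n) F) a i₀ := by
      intro a
      rw [← h1, Matrix.mul_apply]
      symm
      apply Finset.sum_eq_single i₀
      · intro k _ hk
        rw [hg k hk, mul_zero]
      · intro h
        exact absurd (Finset.mem_univ _) h
    have h00 := key i₀
    rw [Matrix.one_apply_eq] at h00
    have hne : (g : Matrix (Fin n) (Fin n) F) i₀ i₀ ≠ 0 := right_ne_zero_of_mul_eq_one h00
    have hi0 := key i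
    rw [Matrix.one_apply_ne hi] at hi0
    rcases mul_eq_zero.mp hi0 with h | h
    · exact h
    · exact absurd h hne

theorem mem_colStab (i₀ : Fin n) (g : GL (Fin n) F) :
    g ∈ colStab F i₀ ↔ ∀ i, i ≠ i₀ → (g : Matrix (Fin n) (Fin n) F) i i₀ = 0 := Iff.rfl

/-- the stabilizer of the hyperplane of vectors with vanishing coordinate `j₀` -/
def rowStab (F : Type*) [Field F] {n : ℕ} (j₀ : Fin n) : Subgroup (GL (Fin n) F) where
  carrier := {g | ∀ j, j ≠ j₀ → (g : Matrix (Fin n) (Fin n) F) j₀ j = 0}
  one_mem' := by
    intro j hj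
    simp [Matrix.one_apply, hj.symm]
  mul_mem' := by
    intro g h hg hh j hj
    rw [Units.val_mul, Matrix.mul_apply]
    apply Finset.sum_eq_zero
    intro k _
    by_cases hk : k = j₀
    · rw [hk, hh j hj, mul_zero]
    · rw [hg k hk, zero_mul]
  inv_mem' := by
    intro g hg j hj
    have h1 : ((g * g⁻¹ : GL (Fin n) F) : Matrix (Fin n) (Fin n) F) = 1 := by
      rw [mul_inv_cancel]; rfl
    rw [Units.val_mul] at h1
    have key : ∀ a, (g : Matrix (Fin n) (Fin n) F) j₀ j₀ *
        ((g⁻¹ : GL (Fin n) F) : Matrix (Fin n) (Fin n) F) j₀ a =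
          (1 : Matrix (Fin n) (Fin n) F) j₀ a := by
      intro a
      rw [← h1, Matrix.mul_apply]
      symm
      apply Finset.sum_eq_single j₀
      · intro k _ hk
        rw [hg k hk, zero_mul]
      · intro h
        exact absurd (Finset.mem_univ _) h
    have h00 := key j₀
    rw [Matrix.one_apply_eq] at h00
    have hne : (g : Matrix (Fin n) (Fin n) F) j₀ j₀ ≠ 0 := left_ne_zero_of_mul_eq_one h00
    have hi0 := key j
    rw [Matrix.one_apply_ne hj.symm] at hi0
    rcases mul_eq_zero.mp hi0 with h | h
    · exact absurd h hne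
    · exact h

theorem mem_rowStab (j₀ : Fin n) (g : GL (Fin n) F) :
    g ∈ rowStab F j₀ ↔ ∀ j, j ≠ j₀ → (g : Matrix (Fin n) (Fin n) F) j₀ j = 0 := Iff.rfl

/-- the Jordan block -/
def Jmat (F : Type*) [Field F] (n : ℕ) : Matrix (Fin n) (Fin n) F :=
  fun i j => if i = j then 1 else if i.val + 1 = j.val then 1 else 0

theorem det_Jmat : (Jmat F n).det = 1 := by
  rw [Matrix.det_of_isUpperTriangular]
  · apply Finset.prod_eq_one
    intro i _
    simp [Jmat]
  · intro i j hji
    have h1 : j.val < i.val := hji
    unfold Jmat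
    rw [if_neg (by intro h; rw [h] at h1; omega), if_neg (by omega)]

/-- the Jordan block in the special linear group -/
def JS (F : Type*) [Field F] (n : ℕ) : Matrix.SpecialLinearGroup (Fin n) F := ⟨Jmat F n, det_Jmat⟩

/-- the Jordan block in the general linear group -/
def JG (F : Type*) [Field F] (n : ℕ) : GL (Fin n) F := Matrix.SpecialLinearGroup.toGL (JS F n)

theorem JG_val : ((JG F n : GL (Fin n) F) : Matrix (Fin n) (Fin n) F) = Jmat F n := rfl

theorem Jmat_mulVec (y : Fin n → F) (i : Fin n) :
    (Jmat F n *ᵥ y) i = y i + (if h : i.val + 1 < n then y ⟨i.val + 1, h⟩ else 0) := by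
  rw [Matrix.mulVec, dotProduct]
  have h1 : ∀ j, Jmat F n i j * y j =
      (if i = j then y j else 0) + (if i.val + 1 = j.val then y j else 0) := by
    intro j
    unfold Jmat
    by_cases h : i = j
    · rw [if_pos h, if_pos h, if_neg (by rw [h]; omega), one_mul, add_zero]
    · rw [if_neg h, if_neg h, zero_add]
      by_cases h2 : i.val + 1 = j.val
      · rw [if_pos h2, if_pos h2, one_mul]
      · rw [if_neg h2, if_neg h2, zero_mul]
  simp_rw [h1]
  rw [Finset.sum_add_distrib, Finset.sum_ite_eq Finset.univ i y, if_pos (Finset.mem_univ _)]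
  congr 1
  by_cases h : i.val + 1 < n
  · rw [dif_pos h]
    rw [Finset.sum_eq_single (⟨i.val + 1, h⟩ : Fin n)]
    · rw [if_pos rfl]
    · intro j _ hj
      rw [if_neg]
      intro h2
      exact hj (Fin.ext h2.symm)
    · intro h2
      exact absurd (Finset.mem_univ _) h2
  · rw [dif_neg h]
    apply Finset.sum_eq_zero
    intro j _
    rw [if_neg]
    have := j.2
    omega

theorem Jmat_vecMul (w : Fin n → F) (j : Fin n) :
    (w ᵥ* Jmat F n) j = w j + (if h : 1 ≤ j.val then w ⟨j.val - 1, by omega⟩ else 0) := by
  rw [Matrix.vecMul, dotProduct]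
  have h1 : ∀ i, w i * Jmat F n i j =
      (if j = i then w i else 0) + (if i.val + 1 = j.val then w i else 0) := by
    intro i
    by_cases h : i = j
    · subst h
      simp [Jmat]
    · have hji : ¬ j = i := fun h' => h h'.symm
      by_cases h2 : i.val + 1 = j.val
      · simp [Jmat, h, hji, h2]
      · simp [Jmat, h, hji, h2]
  simp_rw [h1]
  rw [Finset.sum_add_distrib, Finset.sum_ite_eq Finset.univ j w, if_pos (Finset.mem_univ _)]
  congr 1
  by_cases h : 1 ≤ j.val
  · rw [dif_pos h]
    rw [Finset.sum_eq_single (⟨j.val - 1, by omega⟩ : Fin n)]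
    · rw [if_pos (by simp; omega)]
    · intro i _ hi
      rw [if_neg]
      intro h2
      apply hi
      apply Fin.ext
      simp
      omega
    · intro h2
      exact absurd (Finset.mem_univ _) h2
  · rw [dif_neg h]
    apply Finset.sum_eq_zero
    intro i _
    rw [if_neg]
    omega

/-- eigenvectors of the Jordan block -/
theorem Jmat_eigen (y : Fin n → F) (μ : F) (hy : Jmat F n *ᵥ y = μ • y) (hy0 : y ≠ 0) :
    ∀ i : Fin n, i.val ≠ 0 → y i = 0 := by
  have eq : ∀ i : Fin n, (if h : i.val + 1 < n then y ⟨i.val + 1, h⟩ else 0) = (μ - 1) * y i := by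
    intro i
    have := congrFun hy i
    rw [Jmat_mulVec, Pi.smul_apply, smul_eq_mul] at this
    linear_combination this
  by_cases hμ : μ = 1
  · intro i hi
    have h1 : i.val - 1 + 1 < n := by have := i.2; omega
    have := eq ⟨i.val - 1, by omega⟩
    rw [dif_pos h1, hμ, sub_self, zero_mul] at this
    have e : (⟨i.val - 1 + 1, h1⟩ : Fin n) = i := Fin.ext (by simp; omega)
    rwa [e] at this
  · exfalso
    apply hy0
    have hμ' : μ - 1 ≠ 0 := sub_ne_zero.mpr hμ
    have all : ∀ k : ℕ, ∀ i : Fin n, i.val + k + 1 = n → y i = 0 := by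
      intro k
      induction k with
      | zero =>
        intro i hi
        have := eq i
        rw [dif_neg (by omega)] at this
        rcases mul_eq_zero.mp this.symm with h | h
        · exact absurd h hμ'
        · exact h
      | succ k ih =>
        intro i hi
        have h1 : i.val + 1 < n := by omega
        have := eq i
        rw [dif_pos h1, ih ⟨i.val + 1, h1⟩ (by simp; omega)] at this
        rcases mul_eq_zero.mp this.symm with h | h
        · exact absurd h hμ'
        · exact h
    funext i
    exact all (n - 1 - i.val) i (by have := i.2; omega)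

/-- row eigenvectors of the Jordan block -/
theorem Jmat_eigen_row (w : Fin n → F) (μ : F) (hw : w ᵥ* Jmat F n = μ • w) (hw0 : w ≠ 0) :
    ∀ j : Fin n, j.val + 1 ≠ n → w j = 0 := by
  have eq : ∀ j : Fin n, (if h : 1 ≤ j.val then w ⟨j.val - 1, by omega⟩ else 0) =
      (μ - 1) * w j := by
    intro j
    have := congrFun hw j
    rw [Jmat_vecMul, Pi.smul_apply, smul_eq_mul] at this
    linear_combination this
  by_cases hμ : μ = 1
  · intro j hj
    have h1 : j.val + 1 < n := by have := j.2; omega
    have := eq ⟨j.val + 1, h1⟩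
    rw [dif_pos (by simp), hμ, sub_self, zero_mul] at this
    have e : (⟨(⟨j.val + 1, h1⟩ : Fin n).val - 1, by simp⟩ : Fin n) = j :=
      Fin.ext (by simp)
    rwa [e] at this
  · exfalso
    apply hw0
    have hμ' : μ - 1 ≠ 0 := sub_ne_zero.mpr hμ
    have all : ∀ k : ℕ, ∀ j : Fin n, j.val = k → w j = 0 := by
      intro k
      induction k with
      | zero =>
        intro j hj
        have := eq j
        rw [dif_neg (by omega)] at this
        rcases mul_eq_zero.mp this.symm with h | h
        · exact absurd h hμ'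
        · exact h
      | succ k ih =>
        intro j hj
        have := eq j
        rw [dif_pos (by omega), ih ⟨j.val - 1, by omega⟩ (by simp; omega)] at this
        rcases mul_eq_zero.mp this.symm with h | h
        · exact absurd h hμ'
        · exact h
    funext j
    exact all j.val j rfl

end Cfsg.Agent.Lib.Helper14.PGLCover
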