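import Mathlib
import Cfsg.Agent.Lib.Helper14.PGLCoverB

/-!
# Nilpotent minimal covers of groups between PSL and PGL, part C (helper14)

Control by the column / row stabilizers, projective plumbing, and the case `n ≥ 3`.
-/

set_option autoImplicit false
set_option maxHeartbeats 1000000

namespace Cfsg.Agent.Lib.Helper14.PGLCover

open Matrix

variable {F : Type*} [Field F] {n : ℕ}

theorem det_ne_zero_GL (g : GL (Fin n) F) : (g : Matrix (Fin n) (Fin n) F).det ≠ 0 := by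
  have h1 : IsUnit (g : Matrix (Fin n) (Fin n) F) := g.isUnit
  exact ((Matrix.isUnit_iff_isUnit_det _).mp h1).ne_zero

/-- the Jordan block is controlled by the stabilizer of the first basis vector -/
theorem control_col (i₀ : Fin n) (hi₀ : i₀.val = 0) (g : GL (Fin n) F)
    (hg : g⁻¹ * JG F n * g ∈ colStab F i₀) : g ∈ colStab F i₀ := by
  set h := g⁻¹ * JG F n * g with hh
  have e1 : g * h = JG F n * g := by rw [hh]; group
  have e2 : (g : Matrix (Fin n) (Fin n) F) * (h : Matrix (Fin n) (Fin n) F) =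
      Jmat F n * (g : Matrix (Fin n) (Fin n) F) := by
    rw [← Units.val_mul, e1, Units.val_mul, JG_val]
  set y : Fin n → F := fun k => (g : Matrix (Fin n) (Fin n) F) k i₀ with hy
  have hyeq : Jmat F n *ᵥ y = (h : Matrix (Fin n) (Fin n) F) i₀ i₀ • y := by
    funext a
    have := congrFun (congrFun e2 a) i₀
    rw [Matrix.mul_apply, Matrix.mul_apply] at this
    rw [Matrix.mulVec, dotProduct, Pi.smul_apply, smul_eq_mul, ← this]
    rw [Finset.sum_eq_single i₀]
    · rw [mul_comm]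
    · intro k _ hk
      rw [hg k hk, mul_zero]
    · intro h'
      exact absurd (Finset.mem_univ _) h'
  have hy0 : y ≠ 0 := by
    intro h0
    apply det_ne_zero_GL g
    apply Matrix.det_eq_zero_of_column_eq_zero i₀
    intro i
    exact congrFun h0 i
  intro i hi
  apply Jmat_eigen y _ hyeq hy0 i
  intro h0
  apply hi
  exact Fin.ext (by rw [h0, hi₀])

/-- the Jordan block is controlled by the stabilizer of the last coordinate hyperplane -/
theorem control_row (j₀ : Fin n) (hj₀ : j₀.val + 1 = n) (g : GL (Fin n) F)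
    (hg : g⁻¹ * JG F n * g ∈ rowStab F j₀) : g ∈ rowStab F j₀ := by
  set h := g⁻¹ * JG F n * g with hh
  set k := g⁻¹ with hk
  have e1 : h * k = k * JG F n := by rw [hh, hk]; group
  have e2 : (h : Matrix (Fin n) (Fin n) F) * (k : Matrix (Fin n) (Fin n) F) =
      (k : Matrix (Fin n) (Fin n) F) * Jmat F n := by
    rw [← Units.val_mul, e1, Units.val_mul, JG_val]
  set w : Fin n → F := fun l => (k : Matrix (Fin n) (Fin n) F) j₀ l with hw
  have hweq : w ᵥ* Jmat F n = (h : Matrix (Fin n) (Fin n) F) j₀ j₀ • w := by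
    funext b
    have := congrFun (congrFun e2 j₀) b
    rw [Matrix.mul_apply, Matrix.mul_apply] at this
    rw [Matrix.vecMul, dotProduct, Pi.smul_apply, smul_eq_mul, ← this]
    rw [Finset.sum_eq_single j₀]
    · intro l _ hl
      rw [hg l hl, zero_mul]
    · intro h'
      exact absurd (Finset.mem_univ _) h'
  have hw0 : w ≠ 0 := by
    intro h0
    apply det_ne_zero_GL k
    apply Matrix.det_eq_zero_of_row_eq_zero j₀
    intro i
    exact congrFun h0 i
  have hkmem : k ∈ rowStab F j₀ := by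
    intro j hj
    apply Jmat_eigen_row w _ hweq hw0 j
    intro h0
    apply hj
    exact Fin.ext (by omega)
  have := (rowStab F j₀).inv_mem hkmem
  rwa [hk, inv_inv] at this

theorem JG_mem_colStab (i₀ : Fin n) (hi₀ : i₀.val = 0) : JG F n ∈ colStab F i₀ := by
  intro i hi
  rw [JG_val]
  unfold Jmat
  rw [if_neg hi, if_neg (by omega)]

theorem JG_mem_rowStab (j₀ : Fin n) (hj₀ : j₀.val + 1 = n) : JG F n ∈ rowStab F j₀ := by
  intro j hj
  rw [JG_val]
  unfold Jmat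
  rw [if_neg hj.symm, if_neg (by have := j.2; omega)]

/-- transvections in the special linear group -/
def TS (F : Type*) [Field F] {n : ℕ} (a b : Fin n) (hab : a ≠ b) :
    Matrix.SpecialLinearGroup (Fin n) F :=
  ⟨Matrix.transvection a b 1, Matrix.det_transvection_of_ne a b hab 1⟩

theorem TS_apply (a b : Fin n) (hab : a ≠ b) (i j : Fin n) :
    ((Matrix.SpecialLinearGroup.toGL (TS F a b hab) : GL (Fin n) F) :
      Matrix (Fin n) (Fin n) F) i j =
      (if i = j then 1 else 0) + (if a = i ∧ b = j then 1 else 0) := by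
  show (Matrix.transvection a b (1 : F)) i j = _
  rw [Matrix.transvection, Matrix.add_apply, Matrix.one_apply]
  rfl

section proj

/-- the quotient map to the projective group -/
abbrev proj (F : Type*) [Field F] (n : ℕ) :
    GL (Fin n) F →* GL (Fin n) F ⧸ Subgroup.center (GL (Fin n) F) :=
  QuotientGroup.mk' (Subgroup.center (GL (Fin n) F))

theorem center_le_of_control (P : Subgroup (GL (Fin n) F)) (u : GL (Fin n) F) (hu : u ∈ P)
    (hctl : ∀ g, g⁻¹ * u * g ∈ P → g ∈ P) : Subgroup.center (GL (Fin n) F) ≤ P := by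
  intro z hz
  apply hctl
  have : z⁻¹ * u * z = u := by
    rw [Subgroup.mem_center_iff] at hz
    rw [mul_assoc, hz u, ← mul_assoc, inv_mul_cancel, one_mul]
  rwa [this]

theorem mem_map_proj_iff (P : Subgroup (GL (Fin n) F)) (hZ : Subgroup.center (GL (Fin n) F) ≤ P)
    (g : GL (Fin n) F) : proj F n g ∈ P.map (proj F n) ↔ g ∈ P := by
  constructor
  · rintro ⟨p, hp, hpg⟩
    have h1 : p⁻¹ * g ∈ Subgroup.center (GL (Fin n) F) := by
      rw [← QuotientGroup.eq]
      exact hpg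
    have := P.mul_mem hp (hZ h1)
    rwa [mul_inv_cancel_left] at this
  · intro h
    exact ⟨g, h, rfl⟩

variable (G : Subgroup (GL (Fin n) F ⧸ Subgroup.center (GL (Fin n) F)))

/-- lifting the control hypothesis to a subgroup of the projective group -/
theorem ctl_lift (P : Subgroup (GL (Fin n) F)) (u : GL (Fin n) F) (hu : u ∈ P)
    (huG : proj F n u ∈ G) (hctl : ∀ g, g⁻¹ * u * g ∈ P → g ∈ P) :
    ∀ g : ↥G, g⁻¹ * ⟨proj F n u, huG⟩ * g ∈ (P.map (proj F n)).subgroupOf G →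
      g ∈ (P.map (proj F n)).subgroupOf G := by
  intro g hg
  have hZ := center_le_of_control P u hu hctl
  obtain ⟨g', hg'⟩ := QuotientGroup.mk_surjective g.val
  rw [Subgroup.mem_subgroupOf] at hg ⊢
  have e : ((g⁻¹ * ⟨proj F n u, huG⟩ * g : ↥G) : GL (Fin n) F ⧸ Subgroup.center (GL (Fin n) F)) =
      proj F n (g'⁻¹ * u * g') := by
    rw [map_mul, map_mul, map_inv]
    show (g.val)⁻¹ * proj F n u * g.val = _
    rw [← hg']
    rfl
  rw [e, mem_map_proj_iff P hZ] at hg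
  have := hctl g' hg
  rw [← hg']
  exact (mem_map_proj_iff P hZ g').mpr this

theorem sl_mem (hG : ((Matrix.SpecialLinearGroup.toGL :
      Matrix.SpecialLinearGroup (Fin n) F →* GL (Fin n) F).range).map
      (QuotientGroup.mk' (Subgroup.center (GL (Fin n) F))) ≤ G)
    (s : Matrix.SpecialLinearGroup (Fin n) F) :
    proj F n (Matrix.SpecialLinearGroup.toGL s) ∈ G :=
  hG ⟨Matrix.SpecialLinearGroup.toGL s, ⟨s, rfl⟩, rfl⟩

end proj

/-- the case `n ≥ 3` -/
theorem main_ge_three (k : ℕ)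
    (G : Subgroup (GL (Fin (k + 3)) F ⧸ Subgroup.center (GL (Fin (k + 3)) F)))
    (hG : ((Matrix.SpecialLinearGroup.toGL :
      Matrix.SpecialLinearGroup (Fin (k + 3)) F →* GL (Fin (k + 3)) F).range).map
      (QuotientGroup.mk' (Subgroup.center (GL (Fin (k + 3)) F))) ≤ G) :
    ¬ ∃ 𝓐 : Finset (Subgroup ↥G), ((∀ A ∈ 𝓐, A ≠ ⊤) ∧ (∀ g : ↥G, ∃ A ∈ 𝓐, g ∈ A)) ∧
      (∀ 𝓑 : Finset (Subgroup ↥G), (∀ A ∈ 𝓑, A ≠ ⊤) ∧ (∀ g : ↥G, ∃ A ∈ 𝓑, g ∈ A) →
        𝓐.card ≤ 𝓑.card) ∧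
      (∀ A ∈ 𝓐, Group.IsNilpotent ↥A) := by
  obtain ⟨i₀, hi₀v⟩ : ∃ i : Fin (k + 3), i.val = 0 := ⟨⟨0, by omega⟩, rfl⟩
  obtain ⟨i₁, hi₁v⟩ : ∃ i : Fin (k + 3), i.val = 1 := ⟨⟨1, by omega⟩, rfl⟩
  obtain ⟨j₀, hj₀v'⟩ : ∃ i : Fin (k + 3), i.val = k + 2 := ⟨⟨k + 2, by omega⟩, rfl⟩
  have h01 : i₁ ≠ i₀ := by intro h; have := congrArg Fin.val h; omega
  have hj1 : j₀ ≠ i₁ := by intro h; have := congrArg Fin.val h; omega
  have hj0 : j₀ ≠ i₀ := by intro h; have := congrArg Fin.val h; omega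
  have hj₀v : j₀.val + 1 = k + 3 := by omega
  -- the elements
  have huG : proj F (k + 3) (JG F (k + 3)) ∈ G := sl_mem G hG (JS F (k + 3))
  obtain ⟨c, hc⟩ : ∃ c : ↥G, c = ⟨proj F (k + 3) (JG F (k + 3)), huG⟩ := ⟨_, rfl⟩
  obtain ⟨mt, hmt⟩ : ∃ mt : GL (Fin (k + 3)) F,
      mt = Matrix.SpecialLinearGroup.toGL (TS F j₀ i₁ hj1) := ⟨_, rfl⟩
  have hmG : proj F (k + 3) mt ∈ G := by rw [hmt]; exact sl_mem G hG _
  obtain ⟨mm, hmm⟩ : ∃ mm : ↥G, mm = ⟨proj F (k + 3) mt, hmG⟩ := ⟨_, rfl⟩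
  obtain ⟨M, hM⟩ : ∃ M : Subgroup ↥G,
      M = ((colStab F i₀).map (proj F (k + 3))).subgroupOf G := ⟨_, rfl⟩
  obtain ⟨M', hM'⟩ : ∃ M' : Subgroup ↥G,
      M' = ((rowStab F j₀).map (proj F (k + 3))).subgroupOf G := ⟨_, rfl⟩
  have ctlM : ∀ g : ↥G, g⁻¹ * c * g ∈ M → g ∈ M := by
    rw [hc, hM]
    exact ctl_lift G (colStab F i₀) (JG F (k + 3)) (JG_mem_colStab i₀ hi₀v) huG
      (control_col i₀ hi₀v)
  have ctlM' : ∀ g : ↥G, g⁻¹ * c * g ∈ M' → g ∈ M' := by
    rw [hc, hM']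
    exact ctl_lift G (rowStab F j₀) (JG F (k + 3)) (JG_mem_rowStab j₀ hj₀v) huG
      (control_row j₀ hj₀v)
  have hZ := center_le_of_control (colStab F i₀) (JG F (k + 3)) (JG_mem_colStab i₀ hi₀v)
    (control_col i₀ hi₀v)
  have hZ' := center_le_of_control (rowStab F j₀) (JG F (k + 3)) (JG_mem_rowStab j₀ hj₀v)
    (control_row j₀ hj₀v)
  have hcM : c ∈ M := by
    rw [hM, hc, Subgroup.mem_subgroupOf]
    exact ⟨JG F (k + 3), JG_mem_colStab i₀ hi₀v, rfl⟩
  have hcM' : c ∈ M' := by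
    rw [hM', hc, Subgroup.mem_subgroupOf]
    exact ⟨JG F (k + 3), JG_mem_rowStab j₀ hj₀v, rfl⟩
  have hmM : mm ∈ M := by
    rw [hM, hmm, Subgroup.mem_subgroupOf]
    refine ⟨mt, ?_, rfl⟩
    intro i hi
    rw [hmt, TS_apply, if_neg hi, if_neg (fun h => h01 h.2), add_zero]
  have hmM' : mm ∉ M' := by
    intro h
    rw [hM', hmm, Subgroup.mem_subgroupOf] at h
    have h2 : mt ∈ rowStab F j₀ := (mem_map_proj_iff _ hZ' mt).mp h
    have h3 := h2 i₁ hj1.symm
    rw [hmt, TS_apply, if_neg hj1, if_pos ⟨rfl, rfl⟩, zero_add] at h3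
    exact one_ne_zero h3
  apply Cfsg.Agent.Lib.Helper14.NilCover.no_min_cover_of_pair c (mm * c * mm⁻¹) M
  · -- M is proper
    intro htop
    obtain ⟨tt, htt⟩ : ∃ tt : GL (Fin (k + 3)) F,
        tt = Matrix.SpecialLinearGroup.toGL (TS F i₁ i₀ h01) := ⟨_, rfl⟩
    have htG : proj F (k + 3) tt ∈ G := by rw [htt]; exact sl_mem G hG _
    have h1 : (⟨proj F (k + 3) tt, htG⟩ : ↥G) ∈ M := by rw [htop]; trivial
    rw [hM, Subgroup.mem_subgroupOf] at h1
    have h2 : tt ∈ colStab F i₀ := (mem_map_proj_iff _ hZ tt).mp h1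
    have h3 := h2 i₁ h01
    rw [htt, TS_apply, if_neg h01, if_pos ⟨rfl, rfl⟩, zero_add] at h3
    exact one_ne_zero h3
  · intro A hA hcA
    exact le_of_control M c hcM ctlM A hA hcA
  · intro A hA hcA
    exact le_of_control M (mm * c * mm⁻¹) (M.mul_mem (M.mul_mem hmM hcM) (M.inv_mem hmM))
      (control_conj M c mm hmM ctlM) A hA hcA
  · intro A hA hcA hc'A
    have hAM' : A ≤ M' := le_of_control M' c hcM' ctlM' A hA hcA
    have h1 : mm * c * mm⁻¹ ∈ M' := hAM' hc'A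
    have h2 : mm⁻¹ ∈ M' := by
      apply ctlM'
      rwa [inv_inv]
    apply hmM'
    have := M'.inv_mem h2
    rwa [inv_inv] at this

end Cfsg.Agent.Lib.Helper14.PGLCover
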