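import Mathlib
import Cfsg.Agent.Lib.Helper14.PGLCoverA

/-!
# Nilpotent minimal covers of groups between PSL and PGL, part D (helper14)

The replacement argument with a whole conjugacy class of subgroups.
-/

set_option autoImplicit false
set_option maxHeartbeats 1000000

namespace Cfsg.Agent.Lib.Helper14.PGLCover

variable {Γ : Type*} [Group Γ]

/-- the conjugate `g M g⁻¹` -/
def cj (M : Subgroup Γ) (g : Γ) : Subgroup Γ :=
  M.comap (MulAut.conj g⁻¹).toMonoidHom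

theorem mem_cj (M : Subgroup Γ) (g x : Γ) : x ∈ cj M g ↔ g⁻¹ * x * g ∈ M := by
  unfold cj
  rw [Subgroup.mem_comap]
  simp [MulAut.conj_apply]

theorem cj_ne_top (M : Subgroup Γ) (hM : M ≠ ⊤) (g : Γ) : cj M g ≠ ⊤ := by
  intro h
  apply hM
  rw [eq_top_iff]
  intro x _
  have h1 : g * x * g⁻¹ ∈ cj M g := by rw [h]; trivial
  rw [mem_cj] at h1
  have e : g⁻¹ * (g * x * g⁻¹) * g = x := by group
  rwa [e] at h1

theorem cj_control (M : Subgroup Γ) (c : Γ) (hctl : ∀ g : Γ, g⁻¹ * c * g ∈ M → g ∈ M) (g : Γ) :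
    ∀ h : Γ, h⁻¹ * (g * c * g⁻¹) * h ∈ cj M g → h ∈ cj M g := by
  intro h hh
  rw [mem_cj] at hh ⊢
  apply hctl
  have e : (g⁻¹ * h * g)⁻¹ * c * (g⁻¹ * h * g) = g⁻¹ * (h⁻¹ * (g * c * g⁻¹) * h) * g := by group
  rwa [e]

theorem le_cj_of_mem (M : Subgroup Γ) (c : Γ) (hcM : c ∈ M)
    (hctl : ∀ g : Γ, g⁻¹ * c * g ∈ M → g ∈ M) (g : Γ) (A : Subgroup Γ)
    (hA : Group.IsNilpotent A) (hcA : g * c * g⁻¹ ∈ A) : A ≤ cj M g := by
  apply le_of_control (cj M g) (g * c * g⁻¹) _ (cj_control M c hctl g) A hA hcA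
  rw [mem_cj]
  have e : g⁻¹ * (g * c * g⁻¹) * g = c := by group
  rwa [e]

theorem cj_eq_of_mem (M : Subgroup Γ) (g g₁ : Γ) (h : g₁⁻¹ * g ∈ M) : cj M g₁ = cj M g := by
  ext x
  rw [mem_cj, mem_cj]
  have e : g⁻¹ * x * g = (g₁⁻¹ * g)⁻¹ * (g₁⁻¹ * x * g₁) * (g₁⁻¹ * g) := by group
  rw [e]
  constructor
  · intro hx
    exact M.mul_mem (M.mul_mem (M.inv_mem h) hx) h
  · intro hx
    have := M.mul_mem (M.mul_mem h hx) (M.inv_mem h)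
    have e2 : g₁⁻¹ * g * ((g₁⁻¹ * g)⁻¹ * (g₁⁻¹ * x * g₁) * (g₁⁻¹ * g)) * (g₁⁻¹ * g)⁻¹ =
        g₁⁻¹ * x * g₁ := by group
    rwa [e2] at this

/-- replacement by a whole class of conjugates -/
theorem no_min_cover_of_conj_family [Finite Γ]
    (c : Γ) (M : Subgroup Γ) (hM : M ≠ ⊤) (hcM : c ∈ M)
    (hctl : ∀ g : Γ, g⁻¹ * c * g ∈ M → g ∈ M)
    (t : Γ)
    (ht1 : ∀ A : Subgroup Γ, Group.IsNilpotent A → t ∈ A → ∀ g : Γ, g * c * g⁻¹ ∉ A)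
    (ht2 : ∀ A : Subgroup Γ, Group.IsNilpotent A → t ∈ A → ∀ x ∈ A, ∃ g : Γ, g⁻¹ * x * g ∈ M) :
    ¬ ∃ 𝓐 : Finset (Subgroup Γ), ((∀ A ∈ 𝓐, A ≠ ⊤) ∧ (∀ g : Γ, ∃ A ∈ 𝓐, g ∈ A)) ∧
      (∀ 𝓑 : Finset (Subgroup Γ), (∀ A ∈ 𝓑, A ≠ ⊤) ∧ (∀ g : Γ, ∃ A ∈ 𝓑, g ∈ A) →
        𝓐.card ≤ 𝓑.card) ∧
      (∀ A ∈ 𝓐, Group.IsNilpotent ↥A) := by
  classical
  haveI : Fintype Γ := Fintype.ofFinite Γ
  rintro ⟨𝓐, hcov, hmin, hnil⟩
  obtain ⟨At, hAt, htAt⟩ := hcov.2 t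
  set 𝓢 : Finset (Subgroup Γ) := Finset.univ.image (cj M) with h𝓢
  set 𝓐₁ : Finset (Subgroup Γ) := 𝓐.filter (fun A => ∃ g : Γ, g * c * g⁻¹ ∈ A) with h𝓐₁
  have hAt1 : At ∉ 𝓐₁ := by
    intro h
    obtain ⟨_, g, hg⟩ := Finset.mem_filter.mp h
    exact ht1 At (hnil At hAt) htAt g hg
  set 𝓐₂ : Finset (Subgroup Γ) := insert At 𝓐₁ with h𝓐₂
  have hsub : 𝓐₂ ⊆ 𝓐 := by
    intro A hA
    rcases Finset.mem_insert.mp hA with rfl | hA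
    · exact hAt
    · exact (Finset.mem_filter.mp hA).1
  set 𝓑 : Finset (Subgroup Γ) := (𝓐 \ 𝓐₂) ∪ 𝓢 with h𝓑
  have hcov𝓑 : (∀ B ∈ 𝓑, B ≠ ⊤) ∧ (∀ g : Γ, ∃ B ∈ 𝓑, g ∈ B) := by
    constructor
    · intro B hB
      rcases Finset.mem_union.mp hB with hB | hB
      · exact hcov.1 B (Finset.mem_sdiff.mp hB).1
      · obtain ⟨g, _, rfl⟩ := Finset.mem_image.mp hB
        exact cj_ne_top M hM g
    · intro g₀
      obtain ⟨B, hB, hg₀⟩ := hcov.2 g₀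
      by_cases h1 : ∃ g : Γ, g * c * g⁻¹ ∈ B
      · obtain ⟨g, hg⟩ := h1
        refine ⟨cj M g, Finset.mem_union_right _ (Finset.mem_image.mpr ⟨g, Finset.mem_univ _, rfl⟩),
          le_cj_of_mem M c hcM hctl g B (hnil B hB) hg hg₀⟩
      by_cases h2 : B = At
      · subst h2
        obtain ⟨g, hg⟩ := ht2 B (hnil B hB) htAt g₀ hg₀
        refine ⟨cj M g, Finset.mem_union_right _ (Finset.mem_image.mpr ⟨g, Finset.mem_univ _, rfl⟩),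
          ?_⟩
        rw [mem_cj]
        exact hg
      · refine ⟨B, Finset.mem_union_left _ (Finset.mem_sdiff.mpr ⟨hB, ?_⟩), hg₀⟩
        intro hB2
        rcases Finset.mem_insert.mp hB2 with h | h
        · exact h2 h
        · exact h1 (Finset.mem_filter.mp h).2
  have hle := hmin 𝓑 hcov𝓑
  -- counting
  have hS : 𝓢.card ≤ 𝓐₁.card := by
    set f : Subgroup Γ → Subgroup Γ := fun A =>
      if h : ∃ g : Γ, g * c * g⁻¹ ∈ A then cj M h.choose else ⊥ with hf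
    apply Finset.card_le_card_of_surjOn f
    intro S hS
    obtain ⟨g, _, rfl⟩ := Finset.mem_image.mp (Finset.mem_coe.mp hS)
    obtain ⟨A, hA, hgA⟩ := hcov.2 (g * c * g⁻¹)
    have hex : ∃ g : Γ, g * c * g⁻¹ ∈ A := ⟨g, hgA⟩
    refine ⟨A, Finset.mem_coe.mpr (Finset.mem_filter.mpr ⟨hA, hex⟩), ?_⟩
    show f A = cj M g
    rw [hf]
    simp only
    rw [dif_pos hex]
    have h1 := hex.choose_spec
    have h2 : hex.choose * c * hex.choose⁻¹ ∈ cj M g :=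
      le_cj_of_mem M c hcM hctl g A (hnil A hA) hgA h1
    rw [mem_cj] at h2
    apply cj_eq_of_mem
    apply hctl
    have e : (hex.choose⁻¹ * g)⁻¹ * c * (hex.choose⁻¹ * g) =
        g⁻¹ * (hex.choose * c * hex.choose⁻¹) * g := by group
    rwa [e]
  have h3 : 𝓑.card ≤ (𝓐 \ 𝓐₂).card + 𝓢.card := Finset.card_union_le _ _
  have h4 : (𝓐 \ 𝓐₂).card + 𝓐₂.card = 𝓐.card := Finset.card_sdiff_add_card_eq_card hsub
  have h5 : 𝓐₂.card = 𝓐₁.card + 1 := Finset.card_insert_of_notMem hAt1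
  omega

end Cfsg.Agent.Lib.Helper14.PGLCover
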