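import Mathlib
import Cfsg.Agent.Lib.Helper14.PGLCoverC
import Cfsg.Agent.Lib.Helper14.PGLCoverD

/-!
# Nilpotent minimal covers of groups between PSL and PGL, part E (helper14)

Basics on two by two matrices.
-/

set_option autoImplicit false
set_option maxHeartbeats 1000000

namespace Cfsg.Agent.Lib.Helper14.PGLCover

open Matrix

variable {F : Type*} [Field F]

/-- special linear two by two matrices from entries -/
def mkS (a b c d : F) (h : a * d - b * c = 1) : Matrix.SpecialLinearGroup (Fin 2) F :=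
  ⟨!![a, b; c, d], by rw [Matrix.det_fin_two_of]; exact h⟩

/-- the same in the general linear group -/
def mkG (a b c d : F) (h : a * d - b * c = 1) : GL (Fin 2) F :=
  Matrix.SpecialLinearGroup.toGL (mkS a b c d h)

theorem mkG_val (a b c d : F) (h : a * d - b * c = 1) :
    ((mkG a b c d h : GL (Fin 2) F) : Matrix (Fin 2) (Fin 2) F) = !![a, b; c, d] := rfl

@[simp] theorem mkG_00 (a b c d : F) (h : a * d - b * c = 1) :
    ((mkG a b c d h : GL (Fin 2) F) : Matrix (Fin 2) (Fin 2) F) 0 0 = a := rfl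
@[simp] theorem mkG_01 (a b c d : F) (h : a * d - b * c = 1) :
    ((mkG a b c d h : GL (Fin 2) F) : Matrix (Fin 2) (Fin 2) F) 0 1 = b := rfl
@[simp] theorem mkG_10 (a b c d : F) (h : a * d - b * c = 1) :
    ((mkG a b c d h : GL (Fin 2) F) : Matrix (Fin 2) (Fin 2) F) 1 0 = c := rfl
@[simp] theorem mkG_11 (a b c d : F) (h : a * d - b * c = 1) :
    ((mkG a b c d h : GL (Fin 2) F) : Matrix (Fin 2) (Fin 2) F) 1 1 = d := rfl

theorem gl2_ext (g h : GL (Fin 2) F)
    (h00 : (g : Matrix (Fin 2) (Fin 2) F) 0 0 = (h : Matrix (Fin 2) (Fin 2) F) 0 0)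
    (h01 : (g : Matrix (Fin 2) (Fin 2) F) 0 1 = (h : Matrix (Fin 2) (Fin 2) F) 0 1)
    (h10 : (g : Matrix (Fin 2) (Fin 2) F) 1 0 = (h : Matrix (Fin 2) (Fin 2) F) 1 0)
    (h11 : (g : Matrix (Fin 2) (Fin 2) F) 1 1 = (h : Matrix (Fin 2) (Fin 2) F) 1 1) : g = h := by
  apply Units.ext
  ext i j
  fin_cases i <;> fin_cases j
  · exact h00
  · exact h01
  · exact h10
  · exact h11

theorem gl2_mul_apply (g h : GL (Fin 2) F) (i j : Fin 2) :
    ((g * h : GL (Fin 2) F) : Matrix (Fin 2) (Fin 2) F) i j =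
      (g : Matrix (Fin 2) (Fin 2) F) i 0 * (h : Matrix (Fin 2) (Fin 2) F) 0 j +
      (g : Matrix (Fin 2) (Fin 2) F) i 1 * (h : Matrix (Fin 2) (Fin 2) F) 1 j := by
  rw [Units.val_mul, Matrix.mul_apply, Fin.sum_univ_two]

theorem gl2_det (g : GL (Fin 2) F) :
    (g : Matrix (Fin 2) (Fin 2) F) 0 0 * (g : Matrix (Fin 2) (Fin 2) F) 1 1 -
      (g : Matrix (Fin 2) (Fin 2) F) 0 1 * (g : Matrix (Fin 2) (Fin 2) F) 1 0 ≠ 0 := by
  have := det_ne_zero_GL g
  rwa [Matrix.det_fin_two] at this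

theorem gl2_one_apply (i j : Fin 2) :
    ((1 : GL (Fin 2) F) : Matrix (Fin 2) (Fin 2) F) i j = if i = j then 1 else 0 := by
  rw [Units.val_one, Matrix.one_apply]

/-- equality in the projective group -/
theorem proj_eq_iff (y y' : GL (Fin 2) F) :
    proj F 2 y = proj F 2 y' ↔ ∃ z : F, ∀ i j, (y : Matrix (Fin 2) (Fin 2) F) i j =
      z * (y' : Matrix (Fin 2) (Fin 2) F) i j := by
  constructor
  · intro h
    have h1 : y'⁻¹ * y ∈ Subgroup.center (GL (Fin 2) F) := by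
      rw [← QuotientGroup.eq]
      exact h.symm
    rw [Matrix.GeneralLinearGroup.mem_center_iff_val_mem_range_scalar] at h1
    obtain ⟨z, hz⟩ := h1
    refine ⟨z, ?_⟩
    have h2 : (y : Matrix (Fin 2) (Fin 2) F) = (y' : Matrix (Fin 2) (Fin 2) F) *
        Matrix.scalar (Fin 2) z := by
      rw [hz, ← Units.val_mul, mul_inv_cancel_left]
    intro i j
    rw [h2, Matrix.scalar_apply, Matrix.mul_diagonal, mul_comm]
  · rintro ⟨z, hz⟩
    symm
    show ((y' : GL (Fin 2) F) : GL (Fin 2) F ⧸ Subgroup.center (GL (Fin 2) F)) = (y : _)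
    rw [QuotientGroup.eq, Matrix.GeneralLinearGroup.mem_center_iff_val_mem_range_scalar]
    refine ⟨z, ?_⟩
    have h2 : (y : Matrix (Fin 2) (Fin 2) F) = z • (y' : Matrix (Fin 2) (Fin 2) F) := by
      ext i j
      rw [hz, Matrix.smul_apply, smul_eq_mul]
    rw [Units.val_mul, h2, Matrix.mul_smul, ← Units.val_mul, inv_mul_cancel, Units.val_one,
      Matrix.scalar_apply, Matrix.smul_one_eq_diagonal]

/-- iterated commutators and homomorphisms -/
theorem map_cseq {Γ Γ' : Type*} [Group Γ] [Group Γ'] (f : Γ →* Γ') (x c : Γ) (k : ℕ) :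
    f (cseq x c k) = cseq (f x) (f c) k := by
  induction k with
  | zero => rfl
  | succ k ih => rw [cseq_succ, cseq_succ, map_mul, map_mul, map_mul, map_inv, map_inv, ih]

/-- upper unipotent matrices -/
def UU (w : F) : GL (Fin 2) F := mkG 1 w 0 1 (by ring)

theorem JG_two : JG F 2 = UU 1 := by
  apply gl2_ext
  · rw [JG_val]; simp [Jmat, UU]
  · rw [JG_val]; simp [Jmat, UU]
  · rw [JG_val]; simp [Jmat, UU]
  · rw [JG_val]; simp [Jmat, UU]

theorem UU_comm_step (w : F) (b : GL (Fin 2) F)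
    (hb : (b : Matrix (Fin 2) (Fin 2) F) 1 0 = 0) :
    UU w * b * (UU w)⁻¹ * b⁻¹ = UU (w * (1 - (b : Matrix (Fin 2) (Fin 2) F) 0 0 /
      (b : Matrix (Fin 2) (Fin 2) F) 1 1)) := by
  have hd := gl2_det b
  rw [hb, mul_zero, sub_zero] at hd
  have hδ : (b : Matrix (Fin 2) (Fin 2) F) 1 1 ≠ 0 := right_ne_zero_of_mul hd
  rw [mul_inv_eq_iff_eq_mul, mul_inv_eq_iff_eq_mul]
  apply gl2_ext
  · simp only [gl2_mul_apply, UU, mkG_00, mkG_01, mkG_10, mkG_11, hb]
    ring
  · simp only [gl2_mul_apply, UU, mkG_00, mkG_01, mkG_10, mkG_11, hb]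
    field_simp
    ring
  · simp only [gl2_mul_apply, UU, mkG_00, mkG_01, mkG_10, mkG_11, hb]
    ring
  · simp only [gl2_mul_apply, UU, mkG_00, mkG_01, mkG_10, mkG_11, hb]
    ring

theorem cseq_UU (b : GL (Fin 2) F) (hb : (b : Matrix (Fin 2) (Fin 2) F) 1 0 = 0) (k : ℕ) :
    cseq (UU 1) b k = UU ((1 - (b : Matrix (Fin 2) (Fin 2) F) 0 0 /
      (b : Matrix (Fin 2) (Fin 2) F) 1 1) ^ k) := by
  induction k with
  | zero => rw [cseq_zero, pow_zero]
  | succ k ih => rw [cseq_succ, ih, UU_comm_step _ b hb, pow_succ]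

end Cfsg.Agent.Lib.Helper14.PGLCover
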