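import Mathlib
import Cfsg.Agent.Lib.Helper14.PGLCoverE

/-!
# Nilpotent minimal covers of groups between PSL and PGL, part F (helper14)

Degree two: nilpotent subgroups containing a transvection, and the case where the group is
bigger than the image of the special linear group.
-/

set_option autoImplicit false
set_option maxHeartbeats 1000000

namespace Cfsg.Agent.Lib.Helper14.PGLCover

open Matrix

section abstract

variable {Γ : Type*} [Group Γ]

theorem nilpotent_conj (A : Subgroup Γ) (hA : Group.IsNilpotent A) (m : Γ) :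
    Group.IsNilpotent (A.map (MulAut.conj m).toMonoidHom) :=
  (Group.isNilpotent_congr (A.equivMapOfInjective _ (MulAut.conj m).injective)).mp hA

theorem mem_conj_map (A : Subgroup Γ) (m x : Γ) (hx : m * x * m⁻¹ ∈ A) :
    x ∈ A.map (MulAut.conj m⁻¹).toMonoidHom := by
  refine ⟨m * x * m⁻¹, hx, ?_⟩
  show MulAut.conj m⁻¹ (m * x * m⁻¹) = x
  rw [MulAut.conj_apply]
  group

theorem le_of_conj (M : Subgroup Γ) (c m : Γ) (hm : m ∈ M)
    (h1 : ∀ A : Subgroup Γ, Group.IsNilpotent A → c ∈ A → A ≤ M) :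
    ∀ A : Subgroup Γ, Group.IsNilpotent A → m * c * m⁻¹ ∈ A → A ≤ M := by
  intro A hA hcA x hx
  have h2 := h1 (A.map (MulAut.conj m⁻¹).toMonoidHom) (nilpotent_conj A hA m⁻¹)
    (mem_conj_map A m c hcA)
  have h3 : m⁻¹ * x * m ∈ M := by
    apply h2
    apply mem_conj_map
    have e : m * (m⁻¹ * x * m) * m⁻¹ = x := by group
    rwa [e]
  have := M.mul_mem (M.mul_mem hm h3) (M.inv_mem hm)
  have e : m * (m⁻¹ * x * m) * m⁻¹ = x := by group
  rwa [e] at this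

end abstract

variable {F : Type*} [Field F]

variable (G : Subgroup (GL (Fin 2) F ⧸ Subgroup.center (GL (Fin 2) F)))

/-- the image of the Borel subgroup -/
def BG : Subgroup ↥G := ((colStab F (0 : Fin 2)).map (proj F 2)).subgroupOf G

theorem UU_mem_colStab (w : F) : UU w ∈ colStab F (0 : Fin 2) := by
  intro i hi
  fin_cases i
  · exact absurd rfl hi
  · rfl

theorem ctl_col_two (g : GL (Fin 2) F) (hg : g⁻¹ * UU 1 * g ∈ colStab F (0 : Fin 2)) :
    g ∈ colStab F (0 : Fin 2) := by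
  rw [← JG_two] at hg
  exact control_col (0 : Fin 2) rfl g hg

theorem center_le_colStab : Subgroup.center (GL (Fin 2) F) ≤ colStab F (0 : Fin 2) :=
  center_le_of_control (colStab F (0 : Fin 2)) (UU 1) (UU_mem_colStab 1) ctl_col_two

theorem ctl_BG (hc : proj F 2 (UU 1) ∈ G) :
    ∀ g : ↥G, g⁻¹ * ⟨proj F 2 (UU 1), hc⟩ * g ∈ BG G → g ∈ BG G :=
  ctl_lift G (colStab F (0 : Fin 2)) (UU 1) (UU_mem_colStab 1) hc ctl_col_two

theorem c_mem_BG (hc : proj F 2 (UU 1) ∈ G) : (⟨proj F 2 (UU 1), hc⟩ : ↥G) ∈ BG G := by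
  unfold BG
  rw [Subgroup.mem_subgroupOf]
  exact ⟨UU 1, UU_mem_colStab 1, rfl⟩

theorem mem_BG_iff (g : GL (Fin 2) F) (hg : proj F 2 g ∈ G) :
    (⟨proj F 2 g, hg⟩ : ↥G) ∈ BG G ↔ (g : Matrix (Fin 2) (Fin 2) F) 1 0 = 0 := by
  unfold BG
  rw [Subgroup.mem_subgroupOf]
  show proj F 2 g ∈ _ ↔ _
  rw [mem_map_proj_iff _ center_le_colStab]
  constructor
  · intro h
    exact h 1 (by decide)
  · intro h i hi
    fin_cases i
    · exact absurd rfl hi
    · exact h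

theorem pow_eq_zero_iff_of_pos_aux {a : F} {n : ℕ} (h : a ^ n = 0) : a = 0 := by
  by_contra h0
  exact pow_ne_zero n h0 h

/-- a nilpotent subgroup containing the transvection consists of unipotent elements -/
theorem unip_of_nilpotent (hc : proj F 2 (UU 1) ∈ G) (A : Subgroup ↥G)
    (hA : Group.IsNilpotent A) (hcA : (⟨proj F 2 (UU 1), hc⟩ : ↥G) ∈ A) (x : ↥G) (hx : x ∈ A) :
    ∃ y : GL (Fin 2) F, proj F 2 y = x.val ∧ (y : Matrix (Fin 2) (Fin 2) F) 1 0 = 0 ∧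
      (y : Matrix (Fin 2) (Fin 2) F) 0 0 = (y : Matrix (Fin 2) (Fin 2) F) 1 1 := by
  have hxM : x ∈ BG G :=
    le_of_control (BG G) _ (c_mem_BG G hc) (ctl_BG G hc) A hA hcA hx
  unfold BG at hxM
  rw [Subgroup.mem_subgroupOf] at hxM
  obtain ⟨b, hb, hbx⟩ := hxM
  have hb10 : (b : Matrix (Fin 2) (Fin 2) F) 1 0 = 0 := hb 1 (by decide)
  obtain ⟨n, hn⟩ := cseq_eq_one A hA hcA hx
  have h1 := congrArg G.subtype hn
  rw [map_cseq, map_one] at h1
  have h2 : cseq (proj F 2 (UU 1)) (proj F 2 b) n = 1 := by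
    rw [hbx]
    exact h1
  rw [← map_cseq, cseq_UU b hb10] at h2
  have h3 : proj F 2 (UU ((1 - (b : Matrix (Fin 2) (Fin 2) F) 0 0 /
      (b : Matrix (Fin 2) (Fin 2) F) 1 1) ^ n)) = proj F 2 1 := by rw [h2, map_one]
  obtain ⟨z, hz⟩ := (proj_eq_iff _ _).mp h3
  have h4 := hz 0 1
  rw [gl2_one_apply, if_neg (by decide), mul_zero] at h4
  have h5 : (1 - (b : Matrix (Fin 2) (Fin 2) F) 0 0 /
      (b : Matrix (Fin 2) (Fin 2) F) 1 1) ^ n = 0 := h4
  have h7 : 1 - (b : Matrix (Fin 2) (Fin 2) F) 0 0 / (b : Matrix (Fin 2) (Fin 2) F) 1 1 = 0 :=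
    pow_eq_zero_iff_of_pos_aux h5
  have hd := gl2_det b
  rw [hb10, mul_zero, sub_zero] at hd
  have hδ : (b : Matrix (Fin 2) (Fin 2) F) 1 1 ≠ 0 := right_ne_zero_of_mul hd
  refine ⟨b, hbx, hb10, ?_⟩
  have h8 : (b : Matrix (Fin 2) (Fin 2) F) 0 0 / (b : Matrix (Fin 2) (Fin 2) F) 1 1 = 1 := by
    rw [sub_eq_zero] at h7
    exact h7.symm
  rw [div_eq_one_iff_eq hδ] at h8
  exact h8

theorem mkG_mem (hG : ((Matrix.SpecialLinearGroup.toGL :
      Matrix.SpecialLinearGroup (Fin 2) F →* GL (Fin 2) F).range).map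
      (QuotientGroup.mk' (Subgroup.center (GL (Fin 2) F))) ≤ G)
    (a b c d : F) (h : a * d - b * c = 1) : proj F 2 (mkG a b c d h) ∈ G :=
  sl_mem G hG (mkS a b c d h)

/-- the lower unipotent matrix as a conjugate of the upper one -/
theorem conj_UU_one : mkG (0 : F) (-1) 1 0 (by ring) * UU 1 * (mkG (0 : F) (-1) 1 0 (by ring))⁻¹ =
    mkG 1 0 (-1) 1 (by ring) := by
  rw [mul_inv_eq_iff_eq_mul]
  apply gl2_ext <;> simp [gl2_mul_apply, UU]

/-- the case where `G` is not the image of the special linear group -/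
theorem case_not_psl (hG : ((Matrix.SpecialLinearGroup.toGL :
      Matrix.SpecialLinearGroup (Fin 2) F →* GL (Fin 2) F).range).map
      (QuotientGroup.mk' (Subgroup.center (GL (Fin 2) F))) ≤ G)
    (hne : ¬ G ≤ ((Matrix.SpecialLinearGroup.toGL :
      Matrix.SpecialLinearGroup (Fin 2) F →* GL (Fin 2) F).range).map
      (QuotientGroup.mk' (Subgroup.center (GL (Fin 2) F)))) :
    ¬ ∃ 𝓐 : Finset (Subgroup ↥G), ((∀ A ∈ 𝓐, A ≠ ⊤) ∧ (∀ g : ↥G, ∃ A ∈ 𝓐, g ∈ A)) ∧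
      (∀ 𝓑 : Finset (Subgroup ↥G), (∀ A ∈ 𝓑, A ≠ ⊤) ∧ (∀ g : ↥G, ∃ A ∈ 𝓑, g ∈ A) →
        𝓐.card ≤ 𝓑.card) ∧
      (∀ A ∈ 𝓐, Group.IsNilpotent ↥A) := by
  have hc : proj F 2 (UU 1) ∈ G := mkG_mem G hG 1 1 0 1 (by ring)
  have hW : proj F 2 (mkG (0 : F) (-1) 1 0 (by ring)) ∈ G := mkG_mem G hG _ _ _ _ _
  obtain ⟨M, hMdef⟩ : ∃ M : Subgroup ↥G, M = (((Matrix.SpecialLinearGroup.toGL :
      Matrix.SpecialLinearGroup (Fin 2) F →* GL (Fin 2) F).range).map
      (QuotientGroup.mk' (Subgroup.center (GL (Fin 2) F)))).subgroupOf G := ⟨_, rfl⟩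
  obtain ⟨c, hcdef⟩ : ∃ c : ↥G, c = ⟨proj F 2 (UU 1), hc⟩ := ⟨_, rfl⟩
  obtain ⟨m, hmdef⟩ : ∃ m : ↥G, m = ⟨proj F 2 (mkG (0 : F) (-1) 1 0 (by ring)), hW⟩ := ⟨_, rfl⟩
  have hm : m ∈ M := by
    rw [hMdef, hmdef, Subgroup.mem_subgroupOf]
    exact ⟨mkG (0 : F) (-1) 1 0 (by ring), ⟨mkS _ _ _ _ _, rfl⟩, rfl⟩
  have h1 : ∀ A : Subgroup ↥G, Group.IsNilpotent A → c ∈ A → A ≤ M := by
    intro A hA hcA x hx
    rw [hcdef] at hcA
    obtain ⟨y, hy, hy10, hy00⟩ := unip_of_nilpotent G hc A hA hcA x hx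
    have hd := gl2_det y
    rw [hy10, mul_zero, sub_zero, ← hy00] at hd
    have hz : (y : Matrix (Fin 2) (Fin 2) F) 0 0 ≠ 0 := right_ne_zero_of_mul hd
    have e : proj F 2 y = proj F 2 (UU ((y : Matrix (Fin 2) (Fin 2) F) 0 1 /
        (y : Matrix (Fin 2) (Fin 2) F) 0 0)) := by
      rw [proj_eq_iff]
      refine ⟨(y : Matrix (Fin 2) (Fin 2) F) 0 0, ?_⟩
      intro i j
      fin_cases i <;> fin_cases j
      · simp [UU]
      · simp [UU]
        field_simp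
      · simp [UU, hy10]
      · simp [UU, hy00]
    rw [hMdef, Subgroup.mem_subgroupOf, ← hy, e]
    exact ⟨UU _, ⟨mkS _ _ _ _ _, rfl⟩, rfl⟩
  apply Cfsg.Agent.Lib.Helper14.NilCover.no_min_cover_of_pair c (m * c * m⁻¹) M
  · intro htop
    apply hne
    intro g hg
    have h2 : (⟨g, hg⟩ : ↥G) ∈ M := by rw [htop]; trivial
    rw [hMdef, Subgroup.mem_subgroupOf] at h2
    exact h2
  · exact h1
  · exact le_of_conj M c m hm h1
  · intro A hA hcA hc'A
    rw [hcdef] at hcA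
    obtain ⟨y, hy, hy10, hy00⟩ := unip_of_nilpotent G hc A hA hcA _ hc'A
    have e : ((m * c * m⁻¹ : ↥G) : GL (Fin 2) F ⧸ Subgroup.center (GL (Fin 2) F)) =
        proj F 2 (mkG 1 0 (-1) 1 (by ring)) := by
      rw [← conj_UU_one, map_mul, map_mul, map_inv, hmdef, hcdef]
      rfl
    rw [e, proj_eq_iff] at hy
    obtain ⟨z, hz⟩ := hy
    have h10 := hz 1 0
    rw [hy10, mkG_10] at h10
    have hz0 : z = 0 := by
      have : z * (-1) = 0 := h10.symm
      simpa using this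
    have h00 := hz 0 0
    rw [hz0, zero_mul] at h00
    have hd := gl2_det y
    rw [hy10, mul_zero, sub_zero, h00, zero_mul] at hd
    exact hd rfl

end Cfsg.Agent.Lib.Helper14.PGLCover
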