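import Mathlib
import Cfsg.Agent.Lib.Helper14.PGLCoverF

/-!
# Nilpotent minimal covers of groups between PSL and PGL, part G (helper14)

Degree two: the monomial subgroup, and the case where the multiplicative group of the field is
not a 2-group.
-/

set_option autoImplicit false
set_option maxHeartbeats 1000000

namespace Cfsg.Agent.Lib.Helper14.PGLCover

open Matrix

variable {F : Type*} [Field F]

/-- the monomial subgroup -/
def Mon (F : Type*) [Field F] : Subgroup (GL (Fin 2) F) where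
  carrier := {g | ((g : Matrix (Fin 2) (Fin 2) F) 0 1 = 0 ∧ (g : Matrix (Fin 2) (Fin 2) F) 1 0 = 0) ∨
    ((g : Matrix (Fin 2) (Fin 2) F) 0 0 = 0 ∧ (g : Matrix (Fin 2) (Fin 2) F) 1 1 = 0)}
  one_mem' := by
    left
    exact ⟨by rw [gl2_one_apply, if_neg (by decide)], by rw [gl2_one_apply, if_neg (by decide)]⟩
  mul_mem' := by
    rintro g h (⟨g1, g2⟩ | ⟨g1, g2⟩) (⟨h1, h2⟩ | ⟨h1, h2⟩)
    · left
      exact ⟨by rw [gl2_mul_apply, g1, h1]; ring, by rw [gl2_mul_apply, g2, h2]; ring⟩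
    · right
      exact ⟨by rw [gl2_mul_apply, g1, h1]; ring, by rw [gl2_mul_apply, g2, h2]; ring⟩
    · right
      exact ⟨by rw [gl2_mul_apply, g1, h2]; ring, by rw [gl2_mul_apply, g2, h1]; ring⟩
    · left
      exact ⟨by rw [gl2_mul_apply, g1, h2]; ring, by rw [gl2_mul_apply, g2, h1]; ring⟩
  inv_mem' := by
    intro g hg
    have e : g * g⁻¹ = 1 := mul_inv_cancel g
    have E := fun i j => congrArg (fun m : GL (Fin 2) F => (m : Matrix (Fin 2) (Fin 2) F) i j) e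
    simp only [gl2_mul_apply, gl2_one_apply] at E
    have hd := gl2_det g
    rcases hg with ⟨g1, g2⟩ | ⟨g1, g2⟩
    · left
      rw [g1, g2, mul_zero, sub_zero] at hd
      have h00 : (g : Matrix (Fin 2) (Fin 2) F) 0 0 ≠ 0 := left_ne_zero_of_mul hd
      have h11 : (g : Matrix (Fin 2) (Fin 2) F) 1 1 ≠ 0 := right_ne_zero_of_mul hd
      have E01 := E 0 1
      have E10 := E 1 0
      rw [g1, zero_mul, add_zero, if_neg (by decide)] at E01
      rw [g2, zero_mul, zero_add, if_neg (by decide)] at E10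
      exact ⟨(mul_eq_zero.mp E01).resolve_left h00, (mul_eq_zero.mp E10).resolve_left h11⟩
    · right
      rw [g1, g2, zero_mul, zero_sub, neg_ne_zero] at hd
      have h01 : (g : Matrix (Fin 2) (Fin 2) F) 0 1 ≠ 0 := left_ne_zero_of_mul hd
      have h10 : (g : Matrix (Fin 2) (Fin 2) F) 1 0 ≠ 0 := right_ne_zero_of_mul hd
      have E01 := E 0 1
      have E10 := E 1 0
      rw [g1, zero_mul, zero_add, if_neg (by decide)] at E01
      rw [g2, zero_mul, add_zero, if_neg (by decide)] at E10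
      exact ⟨(mul_eq_zero.mp E10).resolve_left h10, (mul_eq_zero.mp E01).resolve_left h01⟩

theorem mem_Mon (g : GL (Fin 2) F) : g ∈ Mon F ↔
    ((g : Matrix (Fin 2) (Fin 2) F) 0 1 = 0 ∧ (g : Matrix (Fin 2) (Fin 2) F) 1 0 = 0) ∨
    ((g : Matrix (Fin 2) (Fin 2) F) 0 0 = 0 ∧ (g : Matrix (Fin 2) (Fin 2) F) 1 1 = 0) := Iff.rfl

/-- diagonal matrices of determinant one -/
def TT (e : Fˣ) : GL (Fin 2) F :=
  mkG (e : F) 0 0 ((e⁻¹ : Fˣ) : F) (by rw [Units.mul_inv, mul_zero, sub_zero])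

theorem TT_mem_Mon (e : Fˣ) : TT e ∈ Mon F := Or.inl ⟨rfl, rfl⟩

@[simp] theorem TT_00 (e : Fˣ) : ((TT e : GL (Fin 2) F) : Matrix (Fin 2) (Fin 2) F) 0 0 = (e : F) :=
  rfl
@[simp] theorem TT_01 (e : Fˣ) : ((TT e : GL (Fin 2) F) : Matrix (Fin 2) (Fin 2) F) 0 1 = 0 := rfl
@[simp] theorem TT_10 (e : Fˣ) : ((TT e : GL (Fin 2) F) : Matrix (Fin 2) (Fin 2) F) 1 0 = 0 := rfl
@[simp] theorem TT_11 (e : Fˣ) :
    ((TT e : GL (Fin 2) F) : Matrix (Fin 2) (Fin 2) F) 1 1 = (e : F)⁻¹ := by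
  show ((e⁻¹ : Fˣ) : F) = _
  rw [Units.val_inv_eq_inv_val]

theorem TT_comm_step (e : Fˣ) (m : GL (Fin 2) F)
    (h0 : (m : Matrix (Fin 2) (Fin 2) F) 0 0 = 0) (h1 : (m : Matrix (Fin 2) (Fin 2) F) 1 1 = 0) :
    TT e * m * (TT e)⁻¹ * m⁻¹ = TT (e * e) := by
  have he : (e : F) ≠ 0 := Units.ne_zero e
  rw [mul_inv_eq_iff_eq_mul, mul_inv_eq_iff_eq_mul]
  have k1 : (e : F) * (e : F) * (e : F)⁻¹ = (e : F) := by
    rw [mul_assoc, mul_inv_cancel₀ he, mul_one]
  have k2 : ((e : F) * (e : F))⁻¹ * (e : F) = (e : F)⁻¹ := by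
    rw [_root_.mul_inv_rev, mul_assoc, inv_mul_cancel₀ he, mul_one]
  apply gl2_ext
  · simp only [gl2_mul_apply, TT_00, TT_01, TT_10, TT_11, h0, h1]
    ring
  · simp only [gl2_mul_apply, TT_00, TT_01, TT_10, TT_11, h0, h1, Units.val_mul]
    linear_combination (-(m : Matrix (Fin 2) (Fin 2) F) 0 1) * k1
  · simp only [gl2_mul_apply, TT_00, TT_01, TT_10, TT_11, h0, h1, Units.val_mul]
    linear_combination (-(m : Matrix (Fin 2) (Fin 2) F) 1 0) * k2
  · simp only [gl2_mul_apply, TT_00, TT_01, TT_10, TT_11, h0, h1]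
    ring

theorem cseq_TT (a : Fˣ) (m : GL (Fin 2) F)
    (h0 : (m : Matrix (Fin 2) (Fin 2) F) 0 0 = 0) (h1 : (m : Matrix (Fin 2) (Fin 2) F) 1 1 = 0)
    (k : ℕ) : cseq (TT a) m k = TT (a ^ (2 ^ k)) := by
  induction k with
  | zero => rw [cseq_zero, pow_zero, pow_one]
  | succ k ih => rw [cseq_succ, ih, TT_comm_step _ m h0 h1, ← pow_add, pow_succ 2 k, mul_two]

/-- the monomial subgroup controls the diagonal element -/
theorem control_Mon (a : Fˣ) (ha4 : (a : F) ^ 4 ≠ 1) (g : GL (Fin 2) F)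
    (hg : g⁻¹ * TT a * g ∈ Mon F) : g ∈ Mon F := by
  have ha0 : (a : F) ≠ 0 := Units.ne_zero a
  have hne : (a : F) ≠ (a : F)⁻¹ := by
    intro h
    apply ha4
    have h2 : (a : F) * (a : F) = 1 := by
      nth_rewrite 2 [h]
      exact mul_inv_cancel₀ ha0
    calc (a : F) ^ 4 = ((a : F) * (a : F)) * ((a : F) * (a : F)) := by ring
      _ = 1 := by rw [h2, one_mul]
  obtain ⟨h, hh⟩ : ∃ h : GL (Fin 2) F, h = g⁻¹ * TT a * g := ⟨_, rfl⟩
  rw [← hh] at hg
  have e1 : g * h = TT a * g := by rw [hh]; group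
  have E00 := congrArg (fun m : GL (Fin 2) F => (m : Matrix (Fin 2) (Fin 2) F) 0 0) e1
  have E01 := congrArg (fun m : GL (Fin 2) F => (m : Matrix (Fin 2) (Fin 2) F) 0 1) e1
  have E10 := congrArg (fun m : GL (Fin 2) F => (m : Matrix (Fin 2) (Fin 2) F) 1 0) e1
  have E11 := congrArg (fun m : GL (Fin 2) F => (m : Matrix (Fin 2) (Fin 2) F) 1 1) e1
  simp only [gl2_mul_apply, TT_00, TT_01, TT_10, TT_11] at E00 E01 E10 E11
  have htr : (h : Matrix (Fin 2) (Fin 2) F) 0 0 + (h : Matrix (Fin 2) (Fin 2) F) 1 1 =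
      (a : F) + (a : F)⁻¹ := by
    have h1 : (h : Matrix (Fin 2) (Fin 2) F) =
        ((g⁻¹ : GL (Fin 2) F) : Matrix (Fin 2) (Fin 2) F) * (TT a : Matrix (Fin 2) (Fin 2) F) *
          (g : Matrix (Fin 2) (Fin 2) F) := by
      rw [hh, Units.val_mul, Units.val_mul]
    have h2 := Matrix.trace_units_conj' g (TT a : Matrix (Fin 2) (Fin 2) F)
    rw [← h1, Matrix.trace_fin_two, Matrix.trace_fin_two] at h2
    rw [h2, TT_00, TT_11]
  have hd := gl2_det g
  rw [mem_Mon] at hg ⊢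
  rcases hg with ⟨g1, g2⟩ | ⟨g1, g2⟩
  · simp only [g1, g2, mul_zero, zero_mul, add_zero, zero_add] at E00 E01 E10 E11
    by_cases h00 : (g : Matrix (Fin 2) (Fin 2) F) 0 0 = 0
    · right
      refine ⟨h00, ?_⟩
      rw [h00, zero_mul, zero_sub, neg_ne_zero] at hd
      have h01 : (g : Matrix (Fin 2) (Fin 2) F) 0 1 ≠ 0 := left_ne_zero_of_mul hd
      have h11 : (h : Matrix (Fin 2) (Fin 2) F) 1 1 = (a : F) := by
        have : (g : Matrix (Fin 2) (Fin 2) F) 0 1 * (h : Matrix (Fin 2) (Fin 2) F) 1 1 =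
            (g : Matrix (Fin 2) (Fin 2) F) 0 1 * (a : F) := by rw [E01, mul_comm]
        exact mul_left_cancel₀ h01 this
      rw [h11] at E11
      have : (g : Matrix (Fin 2) (Fin 2) F) 1 1 * ((a : F) - (a : F)⁻¹) = 0 := by
        rw [mul_sub, E11]; ring
      rcases mul_eq_zero.mp this with h | h
      · exact h
      · exact absurd (sub_eq_zero.mp h) hne
    · left
      have h00' : (h : Matrix (Fin 2) (Fin 2) F) 0 0 = (a : F) := by
        have : (g : Matrix (Fin 2) (Fin 2) F) 0 0 * (h : Matrix (Fin 2) (Fin 2) F) 0 0 =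
            (g : Matrix (Fin 2) (Fin 2) F) 0 0 * (a : F) := by rw [E00, mul_comm]
        exact mul_left_cancel₀ h00 this
      rw [h00'] at E10
      have h10 : (g : Matrix (Fin 2) (Fin 2) F) 1 0 = 0 := by
        have : (g : Matrix (Fin 2) (Fin 2) F) 1 0 * ((a : F) - (a : F)⁻¹) = 0 := by
          rw [mul_sub, E10]; ring
        rcases mul_eq_zero.mp this with h | h
        · exact h
        · exact absurd (sub_eq_zero.mp h) hne
      rw [h10, mul_zero, sub_zero] at hd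
      have h11 : (g : Matrix (Fin 2) (Fin 2) F) 1 1 ≠ 0 := right_ne_zero_of_mul hd
      have h11' : (h : Matrix (Fin 2) (Fin 2) F) 1 1 = (a : F)⁻¹ := by
        have : (g : Matrix (Fin 2) (Fin 2) F) 1 1 * (h : Matrix (Fin 2) (Fin 2) F) 1 1 =
            (g : Matrix (Fin 2) (Fin 2) F) 1 1 * (a : F)⁻¹ := by rw [E11, mul_comm]
        exact mul_left_cancel₀ h11 this
      rw [h11'] at E01
      refine ⟨?_, h10⟩
      have : (g : Matrix (Fin 2) (Fin 2) F) 0 1 * ((a : F) - (a : F)⁻¹) = 0 := by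
        rw [mul_sub, E01]; ring
      rcases mul_eq_zero.mp this with h | h
      · exact h
      · exact absurd (sub_eq_zero.mp h) hne
  · exfalso
    rw [g1, g2, add_zero] at htr
    apply ha4
    have h2 : (a : F) * (a : F) = -1 := by
      have : (a : F) * ((a : F) + (a : F)⁻¹) = 0 := by rw [← htr, mul_zero]
      rw [mul_add, mul_inv_cancel₀ ha0] at this
      exact eq_neg_of_add_eq_zero_left this
    calc (a : F) ^ 4 = ((a : F) * (a : F)) * ((a : F) * (a : F)) := by ring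
      _ = 1 := by rw [h2]; ring

variable (G : Subgroup (GL (Fin 2) F ⧸ Subgroup.center (GL (Fin 2) F)))

theorem BG_ne_top (hG : ((Matrix.SpecialLinearGroup.toGL :
      Matrix.SpecialLinearGroup (Fin 2) F →* GL (Fin 2) F).range).map
      (QuotientGroup.mk' (Subgroup.center (GL (Fin 2) F))) ≤ G) : BG G ≠ ⊤ := by
  intro htop
  have hL : proj F 2 (mkG (1 : F) 0 1 1 (by ring)) ∈ G := mkG_mem G hG _ _ _ _ _
  have h1 : (⟨_, hL⟩ : ↥G) ∈ BG G := by rw [htop]; trivial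
  rw [mem_BG_iff, mkG_10] at h1
  exact one_ne_zero h1

/-- the case where some element of the field has multiplicative order not a power of two -/
theorem case_B1 (hG : ((Matrix.SpecialLinearGroup.toGL :
      Matrix.SpecialLinearGroup (Fin 2) F →* GL (Fin 2) F).range).map
      (QuotientGroup.mk' (Subgroup.center (GL (Fin 2) F))) ≤ G)
    (a : Fˣ) (ha : ∀ k : ℕ, (a : F) ^ (2 ^ k) ≠ 1) :
    ¬ ∃ 𝓐 : Finset (Subgroup ↥G), ((∀ A ∈ 𝓐, A ≠ ⊤) ∧ (∀ g : ↥G, ∃ A ∈ 𝓐, g ∈ A)) ∧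
      (∀ 𝓑 : Finset (Subgroup ↥G), (∀ A ∈ 𝓑, A ≠ ⊤) ∧ (∀ g : ↥G, ∃ A ∈ 𝓑, g ∈ A) →
        𝓐.card ≤ 𝓑.card) ∧
      (∀ A ∈ 𝓐, Group.IsNilpotent ↥A) := by
  have ha4 : (a : F) ^ 4 ≠ 1 := ha 2
  have ha2 : (a : F) ^ 2 ≠ 1 := ha 1
  have ha0 : (a : F) ≠ 0 := Units.ne_zero a
  have hc : proj F 2 (UU 1) ∈ G := mkG_mem G hG 1 1 0 1 (by ring)
  have ht : proj F 2 (TT a) ∈ G := mkG_mem G hG _ _ _ _ _
  apply Cfsg.Agent.Lib.Helper14.NilCover.no_min_cover_of_pair
    (⟨proj F 2 (UU 1), hc⟩ : ↥G) (⟨proj F 2 (TT a), ht⟩ : ↥G) (BG G) (BG_ne_top G hG)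
  · intro A hA hcA
    exact le_of_control (BG G) _ (c_mem_BG G hc) (ctl_BG G hc) A hA hcA
  · intro A hA htA x hx
    have ctl := ctl_lift G (Mon F) (TT a) (TT_mem_Mon a) ht (control_Mon a ha4)
    have htM : (⟨proj F 2 (TT a), ht⟩ : ↥G) ∈ ((Mon F).map (proj F 2)).subgroupOf G := by
      rw [Subgroup.mem_subgroupOf]
      exact ⟨TT a, TT_mem_Mon a, rfl⟩
    have hxM := le_of_control _ _ htM ctl A hA htA hx
    rw [Subgroup.mem_subgroupOf] at hxM
    obtain ⟨m, hm, hmx⟩ := hxM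
    rcases (mem_Mon m).mp hm with ⟨m1, m2⟩ | ⟨m1, m2⟩
    · unfold BG
      rw [Subgroup.mem_subgroupOf]
      refine ⟨m, ?_, hmx⟩
      intro i hi
      fin_cases i
      · exact absurd rfl hi
      · exact m2
    · exfalso
      obtain ⟨n, hn⟩ := cseq_eq_one A hA htA hx
      have h1 := congrArg G.subtype hn
      rw [map_cseq, map_one] at h1
      have h2 : cseq (proj F 2 (TT a)) (proj F 2 m) n = 1 := by
        rw [hmx]
        exact h1
      rw [← map_cseq, cseq_TT a m m1 m2] at h2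
      have h3 : proj F 2 (TT (a ^ 2 ^ n)) = proj F 2 1 := by rw [h2, map_one]
      obtain ⟨z, hz⟩ := (proj_eq_iff _ _).mp h3
      have h00 := hz 0 0
      have h11 := hz 1 1
      rw [TT_00, gl2_one_apply, if_pos rfl, mul_one] at h00
      rw [TT_11, gl2_one_apply, if_pos rfl, mul_one] at h11
      apply ha (n + 1)
      have he : ((a ^ 2 ^ n : Fˣ) : F) ≠ 0 := Units.ne_zero _
      have h5 : ((a ^ 2 ^ n : Fˣ) : F) * ((a ^ 2 ^ n : Fˣ) : F) = 1 := by
        nth_rewrite 2 [h00]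
        rw [← h11]
        exact mul_inv_cancel₀ he
      rw [Units.val_pow_eq_pow_val] at h5
      rw [pow_succ, pow_mul, pow_two]
      exact h5
  · intro A hA hcA htA
    obtain ⟨y, hy, hy10, hy00⟩ := unip_of_nilpotent G hc A hA hcA _ htA
    obtain ⟨z, hz⟩ := (proj_eq_iff _ _).mp hy
    have h00 := hz 0 0
    have h11 := hz 1 1
    rw [TT_00] at h00
    rw [TT_11] at h11
    have hz0 : z ≠ 0 := by
      intro h0
      rw [h0, zero_mul] at h00
      have hd := gl2_det y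
      rw [hy10, mul_zero, sub_zero, h00, zero_mul] at hd
      exact hd rfl
    have h5 : z * (a : F) = z * (a : F)⁻¹ := by rw [← h00, ← h11, hy00]
    have h6 : (a : F) = (a : F)⁻¹ := mul_left_cancel₀ hz0 h5
    apply ha2
    rw [pow_two]
    nth_rewrite 2 [h6]
    exact mul_inv_cancel₀ ha0

end Cfsg.Agent.Lib.Helper14.PGLCover
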