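import Mathlib
import Cfsg.Agent.Lib.Helper14.PGLCoverG

/-!
# Nilpotent minimal covers of groups between PSL and PGL, part H (helper14)

Degree two, the multiplicative group of the field a 2-group: preparations.
-/

set_option autoImplicit false
set_option maxHeartbeats 1000000

namespace Cfsg.Agent.Lib.Helper14.PGLCover

open Matrix

variable {F : Type*} [Field F]

theorem field_facts [Fintype F] (hq : 4 ≤ Fintype.card F)
    (h2 : ∀ a : Fˣ, ∃ k : ℕ, (a : F) ^ (2 ^ k) = 1) :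
    (2 : F) ≠ 0 ∧ (∃ i : F, i * i = -1) ∧ ∃ n : ℕ, ∀ a : F, a ≠ 0 → a ^ (2 ^ n) = 1 := by
  classical
  haveI : Fact (Nat.Prime 2) := ⟨Nat.prime_two⟩
  have hp : IsPGroup 2 Fˣ := by
    intro a
    obtain ⟨k, hk⟩ := h2 a
    exact ⟨k, Units.ext (by rw [Units.val_pow_eq_pow_val, hk]; rfl)⟩
  obtain ⟨n, hn⟩ := IsPGroup.iff_card.mp hp
  rw [Nat.card_eq_fintype_card, Fintype.card_units] at hn
  have hn2 : 2 ≤ n := by
    by_contra h
    push Not at h
    interval_cases n <;> omega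
  obtain ⟨m, rfl⟩ : ∃ m, n = m + 2 := ⟨n - 2, by omega⟩
  have h4 : 2 ^ (m + 2) = 4 * 2 ^ m := by rw [pow_add]; ring
  have hcard : Fintype.card F = 4 * 2 ^ m + 1 := by omega
  refine ⟨?_, ?_, m + 2, ?_⟩
  · intro h0
    have h1 : ((Fintype.card F : ℕ) : F) = 0 := FiniteField.cast_card_eq_zero F
    rw [hcard] at h1
    push_cast at h1
    have h3 : (4 : F) = 2 * 2 := by norm_num
    rw [h3, h0] at h1
    simp at h1
  · have h3 : Fintype.card F % 4 ≠ 3 := by omega
    obtain ⟨r, hr⟩ := FiniteField.isSquare_neg_one_iff.mpr h3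
    exact ⟨r, hr.symm⟩
  · intro a ha
    rw [← hn]
    exact FiniteField.pow_card_sub_one_eq_one a ha

/-- the trace of a conjugate of a diagonal matrix -/
theorem trace_conj_TT (a : Fˣ) (g : GL (Fin 2) F) :
    ((g⁻¹ * TT a * g : GL (Fin 2) F) : Matrix (Fin 2) (Fin 2) F) 0 0 +
      ((g⁻¹ * TT a * g : GL (Fin 2) F) : Matrix (Fin 2) (Fin 2) F) 1 1 = (a : F) + (a : F)⁻¹ := by
  have h1 : ((g⁻¹ * TT a * g : GL (Fin 2) F) : Matrix (Fin 2) (Fin 2) F) =
      ((g⁻¹ : GL (Fin 2) F) : Matrix (Fin 2) (Fin 2) F) * (TT a : Matrix (Fin 2) (Fin 2) F) *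
        (g : Matrix (Fin 2) (Fin 2) F) := by
    rw [Units.val_mul, Units.val_mul]
  have h2 := Matrix.trace_units_conj' g (TT a : Matrix (Fin 2) (Fin 2) F)
  rw [← h1, Matrix.trace_fin_two, Matrix.trace_fin_two] at h2
  rw [h2, TT_00, TT_11]

/-- powers of diagonal matrices -/
theorem diag_pow (m : GL (Fin 2) F) (h01 : (m : Matrix (Fin 2) (Fin 2) F) 0 1 = 0)
    (h10 : (m : Matrix (Fin 2) (Fin 2) F) 1 0 = 0) (k : ℕ) :
    ((m ^ k : GL (Fin 2) F) : Matrix (Fin 2) (Fin 2) F) 0 0 =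
        (m : Matrix (Fin 2) (Fin 2) F) 0 0 ^ k ∧
      ((m ^ k : GL (Fin 2) F) : Matrix (Fin 2) (Fin 2) F) 0 1 = 0 ∧
      ((m ^ k : GL (Fin 2) F) : Matrix (Fin 2) (Fin 2) F) 1 0 = 0 ∧
      ((m ^ k : GL (Fin 2) F) : Matrix (Fin 2) (Fin 2) F) 1 1 =
        (m : Matrix (Fin 2) (Fin 2) F) 1 1 ^ k := by
  induction k with
  | zero =>
    simp [pow_zero, gl2_one_apply]
  | succ k ih =>
    obtain ⟨i1, i2, i3, i4⟩ := ih
    rw [pow_succ]
    simp only [gl2_mul_apply, i1, i2, i3, i4, h01, h10]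
    exact ⟨by ring, by ring, by ring, by ring⟩

/-- monomial elements are 2-elements in the projective group -/
theorem mon_two_elt (n : ℕ) (hn : ∀ a : F, a ≠ 0 → a ^ (2 ^ n) = 1) (m : GL (Fin 2) F)
    (hm : m ∈ Mon F) : ∃ K : ℕ, (proj F 2 m) ^ (2 ^ K) = 1 := by
  have hd := gl2_det m
  rcases (mem_Mon m).mp hm with ⟨m1, m2⟩ | ⟨m1, m2⟩
  · refine ⟨n, ?_⟩
    rw [m1, zero_mul, sub_zero] at hd
    have h00 : (m : Matrix (Fin 2) (Fin 2) F) 0 0 ≠ 0 := left_ne_zero_of_mul hd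
    have h11 : (m : Matrix (Fin 2) (Fin 2) F) 1 1 ≠ 0 := right_ne_zero_of_mul hd
    obtain ⟨i1, i2, i3, i4⟩ := diag_pow m m1 m2 (2 ^ n)
    rw [hn _ h00] at i1
    rw [hn _ h11] at i4
    have : m ^ (2 ^ n) = 1 := by
      apply gl2_ext
      · rw [i1, gl2_one_apply, if_pos rfl]
      · rw [i2, gl2_one_apply, if_neg (by decide)]
      · rw [i3, gl2_one_apply, if_neg (by decide)]
      · rw [i4, gl2_one_apply, if_pos rfl]
    rw [← map_pow, this, map_one]
  · refine ⟨1, ?_⟩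
    rw [pow_one, ← map_pow]
    have : proj F 2 (m ^ 2) = proj F 2 1 := by
      rw [proj_eq_iff]
      refine ⟨(m : Matrix (Fin 2) (Fin 2) F) 0 1 * (m : Matrix (Fin 2) (Fin 2) F) 1 0, ?_⟩
      intro i j
      rw [pow_two, gl2_mul_apply, gl2_one_apply]
      fin_cases i <;> fin_cases j
      · simp [m1, m2]
      · simp [m1, m2]
      · simp [m1, m2]
      · simp [m1, m2]
        ring
    rw [this, map_one]

/-- elements commuting with the involution are monomial -/
theorem centralizer_TT (h2 : (2 : F) ≠ 0) (iu : Fˣ) (hi : (iu : F) * (iu : F) = -1)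
    (m : GL (Fin 2) F) (hm : proj F 2 (m * TT iu) = proj F 2 (TT iu * m)) : m ∈ Mon F := by
  have hi0 : (iu : F) ≠ 0 := Units.ne_zero iu
  have hinv : (iu : F)⁻¹ = -(iu : F) := by
    rw [inv_eq_iff_eq_inv, eq_comm, inv_eq_of_mul_eq_one_left]
    rw [mul_neg, hi, neg_neg]
  obtain ⟨z, hz⟩ := (proj_eq_iff _ _).mp hm
  have E00 := hz 0 0
  have E01 := hz 0 1
  have E10 := hz 1 0
  have E11 := hz 1 1
  simp only [gl2_mul_apply, TT_00, TT_01, TT_10, TT_11, hinv] at E00 E01 E10 E11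
  rw [mem_Mon]
  by_cases hz1 : z = 1
  · left
    rw [hz1] at E01 E10
    constructor
    · have : (m : Matrix (Fin 2) (Fin 2) F) 0 1 * ((iu : F) * 2) = 0 := by
        linear_combination (-1 : F) * E01
      rcases mul_eq_zero.mp this with h | h
      · exact h
      · exact absurd h (mul_ne_zero hi0 h2)
    · have : (m : Matrix (Fin 2) (Fin 2) F) 1 0 * ((iu : F) * 2) = 0 := by
        linear_combination E10
      rcases mul_eq_zero.mp this with h | h
      · exact h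
      · exact absurd h (mul_ne_zero hi0 h2)
  · right
    have hz1' : (1 - z) ≠ 0 := fun h => hz1 (sub_eq_zero.mp h).symm
    constructor
    · have : (m : Matrix (Fin 2) (Fin 2) F) 0 0 * ((iu : F) * (1 - z)) = 0 := by
        linear_combination E00
      rcases mul_eq_zero.mp this with h | h
      · exact h
      · exact absurd h (mul_ne_zero hi0 hz1')
    · have : (m : Matrix (Fin 2) (Fin 2) F) 1 1 * ((iu : F) * (1 - z)) = 0 := by
        linear_combination (-1 : F) * E11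
      rcases mul_eq_zero.mp this with h | h
      · exact h
      · exact absurd h (mul_ne_zero hi0 hz1')

end Cfsg.Agent.Lib.Helper14.PGLCover
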