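import Mathlib
import Cfsg.Agent.Lib.Helper14.PGLCoverH

/-!
# Nilpotent minimal covers of groups between PSL and PGL, part I (helper14)

Degree two, the multiplicative group of the field a 2-group: eigenvectors of 2-elements.
-/

set_option autoImplicit false
set_option maxHeartbeats 1000000

namespace Cfsg.Agent.Lib.Helper14.PGLCover

open Matrix

variable {F : Type*} [Field F]

theorem cayley_two (Y : Matrix (Fin 2) (Fin 2) F) :
    Y * Y = (Y 0 0 + Y 1 1) • Y -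
      (Y 0 0 * Y 1 1 - Y 0 1 * Y 1 0) • (1 : Matrix (Fin 2) (Fin 2) F) := by
  ext i j
  fin_cases i <;> fin_cases j <;> simp [Matrix.mul_apply, Fin.sum_univ_two] <;> ring

theorem e0_ne_zero : (![1, 0] : Fin 2 → F) ≠ 0 := by
  intro h
  have := congrFun h 0
  simp at this

/-- a matrix of square determinant, a 2-power of which is scalar, has an eigenvector (when `-1` is
a square) -/
theorem exists_eigen (i : F) (hi : i * i = -1) : ∀ (e : ℕ) (Y : Matrix (Fin 2) (Fin 2) F),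
    (∃ d : F, Y.det = d * d) → (∃ s : F, Y ^ (2 ^ e) = s • (1 : Matrix (Fin 2) (Fin 2) F)) →
    ∃ v : Fin 2 → F, v ≠ 0 ∧ ∃ ν : F, Y *ᵥ v = ν • v := by
  intro e
  induction e with
  | zero =>
    rintro Y _ ⟨s, hs⟩
    rw [pow_zero, pow_one] at hs
    refine ⟨![1, 0], e0_ne_zero, s, ?_⟩
    rw [hs, Matrix.smul_mulVec, Matrix.one_mulVec]
  | succ e ih =>
    rintro Y ⟨d, hd⟩ ⟨s, hs⟩
    have h1 : (Y * Y) ^ (2 ^ e) = s • (1 : Matrix (Fin 2) (Fin 2) F) := by
      rw [← pow_two, ← pow_mul, ← pow_succ']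
      exact hs
    obtain ⟨v, hv, μ, hμ⟩ := ih (Y * Y) ⟨d * d, by rw [Matrix.det_mul, hd]⟩ ⟨s, h1⟩
    have hCH := cayley_two Y
    have hdet : Y 0 0 * Y 1 1 - Y 0 1 * Y 1 0 = d * d := by rw [← hd, Matrix.det_fin_two]
    rw [hdet] at hCH
    by_cases hτ : Y 0 0 + Y 1 1 = 0
    · have hYY : Y * Y = ((i * d) * (i * d)) • (1 : Matrix (Fin 2) (Fin 2) F) := by
        rw [hCH, hτ, zero_smul, zero_sub, ← neg_smul]
        congr 1
        linear_combination (-(d * d)) * hi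
      by_cases hall : ∀ w : Fin 2 → F, Y *ᵥ w + (i * d) • w = 0
      · refine ⟨![1, 0], e0_ne_zero, -(i * d), ?_⟩
        have := hall ![1, 0]
        rw [neg_smul]
        exact eq_neg_of_add_eq_zero_left this
      · push Not at hall
        obtain ⟨w, hw⟩ := hall
        refine ⟨Y *ᵥ w + (i * d) • w, hw, i * d, ?_⟩
        rw [Matrix.mulVec_add, Matrix.mulVec_mulVec, Matrix.mulVec_smul, hYY, Matrix.smul_mulVec,
          Matrix.one_mulVec, smul_add, smul_smul, add_comm]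
    · refine ⟨v, hv, (Y 0 0 + Y 1 1)⁻¹ * (μ + d * d), ?_⟩
      have h3 : (Y * Y) *ᵥ v = (Y 0 0 + Y 1 1) • (Y *ᵥ v) - (d * d) • v := by
        rw [hCH, Matrix.sub_mulVec, Matrix.smul_mulVec, Matrix.smul_mulVec, Matrix.one_mulVec]
      rw [hμ] at h3
      have h4 : (Y 0 0 + Y 1 1) • (Y *ᵥ v) = (μ + d * d) • v := by
        rw [add_smul μ (d * d) v, h3, sub_add_cancel]
      rw [mul_smul, ← h4, smul_smul, inv_mul_cancel₀ hτ, one_smul]

/-- conjugating an eigenvector to the first basis vector -/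
theorem conj_mem_colStab (y g : GL (Fin 2) F) (ν : F)
    (hcol : ∀ k : Fin 2, (y : Matrix (Fin 2) (Fin 2) F) k 0 * (g : Matrix (Fin 2) (Fin 2) F) 0 0 +
      (y : Matrix (Fin 2) (Fin 2) F) k 1 * (g : Matrix (Fin 2) (Fin 2) F) 1 0 =
        ν * (g : Matrix (Fin 2) (Fin 2) F) k 0) :
    g⁻¹ * y * g ∈ colStab F (0 : Fin 2) := by
  obtain ⟨h, hh⟩ : ∃ h : GL (Fin 2) F, h = g⁻¹ * y * g := ⟨_, rfl⟩
  rw [← hh]
  have e1 : g * h = y * g := by rw [hh]; group
  have E00 := congrArg (fun m : GL (Fin 2) F => (m : Matrix (Fin 2) (Fin 2) F) 0 0) e1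
  have E10 := congrArg (fun m : GL (Fin 2) F => (m : Matrix (Fin 2) (Fin 2) F) 1 0) e1
  simp only [gl2_mul_apply] at E00 E10
  rw [hcol 0] at E00
  rw [hcol 1] at E10
  have hd := gl2_det g
  intro k hk
  fin_cases k
  · exact absurd rfl hk
  · have : ((g : Matrix (Fin 2) (Fin 2) F) 0 0 * (g : Matrix (Fin 2) (Fin 2) F) 1 1 -
        (g : Matrix (Fin 2) (Fin 2) F) 0 1 * (g : Matrix (Fin 2) (Fin 2) F) 1 0) *
        (h : Matrix (Fin 2) (Fin 2) F) 1 0 = 0 := by
      linear_combination (g : Matrix (Fin 2) (Fin 2) F) 0 0 * E10 -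
        (g : Matrix (Fin 2) (Fin 2) F) 1 0 * E00
    exact (mul_eq_zero.mp this).resolve_left hd

theorem exists_sl_col (v : Fin 2 → F) (hv : v ≠ 0) :
    ∃ s : Matrix.SpecialLinearGroup (Fin 2) F, ∀ k : Fin 2,
      ((Matrix.SpecialLinearGroup.toGL s : GL (Fin 2) F) : Matrix (Fin 2) (Fin 2) F) k 0 = v k := by
  by_cases h0 : v 0 = 0
  · have h1 : v 1 ≠ 0 := by
      intro h1
      apply hv
      funext k
      fin_cases k
      · exact h0
      · exact h1
    refine ⟨mkS 0 (-(v 1)⁻¹) (v 1) 0 (by field_simp; ring), ?_⟩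
    intro k
    fin_cases k
    · exact h0.symm
    · rfl
  · refine ⟨mkS (v 0) 0 (v 1) (v 0)⁻¹ (by field_simp; ring), ?_⟩
    intro k
    fin_cases k
    · rfl
    · rfl

theorem exists_conj_B (y : GL (Fin 2) F) (v : Fin 2 → F) (hv : v ≠ 0) (ν : F)
    (hev : (y : Matrix (Fin 2) (Fin 2) F) *ᵥ v = ν • v) :
    ∃ s : Matrix.SpecialLinearGroup (Fin 2) F,
      (Matrix.SpecialLinearGroup.toGL s : GL (Fin 2) F)⁻¹ * y * Matrix.SpecialLinearGroup.toGL s ∈
        colStab F (0 : Fin 2) := by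
  obtain ⟨s, hs⟩ := exists_sl_col v hv
  refine ⟨s, conj_mem_colStab y _ ν ?_⟩
  intro k
  rw [hs 0, hs 1, hs k]
  have := congrFun hev k
  rw [Matrix.mulVec, dotProduct, Fin.sum_univ_two, Pi.smul_apply, smul_eq_mul] at this
  exact this

end Cfsg.Agent.Lib.Helper14.PGLCover
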