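import Mathlib
import Cfsg.Agent.Lib.Helper14.PGLCoverI

/-!
# Nilpotent minimal covers of groups between PSL and PGL, part J (helper14)

Degree two: the case where the multiplicative group of the field is a 2-group, and the assembly.
-/

set_option autoImplicit false
set_option maxHeartbeats 1000000

namespace Cfsg.Agent.Lib.Helper14.PGLCover

open Matrix

variable {F : Type*} [Field F]

variable (G : Subgroup (GL (Fin 2) F ⧸ Subgroup.center (GL (Fin 2) F)))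

theorem TT_sq (iu : Fˣ) (hi : (iu : F) * (iu : F) = -1) :
    proj F 2 (TT iu) ^ 2 = 1 := by
  have hi0 : (iu : F) ≠ 0 := Units.ne_zero iu
  have hinv : (iu : F)⁻¹ = -(iu : F) := by
    rw [inv_eq_iff_eq_inv, eq_comm, inv_eq_of_mul_eq_one_left]
    rw [mul_neg, hi, neg_neg]
  rw [← map_pow]
  have : proj F 2 (TT iu ^ 2) = proj F 2 1 := by
    rw [proj_eq_iff]
    refine ⟨-1, ?_⟩
    intro i j
    rw [pow_two, gl2_mul_apply, gl2_one_apply]
    fin_cases i <;> fin_cases j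
    · simp [hi]
    · simp
    · simp
    · simp [hinv, hi]
  rw [this, map_one]

/-- the case where the multiplicative group of the field is a 2-group and `G` is the image of the
special linear group -/
theorem case_B2 [Fintype F] (hq : 4 ≤ Fintype.card F)
    (hG : ((Matrix.SpecialLinearGroup.toGL :
      Matrix.SpecialLinearGroup (Fin 2) F →* GL (Fin 2) F).range).map
      (QuotientGroup.mk' (Subgroup.center (GL (Fin 2) F))) ≤ G)
    (hGle : G ≤ ((Matrix.SpecialLinearGroup.toGL :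
      Matrix.SpecialLinearGroup (Fin 2) F →* GL (Fin 2) F).range).map
      (QuotientGroup.mk' (Subgroup.center (GL (Fin 2) F))))
    (h2 : ∀ a : Fˣ, ∃ k : ℕ, (a : F) ^ (2 ^ k) = 1) :
    ¬ ∃ 𝓐 : Finset (Subgroup ↥G), ((∀ A ∈ 𝓐, A ≠ ⊤) ∧ (∀ g : ↥G, ∃ A ∈ 𝓐, g ∈ A)) ∧
      (∀ 𝓑 : Finset (Subgroup ↥G), (∀ A ∈ 𝓑, A ≠ ⊤) ∧ (∀ g : ↥G, ∃ A ∈ 𝓑, g ∈ A) →
        𝓐.card ≤ 𝓑.card) ∧
      (∀ A ∈ 𝓐, Group.IsNilpotent ↥A) := by
  classical
  obtain ⟨h2ne, ⟨i, hi⟩, n, hn⟩ := field_facts hq h2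
  have hi0 : i ≠ 0 := by
    rintro rfl
    rw [zero_mul] at hi
    exact one_ne_zero (neg_eq_zero.mp hi.symm)
  obtain ⟨iu, hiu⟩ : ∃ iu : Fˣ, (iu : F) = i := ⟨Units.mk0 i hi0, rfl⟩
  rw [← hiu] at hi
  have hinv : (iu : F)⁻¹ = -(iu : F) := by
    rw [inv_eq_iff_eq_inv, eq_comm, inv_eq_of_mul_eq_one_left]
    rw [mul_neg, hi, neg_neg]
  have hc : proj F 2 (UU 1) ∈ G := mkG_mem G hG 1 1 0 1 (by ring)
  have ht : proj F 2 (TT iu) ∈ G := mkG_mem G hG _ _ _ _ _
  haveI : Finite (GL (Fin 2) F) := inferInstance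
  haveI : Finite ↥G := inferInstance
  obtain ⟨c, hcdef⟩ : ∃ c : ↥G, c = ⟨proj F 2 (UU 1), hc⟩ := ⟨_, rfl⟩
  obtain ⟨t, htdef⟩ : ∃ t : ↥G, t = ⟨proj F 2 (TT iu), ht⟩ := ⟨_, rfl⟩
  apply no_min_cover_of_conj_family c (BG G) (BG_ne_top G hG) (by rw [hcdef]; exact c_mem_BG G hc)
    (by rw [hcdef]; exact ctl_BG G hc) t
  · -- no conjugate of the transvection lies in a nilpotent subgroup with `t`
    intro A hA htA g hgA
    have hA' := nilpotent_conj A hA g⁻¹
    have hcA' : c ∈ A.map (MulAut.conj g⁻¹).toMonoidHom := mem_conj_map A g c hgA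
    have htA' : g⁻¹ * t * g ∈ A.map (MulAut.conj g⁻¹).toMonoidHom := by
      apply mem_conj_map
      have e : g * (g⁻¹ * t * g) * g⁻¹ = t := by group
      rwa [e]
    rw [hcdef] at hcA'
    obtain ⟨y, hy, hy10, hy00⟩ := unip_of_nilpotent G hc _ hA' hcA' _ htA'
    obtain ⟨gg, hgg⟩ := QuotientGroup.mk_surjective g.val
    have e : ((g⁻¹ * t * g : ↥G) : GL (Fin 2) F ⧸ Subgroup.center (GL (Fin 2) F)) =
        proj F 2 (gg⁻¹ * TT iu * gg) := by
      rw [map_mul, map_mul, map_inv, htdef]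
      show (g.val)⁻¹ * proj F 2 (TT iu) * g.val = _
      rw [← hgg]
      rfl
    rw [e, proj_eq_iff] at hy
    obtain ⟨z, hz⟩ := hy
    have htr := trace_conj_TT iu gg
    rw [hinv, add_neg_cancel] at htr
    have h1 : (y : Matrix (Fin 2) (Fin 2) F) 0 0 + (y : Matrix (Fin 2) (Fin 2) F) 1 1 = 0 := by
      rw [hz 0 0, hz 1 1, ← mul_add, htr, mul_zero]
    rw [← hy00] at h1
    have h3 : (y : Matrix (Fin 2) (Fin 2) F) 0 0 = 0 := by
      have : (2 : F) * (y : Matrix (Fin 2) (Fin 2) F) 0 0 = 0 := by rw [two_mul]; exact h1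
      exact (mul_eq_zero.mp this).resolve_left h2ne
    have hd := gl2_det y
    rw [hy10, mul_zero, sub_zero, h3, zero_mul] at hd
    exact hd rfl
  · -- every element of a nilpotent subgroup containing `t` fixes a point
    intro A hA htA x hx
    obtain ⟨a, b, ha, hb, hxab, ⟨k, hk⟩, hcop⟩ :=
      Cfsg.Agent.Lib.Helper2.exists_p_decomp x 2 Nat.prime_two
    have hzp : Subgroup.zpowers x ≤ A := (Subgroup.zpowers_le).mpr hx
    have hbA : b ∈ A := hzp hb
    have ht2 : t ^ 2 = 1 := by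
      apply Subtype.ext
      rw [Subgroup.coe_pow, htdef]
      exact TT_sq iu hi
    have hord : orderOf t ∣ 2 := orderOf_dvd_of_pow_eq_one ht2
    have hcop' : (orderOf b).Coprime (orderOf t) := Nat.Coprime.coprime_dvd_right hord hcop
    have hcomm : b * t = t * b :=
      Cfsg.Agent.Lib.Helper2.commute_of_coprime_orderOf_of_mem A hA b t hbA htA hcop'
    obtain ⟨m, hm⟩ := QuotientGroup.mk_surjective b.val
    have hmMon : m ∈ Mon F := by
      apply centralizer_TT h2ne iu hi m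
      have h1 := congrArg Subtype.val hcomm
      rw [Subgroup.coe_mul, Subgroup.coe_mul, htdef] at h1
      rw [map_mul, map_mul]
      show (m : GL (Fin 2) F ⧸ Subgroup.center (GL (Fin 2) F)) * _ = _ * (m : _)
      rw [hm]
      exact h1
    obtain ⟨K, hK⟩ := mon_two_elt n hn m hmMon
    have hbK : b ^ (2 ^ K) = 1 := by
      apply Subtype.ext
      rw [Subgroup.coe_pow, ← hm]
      exact hK
    have hb1 : b = 1 := by
      have h1 : orderOf b ∣ 2 ^ K := orderOf_dvd_of_pow_eq_one hbK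
      have h3 : (orderOf b).Coprime (2 ^ K) := Nat.Coprime.pow_right K hcop
      exact orderOf_eq_one_iff.mp (Nat.Coprime.eq_one_of_dvd h3 h1)
    have hxk : x ^ (2 ^ k) = 1 := by
      rw [hxab, hb1, mul_one]
      exact orderOf_dvd_iff_pow_eq_one.mp hk
    obtain ⟨y0, ⟨s0, hs0⟩, hy0⟩ := hGle x.2
    have hdet : (y0 : Matrix (Fin 2) (Fin 2) F).det = 1 * 1 := by
      rw [← hs0, mul_one]
      exact s0.2
    have hpow : ∃ s : F, (y0 : Matrix (Fin 2) (Fin 2) F) ^ (2 ^ k) =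
        s • (1 : Matrix (Fin 2) (Fin 2) F) := by
      have h1 : proj F 2 (y0 ^ (2 ^ k)) = proj F 2 1 := by
        rw [map_pow, map_one]
        have h3 := congrArg Subtype.val hxk
        rw [Subgroup.coe_pow] at h3
        rw [← hy0] at h3
        exact h3
      obtain ⟨z, hz⟩ := (proj_eq_iff _ _).mp h1
      refine ⟨z, ?_⟩
      rw [← Units.val_pow_eq_pow_val]
      ext i j
      rw [hz, Matrix.smul_apply, smul_eq_mul, Units.val_one]
    obtain ⟨v, hv, ν, hev⟩ := exists_eigen (iu : F) hi k _ ⟨1, hdet⟩ hpow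
    obtain ⟨s, hs⟩ := exists_conj_B y0 v hv ν hev
    refine ⟨⟨proj F 2 (Matrix.SpecialLinearGroup.toGL s), sl_mem G hG s⟩, ?_⟩
    unfold BG
    rw [Subgroup.mem_subgroupOf]
    refine ⟨(Matrix.SpecialLinearGroup.toGL s : GL (Fin 2) F)⁻¹ * y0 *
      Matrix.SpecialLinearGroup.toGL s, hs, ?_⟩
    rw [map_mul, map_mul, map_inv, hy0]
    rfl

/-- degree two -/
theorem main_two [Fintype F] (hq : 4 ≤ Fintype.card F)
    (hG : ((Matrix.SpecialLinearGroup.toGL :
      Matrix.SpecialLinearGroup (Fin 2) F →* GL (Fin 2) F).range).map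
      (QuotientGroup.mk' (Subgroup.center (GL (Fin 2) F))) ≤ G) :
    ¬ ∃ 𝓐 : Finset (Subgroup ↥G), ((∀ A ∈ 𝓐, A ≠ ⊤) ∧ (∀ g : ↥G, ∃ A ∈ 𝓐, g ∈ A)) ∧
      (∀ 𝓑 : Finset (Subgroup ↥G), (∀ A ∈ 𝓑, A ≠ ⊤) ∧ (∀ g : ↥G, ∃ A ∈ 𝓑, g ∈ A) →
        𝓐.card ≤ 𝓑.card) ∧
      (∀ A ∈ 𝓐, Group.IsNilpotent ↥A) := by
  by_cases hne : G ≤ ((Matrix.SpecialLinearGroup.toGL :
      Matrix.SpecialLinearGroup (Fin 2) F →* GL (Fin 2) F).range).map
      (QuotientGroup.mk' (Subgroup.center (GL (Fin 2) F)))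
  · by_cases hB : ∃ a : Fˣ, ∀ k : ℕ, (a : F) ^ (2 ^ k) ≠ 1
    · obtain ⟨a, ha⟩ := hB
      exact case_B1 G hG a ha
    · push Not at hB
      exact case_B2 G hq hG hne hB
  · exact case_not_psl G hG hne

end Cfsg.Agent.Lib.Helper14.PGLCover
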