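import Mathlib

set_option autoImplicit false

namespace Cfsg.Agent.Lib.Helper14.PowerGraph

open Subgroup

variable {G : Type*} [Group G]

/-- adjacency in the (reflexive) power graph -/
def Adj (x y : G) : Prop := x ∈ zpowers y ∨ y ∈ zpowers x

theorem adj_comm (x y : G) : Adj x y ↔ Adj y x := by
  unfold Adj; tauto

theorem adj_refl (x : G) : Adj x x := Or.inl (mem_zpowers x)

theorem adj_one_left (x : G) : Adj 1 x := Or.inl (one_mem _)

theorem adj_one_right (x : G) : Adj x 1 := Or.inr (one_mem _)

/-- adjacency only depends on the cyclic subgroups -/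
theorem adj_congr_left {x x' : G} (h : zpowers x = zpowers x') (y : G) : Adj x y ↔ Adj x' y := by
  unfold Adj
  constructor
  · rintro (h1 | h1)
    · left
      have : zpowers x ≤ zpowers y := (zpowers_le).2 h1
      rw [h] at this
      exact this (mem_zpowers x')
    · right; rw [← h]; exact h1
  · rintro (h1 | h1)
    · left
      have : zpowers x' ≤ zpowers y := (zpowers_le).2 h1
      rw [← h] at this
      exact this (mem_zpowers x)
    · right; rw [h]; exact h1

/-- elements of order `d` in a finite cyclic group generated by `x` -/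
theorem orderOf_pow_div {x : G} {d : ℕ} (hx : 0 < orderOf x) (hd : d ∣ orderOf x) :
    orderOf (x ^ (orderOf x / d)) = d := by
  have hd0 : d ≠ 0 := by
    rintro rfl
    rw [zero_dvd_iff] at hd
    omega
  have h1 : orderOf x / d ≠ 0 := by
    intro h
    rw [Nat.div_eq_zero_iff] at h
    rcases h with h | h
    · exact hd0 h
    · exact absurd (Nat.le_of_dvd hx hd) (by omega)
  rw [orderOf_pow_of_dvd h1 (Nat.div_dvd_of_dvd hd), Nat.div_div_self hd (by omega)]

variable [Finite G]

/-- in a cyclic group, divisibility of orders gives membership -/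
theorem mem_zpowers_of_orderOf_dvd {w u v : G} (hu : u ∈ zpowers w) (hv : v ∈ zpowers w)
    (h : orderOf v ∣ orderOf u) : v ∈ zpowers u := by
  classical
  let α := ↥(zpowers w)
  haveI : Fintype α := Fintype.ofFinite α
  let u' : α := ⟨u, hu⟩
  let v' : α := ⟨v, hv⟩
  set n := orderOf u with hn
  have hn0 : 0 < n := orderOf_pos u
  have hS := IsCyclic.card_pow_eq_one_le (α := α) hn0
  by_contra hcon
  have hou : orderOf u' = n := by
    rw [hn]; exact Subgroup.orderOf_mk u hu
  have hv'n : v' ^ n = 1 := by
    apply Subtype.ext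
    simp only [v', OneMemClass.coe_one]
    exact orderOf_dvd_iff_pow_eq_one.1 h
  have hvnot : v' ∉ zpowers u' := by
    intro hmem
    apply hcon
    obtain ⟨k, hk⟩ := mem_zpowers_iff.1 hmem
    refine mem_zpowers_iff.2 ⟨k, ?_⟩
    have h3 : ((u' ^ k : α) : G) = (u : G) ^ k := Subgroup.coe_zpow _ u' k
    have h4 : ((u' ^ k : α) : G) = v := congrArg Subtype.val hk
    rw [← h3]; exact h4
  let T : Finset α := (zpowers u' : Set α).toFinset
  have hT : T.card = n := by
    rw [Set.toFinset_card]
    have h1 : Nat.card (zpowers u') = orderOf u' := Nat.card_zpowers u'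
    rw [Nat.card_eq_fintype_card] at h1
    rw [← hou, ← h1]
    exact Fintype.card_congr (Equiv.refl _)
  have hvT : v' ∉ T := by
    simpa [T] using hvnot
  have hsub : insert v' T ⊆ Finset.univ.filter (fun a : α => a ^ n = 1) := by
    intro a ha
    rw [Finset.mem_insert] at ha
    simp only [Finset.mem_filter, Finset.mem_univ, true_and]
    rcases ha with rfl | ha
    · exact hv'n
    · have ha' : a ∈ zpowers u' := by simpa [T] using ha
      obtain ⟨k, rfl⟩ := mem_zpowers_iff.1 ha'
      rw [← zpow_natCast, ← zpow_mul, mul_comm, zpow_mul, zpow_natCast, ← hou, pow_orderOf_eq_one,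
        one_zpow]
  have := Finset.card_le_card hsub
  rw [Finset.card_insert_of_notMem hvT, hT] at this
  omega

/-- two elements of prime power order (same prime) in a cyclic group are comparable -/
theorem adj_of_primePow {w u v : G} (hu : u ∈ zpowers w) (hv : v ∈ zpowers w) {l i j : ℕ}
    (hou : orderOf u = l ^ i) (hov : orderOf v = l ^ j) : Adj u v := by
  rcases le_total i j with h | h
  · left
    exact mem_zpowers_of_orderOf_dvd hv hu (by rw [hou, hov]; exact pow_dvd_pow l h)
  · right
    exact mem_zpowers_of_orderOf_dvd hu hv (by rw [hou, hov]; exact pow_dvd_pow l h)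

/-- a proper cyclic subgroup misses some prime-power-order element -/
theorem exists_primePow_not_dvd {w x : G} (hx : x ∈ zpowers w) (hne : orderOf x ≠ orderOf w) :
    ∃ (l k : ℕ) (v : G), l.Prime ∧ 0 < k ∧ v ∈ zpowers w ∧ orderOf v = l ^ k ∧
      ¬ (l ^ k ∣ orderOf x) := by
  have hdvd : orderOf x ∣ orderOf w := orderOf_dvd_of_mem_zpowers hx
  have hw : 0 < orderOf w := orderOf_pos w
  obtain ⟨t, ht⟩ := hdvd
  have ht1 : t ≠ 1 := by
    rintro rfl
    apply hne; rw [ht, mul_one]
  obtain ⟨l, hl, hlt⟩ := Nat.exists_prime_and_dvd ht1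
  set N := orderOf w with hN
  have hlN : l ∣ N := by rw [ht]; exact Dvd.dvd.mul_left hlt _
  set k := N.factorization l with hk
  have hk0 : 0 < k := by
    rw [hk]
    exact hl.factorization_pos_of_dvd (by omega) hlN
  have hLN : l ^ k ∣ N := Nat.ordProj_dvd N l
  refine ⟨l, k, w ^ (N / l ^ k), hl, hk0, Subgroup.pow_mem _ (mem_zpowers w) _, ?_, ?_⟩
  · exact orderOf_pow_div hw hLN
  · intro hdiv
    -- l^k ∣ orderOf x and orderOf x * t = N with l ∣ t gives l^(k+1) ∣ N
    have : l ^ (k + 1) ∣ N := by
      rw [ht, pow_succ]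
      exact Nat.mul_dvd_mul hdiv hlt
    have h2 := (hl.pow_dvd_iff_le_factorization (by omega : N ≠ 0)).1 this
    omega

end Cfsg.Agent.Lib.Helper14.PowerGraph
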