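import Cfsg.Agent.Lib.Helper14.PowerGraphA

set_option autoImplicit false

namespace Cfsg.Agent.Lib.Helper14.PowerGraph

open Subgroup

variable {G H : Type*} [Group G] [Finite G] [Group H] [Finite H]

theorem zpowers_eq_of_mem_of_orderOf_eq {z x : G} (hz : z ∈ zpowers x)
    (ho : orderOf z = orderOf x) : zpowers z = zpowers x := by
  apply Subgroup.eq_of_le_of_card_ge ((zpowers_le).2 hz)
  rw [Nat.card_zpowers, Nat.card_zpowers, ho]

theorem adj_of_orderOf_eq {z1 z2 x : G} (h1 : z1 ∈ zpowers x) (h2 : z2 ∈ zpowers x)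
    (o1 : orderOf z1 = orderOf x) (o2 : orderOf z2 = orderOf x) : Adj z1 z2 := by
  left
  rw [zpowers_eq_of_mem_of_orderOf_eq h2 o2]
  exact h1

/-- the set-up: a power graph isomorphism fixing `1`, and a maximal cyclic subgroup `⟨x⟩` -/
structure MaxSetup (e : G ≃ H) (x : G) : Prop where
  iso : ∀ a b : G, Adj a b ↔ Adj (e a) (e b)
  one : e 1 = 1
  max : ∀ z, x ∈ zpowers z → z ∈ zpowers x

namespace MaxSetup

variable {e : G ≃ H} {x : G} (S : MaxSetup e x)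

include S

theorem adj_x_iff (z : G) : Adj x z ↔ z ∈ zpowers x := by
  constructor
  · rintro (h | h)
    · exact S.max z h
    · exact h
  · intro h; exact Or.inr h

theorem adj_ex_iff (z : G) : Adj (e x) (e z) ↔ z ∈ zpowers x := by
  rw [← S.iso, S.adj_x_iff]

theorem adj_gen_iff {z0 : G} (hz0 : z0 ∈ zpowers x) (ho : orderOf z0 = orderOf x) (t : G) :
    Adj (e z0) (e t) ↔ t ∈ zpowers x := by
  rw [← S.iso, adj_congr_left (zpowers_eq_of_mem_of_orderOf_eq hz0 ho), S.adj_x_iff]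

theorem exists_preimage_of_adj {v : H} (hv : Adj (e x) v) : ∃ t ∈ zpowers x, e t = v := by
  refine ⟨e.symm v, ?_, by simp⟩
  rw [← S.adj_ex_iff]
  simpa using hv

theorem inD_or_inU {z : G} (hz : z ∈ zpowers x) :
    e z ∈ zpowers (e x) ∨ e x ∈ zpowers (e z) := by
  have := (S.adj_ex_iff z).2 hz
  rcases this with h | h
  · exact Or.inr h
  · exact Or.inl h

theorem adj_of_inD_inU {z1 z2 : G} (h1 : e z1 ∈ zpowers (e x)) (h2 : e x ∈ zpowers (e z2)) :
    Adj z1 z2 := by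
  rw [S.iso]
  left
  exact ((zpowers_le).2 h2) h1

theorem type_eq {z1 z2 : G} (h1 : z1 ∈ zpowers x) (h2 : z2 ∈ zpowers x) (hn : ¬ Adj z1 z2) :
    (e z1 ∈ zpowers (e x) ↔ e z2 ∈ zpowers (e x)) ∧
      (e x ∈ zpowers (e z1) ↔ ¬ e z1 ∈ zpowers (e x)) ∧
      (e x ∈ zpowers (e z2) ↔ ¬ e z2 ∈ zpowers (e x)) := by
  have hn' : ¬ Adj z2 z1 := fun h => hn ((adj_comm _ _).1 h)
  have a1 := S.inD_or_inU h1
  have a2 := S.inD_or_inU h2
  have k1 : e z1 ∈ zpowers (e x) → ¬ e x ∈ zpowers (e z2) := fun h h' => hn (S.adj_of_inD_inU h h')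
  have k2 : e z2 ∈ zpowers (e x) → ¬ e x ∈ zpowers (e z1) := fun h h' => hn' (S.adj_of_inD_inU h h')
  tauto

end MaxSetup

end Cfsg.Agent.Lib.Helper14.PowerGraph
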