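import Cfsg.Agent.Lib.Helper14.PowerGraphB

set_option autoImplicit false

namespace Cfsg.Agent.Lib.Helper14.PowerGraph

open Subgroup

variable {G H : Type*} [Group G] [Finite G] [Group H] [Finite H]

theorem not_adj_of_prime {z a : G} {p : ℕ} (hp : p.Prime) (hoa : orderOf a = p) (hz1 : z ≠ 1)
    (hpd : ¬ p ∣ orderOf z) : ¬ Adj z a := by
  rintro (h | h)
  · have h1 := orderOf_dvd_of_mem_zpowers h
    rw [hoa] at h1
    rcases (Nat.dvd_prime hp).1 h1 with h2 | h2
    · exact hz1 (orderOf_eq_one_iff.1 h2)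
    · exact hpd (by rw [h2])
  · have h1 := orderOf_dvd_of_mem_zpowers h
    rw [hoa] at h1
    exact hpd h1

theorem prime_eq_of_dvd_pow {p l k : ℕ} (hp : p.Prime) (hl : l.Prime) (h : p ∣ l ^ k) : p = l :=
  (Nat.prime_dvd_prime_iff_eq hp hl).1 (hp.dvd_of_dvd_pow h)

theorem ne_one_of_orderOf_eq_primePow {v : G} {l k : ℕ} (hl : l.Prime) (hk : 0 < k)
    (hov : orderOf v = l ^ k) : v ≠ 1 := by
  rintro rfl
  rw [orderOf_one] at hov
  have : 1 < l ^ k := Nat.one_lt_pow (by omega) hl.one_lt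
  omega

namespace MaxSetup

variable {e : G ≃ H} {x : G} (S : MaxSetup e x)

include S

theorem claimT {p q : ℕ} (hp : p.Prime) (hq : q.Prime) (hpq : p ≠ q) (hp' : p ∣ orderOf x)
    (hq' : q ∣ orderOf x) {z : G} (hz : z ∈ zpowers x) (hz1 : z ≠ 1)
    (hzm : orderOf z ≠ orderOf x) :
    (e z ∈ zpowers (e x) ↔ e (x ^ (orderOf x / p)) ∈ zpowers (e x)) ∧
      (e x ∈ zpowers (e z) ↔ ¬ e z ∈ zpowers (e x)) := by
  have hm : 0 < orderOf x := orderOf_pos x
  set a := x ^ (orderOf x / p) with ha_def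
  set b := x ^ (orderOf x / q) with hb_def
  have ha : orderOf a = p := orderOf_pow_div hm hp'
  have hb : orderOf b = q := orderOf_pow_div hm hq'
  have ha_mem : a ∈ zpowers x := Subgroup.pow_mem _ (mem_zpowers x) _
  have hb_mem : b ∈ zpowers x := Subgroup.pow_mem _ (mem_zpowers x) _
  have ha1 : a ≠ 1 := by
    intro h; rw [h, orderOf_one] at ha; exact hp.one_lt.ne ha
  have hb1 : b ≠ 1 := by
    intro h; rw [h, orderOf_one] at hb; exact hq.one_lt.ne hb
  have hab : ¬ Adj a b := by
    apply not_adj_of_prime hq hb ha1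
    rw [ha]
    intro h
    exact hpq ((Nat.prime_dvd_prime_iff_eq hq hp).1 h).symm
  have Tab := S.type_eq ha_mem hb_mem hab
  by_cases hpz : p ∣ orderOf z
  · by_cases hqz : q ∣ orderOf z
    · obtain ⟨l, k, v, hl, hk, hv, hov, hnd⟩ := exists_primePow_not_dvd hz hzm
      have hv1 : v ≠ 1 := ne_one_of_orderOf_eq_primePow hl hk hov
      have hzv : ¬ Adj z v := by
        rintro (h | h)
        · have h1 := orderOf_dvd_of_mem_zpowers h
          rw [hov] at h1
          have e1 := prime_eq_of_dvd_pow hp hl (dvd_trans hpz h1)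
          have e2 := prime_eq_of_dvd_pow hq hl (dvd_trans hqz h1)
          exact hpq (e1.trans e2.symm)
        · have h1 := orderOf_dvd_of_mem_zpowers h
          rw [hov] at h1
          exact hnd h1
      have Tzv := S.type_eq hz hv hzv
      by_cases hlp : l = p
      · have hlq : ¬ q ∣ orderOf v := by
          rw [hov]; intro h
          exact hpq ((prime_eq_of_dvd_pow hq hl h).trans hlp).symm
        have hvb : ¬ Adj v b := not_adj_of_prime hq hb hv1 hlq
        have Tvb := S.type_eq hv hb_mem hvb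
        exact ⟨(Tzv.1.trans Tvb.1).trans Tab.1.symm, Tzv.2.1⟩
      · have hlp' : ¬ p ∣ orderOf v := by
          rw [hov]; intro h
          exact hlp (prime_eq_of_dvd_pow hp hl h).symm
        have hva : ¬ Adj v a := not_adj_of_prime hp ha hv1 hlp'
        have Tva := S.type_eq hv ha_mem hva
        exact ⟨Tzv.1.trans Tva.1, Tzv.2.1⟩
    · have hzb : ¬ Adj z b := not_adj_of_prime hq hb hz1 hqz
      have Tzb := S.type_eq hz hb_mem hzb
      exact ⟨Tzb.1.trans Tab.1.symm, Tzb.2.1⟩
  · have hza : ¬ Adj z a := not_adj_of_prime hp ha hz1 hpz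
    have Tza := S.type_eq hz ha_mem hza
    exact ⟨Tza.1, Tza.2.1⟩

end MaxSetup

end Cfsg.Agent.Lib.Helper14.PowerGraph
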