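import Cfsg.Agent.Lib.Helper14.PowerGraphC

set_option autoImplicit false

namespace Cfsg.Agent.Lib.Helper14.PowerGraph

open Subgroup

variable {G H : Type*} [Group G] [Finite G] [Group H] [Finite H]

theorem orderOf_eq_of_image_eq (e : G ≃ H) (x : G) (x' : H)
    (h : (zpowers x' : Set H) = e '' (zpowers x : Set G)) : orderOf x' = orderOf x := by
  rw [← Nat.card_zpowers x', ← Nat.card_zpowers x]
  have h1 : Nat.card (zpowers x') = (zpowers x' : Set H).ncard := by
    rw [← Nat.card_coe_set_eq]; rfl
  have h2 : Nat.card (zpowers x) = (zpowers x : Set G).ncard := by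
    rw [← Nat.card_coe_set_eq]; rfl
  rw [h1, h2, h, Set.ncard_image_of_injective _ e.injective]

namespace MaxSetup

variable {e : G ≃ H} {x : G} (S : MaxSetup e x)

include S

theorem caseA {p q : ℕ} (hp : p.Prime) (hq : q.Prime) (hpq : p ≠ q) (hp' : p ∣ orderOf x)
    (hq' : q ∣ orderOf x) (hDa : e (x ^ (orderOf x / p)) ∈ zpowers (e x)) :
    orderOf (e x) = orderOf x := by
  have hm : 0 < orderOf x := orderOf_pos x
  set a := x ^ (orderOf x / p) with ha_def
  set b := x ^ (orderOf x / q) with hb_def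
  have ha : orderOf a = p := orderOf_pow_div hm hp'
  have hb : orderOf b = q := orderOf_pow_div hm hq'
  have ha_mem : a ∈ zpowers x := Subgroup.pow_mem _ (mem_zpowers x) _
  have hb_mem : b ∈ zpowers x := Subgroup.pow_mem _ (mem_zpowers x) _
  have ha1 : a ≠ 1 := by
    intro h; rw [h, orderOf_one] at ha; exact hp.one_lt.ne ha
  have hb1 : b ≠ 1 := by
    intro h; rw [h, orderOf_one] at hb; exact hq.one_lt.ne hb
  have hab : ¬ Adj a b := by
    apply not_adj_of_prime hq hb ha1
    rw [ha]
    intro h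
    exact hpq ((Nat.prime_dvd_prime_iff_eq hq hp).1 h).symm
  have hbm : orderOf b ≠ orderOf x := by
    rw [hb]; intro h
    rw [← h] at hp'
    exact hpq ((Nat.prime_dvd_prime_iff_eq hp hq).1 hp')
  have hall : ∀ z ∈ zpowers x, z ≠ 1 → orderOf z ≠ orderOf x → e z ∈ zpowers (e x) := by
    intro z hz hz1 hzm
    exact (S.claimT hp hq hpq hp' hq' hz hz1 hzm).1.2 hDa
  have hDb : e b ∈ zpowers (e x) := hall b hb_mem hb1 hbm
  have hgen : ∀ z ∈ zpowers x, orderOf z = orderOf x → e z ∈ zpowers (e x) := by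
    intro z hz hzo
    by_contra hD
    have hU : e x ∈ zpowers (e z) := by
      rcases S.inD_or_inU hz with h | h
      · exact absurd h hD
      · exact h
    have hne : orderOf (e x) ≠ orderOf (e z) := by
      intro ho
      apply hD
      rw [zpowers_eq_of_mem_of_orderOf_eq hU ho]
      exact mem_zpowers _
    obtain ⟨l, k, v, hl, hk, hv, hov, hnd⟩ := exists_primePow_not_dvd hU hne
    have hadj : Adj (e z) v := Or.inr hv
    have hvt : e.symm v ∈ zpowers x := by
      rw [← S.adj_gen_iff hz hzo]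
      simpa using hadj
    have hadj2 : Adj (e x) v := by
      have := (S.adj_ex_iff (e.symm v)).2 hvt
      simpa using this
    rcases hadj2 with h | h
    · -- e x ∈ zpowers v
      have h1 := orderOf_dvd_of_mem_zpowers h
      rw [hov] at h1
      have h2 : orderOf (e a) ∣ l ^ k := dvd_trans (orderOf_dvd_of_mem_zpowers hDa) h1
      have h3 : orderOf (e b) ∣ l ^ k := dvd_trans (orderOf_dvd_of_mem_zpowers hDb) h1
      obtain ⟨i, -, hi⟩ := (Nat.dvd_prime_pow hl).1 h2
      obtain ⟨j, -, hj⟩ := (Nat.dvd_prime_pow hl).1 h3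
      have := adj_of_primePow hDa hDb hi hj
      exact hab ((S.iso a b).2 this)
    · have h1 := orderOf_dvd_of_mem_zpowers h
      rw [hov] at h1
      exact hnd h1
  have hallD : ∀ z ∈ zpowers x, e z ∈ zpowers (e x) := by
    intro z hz
    by_cases hz1 : z = 1
    · rw [hz1, S.one]; exact one_mem _
    · by_cases hzm : orderOf z = orderOf x
      · exact hgen z hz hzm
      · exact hall z hz hz1 hzm
  apply orderOf_eq_of_image_eq e
  ext d
  constructor
  · intro hd
    obtain ⟨t, ht, hte⟩ := S.exists_preimage_of_adj (v := d) (Or.inr hd)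
    exact ⟨t, ht, hte⟩
  · rintro ⟨t, ht, rfl⟩
    exact hallD t ht

end MaxSetup

end Cfsg.Agent.Lib.Helper14.PowerGraph
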