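import Cfsg.Agent.Lib.Helper14.PowerGraphD

set_option autoImplicit false

namespace Cfsg.Agent.Lib.Helper14.PowerGraph

open Subgroup

variable {G H : Type*} [Group G] [Finite G] [Group H] [Finite H]

/-- number of generators of a cyclic subgroup -/
theorem ncard_gens (w : G) :
    {v : G | v ∈ zpowers w ∧ orderOf v = orderOf w}.ncard = Nat.totient (orderOf w) := by
  classical
  let α := ↥(zpowers w)
  haveI : Fintype α := Fintype.ofFinite α
  have hcard : Fintype.card α = orderOf w := by
    rw [← Nat.card_eq_fintype_card]; exact Nat.card_zpowers w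
  have h := IsCyclic.card_orderOf_eq_totient (α := α) (d := orderOf w) (by rw [hcard])
  rw [← h]
  have hset : {v : G | v ∈ zpowers w ∧ orderOf v = orderOf w} =
      Subtype.val '' ((Finset.univ.filter fun a : α => orderOf a = orderOf w : Finset α) : Set α) := by
    ext v
    constructor
    · rintro ⟨hv, ho⟩
      refine ⟨⟨v, hv⟩, ?_, rfl⟩
      simp only [Finset.coe_filter, Finset.mem_univ, true_and]
      show orderOf (⟨v, hv⟩ : α) = orderOf w
      rw [Subgroup.orderOf_mk]; exact ho
    · rintro ⟨a, ha, rfl⟩
      simp only [Finset.coe_filter, Finset.mem_univ, true_and] at ha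
      have ha' : orderOf a = orderOf w := ha
      refine ⟨a.2, ?_⟩
      rw [Subgroup.orderOf_coe]; exact ha'
  rw [hset, Set.ncard_image_of_injective _ Subtype.val_injective, Set.ncard_coe_finset]

theorem ncard_zpowers_diff_one (a : G) :
    ((zpowers a : Set G) \ {1}).ncard = orderOf a - 1 := by
  rw [Set.ncard_diff_singleton_of_mem (one_mem _)]
  congr 1
  rw [← Nat.card_zpowers a, ← Nat.card_coe_set_eq]; rfl

namespace MaxSetup

variable {e : G ≃ H} {x : G} (S : MaxSetup e x)

include S

/-- the closed-neighbourhood class of an element of prime order `p` inside `⟨x⟩` -/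
theorem class_of_prime {p q : ℕ} (hp : p.Prime) (hq : q.Prime) (hpq : p ≠ q)
    (hp' : p ∣ orderOf x) (hq' : q ∣ orderOf x) {t : G}
    (ht : ∀ s, Adj t s ↔ Adj (x ^ (orderOf x / p)) s) :
    t ∈ zpowers (x ^ (orderOf x / p)) ∧ t ≠ 1 := by
  have hm : 0 < orderOf x := orderOf_pos x
  set a := x ^ (orderOf x / p) with ha_def
  set b := x ^ (orderOf x / q) with hb_def
  have hpqm : p * q ∣ orderOf x :=
    Nat.Coprime.mul_dvd_of_dvd_of_dvd ((Nat.coprime_primes hp hq).2 hpq) hp' hq'
  set c := x ^ (orderOf x / (p * q)) with hc_def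
  have ha : orderOf a = p := orderOf_pow_div hm hp'
  have hb : orderOf b = q := orderOf_pow_div hm hq'
  have hc : orderOf c = p * q := orderOf_pow_div hm hpqm
  have ha_mem : a ∈ zpowers x := Subgroup.pow_mem _ (mem_zpowers x) _
  have hb_mem : b ∈ zpowers x := Subgroup.pow_mem _ (mem_zpowers x) _
  have hc_mem : c ∈ zpowers x := Subgroup.pow_mem _ (mem_zpowers x) _
  have ha1 : a ≠ 1 := by
    intro h; rw [h, orderOf_one] at ha; exact hp.one_lt.ne ha
  have hab : ¬ Adj a b := by
    apply not_adj_of_prime hq hb ha1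
    rw [ha]
    intro h
    exact hpq ((Nat.prime_dvd_prime_iff_eq hq hp).1 h).symm
  have htx : t ∈ zpowers x := by
    rw [← S.adj_x_iff, adj_comm, ht]
    exact Or.inl ha_mem
  have hta : Adj t a := (ht a).2 (adj_refl a)
  have htb : ¬ Adj t b := fun h => hab ((ht b).1 h)
  have ht1 : t ≠ 1 := by
    rintro rfl
    exact htb (adj_one_left b)
  have hac : a ∈ zpowers c :=
    mem_zpowers_of_orderOf_dvd hc_mem ha_mem (by rw [ha, hc]; exact dvd_mul_right p q)
  have htc : Adj t c := (ht c).2 (Or.inl hac)
  refine ⟨?_, ht1⟩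
  rcases hta with h | h
  · exact h
  · -- a ∈ zpowers t
    have hpt : p ∣ orderOf t := by
      have := orderOf_dvd_of_mem_zpowers h
      rwa [ha] at this
    have hqt : ¬ q ∣ orderOf t := by
      intro hq2
      apply htb
      right
      exact mem_zpowers_of_orderOf_dvd htx hb_mem (by rw [hb]; exact hq2)
    have hdiv : orderOf t ∣ p * q := by
      rcases htc with h2 | h2
      · have := orderOf_dvd_of_mem_zpowers h2
        rwa [hc] at this
      · exfalso
        have := orderOf_dvd_of_mem_zpowers h2
        rw [hc] at this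
        exact hqt (dvd_trans (dvd_mul_left q p) this)
    have hot : orderOf t = p := by
      obtain ⟨s, hs⟩ := hpt
      rw [hs] at hdiv
      have hs' : s ∣ q := Nat.dvd_of_mul_dvd_mul_left hp.pos hdiv
      rcases (Nat.dvd_prime hq).1 hs' with h3 | h3
      · rw [hs, h3, mul_one]
      · exfalso
        apply hqt
        rw [hs, h3]
        exact dvd_mul_left q p
    have : zpowers a = zpowers t := zpowers_eq_of_mem_of_orderOf_eq h (by rw [ha, hot])
    rw [this]
    exact mem_zpowers t

end MaxSetup

end Cfsg.Agent.Lib.Helper14.PowerGraph
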