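import Cfsg.Agent.Lib.Helper14.PowerGraphE

set_option autoImplicit false

namespace Cfsg.Agent.Lib.Helper14.PowerGraph

open Subgroup

variable {G H : Type*} [Group G] [Finite G] [Group H] [Finite H]

theorem two_mul_totient_primePow_ge {l j : ℕ} (hl : l.Prime) (hj : 0 < j) :
    l ^ j ≤ 2 * Nat.totient (l ^ j) := by
  rw [Nat.totient_prime_pow hl hj]
  obtain ⟨i, rfl⟩ : ∃ i, j = i + 1 := ⟨j - 1, by omega⟩
  have h2 : 2 ≤ l := hl.two_le
  have : l ≤ 2 * (l - 1) := by omega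
  calc l ^ (i + 1) = l ^ i * l := pow_succ l i
    _ ≤ l ^ i * (2 * (l - 1)) := Nat.mul_le_mul_left _ this
    _ = 2 * (l ^ (i + 1 - 1) * (l - 1)) := by
        simp only [Nat.add_sub_cancel]; ring

theorem totient_mul_primes_le {p q m : ℕ} (hp : p.Prime) (hq : q.Prime) (hpq : p ≠ q)
    (hm : 0 < m) (hp' : p ∣ m) (hq' : q ∣ m) : (p - 1) * (q - 1) ≤ Nat.totient m := by
  have hpqm : p * q ∣ m :=
    Nat.Coprime.mul_dvd_of_dvd_of_dvd ((Nat.coprime_primes hp hq).2 hpq) hp' hq'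
  have h1 := Nat.totient_dvd_of_dvd hpqm
  rw [Nat.totient_mul ((Nat.coprime_primes hp hq).2 hpq), Nat.totient_prime hp,
    Nat.totient_prime hq] at h1
  exact Nat.le_of_dvd (Nat.totient_pos.2 hm) h1

namespace MaxSetup

variable {e : G ≃ H} {x : G} (S : MaxSetup e x)

include S

theorem caseB_pre
    (hND : ∀ z ∈ zpowers x, z ≠ 1 → orderOf z ≠ orderOf x →
      ¬ e z ∈ zpowers (e x) ∧ e x ∈ zpowers (e z)) :
    (∀ d ∈ zpowers (e x), ∃ t ∈ zpowers x, e t = d ∧ (t = 1 ∨ orderOf t = orderOf x)) ∧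
      (∀ d1 ∈ zpowers (e x), ∀ d2 ∈ zpowers (e x), Adj d1 d2) := by
  have B1 : ∀ d ∈ zpowers (e x), ∃ t ∈ zpowers x, e t = d ∧ (t = 1 ∨ orderOf t = orderOf x) := by
    intro d hd
    obtain ⟨t, ht, hte⟩ := S.exists_preimage_of_adj (v := d) (Or.inr hd)
    refine ⟨t, ht, hte, ?_⟩
    by_contra hcon
    push Not at hcon
    have := (hND t ht hcon.1 hcon.2).1
    rw [hte] at this
    exact this hd
  refine ⟨B1, ?_⟩
  intro d1 hd1 d2 hd2
  obtain ⟨t1, ht1, rfl, h1⟩ := B1 d1 hd1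
  obtain ⟨t2, ht2, rfl, h2⟩ := B1 d2 hd2
  rw [← S.iso]
  rcases h1 with rfl | h1
  · exact adj_one_left _
  · rcases h2 with rfl | h2
    · exact adj_one_right _
    · exact adj_of_orderOf_eq ht1 ht2 h1 h2

theorem caseB_primePow (hx1 : x ≠ 1)
    (hND : ∀ z ∈ zpowers x, z ≠ 1 → orderOf z ≠ orderOf x →
      ¬ e z ∈ zpowers (e x) ∧ e x ∈ zpowers (e z)) :
    ∃ l k : ℕ, l.Prime ∧ 0 < k ∧ orderOf (e x) = l ^ k := by
  obtain ⟨-, B2⟩ := S.caseB_pre hND
  have hx'1 : e x ≠ 1 := by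
    intro h
    rw [← S.one] at h
    exact hx1 (e.injective h)
  set n' := orderOf (e x) with hn'
  have hn0 : 0 < n' := orderOf_pos (e x)
  have hn1 : n' ≠ 1 := by
    intro h
    exact hx'1 (orderOf_eq_one_iff.1 h)
  have hl : (n'.minFac).Prime := Nat.minFac_prime hn1
  have hln : n'.minFac ∣ n' := Nat.minFac_dvd n'
  have huniq : ∀ {r : ℕ}, r.Prime → r ∣ n' → r = n'.minFac := by
    intro r hr hrn
    have o1 : orderOf ((e x) ^ (n' / r)) = r := orderOf_pow_div hn0 hrn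
    have o2 : orderOf ((e x) ^ (n' / n'.minFac)) = n'.minFac := orderOf_pow_div hn0 hln
    have hadj := B2 _ (Subgroup.pow_mem _ (mem_zpowers (e x)) (n' / r)) _
      (Subgroup.pow_mem _ (mem_zpowers (e x)) (n' / n'.minFac))
    rcases hadj with h | h
    · have := orderOf_dvd_of_mem_zpowers h
      rw [o1, o2] at this
      exact (Nat.prime_dvd_prime_iff_eq hr hl).1 this
    · have := orderOf_dvd_of_mem_zpowers h
      rw [o1, o2] at this
      exact ((Nat.prime_dvd_prime_iff_eq hl hr).1 this).symm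
  have hpow := Nat.eq_prime_pow_of_unique_prime_dvd (by omega : n' ≠ 0) huniq
  refine ⟨n'.minFac, n'.primeFactorsList.length, hl, ?_, hpow⟩
  by_contra hk
  have hk0 : n'.primeFactorsList.length = 0 := by omega
  rw [hk0, pow_zero] at hpow
  exact hn1 hpow

end MaxSetup

end Cfsg.Agent.Lib.Helper14.PowerGraph
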