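import Cfsg.Agent.Lib.Helper14.PowerGraphF

set_option autoImplicit false
set_option maxHeartbeats 1000000

namespace Cfsg.Agent.Lib.Helper14.PowerGraph

open Subgroup

variable {G H : Type*} [Group G] [Finite G] [Group H] [Finite H]

namespace MaxSetup

variable {e : G ≃ H} {x : G} (S : MaxSetup e x)

include S

theorem caseB_ineq {p q : ℕ} (hp : p.Prime) (hq : q.Prime) (hpq : p ≠ q)
    (hp' : p ∣ orderOf x) (hq' : q ∣ orderOf x)
    (hND : ∀ z ∈ zpowers x, z ≠ 1 → orderOf z ≠ orderOf x →
      ¬ e z ∈ zpowers (e x) ∧ e x ∈ zpowers (e z)) :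
    (p - 1) * (q - 1) + 1 ≤ 2 * (p - 1) := by
  classical
  haveI : Fintype G := Fintype.ofFinite G
  have hm : 0 < orderOf x := orderOf_pos x
  have hx1 : x ≠ 1 := by
    rintro rfl
    rw [orderOf_one] at hp'
    exact hp.one_lt.ne' (Nat.dvd_one.1 hp')
  obtain ⟨l, k, hl, hk, hxk⟩ := S.caseB_primePow hx1 hND
  set a := x ^ (orderOf x / p) with ha_def
  set b := x ^ (orderOf x / q) with hb_def
  have ha : orderOf a = p := orderOf_pow_div hm hp'
  have hb : orderOf b = q := orderOf_pow_div hm hq'
  have ha_mem : a ∈ zpowers x := Subgroup.pow_mem _ (mem_zpowers x) _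
  have hb_mem : b ∈ zpowers x := Subgroup.pow_mem _ (mem_zpowers x) _
  have ha1 : a ≠ 1 := by
    intro h; rw [h, orderOf_one] at ha; exact hp.one_lt.ne ha
  have hab : ¬ Adj a b := by
    apply not_adj_of_prime hq hb ha1
    rw [ha]
    intro h
    exact hpq ((Nat.prime_dvd_prime_iff_eq hq hp).1 h).symm
  have ham : orderOf a ≠ orderOf x := by
    rw [ha]; intro h
    rw [← h] at hq'
    exact hpq ((Nat.prime_dvd_prime_iff_eq hq hp).1 hq').symm
  obtain ⟨hnDa, hUa⟩ := hND a ha_mem ha1 ham
  set u := e a with hu_def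
  -- a generator with maximal image order
  let s : Finset G := Finset.univ.filter (fun z => z ∈ zpowers x ∧ orderOf z = orderOf x)
  have hs : s.Nonempty := ⟨x, by simp [s, mem_zpowers]⟩
  obtain ⟨z0, hz0s, hz0max⟩ := Finset.exists_max_image s (fun z => orderOf (e z)) hs
  have hz0 : z0 ∈ zpowers x ∧ orderOf z0 = orderOf x := by simpa [s] using hz0s
  set y := e z0 with hy_def
  have hy_adj : ∀ t, Adj y (e t) ↔ t ∈ zpowers x := S.adj_gen_iff hz0.1 hz0.2
  have hgens_in : ∀ z, z ∈ zpowers x → orderOf z = orderOf x → e z ∈ zpowers y := by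
    intro z hz hzo
    have h1 : Adj z z0 := adj_of_orderOf_eq hz hz0.1 hzo hz0.2
    rw [S.iso] at h1
    rcases h1 with h | h
    · exact h
    · have hd := orderOf_dvd_of_mem_zpowers h
      have hle : orderOf (e z) ≤ orderOf y := hz0max z (by simp [s, hz, hzo])
      have heq : orderOf y = orderOf (e z) :=
        le_antisymm (Nat.le_of_dvd (orderOf_pos _) hd) hle
      rw [zpowers_eq_of_mem_of_orderOf_eq h heq]
      exact mem_zpowers _
  have hcount1 : Nat.totient (orderOf x) + 1 ≤ orderOf y := by
    have h1 := ncard_gens x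
    have hsub : e '' {v : G | v ∈ zpowers x ∧ orderOf v = orderOf x} ⊆
        (zpowers y : Set H) \ {1} := by
      rintro _ ⟨z, ⟨hz, hzo⟩, rfl⟩
      refine ⟨hgens_in z hz hzo, ?_⟩
      simp only [Set.mem_singleton_iff]
      intro h
      rw [← S.one] at h
      have h2 := e.injective h
      rw [h2, orderOf_one] at hzo
      exact hx1 (orderOf_eq_one_iff.1 hzo.symm)
    have h2 := Set.ncard_le_ncard hsub (Set.toFinite _)
    rw [Set.ncard_image_of_injective _ e.injective, h1, ncard_zpowers_diff_one] at h2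
    have := orderOf_pos y
    omega
  have hy1 : y ≠ 1 := by
    intro h
    have h5 : orderOf y = 1 := by rw [h, orderOf_one]
    have h6 := Nat.totient_pos.2 hm
    omega
  have hy_pow : ∃ j, 0 < j ∧ orderOf y = l ^ j := by
    have hxy : Adj (e x) y := (S.adj_ex_iff z0).2 hz0.1
    have key : ∀ {r : ℕ}, r.Prime → r ∣ orderOf y → r = l := by
      intro r hr hry
      rcases hxy with h | h
      · set v := y ^ (orderOf y / r) with hv
        have ov : orderOf v = r := orderOf_pow_div (orderOf_pos y) hry
        have hvy : v ∈ zpowers y := Subgroup.pow_mem _ (mem_zpowers y) _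
        have hadj : Adj y v := Or.inr hvy
        have hvt : e.symm v ∈ zpowers x := by
          rw [← hy_adj]; simpa using hadj
        have hadj2 : Adj (e x) v := by
          have := (S.adj_ex_iff (e.symm v)).2 hvt
          simpa using this
        rcases hadj2 with h2 | h2
        · have := orderOf_dvd_of_mem_zpowers h2
          rw [hxk, ov] at this
          have hlr : l ∣ r := dvd_trans (dvd_pow_self l (by omega)) this
          exact ((Nat.prime_dvd_prime_iff_eq hl hr).1 hlr).symm
        · have := orderOf_dvd_of_mem_zpowers h2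
          rw [hxk, ov] at this
          exact prime_eq_of_dvd_pow hr hl this
      · have := orderOf_dvd_of_mem_zpowers h
        rw [hxk] at this
        exact prime_eq_of_dvd_pow hr hl (dvd_trans hry this)
    have hpow := Nat.eq_prime_pow_of_unique_prime_dvd (orderOf_pos y).ne' key
    refine ⟨_, ?_, hpow⟩
    by_contra hj
    have h0 : (orderOf y).primeFactorsList.length = 0 := by omega
    rw [h0, pow_zero] at hpow
    exact hy1 (orderOf_eq_one_iff.1 hpow)
  obtain ⟨j, hj, hyj⟩ := hy_pow
  have hyu : y ∈ zpowers u := by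
    have h1 : Adj y u := (hy_adj a).2 ha_mem
    rcases h1 with h | h
    · exact h
    · exfalso
      apply hab
      rw [S.iso]
      have hvx : Adj (e x) (e b) := (S.adj_ex_iff b).2 hb_mem
      have hvy : Adj y (e b) := (hy_adj b).2 hb_mem
      rcases hvx with h2 | h2
      · rcases hvy with h3 | h3
        · exact Or.inl (((zpowers_le).2 h3) h)
        · have o1 := orderOf_dvd_of_mem_zpowers h
          have o2 := orderOf_dvd_of_mem_zpowers h3
          rw [hyj] at o1 o2
          obtain ⟨i1, -, hi1⟩ := (Nat.dvd_prime_pow hl).1 o1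
          obtain ⟨i2, -, hi2⟩ := (Nat.dvd_prime_pow hl).1 o2
          exact adj_of_primePow h h3 hi1 hi2
      · exact Or.inr (((zpowers_le).2 hUa) h2)
  have hdiv : Nat.totient (l ^ j) ∣ Nat.totient (orderOf u) := by
    rw [← hyj]
    exact Nat.totient_dvd_of_dvd (orderOf_dvd_of_mem_zpowers hyu)
  have hle1 : Nat.totient (l ^ j) ≤ Nat.totient (orderOf u) :=
    Nat.le_of_dvd (Nat.totient_pos.2 (orderOf_pos u)) hdiv
  have hcount2 : Nat.totient (orderOf u) ≤ p - 1 := by
    have hA : ((zpowers a : Set G) \ {1}).ncard = p - 1 := by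
      rw [ncard_zpowers_diff_one, ha]
    rw [← ncard_gens u, ← hA]
    have hsub : e.symm '' {v : H | v ∈ zpowers u ∧ orderOf v = orderOf u} ⊆
        (zpowers a : Set G) \ {1} := by
      rintro _ ⟨v, ⟨hv, hvo⟩, rfl⟩
      have hzp : zpowers v = zpowers u := zpowers_eq_of_mem_of_orderOf_eq hv hvo
      have hcl : ∀ s', Adj (e.symm v) s' ↔ Adj a s' := by
        intro s'
        rw [S.iso, S.iso a s']
        simp only [Equiv.apply_symm_apply]
        exact adj_congr_left hzp (e s')
      obtain ⟨h1, h2⟩ := S.class_of_prime hp hq hpq hp' hq' hcl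
      exact ⟨h1, by simpa using h2⟩
    have := Set.ncard_le_ncard hsub (Set.toFinite _)
    rwa [Set.ncard_image_of_injective _ e.symm.injective] at this
  have h3 := two_mul_totient_primePow_ge hl hj
  have h4 := totient_mul_primes_le hp hq hpq hm hp' hq'
  rw [hyj] at hcount1
  omega

end MaxSetup

end Cfsg.Agent.Lib.Helper14.PowerGraph
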