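import Cfsg.Agent.Lib.Helper14.PowerGraphG

set_option autoImplicit false

namespace Cfsg.Agent.Lib.Helper14.PowerGraph

open Subgroup

variable {G H : Type*} [Group G] [Finite G] [Group H] [Finite H]

theorem MaxSetup.orderOf_image {e : G ≃ H} {x : G} (S : MaxSetup e x) {p q : ℕ}
    (hp : p.Prime) (hq : q.Prime) (hpq : p ≠ q)
    (hp' : p ∣ orderOf x) (hq' : q ∣ orderOf x) : orderOf (e x) = orderOf x := by
  by_cases hDa : e (x ^ (orderOf x / p)) ∈ zpowers (e x)
  · exact S.caseA hp hq hpq hp' hq' hDa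
  · exfalso
    have hND : ∀ z ∈ zpowers x, z ≠ 1 → orderOf z ≠ orderOf x →
        ¬ e z ∈ zpowers (e x) ∧ e x ∈ zpowers (e z) := by
      intro z hz hz1 hzm
      obtain ⟨h1, h2⟩ := S.claimT hp hq hpq hp' hq' hz hz1 hzm
      have h3 : ¬ e z ∈ zpowers (e x) := fun h => hDa (h1.1 h)
      exact ⟨h3, h2.2 h3⟩
    have i1 := S.caseB_ineq hp hq hpq hp' hq' hND
    have i2 := S.caseB_ineq hq hp hpq.symm hq' hp' hND
    obtain ⟨P, rfl⟩ : ∃ P, p = P + 2 := ⟨p - 2, by have := hp.two_le; omega⟩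
    obtain ⟨Q, rfl⟩ : ∃ Q, q = Q + 2 := ⟨q - 2, by have := hq.two_le; omega⟩
    rw [show P + 2 - 1 = P + 1 from rfl, show Q + 2 - 1 = Q + 1 from rfl] at i1 i2
    have hPQ : P ≠ Q := fun h => hpq (by rw [h])
    have e1 : (P + 1) * (Q + 1) = P * Q + P + Q + 1 := by ring
    have e2 : (Q + 1) * (P + 1) = P * Q + P + Q + 1 := by ring
    rw [e1] at i1
    rw [e2] at i2
    exact hPQ (by omega)

theorem exists_orderOf_mul_of_iso_one (e : G ≃ H) (he : ∀ a b : G, Adj a b ↔ Adj (e a) (e b))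
    (h1 : e 1 = 1) {p q : ℕ} (hp : p.Prime) (hq : q.Prime) (hpq : p ≠ q) (g : G)
    (hg : orderOf g = p * q) : ∃ h : H, orderOf h = p * q := by
  classical
  haveI : Fintype G := Fintype.ofFinite G
  let s : Finset G := Finset.univ.filter (fun z => g ∈ zpowers z)
  have hs : s.Nonempty := ⟨g, by simp [s, mem_zpowers]⟩
  obtain ⟨x, hxs, hxmax⟩ := Finset.exists_max_image s (fun z => orderOf z) hs
  have hgx : g ∈ zpowers x := by simpa [s] using hxs
  have hmax : ∀ z, x ∈ zpowers z → z ∈ zpowers x := by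
    intro z hz
    have hgz : g ∈ zpowers z := ((zpowers_le).2 hz) hgx
    have hle : orderOf z ≤ orderOf x := hxmax z (by simp [s, hgz])
    have hd : orderOf x ∣ orderOf z := orderOf_dvd_of_mem_zpowers hz
    have heq : orderOf x = orderOf z := le_antisymm (Nat.le_of_dvd (orderOf_pos _) hd) hle
    rw [zpowers_eq_of_mem_of_orderOf_eq hz heq]
    exact mem_zpowers z
  have S : MaxSetup e x := ⟨he, h1, hmax⟩
  have hdvd : p * q ∣ orderOf x := by rw [← hg]; exact orderOf_dvd_of_mem_zpowers hgx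
  have hp' : p ∣ orderOf x := dvd_trans (dvd_mul_right p q) hdvd
  have hq' : q ∣ orderOf x := dvd_trans (dvd_mul_left q p) hdvd
  have ho : orderOf (e x) = orderOf x := S.orderOf_image hp hq hpq hp' hq'
  refine ⟨(e x) ^ (orderOf (e x) / (p * q)), ?_⟩
  apply orderOf_pow_div (orderOf_pos _)
  rw [ho]; exact hdvd

omit [Finite H] in
theorem adj_swap_iff [DecidableEq H] {c d : H} (hc : ∀ v, Adj c v) (hd : ∀ v, Adj d v)
    (u v : H) : Adj (Equiv.swap c d u) (Equiv.swap c d v) ↔ Adj u v := by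
  have key : ∀ w, (w = c ∨ w = d) → ∀ t, Adj w t := by
    rintro w (rfl | rfl) t
    · exact hc t
    · exact hd t
  have hσ : ∀ w, (w = c ∨ w = d) → (Equiv.swap c d w = c ∨ Equiv.swap c d w = d) := by
    rintro w (rfl | rfl)
    · right; exact Equiv.swap_apply_left _ _
    · left; exact Equiv.swap_apply_right _ _
  by_cases hu : u = c ∨ u = d
  · exact ⟨fun _ => key u hu v, fun _ => key _ (hσ u hu) _⟩
  · by_cases hv : v = c ∨ v = d
    · exact ⟨fun _ => (adj_comm _ _).1 (key v hv u),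
        fun _ => (adj_comm _ _).1 (key _ (hσ v hv) _)⟩
    · push Not at hu hv
      rw [Equiv.swap_apply_of_ne_of_ne hu.1 hu.2, Equiv.swap_apply_of_ne_of_ne hv.1 hv.2]

theorem exists_orderOf_mul_of_iso (e : G ≃ H) (he : ∀ a b : G, Adj a b ↔ Adj (e a) (e b))
    {p q : ℕ} (hp : p.Prime) (hq : q.Prime) (hpq : p ≠ q) (g : G) (hg : orderOf g = p * q) :
    ∃ h : H, orderOf h = p * q := by
  classical
  have hc : ∀ v : H, Adj (e 1) v := by
    intro v
    have := (he 1 (e.symm v)).1 (adj_one_left _)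
    simpa using this
  have hd : ∀ v : H, Adj (1 : H) v := adj_one_left
  have he' : ∀ a b : G, Adj a b ↔
      Adj ((e.trans (Equiv.swap (e 1) 1)) a) ((e.trans (Equiv.swap (e 1) 1)) b) := by
    intro a b
    rw [he a b, Equiv.trans_apply, Equiv.trans_apply]
    exact (adj_swap_iff hc hd (e a) (e b)).symm
  have h1 : (e.trans (Equiv.swap (e 1) 1)) 1 = 1 := by
    rw [Equiv.trans_apply, Equiv.swap_apply_left]
  exact exists_orderOf_mul_of_iso_one _ he' h1 hp hq hpq g hg

end Cfsg.Agent.Lib.Helper14.PowerGraph
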