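import Mathlib

/-! Counting zeros of quadratic forms `Q₀ v + Σ x_i y_i` over a finite field. -/

set_option autoImplicit false
set_option maxHeartbeats 400000
namespace Cfsg.Agent.Lib.Helper14.QuadCount

open scoped Classical

variable {F : Type*} [Field F] [Fintype F]

theorem card_ne_zero : Nat.card {x : F // x ≠ 0} = Fintype.card F - 1 := by
  classical
  rw [Nat.card_eq_fintype_card, Fintype.card_subtype_compl, Fintype.card_subtype_eq]

theorem card_mul_eq_of_ne_zero {c : F} (hc : c ≠ 0) :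
    Nat.card {xy : F × F // xy.1 * xy.2 = c} = Fintype.card F - 1 := by
  rw [← card_ne_zero]
  apply Nat.card_congr
  refine ⟨fun t => ⟨t.1.1, fun h => hc (by rw [← t.2, h, zero_mul])⟩,
    fun x => ⟨(x.1, c / x.1), by field_simp [x.2]⟩, ?_, ?_⟩
  · rintro ⟨⟨x, y⟩, h⟩
    have hx : x ≠ 0 := fun h0 => hc (by rw [← h]; simp [h0])
    apply Subtype.ext
    simp only [Prod.mk.injEq, true_and]
    rw [← h]
    field_simp
  · intro x
    rfl

theorem card_mul_eq_zero :
    Nat.card {xy : F × F // xy.1 * xy.2 = 0} = Fintype.card F + (Fintype.card F - 1) := by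
  classical
  rw [← card_ne_zero (F := F), ← Nat.card_eq_fintype_card (α := F), ← Nat.card_sum]
  apply Nat.card_congr
  refine ⟨fun t => if h : t.1.1 = 0 then Sum.inl t.1.2 else Sum.inr ⟨t.1.1, h⟩,
    fun s => Sum.elim (fun y => ⟨(0, y), by simp⟩) (fun x => ⟨(x.1, 0), by simp⟩) s, ?_, ?_⟩
  · rintro ⟨⟨x, y⟩, h⟩
    by_cases hx : x = 0
    · simp [hx]
    · have hy : y = 0 := by
        rcases mul_eq_zero.mp h with h' | h'
        · exact absurd h' hx
        · exact h'
      simp [hx, hy]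
  · rintro (y | ⟨x, hx⟩)
    · simp
    · simp [hx]

theorem card_mul_eq (c : F) :
    Nat.card {xy : F × F // xy.1 * xy.2 = c} =
      (Fintype.card F - 1) + if c = 0 then Fintype.card F else 0 := by
  by_cases hc : c = 0
  · subst hc
    rw [card_mul_eq_zero, if_pos rfl, add_comm]
  · rw [card_mul_eq_of_ne_zero hc, if_neg hc, add_zero]

/-- adding a hyperbolic plane -/
theorem card_add_hyperbolic {W : Type*} [Fintype W] (R : W → F) :
    Nat.card {t : W × F × F // R t.1 + t.2.1 * t.2.2 = 0} =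
      Fintype.card F * Nat.card {w : W // R w = 0} + (Fintype.card F - 1) * Fintype.card W := by
  classical
  let e : {t : W × F × F // R t.1 + t.2.1 * t.2.2 = 0} ≃
      Σ w : W, {xy : F × F // xy.1 * xy.2 = -R w} :=
    { toFun := fun t => ⟨t.1.1, ⟨t.1.2, by
        have := t.2
        linear_combination this⟩⟩
      invFun := fun s => ⟨(s.1, s.2.1), by
        have := s.2.2
        linear_combination this⟩
      left_inv := fun t => rfl
      right_inv := fun s => rfl }
  rw [Nat.card_congr e, Nat.card_sigma]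
  simp_rw [card_mul_eq, neg_eq_zero]
  rw [Finset.sum_add_distrib, Finset.sum_const, Finset.card_univ, smul_eq_mul, Finset.sum_ite,
    Finset.sum_const_zero, add_zero, Finset.sum_const, smul_eq_mul, Nat.card_eq_fintype_card,
    Fintype.card_subtype]
  ring

/-- the zero count of `Q₀ v + Σ_{i<m} x_i y_i` -/
noncomputable def zeroCount {V : Type*} (Q₀ : V → F) (m : ℕ) : ℕ :=
  Nat.card {t : V × (Fin m → F) × (Fin m → F) // Q₀ t.1 + ∑ i, t.2.1 i * t.2.2 i = 0}

theorem zeroCount_zero {V : Type*} (Q₀ : V → F) :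
    zeroCount Q₀ 0 = Nat.card {v : V // Q₀ v = 0} := by
  unfold zeroCount
  apply Nat.card_congr
  refine ⟨fun t => ⟨t.1.1, by simpa using t.2⟩, fun v => ⟨(v.1, fun i => i.elim0, fun i => i.elim0), by simpa using v.2⟩, ?_, ?_⟩
  · rintro ⟨⟨v, x, y⟩, h⟩
    apply Subtype.ext
    simp only [Prod.mk.injEq, true_and]
    exact ⟨funext fun i => i.elim0, funext fun i => i.elim0⟩
  · intro v
    rfl

theorem zeroCount_succ {V : Type*} [Fintype V] (Q₀ : V → F) (m : ℕ) :
    zeroCount Q₀ (m + 1) =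
      Fintype.card F * zeroCount Q₀ m + (Fintype.card F - 1) * (Fintype.card V * Fintype.card F ^ (2 * m)) := by
  classical
  unfold zeroCount
  let R : V × (Fin m → F) × (Fin m → F) → F := fun w => Q₀ w.1 + ∑ i, w.2.1 i * w.2.2 i
  have h := card_add_hyperbolic R
  have hW : Fintype.card (V × (Fin m → F) × (Fin m → F)) = Fintype.card V * Fintype.card F ^ (2 * m) := by
    simp only [Fintype.card_prod, Fintype.card_fun, Fintype.card_fin]
    rw [two_mul, pow_add]
  rw [hW] at h
  rw [← h]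
  apply Nat.card_congr
  refine ⟨fun t => ⟨((t.1.1, Fin.tail t.1.2.1, Fin.tail t.1.2.2), t.1.2.1 0, t.1.2.2 0), ?_⟩,
    fun s => ⟨(s.1.1.1, Fin.cons s.1.2.1 s.1.1.2.1, Fin.cons s.1.2.2 s.1.1.2.2), ?_⟩, ?_, ?_⟩
  · have := t.2
    rw [Fin.sum_univ_succ] at this
    simp only [R, Fin.tail]
    linear_combination this
  · have := s.2
    rw [Fin.sum_univ_succ]
    simp only [R, Fin.cons_zero, Fin.cons_succ] at this ⊢
    linear_combination this
  · rintro ⟨⟨v, x, y⟩, h⟩
    apply Subtype.ext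
    simp only [Prod.mk.injEq, true_and]
    exact ⟨Fin.cons_self_tail x, Fin.cons_self_tail y⟩
  · rintro ⟨⟨⟨v, x, y⟩, x₀, y₀⟩, h⟩
    apply Subtype.ext
    simp [Fin.tail_cons]

/-- closed form (additive version, no subtraction) -/
theorem zeroCount_formula {V : Type*} [Fintype V] (Q₀ : V → F) (m : ℕ) :
    Fintype.card F * zeroCount Q₀ m + Fintype.card V * Fintype.card F ^ m =
      Fintype.card F ^ (m + 1) * Nat.card {v : V // Q₀ v = 0} + Fintype.card V * Fintype.card F ^ (2 * m) := by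
  have hq : 1 ≤ Fintype.card F := Fintype.card_pos
  obtain ⟨k, hk⟩ : ∃ k, Fintype.card F = k + 1 := ⟨Fintype.card F - 1, by omega⟩
  induction m with
  | zero =>
    rw [zeroCount_zero]
    simp
  | succ m ih =>
    rw [zeroCount_succ]
    rw [hk] at ih ⊢
    simp only [Nat.add_sub_cancel] at ih ⊢
    have e1 : (k + 1) ^ (2 * (m + 1)) = (k + 1) ^ (2 * m) * (k + 1) * (k + 1) := by
      rw [show 2 * (m + 1) = 2 * m + 1 + 1 by ring, pow_succ, pow_succ]
    have e2 : (k + 1) ^ (m + 1 + 1) = (k + 1) ^ (m + 1) * (k + 1) := pow_succ _ _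
    have e3 : (k + 1) ^ (m + 1) = (k + 1) ^ m * (k + 1) := pow_succ _ _
    rw [e1, e2]
    rw [e3] at ih ⊢
    nlinarith [ih]

end Cfsg.Agent.Lib.Helper14.QuadCount
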