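import Mathlib

set_option autoImplicit false

namespace Cfsg.Agent.Lib.Helper14

theorem finrank_ker_comp_le' {K V : Type*} [Field K] [AddCommGroup V] [Module K V] [FiniteDimensional K V]
    (f g : V →ₗ[K] V) :
    Module.finrank K (LinearMap.ker (f ∘ₗ g)) ≤ Module.finrank K (LinearMap.ker f) + Module.finrank K (LinearMap.ker g) := by
  let h : LinearMap.ker (f ∘ₗ g) →ₗ[K] LinearMap.ker f :=
    LinearMap.codRestrict (LinearMap.ker f) (g ∘ₗ (LinearMap.ker (f ∘ₗ g)).subtype) (fun x => by
      rw [LinearMap.mem_ker]
      exact LinearMap.mem_ker.mp x.2)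
  have h1 := LinearMap.finrank_range_add_finrank_ker h
  have h2 : Module.finrank K (LinearMap.range h) ≤ Module.finrank K (LinearMap.ker f) := Submodule.finrank_le _
  have h3 : Module.finrank K (LinearMap.ker h) ≤ Module.finrank K (LinearMap.ker g) := by
    let j : LinearMap.ker h →ₗ[K] LinearMap.ker g :=
      LinearMap.codRestrict (LinearMap.ker g) ((LinearMap.ker (f ∘ₗ g)).subtype ∘ₗ (LinearMap.ker h).subtype) (fun x => by
        have h' := congrArg Subtype.val (LinearMap.mem_ker.mp x.2)
        rw [LinearMap.mem_ker]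
        exact h')
    apply LinearMap.finrank_le_finrank_of_injective (f := j)
    intro x y hxy
    have := congrArg Subtype.val hxy
    simp [j] at this
    exact this
  omega

theorem finrank_ker_pow_le {K V : Type*} [Field K] [AddCommGroup V] [Module K V] [FiniteDimensional K V]
    (f : V →ₗ[K] V) (k : ℕ) :
    Module.finrank K (LinearMap.ker (f ^ k)) ≤ k * Module.finrank K (LinearMap.ker f) := by
  induction k with
  | zero =>
    simp [Module.End.one_eq_id]
  | succ k ih =>
    rw [pow_succ, Module.End.mul_eq_comp]
    have := finrank_ker_comp_le' (f ^ k) f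
    rw [Nat.succ_mul]
    omega

/-- Invariant subspaces of a nilpotent endomorphism with one-dimensional kernel form a chain. -/
theorem invariant_eq_ker_pow {K V : Type*} [Field K] [AddCommGroup V] [Module K V] [FiniteDimensional K V]
    (N : Module.End K V) (hnil : IsNilpotent N) (hker : Module.finrank K (LinearMap.ker N) ≤ 1)
    (W : Submodule K V) (hWN : ∀ v ∈ W, N v ∈ W) :
    W = LinearMap.ker (N ^ Module.finrank K W) := by
  obtain ⟨n, hNn⟩ := hnil
  have hNWnil : IsNilpotent (N.restrict hWN) := ⟨n, by
    rw [Module.End.pow_restrict]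
    ext w
    simp [hNn]⟩
  have hNWpow : (N.restrict hWN) ^ (Module.finrank K W) = 0 := by
    have := IsNilpotent.charpoly_eq_X_pow_finrank hNWnil
    simpa [this] using (N.restrict hWN).aeval_self_charpoly
  have hle : W ≤ LinearMap.ker (N ^ Module.finrank K W) := by
    intro w hw
    rw [LinearMap.mem_ker]
    rw [Module.End.pow_restrict] at hNWpow
    have := congrArg (fun f => ((f ⟨w, hw⟩ : W) : V)) hNWpow
    simpa using this
  refine Submodule.eq_of_le_of_finrank_le hle ?_
  calc Module.finrank K (LinearMap.ker (N ^ Module.finrank K W))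
      ≤ Module.finrank K W * Module.finrank K (LinearMap.ker N) := finrank_ker_pow_le N _
    _ ≤ Module.finrank K W * 1 := Nat.mul_le_mul_left _ hker
    _ = Module.finrank K W := mul_one _

/-- Matrix version, arbitrary finite index type. -/
theorem regular_unipotent_invariant {F : Type*} [Field F] {ι : Type*} [Fintype ι] [DecidableEq ι]
    (u : Matrix ι ι F) {k : ℕ} (hnil : (u - 1) ^ k = 0) (hreg : (u - 1).rank = Fintype.card ι - 1)
    (W : Submodule F (ι → F)) (hW : ∀ v ∈ W, u.mulVec v ∈ W) :
    W = LinearMap.ker (Matrix.mulVecLin ((u - 1) ^ Module.finrank F W)) := by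
  set N : Module.End F (ι → F) := Matrix.mulVecLin (u - 1) with hN
  have hpow : ∀ k, Matrix.mulVecLin ((u - 1) ^ k) = N ^ k := by
    intro k
    rw [hN, ← Matrix.toLin'_apply', ← Matrix.toLin'_apply', Matrix.toLin'_pow]
  have hker : Module.finrank F (LinearMap.ker N) ≤ 1 := by
    have := LinearMap.finrank_range_add_finrank_ker N
    have hreg' : Module.finrank F (LinearMap.range N) = Fintype.card ι - 1 := hreg
    rw [Module.finrank_fintype_fun_eq_card] at this
    omega
  have hWN : ∀ v ∈ W, N v ∈ W := by
    intro v hv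
    have : N v = u.mulVec v - v := by
      simp [N]
    rw [this]
    exact W.sub_mem (hW v hv) hv
  have hNn : N ^ k = 0 := by
    rw [← hpow, hnil]; simp
  rw [hpow]
  exact invariant_eq_ker_pow N ⟨k, hNn⟩ hker W hWN

end Cfsg.Agent.Lib.Helper14
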