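import Mathlib
import Cfsg.Prelude.Def_LocalEven
import Cfsg.Agent.S0598
import Cfsg.Agent.Lib.Helper14.Offender1
import Cfsg.Agent.Lib.Helper14.Offender2
import Cfsg.Agent.Lib.Helper14.S3Sec1

/-!
# `S₃`-sections from small quadratic-type bounds (helper14)

`M` faithful on the elementary abelian `2`-group `V`, `C_M(O_{2'}(M)) ≤ O_{2'}(M)`,
`A ≤ M` elementary abelian with `|V : C_V(A)| < |A|²`: then `S₃` is involved in `M`.
-/

set_option autoImplicit false

namespace Cfsg.Agent.Lib.Helper14.S3Sec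

open Subgroup
open scoped commutatorElement
open Cfsg.Agent.S0598 (cv mm)
open Cfsg.Agent.Lib.Helper14.Off

variable {G : Type*} [Group G]

theorem relIndex_ne_zero' [Finite G] (H K : Subgroup G) : H.relIndex K ≠ 0 := by
  intro h0
  have : H.relIndex K ∣ Nat.card K := Subgroup.relIndex_dvd_card _ _
  rw [h0] at this
  exact (Nat.card_pos (α := K)).ne' (Nat.eq_zero_of_zero_dvd this)

theorem three_dvd_comm [Finite G] (W : Subgroup G) (hW : IsPGroup 2 W) (a y : G)
    (ha : a * a = 1) (haN : a ∈ normalizer (W : Set G)) (hyN : y ∈ normalizer (W : Set G))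
    (hidx : (W ⊓ centralizer ((zpowers a : Subgroup G) : Set G)).relIndex W ≤ 2)
    (hodd : Odd (orderOf ⁅y, a⁆)) (hc : ⁅y, a⁆ ∉ centralizer (W : Set G)) :
    3 ∣ orderOf ⁅y, a⁆ := by
  have hcN : ⁅y, a⁆ ∈ normalizer (W : Set G) := by
    rw [commutatorElement_def]
    exact mul_mem (mul_mem (mul_mem hyN haN) (inv_mem hyN)) (inv_mem haN)
  apply three_dvd_orderOf W hW _ hcN hodd hc
  set a' := y * a * y⁻¹ with ha'
  set W₁ := W ⊓ centralizer ((zpowers a : Subgroup G) : Set G) with hW₁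
  set W₂ := W ⊓ centralizer ((zpowers a' : Subgroup G) : Set G) with hW₂
  have hle : W₁ ⊓ W₂ ≤ W ⊓ centralizer ((zpowers ⁅y, a⁆ : Subgroup G) : Set G) := by
    intro v hv
    obtain ⟨hv1, hv2⟩ := Subgroup.mem_inf.mp hv
    refine Subgroup.mem_inf.mpr ⟨hv1.1, ?_⟩
    rw [mem_centralizer_zpowers_iff]
    have h1 : a * v = v * a := (mem_centralizer_zpowers_iff a v).mp hv1.2
    have h2 : a' * v = v * a' := (mem_centralizer_zpowers_iff a' v).mp hv2.2
    have h3 : a⁻¹ * v = v * a⁻¹ := by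
      have : Commute a v := h1
      exact this.inv_left.eq
    have e : ⁅y, a⁆ = a' * a⁻¹ := by rw [commutatorElement_def]
    rw [e, mul_assoc, h3, ← mul_assoc, h2, mul_assoc]
  have hmapW : W.map (MulAut.conj y).toMonoidHom = W :=
    mem_normalizer_iff_map_conj_eq.mp hyN
  have hmap1 : W₁.map (MulAut.conj y).toMonoidHom = W₂ := by
    ext v
    rw [Subgroup.mem_map]
    constructor
    · rintro ⟨u, hu, rfl⟩
      refine Subgroup.mem_inf.mpr ⟨?_, ?_⟩
      · rw [← hmapW]; exact Subgroup.mem_map.mpr ⟨u, hu.1, rfl⟩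
      · rw [mem_centralizer_zpowers_iff]
        have h1 : a * u = u * a := (mem_centralizer_zpowers_iff a u).mp hu.2
        show a' * (y * u * y⁻¹) = (y * u * y⁻¹) * a'
        rw [ha']
        calc y * a * y⁻¹ * (y * u * y⁻¹) = y * (a * u) * y⁻¹ := by group
          _ = y * (u * a) * y⁻¹ := by rw [h1]
          _ = y * u * y⁻¹ * (y * a * y⁻¹) := by group
    · intro hv
      refine ⟨y⁻¹ * v * y, Subgroup.mem_inf.mpr ⟨?_, ?_⟩, ?_⟩
      · have := (Subgroup.mem_normalizer_iff.mp (inv_mem hyN) v).mp hv.1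
        rwa [inv_inv] at this
      · rw [mem_centralizer_zpowers_iff]
        have h2 : a' * v = v * a' := (mem_centralizer_zpowers_iff a' v).mp hv.2
        rw [ha'] at h2
        calc a * (y⁻¹ * v * y) = y⁻¹ * (y * a * y⁻¹ * v) * y := by group
          _ = y⁻¹ * (v * (y * a * y⁻¹)) * y := by rw [h2]
          _ = y⁻¹ * v * y * a := by group
      · show y * (y⁻¹ * v * y) * y⁻¹ = v
        group
  have hidx2 : W₂.relIndex W ≤ 2 := by
    have h2 : (W₁.map (MulAut.conj y).toMonoidHom).relIndex (W.map (MulAut.conj y).toMonoidHom)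
        = W₁.relIndex W :=
      Subgroup.relIndex_map_map_of_injective (f := (MulAut.conj y).toMonoidHom) W₁ W
        (MulAut.conj y).injective
    rw [hmap1, hmapW] at h2
    rw [h2]; exact hidx
  calc (W ⊓ centralizer ((zpowers ⁅y, a⁆ : Subgroup G) : Set G)).relIndex W
      ≤ (W₁ ⊓ W₂).relIndex W := Subgroup.relIndex_le_of_le_left hle (relIndex_ne_zero' _ _)
    _ ≤ W₁.relIndex W * W₂.relIndex W := Subgroup.relIndex_inf_le
    _ ≤ 2 * 2 := Nat.mul_le_mul hidx hidx2
    _ = 4 := by norm_num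

theorem mem_normalizer_cv (V B : Subgroup G) {g : G} (hgV : g ∈ normalizer (V : Set G))
    (hgB : g ∈ centralizer (B : Set G)) : g ∈ normalizer ((cv V B : Subgroup G) : Set G) := by
  rw [Subgroup.mem_normalizer_iff]
  intro h
  constructor
  · intro hh
    obtain ⟨h1, h2⟩ := Subgroup.mem_inf.mp hh
    exact Subgroup.mem_inf.mpr ⟨(Subgroup.mem_normalizer_iff.mp hgV h).mp h1,
      mul_mem (mul_mem hgB h2) (inv_mem hgB)⟩
  · intro hh
    obtain ⟨h1, h2⟩ := Subgroup.mem_inf.mp hh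
    refine Subgroup.mem_inf.mpr ⟨(Subgroup.mem_normalizer_iff.mp hgV h).mpr h1, ?_⟩
    have : h = g⁻¹ * (g * h * g⁻¹) * g := by group
    rw [this]
    exact mul_mem (mul_mem (inv_mem hgB) h2) hgB

theorem main [Finite G] (M V : Subgroup G) (hVp : IsPGroup 2 V)
    (hMV : M ≤ normalizer (V : Set G)) (hf : M ⊓ centralizer (V : Set G) = ⊥)
    (hS1' : M ⊓ centralizer (kk 2 M : Set G) ≤ kk 2 M) :
    ∀ n : ℕ, ∀ A : Subgroup G, Nat.card A = n → A ≤ M → IsMulCommutative A →
      (∀ a ∈ A, a ^ 2 = 1) → (cv V A).relIndex V < Nat.card A ^ 2 →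
      Cfsg.Involves (Equiv.Perm (Fin 3)) ↥M := by
  intro n
  induction n using Nat.strong_induction_on with
  | _ n ih =>
  intro A hn hAM hAab hA2 hsmall
  have hAp : IsPGroup 2 A := by
    intro x
    refine ⟨1, ?_⟩
    apply Subtype.ext
    rw [pow_one, Subgroup.coe_pow, Subgroup.coe_one]
    exact hA2 x x.2
  have hAne : A ≠ ⊥ := by
    intro h
    rw [h, cv_bot, Subgroup.relIndex_self, Subgroup.card_bot] at hsmall
    norm_num at hsmall
  have hex : ∃ B : Subgroup G, B ≤ A ∧ (∃ a ∈ A, B ⊔ zpowers a = A) ∧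
      ¬ A ≤ centralizer ((kk 2 M ⊓ centralizer (B : Set G) : Subgroup G) : Set G) := by
    by_contra hcon
    push Not at hcon
    exact hAne (eq_bot_of_forall M A A hS1' hAM hAab hAp le_rfl
      (fun B hB hBa => hcon B hB hBa))
  obtain ⟨B, hBA, ⟨a, haA, hsup⟩, hnc⟩ := hex
  have hBK₀ : B ≤ centralizer ((kk 2 M ⊓ centralizer (B : Set G) : Subgroup G) : Set G) :=
    Subgroup.le_centralizer_iff.mp inf_le_right
  have haK₀ : a ∉ centralizer ((kk 2 M ⊓ centralizer (B : Set G) : Subgroup G) : Set G) := by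
    intro h
    apply hnc
    rw [← hsup]
    exact sup_le hBK₀ (zpowers_le.mpr h)
  have hBne : B ≠ A := by
    intro h
    apply hnc
    rw [h]
    exact Subgroup.le_centralizer_iff.mp inf_le_right
  have hBlt : Nat.card B < Nat.card A := by
    by_contra hcon
    push Not at hcon
    exact hBne (Subgroup.eq_of_le_of_card_ge hBA hcon)
  have hdvd : Nat.card A ∣ Nat.card B * 2 :=
    card_dvd_of_sup_zpowers A B hAab hBA a haA (hA2 a haA) hsup
  have hBab : IsMulCommutative B :=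
    ⟨⟨fun x y => Subtype.ext (by
      have := hAab.is_comm.comm ⟨x, hBA x.2⟩ ⟨y, hBA y.2⟩
      have h2 := congrArg Subtype.val this
      simpa using h2)⟩⟩
  by_cases hB : (cv V B).relIndex V < Nat.card B ^ 2
  · exact ih (Nat.card B) (hn ▸ hBlt) B rfl (hBA.trans hAM) hBab (fun b hb => hA2 b (hBA hb)) hB
  push Not at hB
  set W := cv V B with hW
  have hWV : W ≤ V := inf_le_left
  have hWp : IsPGroup 2 W := hVp.to_le hWV
  have hAW : cv V A = W ⊓ centralizer ((zpowers a : Subgroup G) : Set G) := by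
    rw [← hsup, Cfsg.Agent.S0598.cv_sup]
    apply le_antisymm
    · exact inf_le_inf_left _ inf_le_right
    · exact le_inf inf_le_left (le_inf (inf_le_left.trans hWV) inf_le_right)
  have hAWle : cv V A ≤ W := Cfsg.Agent.S0598.cv_anti V hBA
  have hidx : (W ⊓ centralizer ((zpowers a : Subgroup G) : Set G)).relIndex W ≤ 2 := by
    rw [← hAW]
    have hmul := Subgroup.relIndex_mul_relIndex (cv V A) W V hAWle hWV
    have hle : Nat.card A ≤ Nat.card B * 2 := Nat.le_of_dvd (Nat.mul_pos Nat.card_pos (by norm_num)) hdvd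
    have hsq : Nat.card A ^ 2 ≤ 4 * Nat.card B ^ 2 := by nlinarith
    have hpos : 0 < W.relIndex V := Nat.pos_of_ne_zero (relIndex_ne_zero' _ _)
    have hlt4 : (cv V A).relIndex W < 4 := by
      by_contra hcon
      push Not at hcon
      have : 4 * W.relIndex V ≤ (cv V A).relIndex V := by
        rw [← hmul]; exact Nat.mul_le_mul_right _ hcon
      nlinarith
    obtain ⟨m, hm⟩ := hWp.exists_card_eq
    have hkdvd : (cv V A).relIndex W ∣ 2 ^ m := by
      rw [← hm]; exact Subgroup.relIndex_dvd_card _ _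
    obtain ⟨j, hj, hkj⟩ := (Nat.dvd_prime_pow Nat.prime_two).mp hkdvd
    rw [hkj] at hlt4 ⊢
    have hj1 : j ≤ 1 := by
      by_contra hcon
      push Not at hcon
      have : 2 ^ 2 ≤ 2 ^ j := Nat.pow_le_pow_right (by norm_num) hcon
      omega
    calc 2 ^ j ≤ 2 ^ 1 := Nat.pow_le_pow_right (by norm_num) hj1
      _ = 2 := by norm_num
  have haM : a ∈ M := hAM haA
  have haa : a * a = 1 := by rw [← pow_two]; exact hA2 a haA
  have hai : a⁻¹ = a := inv_eq_of_mul_eq_one_left haa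
  have haB : a ∈ centralizer (B : Set G) := by
    rw [Subgroup.mem_centralizer_iff]
    intro b hb
    have := hAab.is_comm.comm ⟨b, hBA hb⟩ ⟨a, haA⟩
    exact congrArg Subtype.val this
  have haN : a ∈ normalizer (W : Set G) := mem_normalizer_cv V B (hMV haM) haB
  have hBp : IsPGroup 2 B := hAp.to_le hBA
  have hBV : B ≤ normalizer (V : Set G) := hBA.trans (hAM.trans hMV)
  -- properties of commutators
  have hcomm : ∀ y ∈ kk 2 M ⊓ centralizer (B : Set G),
      ⁅y, a⁆ ∈ kk 2 M ∧ ⁅y, a⁆ ∈ centralizer (B : Set G) := by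
    intro y hy
    obtain ⟨hyK, hyB⟩ := Subgroup.mem_inf.mp hy
    constructor
    · rw [commutatorElement_def]
      have h1 : a * y⁻¹ * a⁻¹ ∈ kk 2 M :=
        (Subgroup.mem_normalizer_iff.mp (kk_normal 2 M haM) y⁻¹).mp ((kk 2 M).inv_mem hyK)
      have : y * a * y⁻¹ * a⁻¹ = y * (a * y⁻¹ * a⁻¹) := by group
      rw [this]
      exact (kk 2 M).mul_mem hyK h1
    · rw [commutatorElement_def]
      exact Subgroup.mul_mem _ (Subgroup.mul_mem _ (Subgroup.mul_mem _ hyB haB)
        (Subgroup.inv_mem _ hyB)) (Subgroup.inv_mem _ haB)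
  have hcop : ∀ c ∈ kk 2 M, (orderOf c).Coprime 2 := by
    intro c hc
    have h1 : orderOf c ∣ Nat.card (kk 2 M) := Subgroup.orderOf_dvd_natCard (kk 2 M) hc
    exact Nat.Coprime.coprime_dvd_left h1 (kk_coprime 2 M)
  -- some commutator acts nontrivially on W
  have hexy : ∃ y ∈ kk 2 M ⊓ centralizer (B : Set G), ⁅y, a⁆ ∉ centralizer (W : Set G) := by
    by_contra hcon
    push Not at hcon
    apply haK₀
    rw [Subgroup.mem_centralizer_iff]
    intro y hy
    obtain ⟨hcK, hcB⟩ := hcomm y hy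
    have hcM : ⁅y, a⁆ ∈ M := kk_le 2 M hcK
    have hcV := Cfsg.Agent.Lib.Helper16.thompson_AxB (H := G) B V ⁅y, a⁆ hBp hVp (hcop _ hcK) hcB
      hBV (hMV hcM) (hcon y hy)
    have hc1 : ⁅y, a⁆ ∈ M ⊓ centralizer (V : Set G) := Subgroup.mem_inf.mpr ⟨hcM, hcV⟩
    rw [hf, Subgroup.mem_bot] at hc1
    exact commutatorElement_eq_one_iff_mul_comm.mp hc1
  obtain ⟨y, hy, hcW⟩ := hexy
  obtain ⟨hcK, hcB⟩ := hcomm y hy
  have hyN : y ∈ normalizer (W : Set G) :=
    mem_normalizer_cv V B (hMV (kk_le 2 M hy.1)) hy.2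
  have hodd : Odd (orderOf ⁅y, a⁆) := Nat.coprime_two_right.mp (hcop _ hcK)
  have h3 := three_dvd_comm W hWp a y haa haN hyN hidx hodd hcW
  set c := ⁅y, a⁆ with hc
  have hcM : c ∈ M := kk_le 2 M hcK
  have hinv : a * c * a⁻¹ = c⁻¹ := by
    rw [hc, commutatorElement_def, hai]
    have : (y * a * y⁻¹ * a)⁻¹ = a⁻¹ * y * a⁻¹ * y⁻¹ := by group
    rw [this, hai]
    calc a * (y * a * y⁻¹ * a) * a = a * y * a * y⁻¹ * (a * a) := by group
      _ = a * y * a * y⁻¹ := by rw [haa, mul_one]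
  set x := c ^ (orderOf c / 3) with hx
  have hox : orderOf x = 3 := orderOf_pow_orderOf_div (orderOf_pos c).ne' h3
  have hxM : x ∈ M := pow_mem hcM _
  have hxinv : a * x * a⁻¹ = x⁻¹ := by
    rw [hx, ← conj_pow, hinv, inv_pow]
  refine involves_of_inverted (⟨a, haM⟩ : ↥M) ⟨x, hxM⟩ (Subtype.ext haa) (Subtype.ext ?_) ?_
  · simpa using hxinv
  · rw [Subgroup.orderOf_mk]; exact hox

end Cfsg.Agent.Lib.Helper14.S3Sec
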