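import Mathlib
import Cfsg.Agent.Lib.Helper14.SubnPair1
import Cfsg.Agent.Lib.Helper16.PCore

/-!
# KS 9.3.6: the inductive step for a pair of conjugates (helper14)
-/

set_option autoImplicit false

namespace Cfsg.Agent.Lib.Helper14.SubnPair

open Cfsg Subgroup Cfsg.Agent.Lib.Helper14.Off
open scoped Pointwise commutatorElement

variable {G : Type*} [Group G] [Finite G] {p : ℕ} [hp : Fact p.Prime]

omit [Finite G] in
/-- conjugates of `E₁` under `E` are subnormal in `E` -/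
theorem Hyp.cjs_subnormal {V E E₁ E₂ : Subgroup G} (h : Hyp p V E E₁ E₂) {z : G} (hz : z ∈ E) :
    ((cjs z E₁).subgroupOf E).IsSubnormal := by
  have := Cfsg.Agent.Lib.Helper13.relSubn_cj z h.hs₁
  rw [← cjs_eq_smul, ← cjs_eq_smul,
    cjs_eq_self_of_mem_normalizer z E (Subgroup.le_normalizer hz)] at this
  exact this

omit [Finite G] in
theorem Hyp.ne_top {V E E₁ E₂ : Subgroup G} (h : Hyp p V E E₁ E₂) : E₁.subgroupOf E ≠ ⊤ := by
  intro htop
  apply h.h21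
  have hEE₁ : E ≤ E₁ := by
    rw [← Subgroup.subgroupOf_eq_top]
    exact htop
  exact Subgroup.commutator_mono le_rfl (h.le₂.trans hEE₁)

/-- a join of two `E`-conjugates of `E₁` is a proper subgroup -/
theorem Hyp.card_sup_lt {V E E₁ E₂ : Subgroup G} (h : Hyp p V E E₁ E₂) {z : G} (hz : z ∈ E) :
    Nat.card (E₁ ⊔ cjs z E₁ : Subgroup G) < Nat.card E := by
  obtain ⟨K', hK'n, hK'le, hK'lt⟩ := h.hs₁.exists_normal_and_le_and_lt_top_of_ne h.ne_top
  have hTE : E₁ ⊔ cjs z E₁ ≤ E := sup_le h.le₁ (cjs_le_of_mem z E₁ E hz h.le₁)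
  have hTK : (E₁ ⊔ cjs z E₁).subgroupOf E ≤ K' := by
    intro g hg
    rw [Subgroup.mem_subgroupOf] at hg
    have hle : E₁ ⊔ cjs z E₁ ≤ K'.map E.subtype := by
      apply sup_le
      · intro a ha
        exact ⟨⟨a, h.le₁ ha⟩, hK'le (Subgroup.mem_subgroupOf.mpr ha), rfl⟩
      · intro b hb
        obtain ⟨a, ha, rfl⟩ := (mem_cjs_iff z E₁ b).mp hb
        have h1 : (⟨a, h.le₁ ha⟩ : ↥E) ∈ K' := hK'le (Subgroup.mem_subgroupOf.mpr ha)
        have h2 := hK'n.conj_mem _ h1 ⟨z, hz⟩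
        exact ⟨_, h2, rfl⟩
    obtain ⟨g', hg', hgg'⟩ := hle hg
    have : g' = g := Subtype.ext hgg'
    rw [← this]
    exact hg'
  have h1 : Nat.card (E₁ ⊔ cjs z E₁ : Subgroup G) = Nat.card ((E₁ ⊔ cjs z E₁).subgroupOf E) :=
    (Nat.card_congr (Subgroup.subgroupOfEquivOfLe hTE).toEquiv).symm
  have h2 : Nat.card ((E₁ ⊔ cjs z E₁).subgroupOf E) ≤ Nat.card K' := Subgroup.card_le_of_le hTK
  have h3 : Nat.card K' < Nat.card ↥E := by
    apply lt_of_le_of_ne (Subgroup.card_le_card_group K')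
    intro heq
    exact hK'lt.ne (Subgroup.eq_top_of_card_eq K' heq)
  omega

/-- `O_p` of a subnormal subgroup of `E` is trivial -/
theorem Hyp.pCore_eq_bot {V E E₁ E₂ : Subgroup G} (h : Hyp p V E E₁ E₂) (T : Subgroup G)
    (hTE : T ≤ E) (hTs : (T.subgroupOf E).IsSubnormal) : Cfsg.pCore p ↥T = ⊥ := by
  have hQT : (Cfsg.pCore p ↥T).map T.subtype ≤ T := Subgroup.map_subtype_le _
  have hn := Cfsg.Agent.Lib.Helper16.pCore_normal p ↥T
  have h1 : (((Cfsg.pCore p ↥T).map T.subtype).subgroupOf T).IsSubnormal := by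
    have : ((Cfsg.pCore p ↥T).map T.subtype).subgroupOf T = Cfsg.pCore p ↥T :=
      Subgroup.comap_map_eq_self_of_injective T.subtype_injective _
    rw [this]
    exact hn.isSubnormal
  have h2 := Cfsg.Agent.Lib.Helper13.relSubn_trans hQT hTE h1 hTs
  have h3 : IsPGroup p ((Cfsg.pCore p ↥T).map T.subtype : Subgroup G) :=
    (Cfsg.Agent.Lib.Helper16.pCore_isPGroup p ↥T).map _
  have h4 := h.eq_bot_of_isPGroup _ (hQT.trans hTE) h2 h3
  exact (Subgroup.map_eq_bot_iff_of_injective _ T.subtype_injective).mp h4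

/-- the inductive step for a conjugate pair -/
theorem Hyp.pair_of_ih {V E E₁ E₂ : Subgroup G} (h : Hyp p V E E₁ E₂)
    (ih : ∀ T A B : Subgroup G, Nat.card T < Nat.card E → Hyp p V T A B →
      ⁅A, B⁆ = ⊥ ∧ ⁅V, A⁆ ⊓ ⁅V, B⁆ = ⊥)
    {z : G} (hz : z ∈ E) (hzV : cjs z ⁅V, E₁⁆ ≠ ⁅V, E₁⁆) :
    ⁅E₁, cjs z E₁⁆ = ⊥ ∧ ⁅V, E₁⁆ ⊓ cjs z ⁅V, E₁⁆ = ⊥ := by
  have hXE : cjs z E₁ ≤ E := cjs_le_of_mem z E₁ E hz h.le₁
  have hTE : E₁ ⊔ cjs z E₁ ≤ E := sup_le h.le₁ hXE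
  have hzV' : cjs z V = V := cjs_eq_self_of_mem_normalizer z V (h.hEV hz)
  have hVX : ⁅V, cjs z E₁⁆ = cjs z ⁅V, E₁⁆ := by rw [cjs_commutator, hzV']
  have hsX := h.cjs_subnormal hz
  have hTs : ((E₁ ⊔ cjs z E₁).subgroupOf E).IsSubnormal :=
    Cfsg.Agent.Lib.Helper13.relSubn_sup h.le₁ hXE h.hs₁ hsX
  have hHyp : Hyp p V (E₁ ⊔ cjs z E₁) E₁ (cjs z E₁) := by
    refine ⟨hTE.trans h.hEV, ?_, rfl, Cfsg.Agent.Lib.Helper13.relSubn_of_le hTE h.hs₁,
      Cfsg.Agent.Lib.Helper13.relSubn_of_le hTE hsX, h.pCore_eq_bot _ hTE hTs, h.hirr₁, ?_, ?_, ?_,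
      h.hc₁, ?_⟩
    · rw [eq_bot_iff, ← h.hf]
      exact inf_le_inf_right _ hTE
    · intro U hU hXU
      rw [hVX] at hU ⊢
      have hU' : cjs z⁻¹ U ≤ ⁅V, E₁⁆ := by
        have := cjs_mono z⁻¹ hU
        rwa [cjs_inv_cjs] at this
      have hN : E₁ ≤ normalizer ((cjs z⁻¹ U : Subgroup G) : Set G) := by
        have := cjs_normalizer_le z⁻¹ hXU
        rwa [cjs_inv_cjs] at this
      rcases h.hirr₁ _ hU' hN with h0 | h0
      · left
        have := congrArg (cjs z) h0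
        rwa [cjs_cjs_inv, cjs_bot] at this
      · right
        have := congrArg (cjs z) h0
        rwa [cjs_cjs_inv] at this
    · rw [hVX]
      intro hle
      apply hzV
      exact (Subgroup.eq_of_le_of_card_ge hle (by rw [card_cjs])).symm
    · rw [hVX]
      intro hle
      apply hzV
      exact Subgroup.eq_of_le_of_card_ge hle (by rw [card_cjs])
    · rw [card_cjs]; exact h.hc₁
  have := ih _ _ _ (h.card_sup_lt hz) hHyp
  rw [hVX] at this
  exact this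

end Cfsg.Agent.Lib.Helper14.SubnPair
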