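import Mathlib
import Cfsg.Agent.Lib.Helper14.SubnPair2

/-!
# KS 9.3.6: the main argument (helper14)
-/

set_option autoImplicit false

namespace Cfsg.Agent.Lib.Helper14.SubnPair

open Cfsg Subgroup Cfsg.Agent.Lib.Helper14.Off
open scoped Pointwise commutatorElement

variable {G : Type*} [Group G]

theorem commMap_injective (V₁ : Subgroup G) (x : G) (hinf : V₁ ⊓ cjs x V₁ = ⊥) {w w' : G}
    (hw : w ∈ V₁) (hw' : w' ∈ V₁) (h : ⁅w, x⁆ = ⁅w', x⁆) : w = w' := by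
  rw [commutatorElement_def, commutatorElement_def] at h
  have h4 : w'⁻¹ * w = x * (w'⁻¹ * w) * x⁻¹ := by
    calc w'⁻¹ * w = w'⁻¹ * (w * x * w⁻¹ * x⁻¹) * (x * w * x⁻¹) := by group
      _ = w'⁻¹ * (w' * x * w'⁻¹ * x⁻¹) * (x * w * x⁻¹) := by rw [h]
      _ = x * (w'⁻¹ * w) * x⁻¹ := by group
  have h5 : w'⁻¹ * w ∈ V₁ := V₁.mul_mem (V₁.inv_mem hw') hw
  have h6 : w'⁻¹ * w ∈ cjs x V₁ := by
    rw [h4]
    exact (mem_cjs_iff x _ _).mpr ⟨_, h5, rfl⟩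
  have h7 : w'⁻¹ * w ∈ (⊥ : Subgroup G) := by
    rw [← hinf]
    exact Subgroup.mem_inf.mpr ⟨h5, h6⟩
  rw [Subgroup.mem_bot] at h7
  have : w = w' * (w'⁻¹ * w) := by group
  rw [this, h7, mul_one]

theorem card_le_of_inf_cjs_eq_bot [Finite G] (V V₁ E₂ : Subgroup G) (hV₁V : V₁ ≤ V) {x : G}
    (hx : x ∈ E₂) (hinf : V₁ ⊓ cjs x V₁ = ⊥) :
    Nat.card V₁ ≤ Nat.card (⁅V, E₂⁆ : Subgroup G) := by
  let f : ↥V₁ → ↥(⁅V, E₂⁆ : Subgroup G) := fun w =>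
    ⟨⁅(w : G), x⁆, Subgroup.commutator_mem_commutator (hV₁V w.2) hx⟩
  apply Nat.card_le_card_of_injective f
  intro w w' hww'
  apply Subtype.ext
  exact commMap_injective V₁ x hinf w.2 w'.2 (congrArg Subtype.val hww')

theorem exists_comm_eq [Finite G] (V V₁ E₂ : Subgroup G) (hV₁V : V₁ ≤ V) {x : G}
    (hx : x ∈ E₂) (hinf : V₁ ⊓ cjs x V₁ = ⊥)
    (hcard : Nat.card (⁅V, E₂⁆ : Subgroup G) ≤ Nat.card V₁) {u : G}
    (hu : u ∈ (⁅V, E₂⁆ : Subgroup G)) : ∃ v ∈ V₁, u = ⁅v, x⁆ := by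
  let f : ↥V₁ → ↥(⁅V, E₂⁆ : Subgroup G) := fun w =>
    ⟨⁅(w : G), x⁆, Subgroup.commutator_mem_commutator (hV₁V w.2) hx⟩
  have hf : Function.Injective f := by
    intro w w' hww'
    apply Subtype.ext
    exact commMap_injective V₁ x hinf w.2 w'.2 (congrArg Subtype.val hww')
  have hbij := hf.bijective_of_nat_card_le hcard
  obtain ⟨v, hv⟩ := hbij.2 ⟨u, hu⟩
  exact ⟨v, v.2, (congrArg Subtype.val hv).symm⟩

section

variable [Finite G] {p : ℕ} [hp : Fact p.Prime]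

/-- `E₁` centralizes the commutator of a conjugate with a different commutator -/
theorem Hyp.cjs_le_centralizer {V E E₁ E₂ : Subgroup G} (h : Hyp p V E E₁ E₂)
    (ih : ∀ T A B : Subgroup G, Nat.card T < Nat.card E → Hyp p V T A B →
      ⁅A, B⁆ = ⊥ ∧ ⁅V, A⁆ ⊓ ⁅V, B⁆ = ⊥)
    {z : G} (hz : z ∈ E) (hzV : cjs z ⁅V, E₁⁆ ≠ ⁅V, E₁⁆) :
    cjs z ⁅V, E₁⁆ ≤ centralizer (E₁ : Set G) := by
  obtain ⟨hc, hinf⟩ := h.pair_of_ih ih hz hzV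
  have hzV' : cjs z V = V := cjs_eq_self_of_mem_normalizer z V (h.hEV hz)
  have hVX : ⁅V, cjs z E₁⁆ = cjs z ⁅V, E₁⁆ := by rw [cjs_commutator, hzV']
  have hXE : cjs z E₁ ≤ E := cjs_le_of_mem z E₁ E hz h.le₁
  have hE₁X : E₁ ≤ normalizer ((cjs z E₁ : Subgroup G) : Set G) := by
    rw [Subgroup.commutator_eq_bot_iff_le_centralizer] at hc
    exact hc.trans (Subgroup.centralizer_le_normalizer _)
  have hN : E₁ ≤ normalizer ((⁅V, cjs z E₁⁆ : Subgroup G) : Set G) :=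
    le_trans (le_inf (h.le₁.trans h.hEV) hE₁X)
      (Cfsg.Agent.Lib.Helper16.inf_normalizer_le_normalizer_commutator V (cjs z E₁))
  have hWV : ⁅V, cjs z E₁⁆ ≤ V :=
    Cfsg.Agent.Lib.Helper13.commutator_le_of_le_normalizer V _ (hXE.trans h.hEV)
  have h1 : ⁅⁅V, cjs z E₁⁆, E₁⁆ = ⊥ := by
    rw [eq_bot_iff, ← hinf, ← hVX]
    apply le_inf
    · exact Subgroup.commutator_mono hWV le_rfl
    · exact Cfsg.Agent.Lib.Helper14.Off.commutator_le_of_le_normalizer _ _ hN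
  rw [Subgroup.commutator_eq_bot_iff_le_centralizer, hVX] at h1
  exact h1

/-- the main contradiction -/
theorem Hyp.contra {V E E₁ E₂ : Subgroup G} (hV : Cfsg.IsElementaryAbelian p V)
    (h : Hyp p V E E₁ E₂)
    (ih : ∀ T A B : Subgroup G, Nat.card T < Nat.card E → Hyp p V T A B →
      ⁅A, B⁆ = ⊥ ∧ ⁅V, A⁆ ⊓ ⁅V, B⁆ = ⊥)
    (h1 : ¬ E₂ ≤ normalizer ((⁅V, E₁⁆ : Subgroup G) : Set G))
    (h2 : ¬ E₁ ≤ normalizer ((⁅V, E₂⁆ : Subgroup G) : Set G)) : False := by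
  obtain ⟨x, hxE₂, hxN⟩ := SetLike.not_le_iff_exists.mp h1
  obtain ⟨y, hyE₁, hyN⟩ := SetLike.not_le_iff_exists.mp h2
  rw [mem_normalizer_iff_cjs] at hxN hyN
  have hx := h.pair_of_ih ih (h.le₂ hxE₂) hxN
  have hy := h.symm.pair_of_ih ih (h.le₁ hyE₁) hyN
  have hV₁V := h.commutator_le
  have hV₂V := h.symm.commutator_le
  have hcard : Nat.card (⁅V, E₁⁆ : Subgroup G) = Nat.card (⁅V, E₂⁆ : Subgroup G) :=
    le_antisymm (card_le_of_inf_cjs_eq_bot V _ E₂ hV₁V hxE₂ hx.2)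
      (card_le_of_inf_cjs_eq_bot V _ E₁ hV₂V hyE₁ hy.2)
  -- (Δ)
  have hΔ : ∀ z ∈ E₂, cjs z ⁅V, E₁⁆ ≠ ⁅V, E₁⁆ → ∀ u ∈ (⁅V, E₂⁆ : Subgroup G),
      ∃ v ∈ (⁅V, E₁⁆ : Subgroup G), u = ⁅v, z⁆ := by
    intro z hz hzV u hu
    exact exists_comm_eq V _ E₂ hV₁V hz (h.pair_of_ih ih (h.le₂ hz) hzV).2 hcard.ge hu
  have hfix := h.inf_centralizer_eq_bot hV
  -- (2b)
  have h2b : ∀ z ∈ E₂, cjs z ⁅V, E₁⁆ ≠ ⁅V, E₁⁆ → cjs z ⁅V, E₁⁆ = cjs x ⁅V, E₁⁆ := by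
    intro z hz hzV
    by_contra hne
    have hz'E : x⁻¹ * z ∈ E := E.mul_mem (E.inv_mem (h.le₂ hxE₂)) (h.le₂ hz)
    have hxz' : x * (x⁻¹ * z) = z := by group
    have hz'V : cjs (x⁻¹ * z) ⁅V, E₁⁆ ≠ ⁅V, E₁⁆ := by
      intro h0
      apply hne
      rw [← hxz', cjs_mul, h0]
    have hxz : cjs x ⁅V, E₁⁆ ⊓ cjs z ⁅V, E₁⁆ = ⊥ := by
      have := congrArg (cjs x) (h.pair_of_ih ih hz'E hz'V).2
      rw [cjs_inf, cjs_bot, ← cjs_mul, hxz'] at this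
      exact this
    have hcx := h.cjs_le_centralizer ih (h.le₂ hxE₂) hxN
    have hcz := h.cjs_le_centralizer ih (h.le₂ hz) hzV
    obtain ⟨⟨v₀, hv₀⟩, hv₀1⟩ := (Subgroup.ne_bot_iff_exists_ne_one).mp h.commutator_ne_bot
    have hv₀1' : v₀ ≠ 1 := fun h0 => hv₀1 (Subtype.ext h0)
    obtain ⟨v', hv', hvv'⟩ := hΔ z hz hzV ⁅v₀, x⁆
      (Subgroup.commutator_mem_commutator (hV₁V hv₀) hxE₂)
    rw [commutatorElement_def, commutatorElement_def] at hvv'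
    have ha : x * v₀⁻¹ * x⁻¹ ∈ cjs x ⁅V, E₁⁆ :=
      (mem_cjs_iff x _ _).mpr ⟨_, Subgroup.inv_mem _ hv₀, rfl⟩
    have hb : z * v'⁻¹ * z⁻¹ ∈ cjs z ⁅V, E₁⁆ :=
      (mem_cjs_iff z _ _).mpr ⟨_, Subgroup.inv_mem _ hv', rfl⟩
    have e1 : v'⁻¹ * v₀ = (z * v'⁻¹ * z⁻¹) * (x * v₀⁻¹ * x⁻¹)⁻¹ := by
      have : v₀ * (x * v₀⁻¹ * x⁻¹) = v' * (z * v'⁻¹ * z⁻¹) := by
        calc v₀ * (x * v₀⁻¹ * x⁻¹) = v₀ * x * v₀⁻¹ * x⁻¹ := by group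
          _ = v' * z * v'⁻¹ * z⁻¹ := hvv'
          _ = v' * (z * v'⁻¹ * z⁻¹) := by group
      calc v'⁻¹ * v₀ = v'⁻¹ * (v₀ * (x * v₀⁻¹ * x⁻¹)) * (x * v₀⁻¹ * x⁻¹)⁻¹ := by group
        _ = v'⁻¹ * (v' * (z * v'⁻¹ * z⁻¹)) * (x * v₀⁻¹ * x⁻¹)⁻¹ := by rw [this]
        _ = (z * v'⁻¹ * z⁻¹) * (x * v₀⁻¹ * x⁻¹)⁻¹ := by group
    have e2 : v'⁻¹ * v₀ ∈ ⁅V, E₁⁆ ⊓ centralizer (E₁ : Set G) := by
      refine Subgroup.mem_inf.mpr ⟨Subgroup.mul_mem _ (Subgroup.inv_mem _ hv') hv₀, ?_⟩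
      rw [e1]
      exact Subgroup.mul_mem _ (hcz hb) (Subgroup.inv_mem _ (hcx ha))
    rw [hfix, Subgroup.mem_bot] at e2
    rw [e2] at e1
    have e3 : x * v₀⁻¹ * x⁻¹ = z * v'⁻¹ * z⁻¹ := by
      have := e1.symm
      rw [mul_inv_eq_one] at this
      exact this.symm
    have e4 : x * v₀⁻¹ * x⁻¹ ∈ (⊥ : Subgroup G) := by
      rw [← hxz]
      refine Subgroup.mem_inf.mpr ⟨ha, ?_⟩
      rw [e3]; exact hb
    rw [Subgroup.mem_bot] at e4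
    apply hv₀1'
    have : v₀⁻¹ = x⁻¹ * (x * v₀⁻¹ * x⁻¹) * x := by group
    rw [e4] at this
    have : v₀⁻¹ = 1 := by rw [this]; group
    exact inv_eq_one.mp this
  -- consequences of (Δ) for `x`
  have hV12 : ⁅V, E₁⁆ ⊓ ⁅V, E₂⁆ = ⊥ := by
    rw [eq_bot_iff]
    intro u hu
    obtain ⟨hu1, hu2⟩ := Subgroup.mem_inf.mp hu
    obtain ⟨v', hv', rfl⟩ := hΔ x hxE₂ hxN u hu2
    have e : x * v'⁻¹ * x⁻¹ = v'⁻¹ * ⁅v', x⁆ := by rw [commutatorElement_def]; group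
    have h3 : x * v'⁻¹ * x⁻¹ ∈ ⁅V, E₁⁆ ⊓ cjs x ⁅V, E₁⁆ := by
      refine Subgroup.mem_inf.mpr ⟨?_, (mem_cjs_iff x _ _).mpr ⟨_, Subgroup.inv_mem _ hv', rfl⟩⟩
      rw [e]
      exact Subgroup.mul_mem _ (Subgroup.inv_mem _ hv') hu1
    rw [hx.2, Subgroup.mem_bot] at h3
    rw [Subgroup.mem_bot, commutatorElement_def]
    calc v' * x * v'⁻¹ * x⁻¹ = v' * (x * v'⁻¹ * x⁻¹) := by group
      _ = v' := by rw [h3, mul_one]
      _ = 1 := by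
        have : v'⁻¹ = x⁻¹ * (x * v'⁻¹ * x⁻¹) * x := by group
        rw [h3] at this
        have : v'⁻¹ = 1 := by rw [this]; group
        exact inv_eq_one.mp this
  have hX2 : cjs x ⁅V, E₁⁆ ⊓ ⁅V, E₂⁆ = ⊥ := by
    rw [eq_bot_iff]
    intro u hu
    obtain ⟨hu1, hu2⟩ := Subgroup.mem_inf.mp hu
    obtain ⟨v', hv', rfl⟩ := hΔ x hxE₂ hxN u hu2
    have e : v' = ⁅v', x⁆ * (x * v'⁻¹ * x⁻¹)⁻¹ := by rw [commutatorElement_def]; group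
    have h3 : v' ∈ ⁅V, E₁⁆ ⊓ cjs x ⁅V, E₁⁆ := by
      refine Subgroup.mem_inf.mpr ⟨hv', ?_⟩
      rw [e]
      exact Subgroup.mul_mem _ hu1 (Subgroup.inv_mem _
        ((mem_cjs_iff x _ _).mpr ⟨_, Subgroup.inv_mem _ hv', rfl⟩))
    rw [hx.2, Subgroup.mem_bot] at h3
    rw [Subgroup.mem_bot, h3]
    simp
  have hV2Y : ⁅V, E₂⁆ ≤ ⁅V, E₁⁆ ⊔ cjs x ⁅V, E₁⁆ := by
    intro u hu
    obtain ⟨v', hv', rfl⟩ := hΔ x hxE₂ hxN u hu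
    have e : ⁅v', x⁆ = v' * (x * v'⁻¹ * x⁻¹) := by rw [commutatorElement_def]; group
    rw [e]
    exact Subgroup.mul_mem _ (Subgroup.mem_sup_left hv')
      (Subgroup.mem_sup_right ((mem_cjs_iff x _ _).mpr ⟨_, Subgroup.inv_mem _ hv', rfl⟩))
  have hXV : cjs x ⁅V, E₁⁆ ≤ V := by
    have := cjs_mono x hV₁V
    rwa [cjs_eq_self_of_mem_normalizer x V (h.hEV (h.le₂ hxE₂))] at this
  -- Claim A
  have hA1 : E₂ ⊓ normalizer ((⁅V, E₁⁆ : Subgroup G) : Set G) ≤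
      centralizer ((⁅V, E₁⁆ : Subgroup G) : Set G) := by
    intro z hz
    obtain ⟨hzE₂, hzN⟩ := Subgroup.mem_inf.mp hz
    rw [Subgroup.mem_centralizer_iff]
    intro v hv
    have h3 : ⁅v, z⁆ ∈ ⁅V, E₁⁆ ⊓ ⁅V, E₂⁆ := by
      refine Subgroup.mem_inf.mpr ⟨?_, Subgroup.commutator_mem_commutator (hV₁V hv) hzE₂⟩
      have e : ⁅v, z⁆ = v * (z * v⁻¹ * z⁻¹) := by rw [commutatorElement_def]; group
      rw [e]
      exact Subgroup.mul_mem _ hv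
        ((Subgroup.mem_normalizer_iff.mp hzN _).mp (Subgroup.inv_mem _ hv))
    rw [hV12, Subgroup.mem_bot, commutatorElement_eq_one_iff_commute] at h3
    exact h3.eq
  have hA2 : E₂ ⊓ normalizer ((⁅V, E₁⁆ : Subgroup G) : Set G) ≤
      centralizer ((cjs x ⁅V, E₁⁆ : Subgroup G) : Set G) := by
    intro z hz
    obtain ⟨hzE₂, hzN⟩ := Subgroup.mem_inf.mp hz
    have hzN' := (mem_normalizer_iff_cjs z _).mp hzN
    have hzx : cjs (z * x) ⁅V, E₁⁆ ≠ ⁅V, E₁⁆ := by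
      intro h0
      apply hxN
      have : cjs z⁻¹ (cjs (z * x) ⁅V, E₁⁆) = cjs x ⁅V, E₁⁆ := by
        rw [← cjs_mul]; congr 1; group
      rw [← this, h0, ← hzN', cjs_inv_cjs, hzN']
    have hzX : cjs z (cjs x ⁅V, E₁⁆) = cjs x ⁅V, E₁⁆ := by
      rw [← cjs_mul]
      exact h2b (z * x) (E₂.mul_mem hzE₂ hxE₂) hzx
    rw [Subgroup.mem_centralizer_iff]
    intro w hw
    have h3 : ⁅w, z⁆ ∈ cjs x ⁅V, E₁⁆ ⊓ ⁅V, E₂⁆ := by
      refine Subgroup.mem_inf.mpr ⟨?_, Subgroup.commutator_mem_commutator (hXV hw) hzE₂⟩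
      have e : ⁅w, z⁆ = w * (z * w⁻¹ * z⁻¹) := by rw [commutatorElement_def]; group
      rw [e]
      apply Subgroup.mul_mem _ hw
      rw [← hzX]
      exact (mem_cjs_iff z _ _).mpr ⟨_, Subgroup.inv_mem _ hw, rfl⟩
    rw [hX2, Subgroup.mem_bot, commutatorElement_eq_one_iff_commute] at h3
    exact h3.eq
  have hA : E₂ ⊓ normalizer ((⁅V, E₁⁆ : Subgroup G) : Set G) ≤
      E₂ ⊓ centralizer ((⁅V, E₁⁆ ⊔ cjs x ⁅V, E₁⁆ : Subgroup G) : Set G) :=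
    le_inf inf_le_left (le_centralizer_sup _ _ _ hA1 hA2)
  -- `E₂` normalizes `Y`
  have hcases : ∀ z ∈ E₂, cjs z ⁅V, E₁⁆ ≤ ⁅V, E₁⁆ ⊔ cjs x ⁅V, E₁⁆ := by
    intro z hz
    by_cases hzV : cjs z ⁅V, E₁⁆ = ⁅V, E₁⁆
    · rw [hzV]; exact le_sup_left
    · rw [h2b z hz hzV]; exact le_sup_right
  have hYN : ∀ z ∈ E₂, cjs z (⁅V, E₁⁆ ⊔ cjs x ⁅V, E₁⁆) ≤ ⁅V, E₁⁆ ⊔ cjs x ⁅V, E₁⁆ := by
    intro z hz
    rw [cjs_sup, ← cjs_mul]
    exact sup_le (hcases z hz) (hcases (z * x) (E₂.mul_mem hz hxE₂))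
  have hN₂n : E₂ ≤ normalizer ((E₂ ⊓ centralizer ((⁅V, E₁⁆ ⊔ cjs x ⁅V, E₁⁆ : Subgroup G) : Set G) :
      Subgroup G) : Set G) := by
    apply le_normalizer_of_forall_conj_mem
    intro z hz n hn
    obtain ⟨hnE₂, hnC⟩ := Subgroup.mem_inf.mp hn
    refine Subgroup.mem_inf.mpr ⟨E₂.mul_mem (E₂.mul_mem hz hnE₂) (E₂.inv_mem hz), ?_⟩
    rw [Subgroup.mem_centralizer_iff]
    intro w hw
    have hw' : z⁻¹ * w * z ∈ ⁅V, E₁⁆ ⊔ cjs x ⁅V, E₁⁆ := by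
      apply hYN z⁻¹ (E₂.inv_mem hz)
      refine (mem_cjs_iff z⁻¹ _ _).mpr ⟨w, hw, ?_⟩
      rw [inv_inv]
    have hc := Subgroup.mem_centralizer_iff.mp hnC _ hw'
    calc w * (z * n * z⁻¹) = z * ((z⁻¹ * w * z) * n) * z⁻¹ := by group
      _ = z * (n * (z⁻¹ * w * z)) * z⁻¹ := by rw [hc]
      _ = z * n * z⁻¹ * w := by group
  have hN₂bot : E₂ ⊓ centralizer ((⁅V, E₁⁆ ⊔ cjs x ⁅V, E₁⁆ : Subgroup G) : Set G) = ⊥ := by
    apply h.eq_bot_of_quadratic hV _ (inf_le_left.trans h.le₂)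
    · exact Cfsg.Agent.Lib.Helper13.relSubn_trans inf_le_left h.le₂
        (Cfsg.Agent.Lib.Helper13.relSubn_of_le_normalizer inf_le_left hN₂n) h.hs₂
    · rw [Subgroup.commutator_eq_bot_iff_le_centralizer]
      calc ⁅V, E₂ ⊓ centralizer ((⁅V, E₁⁆ ⊔ cjs x ⁅V, E₁⁆ : Subgroup G) : Set G)⁆
          ≤ ⁅V, E₂⁆ := Subgroup.commutator_mono le_rfl inf_le_left
        _ ≤ ⁅V, E₁⁆ ⊔ cjs x ⁅V, E₁⁆ := hV2Y
        _ ≤ centralizer ((E₂ ⊓ centralizer ((⁅V, E₁⁆ ⊔ cjs x ⁅V, E₁⁆ : Subgroup G) : Set G) :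
            Subgroup G) : Set G) := Subgroup.le_centralizer_iff.mp inf_le_right
  have hZ₀ : E₂ ⊓ normalizer ((⁅V, E₁⁆ : Subgroup G) : Set G) = ⊥ := by
    rw [eq_bot_iff, ← hN₂bot]; exact hA
  -- every element of `E₂` is `1` or `x`
  have hall : ∀ z ∈ E₂, z = 1 ∨ z = x := by
    intro z hz
    by_cases hzV : cjs z ⁅V, E₁⁆ = ⁅V, E₁⁆
    · left
      have : z ∈ E₂ ⊓ normalizer ((⁅V, E₁⁆ : Subgroup G) : Set G) :=
        Subgroup.mem_inf.mpr ⟨hz, (mem_normalizer_iff_cjs z _).mpr hzV⟩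
      rwa [hZ₀, Subgroup.mem_bot] at this
    · right
      have h3 := h2b z hz hzV
      have h4 : cjs (x⁻¹ * z) ⁅V, E₁⁆ = ⁅V, E₁⁆ := by
        rw [cjs_mul, h3, cjs_inv_cjs]
      have : x⁻¹ * z ∈ E₂ ⊓ normalizer ((⁅V, E₁⁆ : Subgroup G) : Set G) :=
        Subgroup.mem_inf.mpr ⟨E₂.mul_mem (E₂.inv_mem hxE₂) hz, (mem_normalizer_iff_cjs _ _).mpr h4⟩
      rw [hZ₀, Subgroup.mem_bot] at this
      exact (inv_mul_eq_one.mp this).symm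
  classical
  let f : ↥E₂ → Fin 2 := fun z => if (z : G) = 1 then 0 else 1
  have hf : Function.Injective f := by
    intro z z' hzz'
    apply Subtype.ext
    by_cases h1 : (z : G) = 1
    · by_cases h1' : (z' : G) = 1
      · rw [h1, h1']
      · exfalso
        simp only [f, h1, h1', if_true, if_false] at hzz'
        exact absurd hzz' (by decide)
    · by_cases h1' : (z' : G) = 1
      · exfalso
        simp only [f, h1, h1', if_true, if_false] at hzz'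
        exact absurd hzz' (by decide)
      · rcases hall z z.2 with h3 | h3
        · exact absurd h3 h1
        · rcases hall z' z'.2 with h3' | h3'
          · exact absurd h3' h1'
          · rw [h3, h3']
  have hle := Nat.card_le_card_of_injective f hf
  rw [Nat.card_fin] at hle
  have := h.hc₂
  omega

/-- the inductive step -/
theorem Hyp.step {V E E₁ E₂ : Subgroup G} (hV : Cfsg.IsElementaryAbelian p V)
    (h : Hyp p V E E₁ E₂)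
    (ih : ∀ T A B : Subgroup G, Nat.card T < Nat.card E → Hyp p V T A B →
      ⁅A, B⁆ = ⊥ ∧ ⁅V, A⁆ ⊓ ⁅V, B⁆ = ⊥) :
    ⁅E₁, E₂⁆ = ⊥ ∧ ⁅V, E₁⁆ ⊓ ⁅V, E₂⁆ = ⊥ := by
  by_cases h1 : E₂ ≤ normalizer ((⁅V, E₁⁆ : Subgroup G) : Set G)
  · exact h.of_invariant hV h1
  by_cases h2 : E₁ ≤ normalizer ((⁅V, E₂⁆ : Subgroup G) : Set G)
  · have := h.symm.of_invariant hV h2
    exact ⟨by rw [Subgroup.commutator_comm]; exact this.1, by rw [inf_comm]; exact this.2⟩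
  exact (h.contra hV ih h1 h2).elim

/-- **KS 9.3.6**, key conclusions. -/
theorem Hyp.key (hV_dummy : True) {V : Subgroup G} (hV : Cfsg.IsElementaryAbelian p V) :
    ∀ n : ℕ, ∀ E E₁ E₂ : Subgroup G, Nat.card E = n → Hyp p V E E₁ E₂ →
      ⁅E₁, E₂⁆ = ⊥ ∧ ⁅V, E₁⁆ ⊓ ⁅V, E₂⁆ = ⊥ := by
  intro n
  induction n using Nat.strong_induction_on with
  | _ n ih =>
    intro E E₁ E₂ hn h
    apply h.step hV
    intro T A B hlt hT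
    exact ih (Nat.card T) (by rw [← hn]; exact hlt) T A B rfl hT

end

end Cfsg.Agent.Lib.Helper14.SubnPair
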