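import Mathlib
import Cfsg.Prelude.Def_Transfer
import Cfsg.Agent.Lib.Helper14.SzP

/-!
# Suzuki groups: elementary abelian TI-subgroups (helper14)
-/

set_option autoImplicit false
set_option maxHeartbeats 2000000
set_option linter.unusedSimpArgs false
set_option linter.unusedSectionVars false

namespace Cfsg.Agent.Lib.Helper14.Sz

open Cfsg
open scoped Pointwise

local notation "SL4" => Matrix.SpecialLinearGroup (Fin 4)

section ti

variable {F : Type*} [Field F] [Fintype F] [CharP F 2] {m : ℕ}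

theorem TS_central (hF : Fintype.card F = 2 ^ (2 * m + 1)) (a b d : F) :
    TS hF a b * TS hF 0 d = TS hF 0 d * TS hF a b := by
  rw [TS_mul, TS_mul]
  congr 1
  · rw [add_zero, zero_add]
  · rw [mul_zero, sg_zero, zero_mul, add_zero, add_zero, add_comm]

/-- conjugation of central elements by Borel elements -/
theorem conjB_Z (hF : Fintype.card F = 2 ^ (2 * m + 1)) (a b c : F) (k : Fˣ) :
    (TS hF a b * HS hF k) * TS hF 0 c * (TS hF a b * HS hF k)⁻¹ =
      TS hF 0 (sg m (k : F) * (k : F) * c) := by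
  have h1 : (TS hF a b * HS hF k) * TS hF 0 c * (TS hF a b * HS hF k)⁻¹ =
      TS hF a b * (HS hF k * TS hF 0 c * (HS hF k)⁻¹) * (TS hF a b)⁻¹ := by group
  rw [h1, conj_HS_TS, mul_zero, TS_central, mul_inv_cancel_right]

/-- the central subgroup attached to an additive subgroup of the field, conjugated by `y` -/
def ZSub (hF : Fintype.card F = 2 ^ (2 * m + 1)) (A : AddSubgroup F) : Subgroup (Sz F m) where
  carrier := {x | ∃ b ∈ A, x = TS hF 0 b}
  one_mem' := ⟨0, A.zero_mem, (TS_zero hF).symm⟩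
  mul_mem' := by
    rintro _ _ ⟨b, hb, rfl⟩ ⟨c, hc, rfl⟩
    refine ⟨b + c, A.add_mem hb hc, ?_⟩
    rw [TS_mul, add_zero, sg_zero, zero_mul, add_zero]
  inv_mem' := by
    rintro _ ⟨b, hb, rfl⟩
    refine ⟨b, hb, ?_⟩
    rw [TS_inv, sg_zero, zero_mul, add_zero]

theorem mem_ZSub (hF : Fintype.card F = 2 ^ (2 * m + 1)) (A : AddSubgroup F) (x : Sz F m) :
    x ∈ ZSub hF A ↔ ∃ b ∈ A, x = TS hF 0 b := Iff.rfl

theorem TS_mem_ZSub (hF : Fintype.card F = 2 ^ (2 * m + 1)) (A : AddSubgroup F) (b : F) :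
    TS hF 0 b ∈ ZSub hF A ↔ b ∈ A := by
  constructor
  · rintro ⟨c, hc, e⟩
    rw [(TS_injective hF e).2]
    exact hc
  · intro hb
    exact ⟨b, hb, rfl⟩

theorem ZSub_elem (hF : Fintype.card F = 2 ^ (2 * m + 1)) (A : AddSubgroup F) :
    IsElementaryAbelian 2 (ZSub hF A) := by
  constructor
  · refine ⟨⟨fun x y => ?_⟩⟩
    obtain ⟨b, hb, hx⟩ := x.2
    obtain ⟨c, hc, hy⟩ := y.2
    apply Subtype.ext
    show (x : Sz F m) * y = y * x
    rw [hx, hy, TS_central]
  · rintro _ ⟨b, hb, rfl⟩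
    rw [sq, TS_mul, CharTwo.add_self_eq_zero, CharTwo.add_self_eq_zero, sg_zero, zero_mul,
      add_zero, TS_zero]

theorem card_ZSub (hF : Fintype.card F = 2 ^ (2 * m + 1)) (A : AddSubgroup F) :
    Nat.card (ZSub hF A) = Nat.card A := by
  symm
  apply Nat.card_eq_of_bijective (fun a : A => (⟨TS hF 0 a, ⟨a, a.2, rfl⟩⟩ : ZSub hF A))
  constructor
  · intro a b h
    have := congrArg Subtype.val h
    exact Subtype.ext (TS_injective hF this).2
  · rintro ⟨x, b, hb, rfl⟩
    exact ⟨⟨b, hb⟩, rfl⟩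

/-- the fixed points of a power of the Frobenius map -/
def frobFix (F : Type*) [Field F] [CharP F 2] (n : ℕ) : AddSubgroup F where
  carrier := {x | x ^ 2 ^ n = x}
  zero_mem' := by
    show (0 : F) ^ 2 ^ n = 0
    exact zero_pow (by positivity)
  add_mem' := by
    intro a b ha hb
    haveI : Fact (Nat.Prime 2) := ⟨Nat.prime_two⟩
    show (a + b) ^ 2 ^ n = a + b
    rw [add_pow_char_pow, ha, hb]
  neg_mem' := by
    intro a ha
    show (-a) ^ 2 ^ n = -a
    rw [CharTwo.neg_eq]
    exact ha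

theorem mem_frobFix (n : ℕ) (x : F) : x ∈ frobFix F n ↔ x ^ 2 ^ n = x := Iff.rfl

theorem card_frobFix (N n : ℕ) (hn : 0 < n) (hF : Fintype.card F = 2 ^ N) (hdvd : n ∣ N) :
    Nat.card (frobFix F n) = 2 ^ n := by
  classical
  -- the non-zero fixed points form the kernel of a power map on the cyclic group of units
  have hker : Nat.card (powMonoidHom (2 ^ n - 1) : Fˣ →* Fˣ).ker = 2 ^ n - 1 := by
    rw [IsCyclic.card_powMonoidHom_ker, Nat.card_units, Nat.card_eq_fintype_card, hF]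
    apply Nat.gcd_eq_right
    exact Nat.pow_sub_one_dvd_pow_sub_one 2 hdvd
  have h2n : 1 ≤ 2 ^ n := Nat.one_le_two_pow
  have hbij : Nat.card (frobFix F n) = Nat.card (Option (powMonoidHom (2 ^ n - 1) : Fˣ →* Fˣ).ker) := by
    apply Nat.card_congr
    refine ⟨fun x => if h : (x : F) = 0 then none else some ⟨Units.mk0 (x : F) h, ?_⟩,
      fun o => match o with
        | none => ⟨0, (frobFix F n).zero_mem⟩
        | some k => ⟨((k : Fˣ) : F), ?_⟩, ?_, ?_⟩
    · rw [MonoidHom.mem_ker, powMonoidHom_apply]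
      apply Units.ext
      rw [Units.val_pow_eq_pow_val, Units.val_mk0, Units.val_one]
      have hx : (x : F) ^ 2 ^ n = x := x.2
      have : (x : F) ^ (2 ^ n - 1) * x = 1 * x := by
        rw [← pow_succ, Nat.sub_add_cancel h2n, hx, one_mul]
      exact mul_right_cancel₀ h this
    · have hk := k.2
      rw [MonoidHom.mem_ker, powMonoidHom_apply] at hk
      have hk' : ((k : Fˣ) : F) ^ (2 ^ n - 1) = 1 := by
        rw [← Units.val_pow_eq_pow_val, hk, Units.val_one]
      show ((k : Fˣ) : F) ^ 2 ^ n = ((k : Fˣ) : F)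
      calc ((k : Fˣ) : F) ^ 2 ^ n = ((k : Fˣ) : F) ^ ((2 ^ n - 1) + 1) := by
            rw [Nat.sub_add_cancel h2n]
        _ = ((k : Fˣ) : F) := by rw [pow_succ, hk', one_mul]
    · intro x
      by_cases h : (x : F) = 0
      · simp only [h, dite_true]
        exact Subtype.ext h.symm
      · simp only [h, dite_false]
        exact Subtype.ext rfl
    · intro o
      cases o with
      | none => simp
      | some k =>
        have hk0 : ((k : Fˣ) : F) ≠ 0 := (k : Fˣ).ne_zero
        simp only [hk0, dite_false]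
        congr 1
        apply Subtype.ext
        apply Units.ext
        rfl
  rw [hbij, Nat.card_eq_fintype_card, Fintype.card_option, ← Nat.card_eq_fintype_card, hker,
    Nat.sub_add_cancel h2n]

theorem ti_exists (hm : 1 ≤ m) (hF : Fintype.card F = 2 ^ (2 * m + 1)) (n : ℕ) (hn : 2 ≤ n)
    (hdvd : n ∣ 2 * m + 1) :
    ∃ E : Subgroup (Sz F m), IsElementaryAbelian 2 E ∧ Nat.card E = 2 ^ n ∧
      ∀ x : Sz F m, E ⊓ E.map (MulAut.conj x).toMonoidHom ≠ ⊥ →
        x ∈ Subgroup.normalizer (E : Set (Sz F m)) := by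
  set A := frobFix F n with hA
  refine ⟨ZSub hF A, ZSub_elem hF A, ?_, ?_⟩
  · rw [card_ZSub, card_frobFix (2 * m + 1) n (by omega) hF hdvd]
  · intro x hx
    obtain ⟨z, hz1⟩ := (Subgroup.ne_bot_iff_exists_ne_one).mp hx
    have hz1' : (z : Sz F m) ≠ 1 := fun e => hz1 (Subtype.ext e)
    obtain ⟨hzE, hzM⟩ := Subgroup.mem_inf.mp z.2
    obtain ⟨b, hb, hzb⟩ := hzE
    obtain ⟨t, ⟨b', hb', rfl⟩, htz⟩ := Subgroup.mem_map.mp hzM
    have htz' : x * TS hF 0 b' * x⁻¹ = z := htz
    -- `x` fixes the point at infinity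
    have hxfix : x • oinf F m = oinf F m := by
      have hne : TS hF 0 b ≠ 1 := by rw [← hzb]; exact hz1'
      apply TS_fix_only hF hne
      rw [← hzb, ← htz', mul_smul, mul_smul, inv_smul_smul, TS_oinf]
    obtain ⟨a', b'', k, rfl⟩ := fix_oinf hm hF x hxfix
    rw [conjB_Z, hzb] at htz'
    have hbb : sg m (k : F) * (k : F) * b' = b := (TS_injective hF htz').2
    have hb'0 : b' ≠ 0 := by
      rintro rfl
      rw [mul_zero] at hbb
      apply hz1'
      rw [hzb, ← hbb, TS_zero]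
    set κ : F := sg m (k : F) * (k : F) with hκ
    have hκA : κ ^ 2 ^ n = κ := by
      have : κ = b / b' := by
        rw [← hbb]
        field_simp
      rw [this, div_pow, (mem_frobFix n b).mp hb, (mem_frobFix n b').mp hb']
    have hκ0 : κ ≠ 0 := by
      intro e
      rw [e, zero_mul] at hbb
      apply hz1'
      rw [hzb, ← hbb, TS_zero]
    rw [Subgroup.mem_normalizer_iff]
    intro h
    constructor
    · rintro ⟨c, hc, rfl⟩
      rw [conjB_Z]
      refine ⟨κ * c, ?_, rfl⟩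
      rw [mem_frobFix, mul_pow, hκA, (mem_frobFix n c).mp hc]
    · rintro ⟨c, hc, e⟩
      obtain ⟨a₂, b₂, e₂⟩ := InB_inv hF (⟨a', b'', rfl⟩ : InB hF (TS hF a' b'' * HS hF k) k)
      have h2 : h = (TS hF a' b'' * HS hF k)⁻¹ * TS hF 0 c * ((TS hF a' b'' * HS hF k)⁻¹)⁻¹ := by
        rw [← e]
        group
      rw [e₂, conjB_Z] at h2
      refine ⟨_, ?_, h2⟩
      rw [mem_frobFix, mul_pow, (mem_frobFix n c).mp hc]
      congr 1
      have : sg m ((k⁻¹ : Fˣ) : F) * ((k⁻¹ : Fˣ) : F) = κ⁻¹ := by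
        rw [hκ, Units.val_inv_eq_inv_val, sg_inv, mul_inv]
      rw [this, inv_pow, hκA]

theorem ti_dvd (hm : 1 ≤ m) (hF : Fintype.card F = 2 ^ (2 * m + 1)) (n : ℕ) (hn : 2 ≤ n)
    (E : Subgroup (Sz F m)) (hE : IsElementaryAbelian 2 E) (hcard : Nat.card E = 2 ^ n)
    (hTI : ∀ x : Sz F m, E ⊓ E.map (MulAut.conj x).toMonoidHom ≠ ⊥ →
        x ∈ Subgroup.normalizer (E : Set (Sz F m))) : n ∣ 2 * m + 1 := by
  classical
  haveI : Fact (Nat.Prime 2) := ⟨Nat.prime_two⟩
  have hEp : IsPGroup 2 E := IsPGroup.of_card hcard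
  obtain ⟨P, hEP⟩ := hEp.exists_le_sylow
  obtain ⟨y, hy⟩ := sylow_std hm hF P
  -- elements of `E` are conjugates of central elements
  have hform : ∀ e ∈ E, ∃ b : F, e = y * TS hF 0 b * y⁻¹ := by
    intro e he
    have h1 : e ∈ (P : Subgroup (Sz F m)) := hEP he
    rw [hy] at h1
    obtain ⟨t, ht, hte⟩ := Subgroup.mem_map.mp h1
    obtain ⟨a, b, rfl⟩ := (mem_TSub_iff hF t).mp ht
    have hte' : y * TS hF a b * y⁻¹ = e := hte
    have h2 : e ^ 2 = 1 := hE.2 e he
    have h3 : TS hF a b * TS hF a b = 1 := by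
      have e1 : TS hF a b = y⁻¹ * e * y := by rw [← hte']; group
      rw [e1]
      have h2' : e * e = 1 := by rw [← sq]; exact h2
      have e2 : y⁻¹ * e * y * (y⁻¹ * e * y) = y⁻¹ * (e * e) * y := by group
      rw [e2, h2']
      group
    rw [TS_mul, CharTwo.add_self_eq_zero, CharTwo.add_self_eq_zero, zero_add, ← TS_zero hF] at h3
    have h4 : sg m a * a = 0 := (TS_injective hF h3).2
    have ha : a = 0 := by
      rcases mul_eq_zero.mp h4 with h | h
      · exact (sg_eq_zero_iff m a).mp h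
      · exact h
    refine ⟨b, ?_⟩
    rw [← hte', ha]
  have hconjmul : ∀ a b : F, y * TS hF 0 a * y⁻¹ * (y * TS hF 0 b * y⁻¹) =
      y * TS hF 0 (a + b) * y⁻¹ := by
    intro a b
    have e1 : y * TS hF 0 a * y⁻¹ * (y * TS hF 0 b * y⁻¹) =
        y * (TS hF 0 a * TS hF 0 b) * y⁻¹ := by group
    rw [e1, TS_mul, add_zero, sg_zero, zero_mul, add_zero]
  -- the additive group
  let A : AddSubgroup F :=
    { carrier := {b | y * TS hF 0 b * y⁻¹ ∈ E}
      zero_mem' := by
        show y * TS hF 0 0 * y⁻¹ ∈ E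
        rw [TS_zero, mul_one, mul_inv_cancel]
        exact E.one_mem
      add_mem' := by
        intro a b ha hb
        show y * TS hF 0 (a + b) * y⁻¹ ∈ E
        rw [← hconjmul]
        exact E.mul_mem ha hb
      neg_mem' := by
        intro a ha
        rw [CharTwo.neg_eq]
        exact ha }
  have hAmem : ∀ b : F, b ∈ A ↔ y * TS hF 0 b * y⁻¹ ∈ E := fun b => Iff.rfl
  have hcardA : Nat.card A = 2 ^ n := by
    rw [← hcard]
    apply Nat.card_eq_of_bijective (fun a : A => (⟨y * TS hF 0 a * y⁻¹, a.2⟩ : E))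
    constructor
    · intro a b h
      have h1 : y * TS hF 0 (a : F) * y⁻¹ = y * TS hF 0 (b : F) * y⁻¹ := congrArg Subtype.val h
      have h2 := mul_left_cancel (mul_right_cancel h1)
      exact Subtype.ext (TS_injective hF h2).2
    · rintro ⟨e, he⟩
      obtain ⟨b, hb⟩ := hform e he
      refine ⟨⟨b, ?_⟩, Subtype.ext hb.symm⟩
      show y * TS hF 0 b * y⁻¹ ∈ E
      rw [← hb]
      exact he
  -- multipliers
  have hmulA : ∀ k : Fˣ, (∃ c ∈ A, c ≠ 0 ∧ sg m (k : F) * (k : F) * c ∈ A) →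
      ∀ a ∈ A, sg m (k : F) * (k : F) * a ∈ A := by
    rintro k ⟨c, hc, hc0, hκc⟩
    set x' := y * HS hF k * y⁻¹ with hx'
    have hconj : ∀ b : F, x' * (y * TS hF 0 b * y⁻¹) * x'⁻¹ =
        y * TS hF 0 (sg m (k : F) * (k : F) * b) * y⁻¹ := by
      intro b
      have e1 : x' * (y * TS hF 0 b * y⁻¹) * x'⁻¹ =
          y * (HS hF k * TS hF 0 b * (HS hF k)⁻¹) * y⁻¹ := by
        rw [hx']
        group
      rw [e1, conj_HS_TS, mul_zero]
    have hnorm : x' ∈ Subgroup.normalizer (E : Set (Sz F m)) := by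
      apply hTI
      rw [Subgroup.ne_bot_iff_exists_ne_one]
      refine ⟨⟨y * TS hF 0 (sg m (k : F) * (k : F) * c) * y⁻¹, Subgroup.mem_inf.mpr ⟨hκc, ?_⟩⟩, ?_⟩
      · rw [Subgroup.mem_map]
        exact ⟨y * TS hF 0 c * y⁻¹, hc, hconj c⟩
      · intro e
        have e1 : y * TS hF 0 (sg m (k : F) * (k : F) * c) * y⁻¹ = 1 := congrArg Subtype.val e
        have e2 : TS hF 0 (sg m (k : F) * (k : F) * c) = 1 := by
          have : TS hF 0 (sg m (k : F) * (k : F) * c) =
              y⁻¹ * (y * TS hF 0 (sg m (k : F) * (k : F) * c) * y⁻¹) * y := by group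
          rw [this, e1]
          group
        rw [← TS_zero hF] at e2
        have e3 := (TS_injective hF e2).2
        have hk0 : (k : F) ≠ 0 := k.ne_zero
        have hsk : sg m (k : F) ≠ 0 := fun e => hk0 ((sg_eq_zero_iff m _).mp e)
        exact mul_ne_zero (mul_ne_zero hsk hk0) hc0 e3
    intro a ha
    rw [Subgroup.mem_normalizer_iff] at hnorm
    have := (hnorm _).mp ha
    rw [hconj] at this
    exact this
  -- the multiplier ring
  let K₀r : Subring F :=
    { carrier := {κ | ∀ a ∈ A, κ * a ∈ A}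
      mul_mem' := fun {κ μ} hκ hμ a ha => by
        rw [mul_assoc]
        exact hκ _ (hμ a ha)
      one_mem' := fun a ha => by
        rw [one_mul]
        exact ha
      add_mem' := fun {κ μ} hκ hμ a ha => by
        rw [add_mul]
        exact A.add_mem (hκ a ha) (hμ a ha)
      zero_mem' := fun a ha => by
        rw [zero_mul]
        exact A.zero_mem
      neg_mem' := fun {κ} hκ a ha => by
        rw [neg_mul]
        exact A.neg_mem (hκ a ha) }
  let K₀ : Subfield F :=
    { K₀r with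
      inv_mem' := by
        intro κ hκ
        by_cases hκ0 : κ = 0
        · rw [hκ0, inv_zero]
          exact K₀r.zero_mem
        · have h1 : κ ^ (Fintype.card F - 1) = 1 := FiniteField.pow_card_sub_one_eq_one κ hκ0
          have hq : 2 ≤ Fintype.card F := by
            rw [hF]
            calc 2 = 2 ^ 1 := by norm_num
              _ ≤ 2 ^ (2 * m + 1) := Nat.pow_le_pow_right (by norm_num) (by omega)
          have h2 : κ * κ ^ (Fintype.card F - 2) = 1 := by
            rw [← pow_succ']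
            have : Fintype.card F - 2 + 1 = Fintype.card F - 1 := by omega
            rw [this, h1]
          rw [inv_eq_of_mul_eq_one_right h2]
          exact K₀r.pow_mem hκ _ }
  have hK₀mem : ∀ κ : F, κ ∈ K₀ ↔ ∀ a ∈ A, κ * a ∈ A := fun κ => Iff.rfl
  -- a non-zero element of `A`
  obtain ⟨a₀, ha₀, ha₀0⟩ : ∃ a₀ ∈ A, a₀ ≠ 0 := by
    have h1 : 1 < Nat.card A := by
      rw [hcardA]
      calc 1 < 2 ^ 1 := by norm_num
        _ ≤ 2 ^ n := Nat.pow_le_pow_right (by norm_num) (by omega)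
    haveI : Nontrivial A := Finite.one_lt_card_iff_nontrivial.mp h1
    obtain ⟨a, ha⟩ := exists_ne (0 : A)
    exact ⟨a, a.2, fun e => ha (Subtype.ext e)⟩
  have hcardK : Nat.card K₀ = 2 ^ n := by
    rw [← hcardA]
    apply Nat.card_eq_of_bijective (fun κ : K₀ => (⟨(κ : F) * a₀, κ.2 a₀ ha₀⟩ : A))
    constructor
    · intro κ μ h
      have h1 : (κ : F) * a₀ = (μ : F) * a₀ := congrArg Subtype.val h
      exact Subtype.ext (mul_right_cancel₀ ha₀0 h1)
    · rintro ⟨a, ha⟩
      have hκ : a / a₀ ∈ K₀ := by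
        by_cases ha0 : a = 0
        · rw [ha0, zero_div]
          exact K₀.zero_mem
        · obtain ⟨k', hk'⟩ := sg_mul_self_surjective (m := m) hF (a / a₀)
          simp only at hk'
          have hk0 : k' ≠ 0 := by
            rintro rfl
            rw [sg_zero, zero_mul] at hk'
            exact (div_ne_zero ha0 ha₀0) hk'.symm
          have := hmulA (Units.mk0 k' hk0) ⟨a₀, ha₀, ha₀0, by
            rw [Units.val_mk0, hk', div_mul_cancel₀ a ha₀0]
            exact ha⟩
          rw [Units.val_mk0, hk'] at this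
          exact this
      refine ⟨⟨a / a₀, hκ⟩, Subtype.ext ?_⟩
      show a / a₀ * a₀ = a
      exact div_mul_cancel₀ a ha₀0
  have h3 := Module.natCard_eq_pow_finrank (K := K₀) (V := F)
  rw [hcardK, Nat.card_eq_fintype_card, hF, ← pow_mul] at h3
  have h4 := Nat.pow_right_injective (le_refl 2) h3
  exact ⟨_, h4⟩

theorem ti_iff (hm : 1 ≤ m) (hF : Fintype.card F = 2 ^ (2 * m + 1)) (n : ℕ) (hn : 2 ≤ n) :
    (∃ E : Subgroup (Sz F m), IsElementaryAbelian 2 E ∧ Nat.card E = 2 ^ n ∧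
      ∀ x : Sz F m, E ⊓ E.map (MulAut.conj x).toMonoidHom ≠ ⊥ →
        x ∈ Subgroup.normalizer (E : Set (Sz F m))) ↔ n ∣ 2 * m + 1 := by
  constructor
  · rintro ⟨E, hE, hcard, hTI⟩
    exact ti_dvd hm hF n hn E hE hcard hTI
  · intro h
    exact ti_exists hm hF n hn h

end ti

end Cfsg.Agent.Lib.Helper14.Sz
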