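import Mathlib
import Cfsg.Agent.Lib.Helper14.SzQ

/-!
# Automorphisms of the Suzuki groups, part 1: the field automorphism attached to an automorphism
(helper14)
-/

set_option autoImplicit false
set_option maxHeartbeats 2000000
set_option linter.unusedSimpArgs false
set_option linter.unusedSectionVars false

namespace Cfsg.Agent.Lib.Helper14.Sz

open Cfsg
open scoped Pointwise

local notation "SL4" => Matrix.SpecialLinearGroup (Fin 4)

section aut

variable {F : Type*} [Field F] [Fintype F] [CharP F 2] {m : ℕ}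

/-- every involution is conjugate to the standard central involution -/
theorem involution_conj (hm : 1 ≤ m) (hF : Fintype.card F = 2 ^ (2 * m + 1)) (u : Sz F m)
    (hu1 : u ≠ 1) (hu2 : u * u = 1) : ∃ x : Sz F m, x * u * x⁻¹ = TS hF 0 1 := by
  classical
  haveI : Fact (Nat.Prime 2) := ⟨Nat.prime_two⟩
  have hord : orderOf u = 2 := orderOf_eq_prime (by rw [sq]; exact hu2) hu1
  have hp : IsPGroup 2 (Subgroup.zpowers u) :=
    IsPGroup.of_card (n := 1) (by rw [Nat.card_zpowers, hord, pow_one])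
  obtain ⟨P, hP⟩ := hp.exists_le_sylow
  obtain ⟨y, hy⟩ := sylow_std hm hF P
  have huP : u ∈ (P : Subgroup (Sz F m)) := hP (Subgroup.mem_zpowers u)
  rw [hy] at huP
  obtain ⟨t, ht, hty⟩ := Subgroup.mem_map.mp huP
  obtain ⟨a, b, rfl⟩ := (mem_TSub_iff hF t).mp ht
  have hty' : y * TS hF a b * y⁻¹ = u := hty
  have h3 : TS hF a b * TS hF a b = 1 := by
    have e1 : TS hF a b = y⁻¹ * u * y := by rw [← hty']; group
    rw [e1]
    have e2 : y⁻¹ * u * y * (y⁻¹ * u * y) = y⁻¹ * (u * u) * y := by group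
    rw [e2, hu2]
    group
  rw [TS_mul, CharTwo.add_self_eq_zero, CharTwo.add_self_eq_zero, zero_add, ← TS_zero hF] at h3
  have h4 : sg m a * a = 0 := (TS_injective hF h3).2
  have ha : a = 0 := by
    rcases mul_eq_zero.mp h4 with h | h
    · exact (sg_eq_zero_iff m a).mp h
    · exact h
  subst ha
  have hb : b ≠ 0 := by
    rintro rfl
    apply hu1
    rw [← hty', TS_zero]
    group
  obtain ⟨k', hk'⟩ := sg_mul_self_surjective (m := m) hF (1 / b)
  simp only at hk'
  have hk0 : k' ≠ 0 := by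
    rintro rfl
    rw [sg_zero, zero_mul] at hk'
    exact (one_div_ne_zero hb) hk'.symm
  refine ⟨HS hF (Units.mk0 k' hk0) * y⁻¹, ?_⟩
  have e1 : HS hF (Units.mk0 k' hk0) * y⁻¹ * u * (HS hF (Units.mk0 k' hk0) * y⁻¹)⁻¹ =
      HS hF (Units.mk0 k' hk0) * (y⁻¹ * u * y) * (HS hF (Units.mk0 k' hk0))⁻¹ := by group
  have e2 : y⁻¹ * u * y = TS hF 0 b := by rw [← hty']; group
  rw [e1, e2, conj_HS_TS, Units.val_mk0, hk', mul_zero, one_div, inv_mul_cancel₀ hb]

/-- the centralizer of the standard involution -/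
theorem centralizer_z1 (hm : 1 ≤ m) (hF : Fintype.card F = 2 ^ (2 * m + 1)) (c : Sz F m)
    (hc : c * TS hF 0 1 = TS hF 0 1 * c) : ∃ a b : F, c = TS hF a b := by
  have hne : TS hF (0 : F) 1 ≠ 1 := by
    rw [← TS_zero hF]
    intro e
    exact one_ne_zero (TS_injective hF e).2
  have := centralizer_TS hm hF hne (Subgroup.mem_centralizer_singleton_iff.mpr hc)
  exact (mem_TSub_iff hF c).mp this

/-- `α` induces the field automorphism `τ` -/
def IsSemi (hF : Fintype.card F = 2 ^ (2 * m + 1)) (α : MulAut (Sz F m)) (τ : F ≃+* F) : Prop :=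
  ∃ x : Sz F m, ∀ b : F, (MulAut.conj x * α) (TS hF 0 b) = TS hF 0 (τ b)

theorem exists_isSemi (hm : 1 ≤ m) (hF : Fintype.card F = 2 ^ (2 * m + 1))
    (α : MulAut (Sz F m)) : ∃ τ : F ≃+* F, IsSemi hF α τ := by
  classical
  have hz1 : TS hF (0 : F) 1 ≠ 1 := by
    rw [← TS_zero hF]
    intro e
    exact one_ne_zero (TS_injective hF e).2
  have hz2 : TS hF (0 : F) 1 * TS hF 0 1 = 1 := by
    rw [TS_mul, CharTwo.add_self_eq_zero, CharTwo.add_self_eq_zero, sg_zero, zero_mul, add_zero,
      TS_zero]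
  obtain ⟨x, hx⟩ := involution_conj hm hF (α (TS hF 0 1))
    (fun e => hz1 (α.injective (e.trans (map_one α).symm)))
    (by rw [← map_mul, hz2, map_one])
  set A : MulAut (Sz F m) := MulAut.conj x * α with hA
  have hAz : A (TS hF 0 1) = TS hF 0 1 := by
    rw [hA, MulAut.mul_apply, MulAut.conj_apply]
    exact hx
  have hAinvz : A⁻¹ (TS hF 0 1) = TS hF 0 1 := by
    rw [MulAut.inv_apply, MulEquiv.symm_apply_eq, hAz]
  -- `A` and its inverse map the unipotent group into itself
  have hAT : ∀ (B : MulAut (Sz F m)), B (TS hF 0 1) = TS hF 0 1 → ∀ a b : F,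
      ∃ a' b' : F, B (TS hF a b) = TS hF a' b' := by
    intro B hB a b
    apply centralizer_z1 hm hF
    rw [← hB, ← map_mul, ← map_mul, TS_central]
  -- the action on the centre
  have hAZ : ∀ b : F, ∃ b' : F, A (TS hF 0 b) = TS hF 0 b' := by
    intro b
    obtain ⟨a', b', h⟩ := hAT A hAz 0 b
    have h1 : A (TS hF 0 b) * A (TS hF 0 b) = 1 := by
      rw [← map_mul, TS_mul, CharTwo.add_self_eq_zero, CharTwo.add_self_eq_zero, sg_zero,
        zero_mul, add_zero, TS_zero, map_one]
    rw [h, TS_mul, CharTwo.add_self_eq_zero, CharTwo.add_self_eq_zero, zero_add,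
      ← TS_zero hF] at h1
    have h4 : sg m a' * a' = 0 := (TS_injective hF h1).2
    have ha : a' = 0 := by
      rcases mul_eq_zero.mp h4 with h | h
      · exact (sg_eq_zero_iff m a').mp h
      · exact h
    exact ⟨b', by rw [h, ha]⟩
  choose β hβ using hAZ
  have hβ1 : β 1 = 1 := by
    have := hβ 1
    rw [hAz] at this
    exact ((TS_injective hF this).2).symm
  have hβadd : ∀ a b : F, β (a + b) = β a + β b := by
    intro a b
    have h1 : A (TS hF 0 a * TS hF 0 b) = A (TS hF 0 a) * A (TS hF 0 b) := map_mul A _ _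
    rw [TS_mul, hβ, hβ, TS_mul, add_zero, sg_zero, zero_mul, add_zero, hβ, add_zero] at h1
    exact (TS_injective hF h1).2
  have hβinj : Function.Injective β := by
    intro a b h
    have h1 : A (TS hF 0 a) = A (TS hF 0 b) := by rw [hβ, hβ, h]
    exact (TS_injective hF (A.injective h1)).2
  have hβ0 : β 0 = 0 := by
    have := hβadd 0 0
    rw [add_zero] at this
    have h2 : β 0 + 0 = β 0 + β 0 := by rw [add_zero]; exact this
    exact (add_left_cancel h2).symm
  -- multiplicativity
  have hβmul : ∀ κ b : F, β (κ * b) = β κ * β b := by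
    intro κ b
    by_cases hκ : κ = 0
    · rw [hκ, zero_mul, hβ0, zero_mul]
    obtain ⟨k', hk'⟩ := sg_mul_self_surjective (m := m) hF κ
    simp only at hk'
    have hk0 : k' ≠ 0 := by
      rintro rfl
      rw [sg_zero, zero_mul] at hk'
      exact hκ hk'.symm
    set k : Fˣ := Units.mk0 k' hk0 with hk
    have hkκ : sg m (k : F) * (k : F) = κ := by rw [hk, Units.val_mk0, hk']
    set y := A (HS hF k) with hy
    -- `y` fixes the point at infinity
    have hyfix : y • oinf F m = oinf F m := by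
      have h1 : y * TS hF 0 1 * y⁻¹ = A (HS hF k * TS hF 0 1 * (HS hF k)⁻¹) := by
        rw [map_mul, map_mul, map_inv, hAz]
      rw [conj_HS_TS, mul_zero, hβ] at h1
      have hne : TS hF 0 (β (sg m (k : F) * (k : F) * 1)) ≠ 1 := by
        rw [← h1]
        intro e
        apply hz1
        have : TS hF (0 : F) 1 = y⁻¹ * (y * TS hF 0 1 * y⁻¹) * y := by group
        rw [this, e]
        group
      apply TS_fix_only hF hne
      rw [← h1, mul_smul, mul_smul, inv_smul_smul, TS_oinf]
    obtain ⟨a', b', k₂, hyk⟩ := fix_oinf hm hF y hyfix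
    have key : ∀ c : F, β (κ * c) = sg m (k₂ : F) * (k₂ : F) * β c := by
      intro c
      have h1 : y * A (TS hF 0 c) * y⁻¹ = A (HS hF k * TS hF 0 c * (HS hF k)⁻¹) := by
        rw [map_mul, map_mul, map_inv]
      rw [conj_HS_TS, mul_zero, hβ, hβ, hyk, conjB_Z, hkκ] at h1
      exact ((TS_injective hF h1).2).symm
    have h2 := key 1
    rw [mul_one, hβ1, mul_one] at h2
    rw [key b, ← h2]
  refine ⟨RingEquiv.ofBijective
    ({ toFun := β
       map_one' := hβ1
       map_mul' := hβmul
       map_zero' := hβ0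
       map_add' := hβadd } : F →+* F) (Finite.injective_iff_bijective.mp hβinj), x, ?_⟩
  intro b
  exact hβ b

end aut

end Cfsg.Agent.Lib.Helper14.Sz
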