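import Mathlib
import Cfsg.Agent.Lib.Helper14.SzW

/-!
# Automorphisms of the Suzuki groups, part 2: field automorphisms, and automorphisms fixing the
centre of a Sylow 2-subgroup pointwise are inner (helper14)
-/

set_option autoImplicit false
set_option maxHeartbeats 2000000
set_option linter.unusedSimpArgs false
set_option linter.unusedSectionVars false

namespace Cfsg.Agent.Lib.Helper14.Sz

open Cfsg
open scoped Pointwise

local notation "SL4" => Matrix.SpecialLinearGroup (Fin 4)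

section faut

variable {F : Type*} [Field F] [Fintype F] [CharP F 2] {m : ℕ}

theorem sg_map (τ : F ≃+* F) (a : F) : τ (sg m a) = sg m (τ a) := by
  unfold sg
  exact map_pow τ a _

theorem rho_map (τ : F ≃+* F) (a : F) : τ (rho m a) = rho m (τ a) := by
  unfold rho
  exact map_pow τ a _

/-- the map on `SL₄` induced by a field automorphism -/
def fMap (τ : F ≃+* F) : SL4 F →* SL4 F := Matrix.SpecialLinearGroup.map (τ : F →+* F)

theorem fMap_apply (τ : F ≃+* F) (g : SL4 F) (i j : Fin 4) : (fMap τ g) i j = τ (g i j) := rfl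

theorem fMap_Tg (τ : F ≃+* F) (a b : F) : fMap τ (Tg m a b) = Tg m (τ a) (τ b) := by
  apply Subtype.ext
  ext i j
  show τ (Tmat m a b i j) = Tmat m (τ a) (τ b) i j
  fin_cases i <;> fin_cases j <;> simp [Tmat, ff, sg_map]

theorem fMap_Hg (τ : F ≃+* F) (k : Fˣ) :
    fMap τ (Hg m k) = Hg m (Units.map (τ : F →* F) k) := by
  apply Subtype.ext
  ext i j
  show τ (Hmat m (k : F) i j) = Hmat m (τ (k : F)) i j
  fin_cases i <;> fin_cases j <;> simp [Hmat, rho_map]

theorem fMap_Wg (τ : F ≃+* F) : fMap τ (Wg F) = Wg F := by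
  apply Subtype.ext
  ext i j
  show τ (Wmat F i j) = Wmat F i j
  fin_cases i <;> fin_cases j <;> simp [Wmat]

theorem fMap_mem (hm : 1 ≤ m) (hF : Fintype.card F = 2 ^ (2 * m + 1)) (τ : F ≃+* F)
    {g : SL4 F} (hg : g ∈ Sz F m) : fMap τ g ∈ Sz F m := by
  rcases exists_of_mem hm hF hg with ⟨a, b, k, rfl⟩ | ⟨c, d, a, b, k, rfl⟩
  · rw [map_mul, fMap_Tg, fMap_Hg]
    exact (Sz F m).mul_mem (Tg_mem hF _ _) (Hg_mem hF _)
  · rw [map_mul, map_mul, map_mul, fMap_Tg, fMap_Tg, fMap_Hg, fMap_Wg]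
    exact (Sz F m).mul_mem ((Sz F m).mul_mem (Tg_mem hF _ _) (Wg_mem hF))
      ((Sz F m).mul_mem (Tg_mem hF _ _) (Hg_mem hF _))

theorem fMap_symm (τ : F ≃+* F) (g : SL4 F) : fMap τ.symm (fMap τ g) = g := by
  apply Subtype.ext
  ext i j
  show τ.symm (τ (g i j)) = g i j
  exact τ.symm_apply_apply _

theorem fMap_symm' (τ : F ≃+* F) (g : SL4 F) : fMap τ (fMap τ.symm g) = g := by
  apply Subtype.ext
  ext i j
  show τ (τ.symm (g i j)) = g i j
  exact τ.apply_symm_apply _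

/-- the field automorphism of `Sz` induced by `τ` -/
def fAut (hm : 1 ≤ m) (hF : Fintype.card F = 2 ^ (2 * m + 1)) (τ : F ≃+* F) :
    MulAut (Sz F m) where
  toFun g := ⟨fMap τ g, fMap_mem hm hF τ g.2⟩
  invFun g := ⟨fMap τ.symm g, fMap_mem hm hF τ.symm g.2⟩
  left_inv g := Subtype.ext (fMap_symm τ g)
  right_inv g := Subtype.ext (fMap_symm' τ g)
  map_mul' g h := Subtype.ext (map_mul (fMap τ) _ _)

theorem fAut_TS (hm : 1 ≤ m) (hF : Fintype.card F = 2 ^ (2 * m + 1)) (τ : F ≃+* F) (a b : F) :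
    fAut hm hF τ (TS hF a b) = TS hF (τ a) (τ b) :=
  Subtype.ext (fMap_Tg τ a b)

theorem fAut_inv_TS (hm : 1 ≤ m) (hF : Fintype.card F = 2 ^ (2 * m + 1)) (τ : F ≃+* F) (a b : F) :
    (fAut hm hF τ)⁻¹ (TS hF a b) = TS hF (τ.symm a) (τ.symm b) := by
  rw [MulAut.inv_apply, MulEquiv.symm_apply_eq, fAut_TS, τ.apply_symm_apply, τ.apply_symm_apply]

end faut

end Cfsg.Agent.Lib.Helper14.Sz
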