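import Mathlib
import Cfsg.Agent.Lib.Helper14.SzX

/-!
# Automorphisms of the Suzuki groups, part 3: automorphisms fixing the centre of a Sylow
2-subgroup pointwise are inner (helper14)
-/

set_option autoImplicit false
set_option maxHeartbeats 2000000
set_option linter.unusedSimpArgs false
set_option linter.unusedSectionVars false

namespace Cfsg.Agent.Lib.Helper14.Sz

open Cfsg
open scoped Pointwise

local notation "SL4" => Matrix.SpecialLinearGroup (Fin 4)

section ker

variable {F : Type*} [Field F] [Fintype F] [CharP F 2] {m : ℕ}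

theorem WS_opt (hF : Fintype.card F = 2 ^ (2 * m + 1)) (x y : F) (hz : ff m x y ≠ 0) :
    WS hF • opt m x y = opt m (y / ff m x y) (x / ff m x y) :=
  Subtype.ext (Wg_pt hF x y hz)

theorem TS_one_ne (hF : Fintype.card F = 2 ^ (2 * m + 1)) {c : F} (hc : c ≠ 0) :
    TS (m := m) hF 0 c ≠ 1 := by
  rw [← TS_zero hF]
  intro e
  exact hc (TS_injective hF e).2

theorem sg_mul_self_ne_zero {k : F} (hk : k ≠ 0) : sg m k * k ≠ 0 :=
  mul_ne_zero (fun h => hk ((sg_eq_zero_iff m k).mp h)) hk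

theorem borel_oinf (hF : Fintype.card F = 2 ^ (2 * m + 1)) (a b : F) (k : Fˣ) :
    (TS hF a b * HS hF k) • oinf F m = oinf F m := by
  rw [mul_smul, HS_oinf, TS_oinf]

/-- an automorphism fixing the centre pointwise preserves the Borel subgroup and the torus part -/
theorem aut_borel (hm : 1 ≤ m) (hF : Fintype.card F = 2 ^ (2 * m + 1)) (A : MulAut (Sz F m))
    (hA : ∀ b : F, A (TS hF 0 b) = TS hF 0 b) (a b : F) (k : Fˣ) :
    ∃ a' b' : F, A (TS hF a b * HS hF k) = TS hF a' b' * HS hF k := by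
  set y := A (TS hF a b * HS hF k) with hy
  have hκ : sg m (k : F) * (k : F) ≠ 0 := sg_mul_self_ne_zero k.ne_zero
  have h1 : ∀ c : F, y * TS hF 0 c * y⁻¹ = TS hF 0 (sg m (k : F) * (k : F) * c) := by
    intro c
    have : y * TS hF 0 c * y⁻¹ =
        A ((TS hF a b * HS hF k) * TS hF 0 c * (TS hF a b * HS hF k)⁻¹) := by
      rw [map_mul, map_mul, map_inv, hA]
    rw [this, conjB_Z, hA]
  have hyfix : y • oinf F m = oinf F m := by
    have hne : TS hF 0 (sg m (k : F) * (k : F) * 1) ≠ 1 := TS_one_ne hF (by rw [mul_one]; exact hκ)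
    apply TS_fix_only hF hne
    rw [← h1, mul_smul, mul_smul, inv_smul_smul, TS_oinf]
  obtain ⟨a', b', k', hyk⟩ := fix_oinf hm hF y hyfix
  have h2 := h1 1
  rw [hyk, conjB_Z] at h2
  have h3 := (TS_injective hF h2).2
  rw [mul_one, mul_one] at h3
  have h4 : (k' : F) = (k : F) := sg_mul_self_injective (m := m) hF h3
  have h5 : k' = k := Units.ext h4
  exact ⟨a', b', by rw [hyk, h5]⟩

theorem aut_inv_fix (hF : Fintype.card F = 2 ^ (2 * m + 1)) (A : MulAut (Sz F m))
    (hA : ∀ b : F, A (TS hF 0 b) = TS hF 0 b) (b : F) : A⁻¹ (TS hF 0 b) = TS hF 0 b := by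
  rw [MulAut.inv_apply, MulEquiv.symm_apply_eq, hA]

theorem aut_W_ne (hm : 1 ≤ m) (hF : Fintype.card F = 2 ^ (2 * m + 1)) (A : MulAut (Sz F m))
    (hA : ∀ b : F, A (TS hF 0 b) = TS hF 0 b) : A (WS hF) • oinf F m ≠ oinf F m := by
  intro h
  obtain ⟨a, b, k, hk⟩ := fix_oinf hm hF _ h
  obtain ⟨a', b', h2⟩ := aut_borel hm hF A⁻¹ (aut_inv_fix hF A hA) a b k
  rw [← hk, MulAut.inv_apply, MulEquiv.symm_apply_apply] at h2
  have h3 : WS hF • oinf F m = oinf F m := by rw [h2, borel_oinf]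
  rw [WS_oinf] at h3
  exact opt_ne_oinf _ _ h3

/-- the torus is fixed pointwise -/
theorem aut_HS (hm : 1 ≤ m) (hF : Fintype.card F = 2 ^ (2 * m + 1)) (A : MulAut (Sz F m))
    (hA : ∀ b : F, A (TS hF 0 b) = TS hF 0 b) (hw : A (WS hF) • oinf F m = opt m 0 0) (k : Fˣ) :
    A (HS hF k) = HS hF k := by
  obtain ⟨a', b', h1⟩ := aut_borel hm hF A hA 0 0 k
  obtain ⟨a'', b'', h2⟩ := aut_borel hm hF A hA 0 0 k⁻¹
  rw [TS_zero, one_mul] at h1 h2
  set w' := A (WS hF) with hw'
  have hww : w' * w' = 1 := by rw [hw', ← map_mul, WS_mul_self, map_one]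
  have h3 : w' * A (HS hF k) * w' = A (HS hF k⁻¹) := by
    rw [hw', ← map_mul, ← map_mul, WS_HS]
  have h4 : A (HS hF k) * w' = w' * A (HS hF k⁻¹) := by
    rw [← h3]
    calc A (HS hF k) * w' = (w' * w') * (A (HS hF k) * w') := by rw [hww, one_mul]
      _ = _ := by group
  have f1 : A (HS hF k) • oinf F m = oinf F m := by rw [h1, borel_oinf]
  have f2 : A (HS hF k) • opt m (0 : F) 0 = opt m 0 0 := by
    rw [← hw, ← mul_smul, h4, mul_smul, h2, borel_oinf]
  obtain ⟨l, hl⟩ := eq_HS_of_fix hm hF _ f1 f2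
  have h5 : TS hF a' b' * HS hF k = TS hF 0 0 * HS hF l := by
    rw [← h1, hl, TS_zero, one_mul]
  obtain ⟨-, -, h6⟩ := TSHS_inj hF h5
  rw [hl, h6]

/-- the unipotent group is fixed pointwise -/
theorem aut_TS (hm : 1 ≤ m) (hF : Fintype.card F = 2 ^ (2 * m + 1)) (A : MulAut (Sz F m))
    (hA : ∀ b : F, A (TS hF 0 b) = TS hF 0 b) (hH : ∀ k : Fˣ, A (HS hF k) = HS hF k) (a b : F) :
    A (TS hF a b) = TS hF a b := by
  have hz1 : A (TS hF 0 1) = TS hF 0 1 := hA 1
  have hAT : ∀ a : F, ∃ a' b' : F, A (TS hF a 0) = TS hF a' b' := by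
    intro a
    apply centralizer_z1 hm hF
    rw [← hz1, ← map_mul, ← map_mul, TS_central]
  choose φ lam hφ using hAT
  have hT : ∀ a b : F, A (TS hF a b) = TS hF (φ a) (lam a + b) := by
    intro a b
    have : TS hF a b = TS hF a 0 * TS hF 0 b := by
      rw [TS_mul, add_zero, zero_add, mul_zero, add_zero]
    rw [this, map_mul, hφ, hA, TS_mul, add_zero, mul_zero, add_zero]
  have h0 : φ 0 = 0 ∧ lam 0 = 0 := by
    have := hφ 0
    rw [TS_zero, map_one, ← TS_zero hF] at this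
    obtain ⟨e1, e2⟩ := TS_injective hF this
    exact ⟨e1.symm, e2.symm⟩
  -- torus equivariance
  have hequi : ∀ (k : Fˣ) (a : F), φ ((k : F) * a) = (k : F) * φ a ∧
      lam ((k : F) * a) = sg m (k : F) * (k : F) * lam a := by
    intro k a
    have h1 : A (HS hF k * TS hF a 0 * (HS hF k)⁻¹) = HS hF k * A (TS hF a 0) * (HS hF k)⁻¹ := by
      rw [map_mul, map_mul, map_inv, hH]
    rw [conj_HS_TS, hφ, conj_HS_TS, mul_zero, hφ] at h1
    exact TS_injective hF h1
  have hφlin : ∀ a : F, φ a = a * φ 1 := by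
    intro a
    by_cases ha : a = 0
    · rw [ha, h0.1, zero_mul]
    · have := (hequi (Units.mk0 a ha) 1).1
      rw [Units.val_mk0, mul_one] at this
      exact this
  have hlamlin : ∀ a : F, lam a = sg m a * a * lam 1 := by
    intro a
    by_cases ha : a = 0
    · rw [ha, h0.2, mul_zero, zero_mul]
    · have := (hequi (Units.mk0 a ha) 1).2
      rw [Units.val_mk0, mul_one] at this
      exact this
  -- multiplicativity
  have hmul : ∀ a c : F, lam (a + c) + sg m a * c = lam a + lam c + sg m (φ a) * φ c := by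
    intro a c
    have h1 : A (TS hF a 0 * TS hF c 0) = A (TS hF a 0) * A (TS hF c 0) := map_mul A _ _
    rw [TS_mul, hT, hφ, hφ, TS_mul, add_zero, zero_add] at h1
    exact (TS_injective hF h1).2
  obtain ⟨e, he⟩ := exists_sg_ne (m := m) hm hF
  have he0 : sg m e + e ≠ 0 := fun h => he (CharTwo.add_eq_zero.mp h)
  set c₀ := φ 1 with hc₀
  set l₀ := lam 1 with hl₀
  have hc1 : sg m c₀ * c₀ = 1 := by
    have h1 := hmul e 1
    have h2 := hmul 1 e
    rw [add_comm 1 e] at h2
    have h3 : sg m e * 1 + sg m 1 * e = sg m (φ e) * φ 1 + sg m (φ 1) * φ e := by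
      have h4 : (lam (e + 1) + sg m e * 1) + (lam (e + 1) + sg m 1 * e) =
          (lam e + lam 1 + sg m (φ e) * φ 1) + (lam 1 + lam e + sg m (φ 1) * φ e) := by
        rw [h1, h2]
      have h5 : (lam (e + 1) + sg m e * 1) + (lam (e + 1) + sg m 1 * e) =
          sg m e * 1 + sg m 1 * e + (lam (e + 1) + lam (e + 1)) := by ring
      have h6 : (lam e + lam 1 + sg m (φ e) * φ 1) + (lam 1 + lam e + sg m (φ 1) * φ e) =
          sg m (φ e) * φ 1 + sg m (φ 1) * φ e + ((lam e + lam e) + (lam 1 + lam 1)) := by ring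
      rw [h5, h6, CharTwo.add_self_eq_zero, CharTwo.add_self_eq_zero, CharTwo.add_self_eq_zero,
        add_zero, add_zero, add_zero] at h4
      exact h4
    rw [hφlin e, sg_mul, sg_one, mul_one, one_mul] at h3
    have h4 : (sg m e + e) * (sg m c₀ * c₀) = (sg m e + e) * 1 := by
      linear_combination (-1 : F) * h3
    exact mul_left_cancel₀ he0 h4
  have hc₀1 : c₀ = 1 := by
    apply sg_mul_self_injective (m := m) hF
    simp only [sg_one, one_mul]
    exact hc1
  have hφid : ∀ a : F, φ a = a := by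
    intro a
    rw [hφlin a, hc₀1, mul_one]
  have hl0 : l₀ = 0 := by
    have h1 := hmul e 1
    rw [hφid, hφid, hlamlin (e + 1), hlamlin e, sg_add, sg_one] at h1
    have h2 : (sg m e + e) * l₀ = 0 := by
      have h3 : (sg m e + 1) * (e + 1) * l₀ + sg m e * 1 + (sg m e * e * l₀ + l₀ + sg m e * 1) = 0 := by
        rw [h1]; exact CharTwo.add_self_eq_zero _
      have h4 : (sg m e + 1) * (e + 1) * l₀ + sg m e * 1 + (sg m e * e * l₀ + l₀ + sg m e * 1) =
          (sg m e + e) * l₀ + ((sg m e * e * l₀ + sg m e * e * l₀) + (l₀ + l₀) +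
            (sg m e * 1 + sg m e * 1)) := by ring
      rw [h4] at h3
      simp only [CharTwo.add_self_eq_zero, add_zero] at h3
      exact h3
    rcases mul_eq_zero.mp h2 with h | h
    · exact absurd h he0
    · exact h
  rw [hT, hφid, hlamlin, hl0, mul_zero, zero_add]

/-- the Weyl element is fixed -/
theorem aut_WS (hm : 1 ≤ m) (hF : Fintype.card F = 2 ^ (2 * m + 1)) (A : MulAut (Sz F m))
    (hT : ∀ a b : F, A (TS hF a b) = TS hF a b) (hH : ∀ k : Fˣ, A (HS hF k) = HS hF k)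
    (hw : A (WS hF) • oinf F m = opt m 0 0) : A (WS hF) = WS hF := by
  set w' := A (WS hF) with hw'
  have hww : w' * w' = 1 := by rw [hw', ← map_mul, WS_mul_self, map_one]
  have hw0 : w' • opt m (0 : F) 0 = oinf F m := by
    rw [← hw, ← mul_smul, hww, one_smul]
  have f1 : (WS hF * w') • oinf F m = oinf F m := by rw [mul_smul, hw, WS_opt_zero]
  have f2 : (WS hF * w') • opt m (0 : F) 0 = opt m 0 0 := by rw [mul_smul, hw0, WS_oinf]
  obtain ⟨l, hl⟩ := eq_HS_of_fix hm hF _ f1 f2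
  have hwl : w' = WS hF * HS hF l := by
    rw [← hl, ← mul_assoc, WS_mul_self, one_mul]
  -- the relation
  have hff1 : ff m (0 : F) 1 = 1 := by
    unfold ff
    rw [sg_zero, sg_one, zero_mul, zero_mul, zero_add, zero_add]
  set g := WS hF * TS hF 0 1 * WS hF with hg
  have hg1 : g • oinf F m = opt m 1 0 := by
    rw [hg, mul_smul, mul_smul, WS_oinf, TS_opt, WS_opt hF _ _ (by
      rw [zero_add, zero_add, sg_zero, zero_mul, add_zero, hff1]; exact one_ne_zero)]
    simp only [zero_add, sg_zero, zero_mul, add_zero, hff1, div_one]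
  have ht1 : TS hF (1 : F) 0 • opt m (0 : F) 0 = opt m 1 0 := by
    rw [TS_opt]
    simp only [zero_add, mul_zero, add_zero]
  set b₀ := WS hF * (TS hF (1 : F) 0)⁻¹ * g with hb₀
  have hb₀fix : b₀ • oinf F m = oinf F m := by
    rw [hb₀, mul_smul, mul_smul, hg1, inv_smul_eq_iff.mpr ht1.symm, WS_opt_zero]
  obtain ⟨a, b, k, hbk⟩ := fix_oinf hm hF b₀ hb₀fix
  have hAb : A b₀ = b₀ := by rw [hbk, map_mul, hT, hH]
  have hgb : g = TS hF (1 : F) 0 * WS hF * b₀ := by
    rw [hb₀]
    calc g = TS hF (1 : F) 0 * (WS hF * WS hF) * (TS hF (1 : F) 0)⁻¹ * g := by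
          rw [WS_mul_self, mul_one, mul_inv_cancel, one_mul]
      _ = _ := by group
  have hAg : w' * TS hF 0 1 * w' = TS hF (1 : F) 0 * w' * b₀ := by
    have := congrArg A hgb
    rw [hg, map_mul, map_mul, map_mul, map_mul, hT, hT, hAb] at this
    exact this
  have h1 : (w' * TS hF 0 1 * w') • oinf F m = opt m 1 0 := by
    rw [hAg, mul_smul, mul_smul, hb₀fix, hw, ht1]
  set κ : F := sg m (l : F) * (l : F) with hκ
  have hκ0 : κ ≠ 0 := sg_mul_self_ne_zero l.ne_zero
  have hffκ : ff m (0 : F) κ = sg m κ := by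
    unfold ff
    rw [sg_zero, zero_mul, zero_mul, zero_add, zero_add]
  have hsκ0 : sg m κ ≠ 0 := fun h => hκ0 ((sg_eq_zero_iff m κ).mp h)
  have h2 : (w' * TS hF 0 1 * w') • oinf F m = opt m (κ / sg m κ) (0 / sg m κ) := by
    rw [mul_smul, mul_smul, hw, TS_opt]
    simp only [zero_add, sg_zero, zero_mul, add_zero]
    rw [hwl, mul_smul, HS_opt, mul_zero, mul_one, WS_opt hF _ _ (by rw [hffκ]; exact hsκ0), hffκ]
  rw [h1] at h2
  have h3 : (1 : F) = κ / sg m κ := (opt_injective h2).1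
  have h4 : sg m κ = κ := by
    field_simp at h3
    exact h3
  have h5 : κ * κ = κ * 1 := by
    have : sg m (sg m κ) = κ ^ 2 := sg_sg hF κ
    rw [h4, h4] at this
    rw [mul_one, ← sq]
    exact this.symm
  have h6 : κ = 1 := mul_left_cancel₀ hκ0 h5
  have h7 : (l : F) = 1 := by
    apply sg_mul_self_injective (m := m) hF
    simp only [sg_one, one_mul]
    exact h6
  have h8 : l = 1 := Units.ext h7
  rw [hwl, h8, HS_one, mul_one]

/-- automorphisms fixing the centre of the standard Sylow 2-subgroup pointwise are inner -/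
theorem inner_of_fix_center (hm : 1 ≤ m) (hF : Fintype.card F = 2 ^ (2 * m + 1))
    (A : MulAut (Sz F m)) (hA : ∀ b : F, A (TS hF 0 b) = TS hF 0 b) :
    ∃ t : Sz F m, A = MulAut.conj t := by
  rcases ovoid_cases (A (WS hF) • oinf F m) with h | ⟨x, y, h⟩
  · exact absurd h (aut_W_ne hm hF A hA)
  set t := TS hF x y with ht
  set A₁ : MulAut (Sz F m) := MulAut.conj t⁻¹ * A with hA₁
  have hA₁Z : ∀ b : F, A₁ (TS hF 0 b) = TS hF 0 b := by
    intro b
    rw [hA₁, MulAut.mul_apply, MulAut.conj_apply, hA, inv_inv, ht, mul_assoc, ← TS_central,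
      ← mul_assoc, inv_mul_cancel, one_mul]
  have hw : A₁ (WS hF) • oinf F m = opt m 0 0 := by
    rw [hA₁, MulAut.mul_apply, MulAut.conj_apply, inv_inv, mul_smul, mul_smul, ht, TS_oinf, h,
      inv_smul_eq_iff, TS_opt]
    simp only [zero_add, mul_zero, add_zero]
  have hH := aut_HS hm hF A₁ hA₁Z hw
  have hT := aut_TS hm hF A₁ hA₁Z hH
  have hW := aut_WS hm hF A₁ hT hH hw
  have hid : ∀ g : Sz F m, A₁ g = g := by
    intro g
    rcases bruhat hm hF g with ⟨a, b, k, rfl⟩ | ⟨c, d, a, b, k, rfl⟩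
    · rw [map_mul, hT, hH]
    · rw [map_mul, map_mul, map_mul, hT, hT, hH, hW]
  refine ⟨t, ?_⟩
  apply MulEquiv.ext
  intro g
  have := hid g
  rw [hA₁, MulAut.mul_apply, MulAut.conj_apply, inv_inv] at this
  rw [MulAut.conj_apply]
  calc A g = t * (t⁻¹ * A g * t) * t⁻¹ := by group
    _ = t * g * t⁻¹ := by rw [this]

end ker

end Cfsg.Agent.Lib.Helper14.Sz
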