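import Mathlib
import Cfsg.Agent.Lib.Helper14.SzY
import Cfsg.Agent.Lib.Helper14.SzN

/-!
# Suzuki groups: elements of odd prime order fix no non-zero vector of the natural module, and
commute with no involution (helper14)
-/

set_option autoImplicit false
set_option maxHeartbeats 2000000
set_option linter.unusedSimpArgs false
set_option linter.unusedSectionVars false

namespace Cfsg.Agent.Lib.Helper14.Sz

open Cfsg
open scoped Pointwise

local notation "SL4" => Matrix.SpecialLinearGroup (Fin 4)

section fpf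

variable {F : Type*} [Field F] [Fintype F] [CharP F 2] {m : ℕ}

/-- a non-trivial torus element fixes no non-zero vector -/
theorem HS_no_fixed (hF : Fintype.card F = 2 ^ (2 * m + 1)) (k : Fˣ) (v : Fin 4 → F) (hv : v ≠ 0)
    (hfix : HS hF k • v = v) : k = 1 := by
  have hk0 : (k : F) ≠ 0 := k.ne_zero
  have hr0 : rho m (k : F) ≠ 0 := rho_ne_zero m hk0
  have hmv : ∀ i : Fin 4, (Hmat m (k : F)).mulVec v i = (Hmat m (k : F)) i i * v i := by
    intro i
    fin_cases i <;> simp [Hmat, Matrix.mulVec, dotProduct, Fin.sum_univ_four]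
  have hcomp : ∀ i : Fin 4, (Hmat m (k : F)) i i * v i = v i := by
    intro i
    rw [← hmv]
    exact congrFun hfix i
  -- some diagonal entry is `1`
  have hex : ∃ i : Fin 4, v i ≠ 0 := by
    by_contra h
    push Not at h
    exact hv (funext h)
  obtain ⟨i, hi⟩ := hex
  have hd : (Hmat m (k : F)) i i = 1 := by
    have := hcomp i
    have h2 : (Hmat m (k : F)) i i * v i = 1 * v i := by rw [one_mul]; exact this
    exact mul_right_cancel₀ hi h2
  have hrho1 : rho m (k : F) = 1 → k = 1 := by
    intro h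
    apply Units.ext
    apply sg_injective m
    rw [sg_eq_rho, h, Units.val_one, sg_one, one_pow]
  have hkrho1 : (k : F) * rho m (k : F) = 1 → k = 1 := by
    intro h
    have h1 : (k : F) ^ 2 * sg m (k : F) = 1 := by
      rw [sg_eq_rho, ← mul_pow, h, one_pow]
    have h2 : sg m (k : F) ^ 2 * (k : F) ^ 2 = 1 := by
      have := congrArg (sg m) h1
      rw [sg_mul, sg_pow, sg_sg hF, sg_one] at this
      exact this
    have h3 : sg m (k : F) = 1 := by
      calc sg m (k : F) = sg m (k : F) * ((k : F) ^ 2 * sg m (k : F)) := by rw [h1, mul_one]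
        _ = sg m (k : F) ^ 2 * (k : F) ^ 2 := by ring
        _ = 1 := h2
    apply Units.ext
    apply sg_injective m
    rw [h3, Units.val_one, sg_one]
  fin_cases i
  · apply hkrho1
    simpa [Hmat] using hd
  · apply hrho1
    simpa [Hmat] using hd
  · apply hrho1
    have : (rho m (k : F))⁻¹ = 1 := by simpa [Hmat] using hd
    exact inv_eq_one.mp this
  · apply hkrho1
    have : ((k : F) * rho m (k : F))⁻¹ = 1 := by simpa [Hmat] using hd
    exact inv_eq_one.mp this

/-- elements of odd prime order fix no non-zero vector -/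
theorem no_fixed_vector (hm : 1 ≤ m) (hF : Fintype.card F = 2 ^ (2 * m + 1)) (g : Sz F m)
    (hg1 : g ≠ 1) {s : ℕ} (hs : s.Prime) (hs2 : s ≠ 2) (hgs : g ^ s = 1) (v : Fin 4 → F)
    (hv : v ≠ 0) (hfix : g • v = v) : False := by
  classical
  haveI : Fact s.Prime := ⟨hs⟩
  have hord : orderOf g = s := orderOf_eq_prime hgs hg1
  set q : ℕ := 2 ^ (2 * m + 1) with hq
  by_cases hdiv : s ∣ q - 1
  · set Q : Subgroup (Sz F m) := Subgroup.zpowers g with hQ
    have hQp : IsPGroup s Q := IsPGroup.of_card (n := 1) (by rw [Nat.card_zpowers, hord, pow_one])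
    have h1 := hQp.card_modEq_card_fixedPoints (suzukiOvoid F m)
    rw [card_ovoid hF, ← hq] at h1
    have hq1 : 1 ≤ q := Nat.one_le_two_pow
    have h2 : q ≡ 1 [MOD s] := ((Nat.modEq_iff_dvd' hq1).mpr hdiv).symm
    have h3 : q ^ 2 + 1 ≡ 2 [MOD s] := by
      have := (h2.pow 2).add_right 1
      simpa using this
    have h4 : 2 ≡ Nat.card (MulAction.fixedPoints Q (suzukiOvoid F m)) [MOD s] :=
      h3.symm.trans h1
    have hp3 : 3 ≤ s := by
      have := hs.two_le
      omega
    have h5 : 1 < Nat.card (MulAction.fixedPoints Q (suzukiOvoid F m)) := by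
      by_contra hle
      push Not at hle
      interval_cases hc : Nat.card (MulAction.fixedPoints Q (suzukiOvoid F m))
      · have := (Nat.modEq_zero_iff_dvd.mp h4)
        have := Nat.le_of_dvd (by norm_num) this
        omega
      · have := (Nat.modEq_iff_dvd' (by norm_num : 1 ≤ 2)).mp h4.symm
        have := Nat.le_of_dvd (by norm_num) this
        omega
    haveI : Nontrivial (MulAction.fixedPoints Q (suzukiOvoid F m)) :=
      Finite.one_lt_card_iff_nontrivial.mp h5
    obtain ⟨a, b, hab⟩ := exists_pair_ne (MulAction.fixedPoints Q (suzukiOvoid F m))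
    have hab' : a.1 ≠ b.1 := fun e => hab (Subtype.ext e)
    have hga : g • a.1 = a.1 := a.2 ⟨g, Subgroup.mem_zpowers g⟩
    have hgb : g • b.1 = b.1 := b.2 ⟨g, Subgroup.mem_zpowers g⟩
    obtain ⟨x, hxa, hxb⟩ := to_std hF a.1 b.1 hab'
    obtain ⟨k, hk⟩ := eq_HS_of_fix hm hF (x * g * x⁻¹)
      (by rw [mul_smul, mul_smul, ← hxa, inv_smul_smul, hga])
      (by rw [mul_smul, mul_smul, ← hxb, inv_smul_smul, hgb])
    have hv' : x • v ≠ 0 := by
      intro h
      exact hv ((smul_eq_zero_iff_eq x).mp h)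
    have hfix' : HS hF k • (x • v) = x • v := by
      rw [← hk, mul_smul, mul_smul, inv_smul_smul, hfix]
    have hk1 := HS_no_fixed hF k (x • v) hv' hfix'
    rw [hk1, HS_one] at hk
    apply hg1
    calc g = x⁻¹ * (x * g * x⁻¹) * x := by group
      _ = 1 := by rw [hk]; group
  · have hdvd : s ∣ Nat.card (Sz F m) := by
      rw [← hord]
      exact orderOf_dvd_natCard g
    rw [card_Sz hm hF, ← hq] at hdvd
    have hdvd2 : s ∣ q ^ 2 + 1 := by
      rcases (Nat.Prime.dvd_mul hs).mp hdvd with h1 | h1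
      · rcases (Nat.Prime.dvd_mul hs).mp h1 with h2 | h2
        · exfalso
          have h3 := hs.dvd_of_dvd_pow h2
          have h4 := hs.dvd_of_dvd_pow h3
          exact hs2 ((Nat.prime_dvd_prime_iff_eq hs Nat.prime_two).mp h4)
        · exact h2
      · exact absurd h1 hdiv
    obtain ⟨hx0, hx1, hx2, hx3⟩ := zmod_conds hs2 q hdvd2
    set A : Matrix (Fin 4) (Fin 4) F := matHom F m g with hA
    have hAp : A ^ s = 1 := by rw [hA, ← map_pow, hgs, map_one]
    have hA1 : A ≠ 1 := by
      intro e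
      rw [hA, ← map_one (matHom F m)] at e
      exact hg1 (matHom_injective e)
    have hirr : Irr A := by
      apply irr_of_order A hAp hA1
      · rw [hF]; exact hx0
      · rw [hF]; exact hx1
      · rw [hF]; exact hx2
      · rw [hF]; exact hx3
    have hvfix : v ∈ fixSub A := hfix
    rcases hirr (fixSub A) (fun w hw => by
      have hw' : A.mulVec w = w := hw
      show A.mulVec (A.mulVec w) = A.mulVec w
      rw [hw']
      exact hw') with h | h
    · rw [h] at hvfix
      exact hv ((Submodule.mem_bot F).mp hvfix)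
    · apply hA1
      rw [Matrix.ext_iff_mulVec]
      intro w
      have : w ∈ fixSub A := by rw [h]; trivial
      rw [Matrix.one_mulVec]
      exact this

/-- no involution commutes with an element of odd prime order -/
theorem no_inv_comm (hm : 1 ≤ m) (hF : Fintype.card F = 2 ^ (2 * m + 1)) (t z : Sz F m)
    (ht1 : t ≠ 1) (ht2 : t * t = 1) (hz1 : z ≠ 1) {s : ℕ} (hs : Odd s) (hzs : z ^ s = 1)
    (hcomm : t * z = z * t) : False := by
  obtain ⟨x, hx⟩ := involution_conj hm hF t ht1 ht2
  have h1 : (x * z * x⁻¹) * TS hF 0 1 = TS hF 0 1 * (x * z * x⁻¹) := by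
    rw [← hx]
    calc x * z * x⁻¹ * (x * t * x⁻¹) = x * (z * t) * x⁻¹ := by group
      _ = x * (t * z) * x⁻¹ := by rw [hcomm]
      _ = _ := by group
  obtain ⟨a, b, hab⟩ := centralizer_z1 hm hF _ h1
  have h4 : (x * z * x⁻¹) ^ 4 = 1 := by
    rw [hab]
    have : (TS hF a b) ^ 4 = (TS hF a b * TS hF a b) * (TS hF a b * TS hF a b) := by
      rw [pow_succ, pow_succ, pow_succ, pow_one, mul_assoc]
    rw [this, TS_mul, CharTwo.add_self_eq_zero, CharTwo.add_self_eq_zero, TS_mul,
      CharTwo.add_self_eq_zero, sg_zero, zero_mul, add_zero, CharTwo.add_self_eq_zero, TS_zero]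
  have hs' : (x * z * x⁻¹) ^ s = 1 := by
    rw [conj_pow, hzs]; group
  have h5 : orderOf (x * z * x⁻¹) ∣ Nat.gcd 4 s := Nat.dvd_gcd (orderOf_dvd_of_pow_eq_one h4)
    (orderOf_dvd_of_pow_eq_one hs')
  have h6 : Nat.gcd 4 s = 1 := by
    have : Nat.Coprime (2 ^ 2) s := Nat.Coprime.pow_left 2 (Nat.coprime_two_left.mpr hs)
    exact this
  rw [h6, Nat.dvd_one, orderOf_eq_one_iff] at h5
  apply hz1
  calc z = x⁻¹ * (x * z * x⁻¹) * x := by group
    _ = 1 := by rw [h5]; group

end fpf

end Cfsg.Agent.Lib.Helper14.Sz
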