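import Mathlib
import Cfsg.Prelude.Def_Sz
import Cfsg.Agent.Lib.Helper14.SzQ

/-!
# The two models of the Suzuki groups, part 1: the matrix conditions (helper14)
-/

set_option autoImplicit false
set_option maxHeartbeats 2000000
set_option linter.unusedSimpArgs false
set_option linter.unusedSectionVars false

namespace Cfsg.Agent.Lib.Helper14.Sz

open Cfsg Cfsg.Lie
open scoped Pointwise

local notation "SL4" => Matrix.SpecialLinearGroup (Fin 4)

section spm

variable {F : Type*} [Field F]

theorem altForm4_eq (u v : Fin 4 → F) :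
    altForm4 u v = dotProduct u ((suzukiForm F).mulVec v) := by
  simp [altForm4, suzukiForm, Matrix.mulVec, dotProduct, Fin.sum_univ_four]

/-- the symplectic condition in the form used by `Cfsg.Lie.Sp4` -/
def SpM (M : Matrix (Fin 4) (Fin 4) F) : Prop :=
  ∀ u v : Fin 4 → F, altForm4 (M.mulVec u) (M.mulVec v) = altForm4 u v

theorem altForm4_mulVec (M : Matrix (Fin 4) (Fin 4) F) (u v : Fin 4 → F) :
    altForm4 (M.mulVec u) (M.mulVec v) =
      dotProduct u ((M.transpose * suzukiForm F * M).mulVec v) := by
  rw [altForm4_eq, dotProduct_comm, Matrix.dotProduct_mulVec, ← Matrix.mulVec_transpose,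
    dotProduct_comm, Matrix.mulVec_mulVec, Matrix.mulVec_mulVec, Matrix.mul_assoc]

theorem spM_iff (M : Matrix (Fin 4) (Fin 4) F) :
    SpM M ↔ M.transpose * suzukiForm F * M = suzukiForm F := by
  constructor
  · intro h
    rw [Matrix.ext_iff_mulVec]
    intro v
    apply dotProduct_eq
    intro u
    rw [dotProduct_comm, ← altForm4_mulVec, h u v, altForm4_eq, dotProduct_comm]
  · intro h u v
    rw [altForm4_mulVec, h, altForm4_eq]

theorem form_sq : suzukiForm F * suzukiForm F = 1 := by
  ext i j
  rw [Matrix.mul_apply, Fin.sum_univ_four]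
  fin_cases i <;> fin_cases j <;> simp [suzukiForm]

/-- the transposed symplectic condition -/
theorem formPres_transpose {M : Matrix (Fin 4) (Fin 4) F}
    (h : M.transpose * suzukiForm F * M = suzukiForm F) :
    M * suzukiForm F * M.transpose = suzukiForm F := by
  have h1 : (suzukiForm F * M.transpose * suzukiForm F) * M = 1 := by
    rw [Matrix.mul_assoc, Matrix.mul_assoc, ← Matrix.mul_assoc M.transpose, h, form_sq]
  have h2 : M * (suzukiForm F * M.transpose * suzukiForm F) = 1 := mul_eq_one_comm.mp h1
  calc M * suzukiForm F * M.transpose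
      = M * (suzukiForm F * M.transpose * suzukiForm F) * suzukiForm F := by
        simp only [Matrix.mul_assoc]
        rw [form_sq, Matrix.mul_one]
    _ = suzukiForm F := by rw [h2, Matrix.one_mul]

theorem cols_of_formPres {M : Matrix (Fin 4) (Fin 4) F}
    (h : M.transpose * suzukiForm F * M = suzukiForm F) (i j : Fin 4) :
    M 0 i * M 3 j + M 1 i * M 2 j + M 2 i * M 1 j + M 3 i * M 0 j = suzukiForm F i j := by
  have := congrFun (congrFun h i) j
  rw [Matrix.mul_apply, Fin.sum_univ_four] at this
  simp only [Matrix.mul_apply, Fin.sum_univ_four, Matrix.transpose_apply] at this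
  rw [← this]
  simp [suzukiForm]
  ring

theorem rows_of_formPres {M : Matrix (Fin 4) (Fin 4) F}
    (h : M.transpose * suzukiForm F * M = suzukiForm F) (k l : Fin 4) :
    M k 0 * M l 3 + M k 1 * M l 2 + M k 2 * M l 1 + M k 3 * M l 0 = suzukiForm F k l := by
  have := congrFun (congrFun (formPres_transpose h) k) l
  rw [Matrix.mul_apply, Fin.sum_univ_four] at this
  simp only [Matrix.mul_apply, Fin.sum_univ_four, Matrix.transpose_apply] at this
  rw [← this]
  simp [suzukiForm]
  ring

/-- `2 × 2` minors -/
def mn (A : Matrix (Fin 4) (Fin 4) F) (k l i j : Fin 4) : F := A k i * A l j - A l i * A k j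

theorem star4_apply (A : Matrix (Fin 4) (Fin 4) F) (p r : Fin 4) :
    star4 A p r = mn A (pairOf p).1 (pairOf p).2 (pairOf r).1 (pairOf r).2 := rfl

theorem cauchy_binet (A B : Matrix (Fin 4) (Fin 4) F) (k l i j : Fin 4) :
    mn (A * B) k l i j = mn A k l 0 1 * mn B 0 1 i j + mn A k l 0 2 * mn B 0 2 i j +
      mn A k l 0 3 * mn B 0 3 i j + mn A k l 1 2 * mn B 1 2 i j +
      mn A k l 1 3 * mn B 1 3 i j + mn A k l 2 3 * mn B 2 3 i j := by
  simp only [mn, Matrix.mul_apply, Fin.sum_univ_four]
  ring

theorem pairOf_form (p : Fin 4) : suzukiForm F (pairOf p).1 (pairOf p).2 = 0 := by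
  fin_cases p <;> simp [pairOf, suzukiForm]

variable [CharP F 2]

theorem two_eq_zero' : (2 : F) = 0 := CharTwo.two_eq_zero

theorem star4_mul (A B : Matrix (Fin 4) (Fin 4) F)
    (hA : A.transpose * suzukiForm F * A = suzukiForm F)
    (hB : B.transpose * suzukiForm F * B = suzukiForm F) :
    star4 (A * B) = star4 A * star4 B := by
  ext p r
  rw [star4_apply, cauchy_binet, Matrix.mul_apply, Fin.sum_univ_four]
  simp only [star4_apply]
  have e0 : pairOf 0 = (0, 1) := rfl
  have e1 : pairOf 1 = (0, 2) := rfl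
  have e2 : pairOf 2 = (1, 3) := rfl
  have e3 : pairOf 3 = (2, 3) := rfl
  rw [e0, e1, e2, e3]
  simp only
  set k := (pairOf p).1
  set l := (pairOf p).2
  set i := (pairOf r).1
  set j := (pairOf r).2
  have hrow := rows_of_formPres hA k l
  rw [pairOf_form p] at hrow
  have hcol := cols_of_formPres hB i j
  rw [pairOf_form r] at hcol
  have c2' : (2 : F) = 0 := CharTwo.two_eq_zero
  have hα : mn A k l 0 3 = mn A k l 1 2 := by
    unfold mn
    linear_combination hrow - (A l 0 * A k 3 + A k 1 * A l 2) * c2'
  have hβ : mn B 0 3 i j = mn B 1 2 i j := by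
    unfold mn
    linear_combination hcol - (B 3 i * B 0 j + B 1 i * B 2 j) * c2'
  rw [hα, hβ]
  linear_combination (mn A k l 1 2 * mn B 1 2 i j) * c2'

end spm

end Cfsg.Agent.Lib.Helper14.Sz
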