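import Mathlib
import Cfsg.Prelude.Def_Sz
import Cfsg.Agent.Lib.Helper14.SzR

/-!
# The two models of the Suzuki groups, part 2: the standard elements satisfy the conditions
(helper14)
-/

set_option autoImplicit false
set_option maxHeartbeats 2000000
set_option linter.unusedSimpArgs false
set_option linter.unusedSectionVars false
set_option linter.unusedTactic false
set_option linter.unreachableTactic false

namespace Cfsg.Agent.Lib.Helper14.Sz

open Cfsg Cfsg.Lie
open scoped Pointwise

local notation "SL4" => Matrix.SpecialLinearGroup (Fin 4)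

theorem pairOf_0 : pairOf 0 = (0, 1) := rfl
theorem pairOf_1 : pairOf 1 = (0, 2) := rfl
theorem pairOf_2 : pairOf 2 = (1, 3) := rfl
theorem pairOf_3 : pairOf 3 = (2, 3) := rfl

section inl

variable {F : Type*} [Field F] [Fintype F] [CharP F 2] {m : ℕ}

/-- the defining condition of `Cfsg.Lie.Sz` on matrices -/
def InL (m : ℕ) (M : Matrix (Fin 4) (Fin 4) F) : Prop :=
  M.transpose * suzukiForm F * M = suzukiForm F ∧ star4 M = M.map (fun x => x ^ 2 ^ (m + 1))

theorem map_theta (M : Matrix (Fin 4) (Fin 4) F) :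
    M.map (fun x => x ^ 2 ^ (m + 1)) = M.map (iterateFrobenius F 2 (m + 1)) := by
  ext i j
  simp [iterateFrobenius_def]

theorem InL.mul {M N : Matrix (Fin 4) (Fin 4) F} (hM : InL m M) (hN : InL m N) :
    InL m (M * N) := by
  refine ⟨FormPres.mul hM.1 hN.1, ?_⟩
  rw [star4_mul M N hM.1 hN.1, hM.2, hN.2, map_theta, map_theta, map_theta, Matrix.map_mul]

theorem InL.one : InL m (1 : Matrix (Fin 4) (Fin 4) F) := by
  constructor
  · rw [Matrix.transpose_one, Matrix.one_mul, Matrix.mul_one]
  · have h1 : star4 (1 : Matrix (Fin 4) (Fin 4) F) = 1 := by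
      ext p r
      rw [star4_apply]
      unfold mn
      simp only [Matrix.one_apply]
      fin_cases p <;> fin_cases r <;> simp [pairOf]
    rw [h1]
    ext i j
    rw [Matrix.map_apply, Matrix.one_apply]
    by_cases h : i = j
    · simp [h]
    · simp [h]

theorem InL.pow {M : Matrix (Fin 4) (Fin 4) F} (hM : InL m M) (n : ℕ) : InL m (M ^ n) := by
  induction n with
  | zero => rw [pow_zero]; exact InL.one
  | succ n ih => rw [pow_succ]; exact ih.mul hM

theorem InL_Wmat : InL m (Wmat F) := by
  refine ⟨formPres_Wmat, ?_⟩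
  ext p r
  fin_cases p <;> fin_cases r <;> simp [star4, pairOf_0, pairOf_1, pairOf_2, pairOf_3, Wmat]
  all_goals exact CharTwo.neg_eq 1

theorem InL_Hmat (hF : Fintype.card F = 2 ^ (2 * m + 1)) {k : F} (hk : k ≠ 0) :
    InL m (Hmat m k) := by
  refine ⟨formPres_Hmat hk, ?_⟩
  have hr : rho m k ≠ 0 := rho_ne_zero m hk
  have hsg : ∀ x : F, x ^ 2 ^ (m + 1) = sg m x := fun x => rfl
  have hsr : sg m (rho m k) = k := by
    apply sq_injective
    show sg m (rho m k) ^ 2 = k ^ 2
    rw [← sg_pow, ← sg_eq_rho, sg_sg hF]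
  ext p r
  fin_cases p <;> fin_cases r <;>
    simp [star4, pairOf_0, pairOf_1, pairOf_2, pairOf_3, Hmat, hsg, sg_mul, sg_inv, hsr, sg_zero,
      sg_one]
  all_goals first
    | (rw [sg_eq_rho]
       ring1)
    | (rw [sg_eq_rho]
       field_simp
       done)
    | (rw [sg_eq_rho]
       field_simp
       ring1)
    | (field_simp
       done)
    | (field_simp
       ring1)

theorem InL_Tmat (hF : Fintype.card F = 2 ^ (2 * m + 1)) (a b : F) : InL m (Tmat m a b) := by
  refine ⟨formPres_Tmat a b, ?_⟩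
  have hsg : ∀ x : F, x ^ 2 ^ (m + 1) = sg m x := fun x => rfl
  ext p r
  fin_cases p <;> fin_cases r <;>
    simp [star4, pairOf_0, pairOf_1, pairOf_2, pairOf_3, Tmat, hsg, sg_zero, sg_one]
  all_goals
    try unfold ff
    simp only [sg_add, sg_mul, sg_sg hF, sg_pow, sub_eq_add_neg, CharTwo.neg_eq]
    rw [← CharTwo.add_eq_zero]
    ring_nf
    simp only [c2, c4, c6, c8, mul_zero, add_zero]

end inl

end Cfsg.Agent.Lib.Helper14.Sz
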