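import Mathlib
import Cfsg.Prelude.Def_Sz
import Cfsg.Agent.Lib.Helper14.SzS

/-!
# The two models of the Suzuki groups, part 3: analysis of the matrix conditions (helper14)
-/

set_option autoImplicit false
set_option maxHeartbeats 2000000
set_option linter.unusedSimpArgs false
set_option linter.unusedSectionVars false
set_option linter.unusedTactic false
set_option linter.unreachableTactic false

namespace Cfsg.Agent.Lib.Helper14.Sz

open Cfsg Cfsg.Lie
open scoped Pointwise

local notation "SL4" => Matrix.SpecialLinearGroup (Fin 4)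

section analysis

variable {F : Type*} [Field F] [Fintype F] [CharP F 2] {m : ℕ}

theorem char2_eq_of_sub {x y z : F} (h : x - y = z) : x + y + z = 0 := by
  rw [sub_eq_add_neg, CharTwo.neg_eq] at h
  rw [h]
  exact CharTwo.add_self_eq_zero z

/-- the first column of a matrix satisfying the conditions is a point of the ovoid -/
theorem col0_mem_ovoid (hF : Fintype.card F = 2 ^ (2 * m + 1)) (M : Matrix (Fin 4) (Fin 4) F)
    (hM : InL m M) (hv : (fun i => M i 0) ≠ 0) :
    Projectivization.mk F (fun i => M i 0) hv ∈ suzukiOvoid F m := by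
  have hsg : ∀ x : F, x ^ 2 ^ (m + 1) = sg m x := fun x => rfl
  have E0 := congrFun (congrFun hM.2 0) 0
  have E1 := congrFun (congrFun hM.2 1) 0
  have E2 := congrFun (congrFun hM.2 2) 0
  have E3 := congrFun (congrFun hM.2 3) 0
  simp only [star4_apply, mn, pairOf_0, pairOf_1, pairOf_2, pairOf_3, Matrix.map_apply, hsg]
    at E0 E1 E2 E3
  have S := cols_of_formPres hM.1 0 1
  have hJ : suzukiForm F 0 1 = 0 := by simp [suzukiForm]
  rw [hJ] at S
  set v0 := M 0 0 with hv0
  set v1 := M 1 0 with hv1
  set v2 := M 2 0 with hv2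
  set v3 := M 3 0 with hv3
  set u0 := M 0 1 with hu0
  set u1 := M 1 1 with hu1
  set u2 := M 2 1 with hu2
  set u3 := M 3 1 with hu3
  have E1' := char2_eq_of_sub E1
  have E2' := char2_eq_of_sub E2
  have E3' := char2_eq_of_sub E3
  rw [mem_ovoid_iff]
  by_cases h3 : v3 = 0
  · left
    rw [h3, zero_mul, sg_zero, sub_zero] at E3
    rw [h3, zero_mul, sub_zero] at E2
    have hv2z : v2 = 0 := by
      by_contra hne
      have hu3z : u3 = 0 := by
        rcases mul_eq_zero.mp E3 with h | h
        · exact absurd h hne
        · exact h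
      rw [hu3z, mul_zero] at E2
      exact hne ((sg_eq_zero_iff m v2).mp E2.symm)
    rw [hv2z, sg_zero] at E2
    rw [hv2z, zero_mul, sub_zero] at E1
    rw [hv2z, h3, zero_mul, zero_mul, add_zero, add_zero] at S
    have hv1z : v1 = 0 := by
      by_contra hne
      have hu3z : u3 = 0 := by
        rcases mul_eq_zero.mp E2 with h | h
        · exact absurd h hne
        · exact h
      rw [hu3z, mul_zero, zero_add] at S
      have hu2z : u2 = 0 := by
        rcases mul_eq_zero.mp S with h | h
        · exact absurd h hne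
        · exact h
      rw [hu2z, mul_zero] at E1
      exact hne ((sg_eq_zero_iff m v1).mp E1.symm)
    have hv0z : v0 ≠ 0 := by
      intro h0
      apply hv
      funext i
      fin_cases i
      · exact h0
      · exact hv1z
      · exact hv2z
      · exact h3
    rw [pinf_eq, Projectivization.mk_eq_mk_iff']
    refine ⟨v0, ?_⟩
    funext i
    fin_cases i
    · simp [vinf, hv0]
    · simp [vinf]
      exact hv1z.symm
    · simp [vinf]
      exact hv2z.symm
    · simp [vinf]
      exact h3.symm
  · right
    refine ⟨v2 / v3, v1 / v3, ?_⟩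
    unfold pt
    rw [Projectivization.mk_eq_mk_iff']
    refine ⟨v3, ?_⟩
    have key : v0 * (sg m v3 * v3) + v1 * v2 * sg m v3 + sg m v2 * v2 ^ 2 + sg m v1 * v3 ^ 2 =
        v3 ^ 2 * (v0 * u2 + v2 * u0 + sg m v1) +
          v3 * v2 * (v0 * u3 + v1 * u2 + v2 * u1 + v3 * u0) +
          (v0 * v3 + v1 * v2) * (v2 * u3 + v3 * u2 + sg m v3) +
          v2 ^ 2 * (v1 * u3 + v3 * u1 + sg m v2) := by
      rw [← CharTwo.add_eq_zero]
      ring_nf
      simp only [c2, c4, c6, c8, mul_zero, add_zero]
    rw [E1', S, E3', E2', mul_zero, mul_zero, mul_zero, mul_zero, add_zero, add_zero,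
      add_zero] at key
    have hs3 : sg m v3 ≠ 0 := fun e => h3 ((sg_eq_zero_iff m v3).mp e)
    have hff : v3 * ff m (v2 / v3) (v1 / v3) = v0 := by
      have key2 : v0 * (sg m v3 * v3) = v1 * v2 * sg m v3 + sg m v2 * v2 ^ 2 + sg m v1 * v3 ^ 2 := by
        apply CharTwo.add_eq_zero.mp
        rw [← key]
        ring
      unfold ff
      rw [sg_div, sg_div]
      field_simp
      linear_combination (-1 : F) * key2
    funext i
    fin_cases i
    · simp [vec]
      exact hff
    · simp [vec]
      field_simp
      exact hv1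
    · simp [vec]
      field_simp
      exact hv2
    · simp [vec]
      exact hv3

end analysis

end Cfsg.Agent.Lib.Helper14.Sz
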