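import Mathlib
import Cfsg.Prelude.Def_Sz
import Cfsg.Agent.Lib.Helper14.SzT

/-!
# The two models of the Suzuki groups, part 4: the isomorphism (helper14)
-/

set_option autoImplicit false
set_option maxHeartbeats 2000000
set_option linter.unusedSimpArgs false
set_option linter.unusedSectionVars false
set_option linter.unusedTactic false
set_option linter.unreachableTactic false

namespace Cfsg.Agent.Lib.Helper14.Sz

open Cfsg Cfsg.Lie
open scoped Pointwise

local notation "SL4" => Matrix.SpecialLinearGroup (Fin 4)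

section iso

variable {F : Type*} [Field F] [Fintype F] [CharP F 2] {m : ℕ}

theorem form_vals : suzukiForm F 0 3 = 1 ∧ suzukiForm F 1 0 = 0 ∧ suzukiForm F 2 0 = 0 ∧
    suzukiForm F 1 3 = 0 ∧ suzukiForm F 2 3 = 0 ∧ suzukiForm F 1 2 = 1 := by
  refine ⟨?_, ?_, ?_, ?_, ?_, ?_⟩ <;> simp [suzukiForm]

/-- a matrix satisfying the conditions, with first and last columns multiples of basis vectors -/
theorem eq_Hmat_of_diag (hF : Fintype.card F = 2 ^ (2 * m + 1)) (M : Matrix (Fin 4) (Fin 4) F)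
    (hM : InL m M) (h10 : M 1 0 = 0) (h20 : M 2 0 = 0) (h30 : M 3 0 = 0)
    (h03 : M 0 3 = 0) (h13 : M 1 3 = 0) (h23 : M 2 3 = 0) :
    ∃ k : F, k ≠ 0 ∧ M = Hmat m k := by
  have hsg : ∀ x : F, x ^ 2 ^ (m + 1) = sg m x := fun x => rfl
  obtain ⟨f03, f10, f20, f13, f23, f12⟩ := form_vals (F := F)
  have c03 := cols_of_formPres hM.1 0 3
  have c10 := cols_of_formPres hM.1 1 0
  have c20 := cols_of_formPres hM.1 2 0
  have c13 := cols_of_formPres hM.1 1 3
  have c23 := cols_of_formPres hM.1 2 3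
  have c12 := cols_of_formPres hM.1 1 2
  rw [f03, h10, h20, h30, zero_mul, zero_mul, zero_mul, add_zero, add_zero, add_zero] at c03
  have h00 : M 0 0 ≠ 0 := by
    intro e
    rw [e, zero_mul] at c03
    exact zero_ne_one c03
  have h33 : M 3 3 ≠ 0 := by
    intro e
    rw [e, mul_zero] at c03
    exact zero_ne_one c03
  rw [f10, h10, h20, h30, mul_zero, mul_zero, mul_zero, zero_add, zero_add, zero_add] at c10
  have h31 : M 3 1 = 0 := by
    rcases mul_eq_zero.mp c10 with h | h
    · exact h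
    · exact absurd h h00
  rw [f20, h10, h20, h30, mul_zero, mul_zero, mul_zero, zero_add, zero_add, zero_add] at c20
  have h32 : M 3 2 = 0 := by
    rcases mul_eq_zero.mp c20 with h | h
    · exact h
    · exact absurd h h00
  rw [f13, h13, h23, h03, mul_zero, mul_zero, mul_zero, add_zero, add_zero, add_zero] at c13
  have h01 : M 0 1 = 0 := by
    rcases mul_eq_zero.mp c13 with h | h
    · exact h
    · exact absurd h h33
  rw [f23, h13, h23, h03, mul_zero, mul_zero, mul_zero, add_zero, add_zero, add_zero] at c23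
  have h02 : M 0 2 = 0 := by
    rcases mul_eq_zero.mp c23 with h | h
    · exact h
    · exact absurd h h33
  have s01 := congrFun (congrFun hM.2 0) 1
  have s10 := congrFun (congrFun hM.2 1) 0
  have s11 := congrFun (congrFun hM.2 1) 1
  simp only [star4_apply, mn, pairOf_0, pairOf_1, pairOf_2, pairOf_3, Matrix.map_apply, hsg]
    at s01 s10 s11
  rw [h10, h01, zero_mul, sub_zero, sg_zero] at s01
  have h12 : M 1 2 = 0 := by
    rcases mul_eq_zero.mp s01 with h | h
    · exact absurd h h00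
    · exact h
  rw [h20, h10, zero_mul, sub_zero, sg_zero] at s10
  have h21 : M 2 1 = 0 := by
    rcases mul_eq_zero.mp s10 with h | h
    · exact absurd h h00
    · exact h
  rw [h20, zero_mul, sub_zero] at s11
  rw [f12, h01, h31, h21, zero_mul, zero_mul, zero_mul, zero_add, add_zero, add_zero] at c12
  set ρ := M 1 1 with hρ
  have hρ0 : ρ ≠ 0 := by
    intro e
    rw [e, zero_mul] at c12
    exact zero_ne_one c12
  have h22 : M 2 2 = ρ⁻¹ := eq_inv_of_mul_eq_one_right c12
  have h00' : M 0 0 = sg m ρ * ρ := by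
    have : M 0 0 * (M 2 2 * ρ) = sg m ρ * ρ := by rw [← mul_assoc, s11]
    rw [h22, inv_mul_cancel₀ hρ0, mul_one] at this
    exact this
  have h33' : M 3 3 = (sg m ρ * ρ)⁻¹ := by
    rw [← h00']
    exact eq_inv_of_mul_eq_one_right c03
  have hk0 : sg m ρ ≠ 0 := fun e => hρ0 ((sg_eq_zero_iff m ρ).mp e)
  have hrho : rho m (sg m ρ) = ρ := by
    unfold rho sg
    rw [← pow_mul, ← pow_add]
    have : m + 1 + m = 2 * m + 1 := by ring
    rw [this, ← hF]
    exact FiniteField.pow_card ρ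
  refine ⟨sg m ρ, hk0, ?_⟩
  ext i j
  fin_cases i <;> fin_cases j <;> simp [Hmat, hrho]
  · exact h00'
  · exact h01
  · exact h02
  · exact h03
  · exact h10
  · exact hρ.symm
  · exact h12
  · exact h13
  · exact h20
  · exact h21
  · exact h22
  · exact h23
  · exact h30
  · exact h31
  · exact h32
  · rw [h33', mul_inv, mul_comm]

/-- the matrix of an element of the Suzuki group -/
def matOf (x : Sz F m) : Matrix (Fin 4) (Fin 4) F := ((x : SL4 F) : Matrix (Fin 4) (Fin 4) F)

theorem matOf_mul (x y : Sz F m) : matOf (x * y) = matOf x * matOf y := rfl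

theorem matOf_inv_mul (x : Sz F m) : matOf x⁻¹ * matOf x = 1 := by
  rw [← matOf_mul, inv_mul_cancel]
  rfl

theorem matOf_mul_inv (x : Sz F m) : matOf x * matOf x⁻¹ = 1 := by
  rw [← matOf_mul, mul_inv_cancel]
  rfl

theorem InL_matOf (hm : 1 ≤ m) (hF : Fintype.card F = 2 ^ (2 * m + 1)) (x : Sz F m) :
    InL m (matOf x) := by
  rcases bruhat hm hF x with ⟨a, b, k, rfl⟩ | ⟨c, d, a, b, k, rfl⟩
  · exact (InL_Tmat hF a b).mul (InL_Hmat hF k.ne_zero)
  · exact ((InL_Tmat hF c d).mul InL_Wmat).mul ((InL_Tmat hF a b).mul (InL_Hmat hF k.ne_zero))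

theorem lemmaA (hF : Fintype.card F = 2 ^ (2 * m + 1)) (N : Matrix (Fin 4) (Fin 4) F)
    (hN : InL m N) (h10 : N 1 0 = 0) (h20 : N 2 0 = 0) (h30 : N 3 0 = 0) :
    ∃ (a b k : F), k ≠ 0 ∧ N = Tmat m a b * Hmat m k := by
  obtain ⟨f03, -, -, -, -, -⟩ := form_vals (F := F)
  have hNW : InL m (N * Wmat F) := hN.mul InL_Wmat
  have hcol : ∀ i, (N * Wmat F) i 0 = N i 3 := by
    intro i
    rw [Matrix.mul_apply, Fin.sum_univ_four]
    simp [Wmat]
  have c03 := cols_of_formPres hN.1 0 3
  rw [f03, h10, h20, h30, zero_mul, zero_mul, zero_mul, add_zero, add_zero, add_zero] at c03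
  have h33 : N 3 3 ≠ 0 := by
    intro e
    rw [e, mul_zero] at c03
    exact zero_ne_one c03
  have hw : (fun i => (N * Wmat F) i 0) ≠ 0 := by
    intro e
    have := congrFun e 3
    simp only [hcol] at this
    exact h33 this
  have hmem := col0_mem_ovoid hF _ hNW hw
  rw [mem_ovoid_iff] at hmem
  rcases hmem with h | ⟨x, y, h⟩
  · exfalso
    rw [pinf_eq, Projectivization.mk_eq_mk_iff'] at h
    obtain ⟨c, hc⟩ := h
    have := congrFun hc 3
    simp only [hcol, Pi.smul_apply, vinf, smul_eq_mul] at this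
    apply h33
    rw [← this]
    simp
  · unfold pt at h
    rw [Projectivization.mk_eq_mk_iff'] at h
    obtain ⟨c, hc⟩ := h
    have hc3 : ∀ i, N i 3 = c * vec m x y i := by
      intro i
      rw [← hcol]
      exact (congrFun hc i).symm
    set Tinv := Tmat m x (y + sg m x * x) with hTinv
    have hTT : Tmat m x y * Tinv = 1 := by
      have h1 := congrArg Subtype.val (mul_inv_cancel (Tg m x y))
      rw [Tg_inv hF] at h1
      exact h1
    set N₃ := Tinv * N with hN₃def
    have hN₃ : InL m N₃ := (InL_Tmat hF _ _).mul hN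
    have col0 : ∀ i, N₃ i 0 = Tinv i 0 * N 0 0 := by
      intro i
      rw [hN₃def, Matrix.mul_apply, Fin.sum_univ_four, h10, h20, h30]
      ring
    have hTv : Tinv.mulVec (vec m x y) = vec m 0 0 := by
      have h1 := Tg_vec hF x (y + sg m x * x) x y
      have h2 : Tg m x (y + sg m x * x) • vec m x y = Tinv.mulVec (vec m x y) := rfl
      rw [← h2, h1]
      congr 1
      · exact CharTwo.add_self_eq_zero x
      · rw [← CharTwo.add_eq_zero]
        ring_nf
        simp only [c2, c4, c6, c8, mul_zero, add_zero]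
    have col3 : ∀ i, N₃ i 3 = c * vec m (0 : F) 0 i := by
      intro i
      rw [← hTv, hN₃def, Matrix.mul_apply, Matrix.mulVec, dotProduct, Finset.mul_sum]
      apply Finset.sum_congr rfl
      intro l _
      rw [hc3]
      ring
    have hT0 : Tinv 1 0 = 0 ∧ Tinv 2 0 = 0 ∧ Tinv 3 0 = 0 := by
      refine ⟨?_, ?_, ?_⟩ <;> simp [hTinv, Tmat]
    have hv0 : vec m (0 : F) 0 0 = 0 ∧ vec m (0 : F) 0 1 = 0 ∧ vec m (0 : F) 0 2 = 0 := by
      refine ⟨?_, ?_, ?_⟩ <;> simp [vec, ff, sg_zero]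
    obtain ⟨k, hk0, hk⟩ := eq_Hmat_of_diag hF N₃ hN₃
      (by rw [col0, hT0.1, zero_mul]) (by rw [col0, hT0.2.1, zero_mul])
      (by rw [col0, hT0.2.2, zero_mul])
      (by rw [col3, hv0.1, mul_zero]) (by rw [col3, hv0.2.1, mul_zero])
      (by rw [col3, hv0.2.2, mul_zero])
    refine ⟨x, y, k, hk0, ?_⟩
    calc N = (Tmat m x y * Tinv) * N := by rw [hTT, Matrix.one_mul]
      _ = Tmat m x y * N₃ := Matrix.mul_assoc _ _ _
      _ = _ := by rw [hk]

theorem lemmaB (hm : 1 ≤ m) (hF : Fintype.card F = 2 ^ (2 * m + 1))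
    (M : Matrix (Fin 4) (Fin 4) F) (hM : InL m M) : ∃ x : Sz F m, M = matOf x := by
  obtain ⟨f03, -, -, -, -, -⟩ := form_vals (F := F)
  have c03 := cols_of_formPres hM.1 0 3
  rw [f03] at c03
  have hv : (fun i => M i 0) ≠ 0 := by
    intro e
    have e0 : M 0 0 = 0 := congrFun e 0
    have e1 : M 1 0 = 0 := congrFun e 1
    have e2 : M 2 0 = 0 := congrFun e 2
    have e3 : M 3 0 = 0 := congrFun e 3
    rw [e0, e1, e2, e3, zero_mul, zero_mul, zero_mul, zero_mul, add_zero, add_zero,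
      add_zero] at c03
    exact zero_ne_one c03
  have hmem := col0_mem_ovoid hF M hM hv
  obtain ⟨g, hg, hgP⟩ := exists_smul_pinf hF hmem
  set x₁ : Sz F m := ⟨g, hg⟩ with hx₁
  rw [pinf_eq, Projectivization.smul_mk, Projectivization.mk_eq_mk_iff'] at hgP
  obtain ⟨a, ha⟩ := hgP
  have hgv : (g • vinf F : Fin 4 → F) = (matOf x₁).mulVec (vinf F) := rfl
  set N := matOf x₁⁻¹ * M with hNdef
  have hN : InL m N := (InL_matOf hm hF _).mul hM
  have h1 : (matOf x₁⁻¹).mulVec (a • (fun l => M l 0)) = vinf F := by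
    rw [ha, hgv, Matrix.mulVec_mulVec, matOf_inv_mul, Matrix.one_mulVec]
  rw [Matrix.mulVec_smul] at h1
  have h2 : ∀ i, a * N i 0 = vinf F i := by
    intro i
    have := congrFun h1 i
    exact this
  have ha0 : a ≠ 0 := by
    intro e
    have := h2 0
    rw [e, zero_mul] at this
    simp [vinf] at this
  have hN0 : ∀ i : Fin 4, i ≠ 0 → N i 0 = 0 := by
    intro i hi
    have := h2 i
    have hvi : vinf F i = 0 := by
      fin_cases i
      · exact absurd rfl hi
      · simp [vinf]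
      · simp [vinf]
      · simp [vinf]
    rw [hvi] at this
    rcases mul_eq_zero.mp this with h | h
    · exact absurd h ha0
    · exact h
  obtain ⟨a', b', k, hk0, hk⟩ := lemmaA hF N hN (hN0 1 (by decide)) (hN0 2 (by decide))
    (hN0 3 (by decide))
  refine ⟨x₁ * TS hF a' b' * HS hF (Units.mk0 k hk0), ?_⟩
  have h3 : matOf (x₁ * TS hF a' b' * HS hF (Units.mk0 k hk0)) =
      matOf x₁ * (Tmat m a' b' * Hmat m k) := by
    rw [matOf_mul, matOf_mul, Matrix.mul_assoc]
    rfl
  rw [h3, ← hk, hNdef, ← Matrix.mul_assoc, matOf_mul_inv, Matrix.one_mul]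

/-- the embedding into `GL₄` -/
def iotaGL (F : Type*) [Field F] (m : ℕ) : Sz F m →* GL (Fin 4) F :=
  Matrix.SpecialLinearGroup.toGL.comp (Sz F m).subtype

theorem iotaGL_coe (x : Sz F m) :
    ((iotaGL F m x : GL (Fin 4) F) : Matrix (Fin 4) (Fin 4) F) = matOf x := rfl

theorem iotaGL_injective : Function.Injective (iotaGL F m) := by
  intro x y h
  have h1 : matOf x = matOf y := by
    rw [← iotaGL_coe, ← iotaGL_coe, h]
  exact Subtype.ext (Subtype.ext h1)

theorem mem_gen_iff (g : GL (Fin 4) F) :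
    (g ∈ Sp4 F ∧ star4 (g : Matrix (Fin 4) (Fin 4) F) =
      (g : Matrix (Fin 4) (Fin 4) F).map (fun x => x ^ 2 ^ (m + 1))) ↔
    InL m (g : Matrix (Fin 4) (Fin 4) F) := by
  unfold InL
  rw [← spM_iff]
  rfl

theorem range_iotaGL (hm : 1 ≤ m) (hF : Fintype.card F = 2 ^ (2 * m + 1)) :
    (iotaGL F m).range = Cfsg.Lie.Sz F (2 ^ (m + 1)) := by
  apply le_antisymm
  · rintro _ ⟨x, rfl⟩
    apply Subgroup.subset_closure
    exact (mem_gen_iff _).mpr (InL_matOf hm hF x)
  · unfold Cfsg.Lie.Sz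
    rw [Subgroup.closure_le]
    intro g hg
    have h1 := (mem_gen_iff (m := m) g).mp hg
    obtain ⟨x, hx⟩ := lemmaB hm hF _ h1
    exact ⟨x, Units.ext hx.symm⟩

/-- the two models of the Suzuki group are isomorphic -/
noncomputable def szEquiv (hm : 1 ≤ m) (hF : Fintype.card F = 2 ^ (2 * m + 1)) :
    Sz F m ≃* Cfsg.Lie.Sz F (2 ^ (m + 1)) :=
  (MonoidHom.ofInjective (iotaGL_injective (F := F) (m := m))).trans
    (MulEquiv.subgroupCongr (range_iotaGL hm hF))

theorem lie_simple (hm : 1 ≤ m) (hF : Fintype.card F = 2 ^ (2 * m + 1)) :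
    IsSimpleGroup (Cfsg.Lie.Sz F (2 ^ (m + 1))) := by
  haveI := simple hm hF
  exact (szEquiv hm hF).symm.isSimpleGroup

end iso

end Cfsg.Agent.Lib.Helper14.Sz
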