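import Mathlib
import Cfsg.Agent.Lib.Helper14.SzAA
import Cfsg.Agent.Lib.Helper14.SzU

/-!
# Suzuki groups: extensions by copies of the natural module have the same prime graph (helper14)
-/

set_option autoImplicit false
set_option maxHeartbeats 2000000
set_option linter.unusedSimpArgs false
set_option linter.unusedSectionVars false

namespace Cfsg.Agent.Lib.Helper14.Sz

open Cfsg
open scoped Pointwise

local notation "SL4" => Matrix.SpecialLinearGroup (Fin 4)

section ext

variable {F : Type*} [Field F] [Fintype F] [CharP F 2] {m : ℕ}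

/-- the action on `n` copies of the natural module -/
noncomputable def actV (F : Type*) [Field F] (m n : ℕ) :
    Sz F m →* MulAut (Multiplicative (Fin n → Fin 4 → F)) :=
  (MulAutMultiplicative (Fin n → Fin 4 → F)).symm.toMonoidHom.comp
    (DistribMulAction.toAddAut (Sz F m) (Fin n → Fin 4 → F))

theorem actV_apply (n : ℕ) (g : Sz F m) (v : Fin n → Fin 4 → F) :
    actV F m n g (Multiplicative.ofAdd v) = Multiplicative.ofAdd (g • v) := rfl

/-- the extension of `Sz` by `n` copies of the natural module -/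
abbrev ExtV (F : Type*) [Field F] (m n : ℕ) : Type _ :=
  Multiplicative (Fin n → Fin 4 → F) ⋊[actV F m n] Sz F m

instance (n : ℕ) : Finite (ExtV F m n) :=
  Finite.of_equiv _ (SemidirectProduct.equivProd (φ := actV F m n)).symm

theorem ext_sq (n : ℕ) (z : ExtV F m n) (hz : z.right = 1) : z * z = 1 := by
  apply SemidirectProduct.ext
  · rw [SemidirectProduct.mul_left, hz, map_one, MulAut.one_apply, SemidirectProduct.one_left]
    obtain ⟨w, hw⟩ : ∃ w : Fin n → Fin 4 → F, z.left = Multiplicative.ofAdd w := ⟨_, rfl⟩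
    have hww : w + w = 0 := by
      funext i j
      exact CharTwo.add_self_eq_zero (w i j)
    rw [hw, ← ofAdd_add, hww, ofAdd_zero]
  · rw [SemidirectProduct.mul_right, hz, mul_one, SemidirectProduct.one_right]

theorem ext_odd (n : ℕ) (y : ExtV F m n) (k : ℕ) (hk : Odd k) (hy : orderOf y = k) :
    orderOf y.right = k := by
  have hr : ∀ j : ℕ, (y ^ j).right = y.right ^ j := by
    intro j
    exact map_pow (SemidirectProduct.rightHom (φ := actV F m n)) y j
  apply Nat.dvd_antisymm
  · apply orderOf_dvd_of_pow_eq_one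
    rw [← hr, ← hy, pow_orderOf_eq_one, SemidirectProduct.one_right]
  · have h1 : (y ^ orderOf y.right).right = 1 := by rw [hr, pow_orderOf_eq_one]
    have h2 := ext_sq n _ h1
    rw [← pow_add] at h2
    have h3 : k ∣ orderOf y.right + orderOf y.right := by
      rw [← hy]
      exact orderOf_dvd_of_pow_eq_one h2
    rw [← two_mul] at h3
    exact (Nat.Coprime.dvd_of_dvd_mul_left (Nat.coprime_two_right.mpr hk)) h3

theorem ext_two (hm : 1 ≤ m) (hF : Fintype.card F = 2 ^ (2 * m + 1)) (n : ℕ) (y : ExtV F m n)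
    {s : ℕ} (hs : s.Prime) (hs2 : s ≠ 2) (hy : orderOf y = 2 * s) : False := by
  have hsodd : Odd s := hs.odd_of_ne_two hs2
  have hr : ∀ (x : ExtV F m n) (j : ℕ), (x ^ j).right = x.right ^ j := by
    intro x j
    exact map_pow (SemidirectProduct.rightHom (φ := actV F m n)) x j
  set u := y ^ s with hu
  set z := y ^ 2 with hz
  have huu : u * u = 1 := by
    rw [hu, ← pow_add, ← two_mul, ← hy, pow_orderOf_eq_one]
  have hu1 : u ≠ 1 := by
    intro e
    have h1 : 2 * s ∣ s := by rw [← hy]; exact orderOf_dvd_of_pow_eq_one e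
    have := Nat.le_of_dvd hs.pos h1
    have := hs.pos
    omega
  have hzs : z ^ s = 1 := by
    rw [hz, ← pow_mul, ← hy, pow_orderOf_eq_one]
  have hz1 : z ≠ 1 := by
    intro e
    have h1 : 2 * s ∣ 2 := by rw [← hy]; exact orderOf_dvd_of_pow_eq_one e
    have := Nat.le_of_dvd (by norm_num) h1
    have := hs.two_le
    omega
  have hcomm : u * z = z * u := by
    rw [hu, hz, ← pow_add, ← pow_add, add_comm]
  have hzr1 : z.right ≠ 1 := by
    intro e
    have h1 := ext_sq n z e
    obtain ⟨j, hj⟩ := hsodd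
    apply hz1
    have h2 : z ^ s = z := by
      rw [hj, pow_succ, pow_mul, sq, h1, one_pow, one_mul]
    rw [← h2, hzs]
  have hzrs : z.right ^ s = 1 := by rw [← hr, hzs, SemidirectProduct.one_right]
  by_cases hur : u.right = 1
  · have hl := congrArg SemidirectProduct.left hcomm
    rw [SemidirectProduct.mul_left, SemidirectProduct.mul_left, hur, map_one,
      MulAut.one_apply, mul_comm] at hl
    have hl2 : actV F m n z.right u.left = u.left := (mul_left_cancel hl).symm
    obtain ⟨w, hw⟩ : ∃ w : Fin n → Fin 4 → F, u.left = Multiplicative.ofAdd w := ⟨_, rfl⟩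
    rw [hw, actV_apply] at hl2
    have hl3 : z.right • w = w := Multiplicative.ofAdd.injective hl2
    have hw0 : w ≠ 0 := by
      intro e
      apply hu1
      apply SemidirectProduct.ext
      · rw [hw, e, ofAdd_zero, SemidirectProduct.one_left]
      · rw [hur, SemidirectProduct.one_right]
    have hex : ∃ i : Fin n, w i ≠ 0 := by
      by_contra h
      push Not at h
      exact hw0 (funext h)
    obtain ⟨i, hi⟩ := hex
    exact no_fixed_vector hm hF z.right hzr1 hs hs2 hzrs (w i) hi (congrFun hl3 i)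
  · have h1 : u.right * u.right = 1 := by
      rw [← SemidirectProduct.mul_right, huu, SemidirectProduct.one_right]
    have h2 : u.right * z.right = z.right * u.right := by
      rw [← SemidirectProduct.mul_right, ← SemidirectProduct.mul_right, hcomm]
    exact no_inv_comm hm hF u.right z.right hur h1 hzr1 hsodd hzrs h2

/-- the extension has the same prime graph edges -/
theorem ext_edges (hm : 1 ≤ m) (hF : Fintype.card F = 2 ^ (2 * m + 1)) (n : ℕ) (r s : ℕ)
    (hr : r.Prime) (hs : s.Prime) (hrs : r ≠ s) :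
    (∃ x : Sz F m, orderOf x = r * s) ↔ ∃ y : ExtV F m n, orderOf y = r * s := by
  constructor
  · rintro ⟨x, hx⟩
    refine ⟨SemidirectProduct.inr x, ?_⟩
    rw [orderOf_injective (SemidirectProduct.inr : Sz F m →* ExtV F m n)
      SemidirectProduct.inr_injective x, hx]
  · rintro ⟨y, hy⟩
    by_cases hr2 : r = 2
    · exfalso
      subst hr2
      exact ext_two hm hF n y hs (fun e => hrs e.symm) hy
    by_cases hs2 : s = 2
    · exfalso
      subst hs2
      rw [mul_comm] at hy
      exact ext_two hm hF n y hr hr2 hy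
    · exact ⟨y.right, ext_odd n y (r * s) ((hr.odd_of_ne_two hr2).mul (hs.odd_of_ne_two hs2)) hy⟩

theorem card_ext (hF : Fintype.card F = 2 ^ (2 * m + 1)) (n : ℕ) :
    Nat.card (ExtV F m n) = ((2 ^ (2 * m + 1)) ^ 4) ^ n * Nat.card (Sz F m) := by
  rw [SemidirectProduct.card]
  congr 1
  rw [Nat.card_congr Multiplicative.toAdd, Nat.card_eq_fintype_card, Fintype.card_fun,
    Fintype.card_fun, Fintype.card_fin, Fintype.card_fin, hF]

/-- groups of unbounded order with the prime graph of `Sz` -/
theorem prime_graph_unbounded (hm : 1 ≤ m) (hF : Fintype.card F = 2 ^ (2 * m + 1)) (N : ℕ) :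
    ∃ (H : Type) (_ : Group H) (_ : Fintype H), N < Fintype.card H ∧
      ((∀ r : ℕ, r.Prime → (r ∣ Nat.card ↥(Cfsg.Lie.Sz F (2 ^ (m + 1))) ↔ r ∣ Nat.card H)) ∧
      (∀ r s : ℕ, r.Prime → s.Prime → r ≠ s →
        ((∃ x : ↥(Cfsg.Lie.Sz F (2 ^ (m + 1))), orderOf x = r * s) ↔
          (∃ y : H, orderOf y = r * s)))) := by
  classical
  set e := szEquiv hm hF with he
  haveI : Finite (Shrink.{0} (ExtV F m N)) := Finite.of_equiv _ (equivShrink.{0} (ExtV F m N))
  letI : Fintype (Shrink.{0} (ExtV F m N)) := Fintype.ofFinite _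
  set ε : Shrink.{0} (ExtV F m N) ≃* ExtV F m N := Shrink.mulEquiv with hε
  have hcardH : Nat.card (Shrink.{0} (ExtV F m N)) =
      ((2 ^ (2 * m + 1)) ^ 4) ^ N * Nat.card (Sz F m) := by
    rw [Nat.card_congr ε.toEquiv, card_ext hF]
  have hcardL : Nat.card ↥(Cfsg.Lie.Sz F (2 ^ (m + 1))) = Nat.card (Sz F m) :=
    (Nat.card_congr e.toEquiv).symm
  have hSpos : 0 < Nat.card (Sz F m) := Nat.card_pos
  refine ⟨Shrink.{0} (ExtV F m N), inferInstance, inferInstance, ?_, ?_, ?_⟩
  · rw [← Nat.card_eq_fintype_card, hcardH]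
    have h1 : N < 2 ^ N := Nat.lt_two_pow_self
    have h2 : 2 ^ N ≤ ((2 ^ (2 * m + 1)) ^ 4) ^ N := by
      apply Nat.pow_le_pow_left
      calc 2 = 2 ^ 1 := (pow_one 2).symm
        _ ≤ 2 ^ ((2 * m + 1) * 4) := Nat.pow_le_pow_right (by norm_num) (by omega)
        _ = (2 ^ (2 * m + 1)) ^ 4 := pow_mul 2 _ _
    calc N < 2 ^ N := h1
      _ ≤ ((2 ^ (2 * m + 1)) ^ 4) ^ N := h2
      _ = ((2 ^ (2 * m + 1)) ^ 4) ^ N * 1 := (mul_one _).symm
      _ ≤ _ := Nat.mul_le_mul_left _ hSpos
  · intro r hr
    rw [hcardL, hcardH]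
    constructor
    · intro h
      exact Dvd.dvd.mul_left h _
    · intro h
      rcases (Nat.Prime.dvd_mul hr).mp h with h1 | h1
      · have h2 := hr.dvd_of_dvd_pow (hr.dvd_of_dvd_pow (hr.dvd_of_dvd_pow h1))
        have h3 : r = 2 := (Nat.prime_dvd_prime_iff_eq hr Nat.prime_two).mp h2
        rw [h3, card_Sz hm hF]
        apply Dvd.dvd.mul_right
        apply Dvd.dvd.mul_right
        rw [← pow_mul]
        exact dvd_pow_self 2 (by omega)
      · exact h1
  · intro r s hr hs hrs
    constructor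
    · rintro ⟨x, hx⟩
      obtain ⟨y, hy⟩ := (ext_edges hm hF N r s hr hs hrs).mp ⟨e.symm x, by
        rw [MulEquiv.orderOf_eq, hx]⟩
      exact ⟨ε.symm y, by rw [MulEquiv.orderOf_eq, hy]⟩
    · rintro ⟨y, hy⟩
      obtain ⟨x, hx⟩ := (ext_edges hm hF N r s hr hs hrs).mpr ⟨ε y, by
        rw [MulEquiv.orderOf_eq, hy]⟩
      exact ⟨e x, by rw [MulEquiv.orderOf_eq, hx]⟩

end ext

end Cfsg.Agent.Lib.Helper14.Sz
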