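import Mathlib
import Cfsg.Agent.Lib.Helper14.SzY
import Cfsg.Agent.Lib.Helper14.SzU

/-!
# Suzuki groups have no nilpotent minimal cover (helper14)
-/

set_option autoImplicit false
set_option maxHeartbeats 2000000
set_option linter.unusedSimpArgs false
set_option linter.unusedSectionVars false

namespace Cfsg.Agent.Lib.Helper14.Sz

open Cfsg
open scoped Pointwise

local notation "SL4" => Matrix.SpecialLinearGroup (Fin 4)

section cover

variable {F : Type*} [Field F] [Fintype F] [CharP F 2] {m : ℕ}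

/-- the pointwise stabilizer of a finite set of points of the ovoid -/
def Kset (F : Type*) [Field F] (m : ℕ) (s : Finset (suzukiOvoid F m)) : Subgroup (Sz F m) :=
  ⨅ p ∈ s, MulAction.stabilizer (Sz F m) p

theorem mem_Kset (s : Finset (suzukiOvoid F m)) (x : Sz F m) :
    x ∈ Kset F m s ↔ ∀ p ∈ s, x • p = p := by
  unfold Kset
  simp only [Subgroup.mem_iInf, MulAction.mem_stabilizer_iff]

/-- a generator of the multiplicative group -/
theorem exists_gen (hm : 1 ≤ m) (hF : Fintype.card F = 2 ^ (2 * m + 1)) :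
    ∃ k₀ : Fˣ, k₀ ≠ 1 ∧ ∀ k : Fˣ, k ∈ Subgroup.zpowers k₀ := by
  obtain ⟨k₀, hk₀⟩ := IsCyclic.exists_generator (α := Fˣ)
  refine ⟨k₀, ?_, hk₀⟩
  rintro rfl
  have h1 : ∀ k : Fˣ, k = 1 := by
    intro k
    have := hk₀ k
    rw [Subgroup.zpowers_one_eq_bot, Subgroup.mem_bot] at this
    exact this
  have h2 : Nat.card Fˣ = 1 := by
    haveI : Subsingleton Fˣ := ⟨fun a b => by rw [h1 a, h1 b]⟩
    exact Nat.card_unique
  rw [Nat.card_units, Nat.card_eq_fintype_card, hF] at h2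
  have h3 : 2 ^ 3 ≤ 2 ^ (2 * m + 1) := Nat.pow_le_pow_right (by norm_num) (by omega)
  omega

theorem HS_zpow (hF : Fintype.card F = 2 ^ (2 * m + 1)) (k : Fˣ) (j : ℤ) :
    HS (m := m) hF (k ^ j) = (HS hF k) ^ j :=
  map_zpow (HSh (m := m) hF) k j

/-- the two-point stabilizers are conjugates of the torus -/
theorem mem_Kset_pair (hm : 1 ≤ m) (hF : Fintype.card F = 2 ^ (2 * m + 1)) [DecidableEq (suzukiOvoid F m)]
    {a b : suzukiOvoid F m} (g : Sz F m) (hga : g • a = oinf F m) (hgb : g • b = opt m 0 0)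
    (x : Sz F m) : x ∈ Kset F m {a, b} ↔ ∃ k : Fˣ, g * x * g⁻¹ = HS hF k := by
  rw [mem_Kset]
  constructor
  · intro h
    have hxa : x • a = a := h a (by simp)
    have hxb : x • b = b := h b (by simp)
    apply eq_HS_of_fix hm hF
    · rw [mul_smul, mul_smul, ← hga, inv_smul_smul, hxa]
    · rw [mul_smul, mul_smul, ← hgb, inv_smul_smul, hxb]
  · rintro ⟨k, hk⟩ p hp
    have hx : x = g⁻¹ * HS hF k * g := by rw [← hk]; group
    rw [Finset.mem_insert, Finset.mem_singleton] at hp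
    rcases hp with rfl | rfl
    · rw [hx, mul_smul, mul_smul, hga, HS_oinf, ← hga, inv_smul_smul]
    · rw [hx, mul_smul, mul_smul, hgb, HS_opt, mul_zero, mul_zero, ← hgb, inv_smul_smul]

theorem HS_fixed (hF : Fintype.card F = 2 ^ (2 * m + 1)) {k : Fˣ} (hk : k ≠ 1)
    (p : suzukiOvoid F m) (hp : HS hF k • p = p) : p = oinf F m ∨ p = opt m 0 0 := by
  rcases ovoid_cases p with e | ⟨x, y, e⟩
  · exact Or.inl e
  · right
    rw [e] at hp ⊢
    by_contra hne
    have hxy : ¬ (x = 0 ∧ y = 0) := by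
      rintro ⟨rfl, rfl⟩
      exact hne rfl
    exact hk (HS_fix_third hF k x y hxy hp)

/-- the fixed points of a two-point stabilizer -/
theorem fixed_Kset_pair (hm : 1 ≤ m) (hF : Fintype.card F = 2 ^ (2 * m + 1)) [DecidableEq (suzukiOvoid F m)]
    {a b : suzukiOvoid F m} (hab : a ≠ b) (p : suzukiOvoid F m)
    (hp : ∀ x ∈ Kset F m {a, b}, x • p = p) : p = a ∨ p = b := by
  obtain ⟨g, hga, hgb⟩ := to_std hF a b hab
  obtain ⟨k₀, hk₀, -⟩ := exists_gen hm hF
  have hx : g⁻¹ * HS hF k₀ * g ∈ Kset F m {a, b} := by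
    rw [mem_Kset_pair hm hF g hga hgb]
    exact ⟨k₀, by group⟩
  have h1 := hp _ hx
  have h2 : HS hF k₀ • (g • p) = g • p := by
    have e : HS hF k₀ * g = g * (g⁻¹ * HS hF k₀ * g) := by group
    rw [← mul_smul, e, mul_smul, h1]
  rcases HS_fixed hF hk₀ _ h2 with e | e
  · left
    rw [← hga] at e
    exact MulAction.injective g e
  · right
    rw [← hgb] at e
    exact MulAction.injective g e

/-- a nilpotent subgroup containing a generator of a two-point stabilizer equals it -/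
theorem nilpotent_eq_Kset (hm : 1 ≤ m) (hF : Fintype.card F = 2 ^ (2 * m + 1))
    [DecidableEq (suzukiOvoid F m)]
    {a b : suzukiOvoid F m} (g : Sz F m) (hga : g • a = oinf F m) (hgb : g • b = opt m 0 0)
    (k₀ : Fˣ) (hk₀ : k₀ ≠ 1) (hgen : ∀ k : Fˣ, k ∈ Subgroup.zpowers k₀)
    (A : Subgroup (Sz F m)) (hA : Group.IsNilpotent A) (hmem : g⁻¹ * HS hF k₀ * g ∈ A) :
    A = Kset F m {a, b} := by
  set h := g⁻¹ * HS hF k₀ * g with hh
  have hh1 : h ≠ 1 := by
    intro e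
    apply hk₀
    apply HS_injective (m := m) hF
    rw [HS_one]
    calc HS hF k₀ = g * h * g⁻¹ := by rw [hh]; group
      _ = 1 := by rw [e]; group
  apply le_antisymm
  · -- `A` centralizes a non-trivial element of the torus
    haveI : Nontrivial A := ⟨⟨⟨h, hmem⟩, 1, fun e => hh1 (congrArg Subtype.val e)⟩⟩
    haveI := hA
    have hc := Group.IsNilpotent.center_ne_bot (G := A)
    obtain ⟨zc, hzc1⟩ := (Subgroup.ne_bot_iff_exists_ne_one).mp hc
    set z : A := zc.1 with hzdef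
    have hz : z ∈ Subgroup.center A := zc.2
    have hz1' : (z : Sz F m) ≠ 1 := by
      intro e
      apply hzc1
      apply Subtype.ext
      apply Subtype.ext
      exact e
    have hzcomm : ∀ y : A, (y : Sz F m) * (z : Sz F m) = (z : Sz F m) * (y : Sz F m) := by
      intro y
      have := Subgroup.mem_center_iff.mp hz y
      exact congrArg Subtype.val this
    -- `g z g⁻¹` is a torus element
    have h1 : g * (z : Sz F m) * g⁻¹ ∈ Subgroup.centralizer ({HS hF k₀} : Set (Sz F m)) := by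
      rw [Subgroup.mem_centralizer_singleton_iff]
      have := hzcomm ⟨h, hmem⟩
      simp only at this
      have e1 : HS hF k₀ = g * h * g⁻¹ := by rw [hh]; group
      rw [e1]
      calc g * ↑z * g⁻¹ * (g * h * g⁻¹) = g * (↑z * h) * g⁻¹ := by group
        _ = g * (h * ↑z) * g⁻¹ := by rw [this]
        _ = _ := by group
    obtain ⟨l, hl⟩ := centralizer_HS hm hF hk₀ _ h1
    have hl1 : l ≠ 1 := by
      rintro rfl
      rw [HS_one] at hl
      apply hz1'
      calc (z : Sz F m) = g⁻¹ * (g * ↑z * g⁻¹) * g := by group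
        _ = 1 := by rw [hl]; group
    intro y hy
    rw [mem_Kset_pair hm hF g hga hgb]
    apply centralizer_HS hm hF hl1
    rw [Subgroup.mem_centralizer_singleton_iff, ← hl]
    have := hzcomm ⟨y, hy⟩
    simp only at this
    calc g * y * g⁻¹ * (g * ↑z * g⁻¹) = g * (y * ↑z) * g⁻¹ := by group
      _ = g * (↑z * y) * g⁻¹ := by rw [this]
      _ = _ := by group
  · intro x hx
    rw [mem_Kset_pair hm hF g hga hgb] at hx
    obtain ⟨k, hk⟩ := hx
    obtain ⟨j, hj⟩ := Subgroup.mem_zpowers_iff.mp (hgen k)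
    have hx' : x = h ^ j := by
      have e1 : x = g⁻¹ * HS hF k * g := by rw [← hk]; group
      rw [e1, ← hj, HS_zpow, hh]
      have : g⁻¹ * HS hF k₀ * g = (MulAut.conj g⁻¹) (HS hF k₀) := by
        rw [MulAut.conj_apply, inv_inv]
      rw [this, ← map_zpow, MulAut.conj_apply, inv_inv]
    rw [hx']
    exact A.zpow_mem hmem j

/-- a cover by proper subgroups -/
def IsCover {G : Type*} [Group G] (𝓐 : Finset (Subgroup G)) : Prop :=
  (∀ A ∈ 𝓐, A ≠ ⊤) ∧ (∀ g : G, ∃ A ∈ 𝓐, g ∈ A)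

theorem stabilizer_ne_top (hF : Fintype.card F = 2 ^ (2 * m + 1)) (p : suzukiOvoid F m) :
    MulAction.stabilizer (Sz F m) p ≠ ⊤ := by
  intro e
  obtain ⟨g₁, hg₁⟩ := exists_smul_oinf hF p
  have h1 : g₁ * WS hF * g₁⁻¹ ∈ MulAction.stabilizer (Sz F m) p := by rw [e]; trivial
  rw [MulAction.mem_stabilizer_iff, ← hg₁, mul_smul, mul_smul, inv_smul_smul, WS_oinf] at h1
  exact opt_ne_oinf _ _ (MulAction.injective g₁ h1)

theorem no_nilpotent_min_cover_sz (hm : 1 ≤ m) (hF : Fintype.card F = 2 ^ (2 * m + 1)) :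
    ¬ ∃ 𝓐 : Finset (Subgroup (Sz F m)), IsCover 𝓐 ∧
      (∀ 𝓑 : Finset (Subgroup (Sz F m)), IsCover 𝓑 → 𝓐.card ≤ 𝓑.card) ∧
      (∀ A ∈ 𝓐, Group.IsNilpotent ↥A) := by
  classical
  rintro ⟨𝓐, hcov, hmin, hnil⟩
  haveI : Finite (suzukiOvoid F m) :=
    Nat.finite_of_card_ne_zero (by rw [card_ovoid hF]; positivity)
  letI : Fintype (suzukiOvoid F m) := Fintype.ofFinite _
  obtain ⟨k₀, hk₀, hgen⟩ := exists_gen hm hF
  set 𝓗 : Finset (Subgroup (Sz F m)) :=
    (Finset.powersetCard 2 (Finset.univ : Finset (suzukiOvoid F m))).image (Kset F m) with h𝓗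
  have hinj : Set.InjOn (Kset F m)
      (Finset.powersetCard 2 (Finset.univ : Finset (suzukiOvoid F m)) : Set _) := by
    intro s hs s' hs' hss'
    rw [Finset.mem_coe, Finset.mem_powersetCard] at hs hs'
    apply Finset.eq_of_subset_of_card_le ?_ (by rw [hs.2, hs'.2])
    obtain ⟨a', b', hab', rfl⟩ := Finset.card_eq_two.mp hs'.2
    intro p hp
    have : ∀ x ∈ Kset F m {a', b'}, x • p = p := by
      intro x hx
      rw [← hss'] at hx
      exact (mem_Kset s x).mp hx p hp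
    rcases fixed_Kset_pair hm hF hab' p this with rfl | rfl <;> simp
  have hcard𝓗 : 𝓗.card = Nat.choose (Fintype.card (suzukiOvoid F m)) 2 := by
    rw [h𝓗, Finset.card_image_of_injOn hinj, Finset.card_powersetCard, Finset.card_univ]
  have hΩ : Fintype.card (suzukiOvoid F m) = (2 ^ (2 * m + 1)) ^ 2 + 1 := by
    rw [← Nat.card_eq_fintype_card, card_ovoid hF]
  have hsub : 𝓗 ⊆ 𝓐 := by
    intro K hK
    obtain ⟨s, hs, rfl⟩ := Finset.mem_image.mp hK
    rw [Finset.mem_powersetCard] at hs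
    obtain ⟨a, b, hab, rfl⟩ := Finset.card_eq_two.mp hs.2
    obtain ⟨g, hga, hgb⟩ := to_std hF a b hab
    obtain ⟨A, hA, hmem⟩ := hcov.2 (g⁻¹ * HS hF k₀ * g)
    have := nilpotent_eq_Kset hm hF g hga hgb k₀ hk₀ hgen A (hnil A hA) hmem
    rw [← this]
    exact hA
  set 𝓑or : Finset (Subgroup (Sz F m)) :=
    Finset.univ.image (fun p : suzukiOvoid F m => MulAction.stabilizer (Sz F m) p) with h𝓑or
  have hcard𝓑or : 𝓑or.card ≤ Fintype.card (suzukiOvoid F m) := by
    refine Finset.card_image_le.trans ?_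
    rw [Finset.card_univ]
  set 𝓑 : Finset (Subgroup (Sz F m)) := (𝓐 \ 𝓗) ∪ 𝓑or with h𝓑
  have hcov𝓑 : IsCover 𝓑 := by
    constructor
    · intro A hA
      rcases Finset.mem_union.mp hA with h | h
      · exact hcov.1 A (Finset.mem_sdiff.mp h).1
      · obtain ⟨p, -, rfl⟩ := Finset.mem_image.mp h
        exact stabilizer_ne_top hF p
    · intro g
      obtain ⟨A, hA, hg⟩ := hcov.2 g
      by_cases hAH : A ∈ 𝓗
      · obtain ⟨s, hs, rfl⟩ := Finset.mem_image.mp hAH
        rw [Finset.mem_powersetCard] at hs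
        obtain ⟨a, b, hab, rfl⟩ := Finset.card_eq_two.mp hs.2
        refine ⟨MulAction.stabilizer _ a,
          Finset.mem_union_right _ (Finset.mem_image_of_mem _ (Finset.mem_univ a)), ?_⟩
        exact MulAction.mem_stabilizer_iff.mpr ((mem_Kset _ g).mp hg a (by simp))
      · exact ⟨A, Finset.mem_union_left _ (Finset.mem_sdiff.mpr ⟨hA, hAH⟩), hg⟩
  have h1 := hmin 𝓑 hcov𝓑
  have h2 : 𝓑.card ≤ (𝓐 \ 𝓗).card + 𝓑or.card := Finset.card_union_le _ _
  have h3 : (𝓐 \ 𝓗).card = 𝓐.card - 𝓗.card := Finset.card_sdiff_of_subset hsub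
  have h4 : 𝓗.card ≤ 𝓐.card := Finset.card_le_card hsub
  have h5 : Fintype.card (suzukiOvoid F m) < 𝓗.card := by
    rw [hcard𝓗, Nat.choose_two_right]
    set n := Fintype.card (suzukiOvoid F m) with hn
    have hq : 2 ^ 3 ≤ 2 ^ (2 * m + 1) := Nat.pow_le_pow_right (by norm_num) (by omega)
    have hn5 : 5 ≤ n := by
      rw [hΩ]
      nlinarith
    have h6 : 2 * n ≤ n * (n - 1) / 2 := by
      rw [Nat.le_div_iff_mul_le (by norm_num)]
      have : 4 ≤ n - 1 := by omega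
      calc 2 * n * 2 = n * 4 := by ring
        _ ≤ n * (n - 1) := Nat.mul_le_mul_left _ this
    omega
  omega

end cover

section transport

variable {G G' : Type*} [Group G] [Group G']

/-- the embedding of subgroup lattices induced by an isomorphism -/
def mapEmb (e : G ≃* G') : Subgroup G ↪ Subgroup G' :=
  ⟨Subgroup.map e.toMonoidHom, Subgroup.map_injective e.injective⟩

theorem isCover_map (e : G ≃* G') (𝓐 : Finset (Subgroup G)) (h : IsCover 𝓐) :
    IsCover (𝓐.map (mapEmb e)) := by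
  constructor
  · intro A' hA'
    obtain ⟨A, hA, rfl⟩ := Finset.mem_map.mp hA'
    intro htop
    apply h.1 A hA
    rw [eq_top_iff]
    intro x _
    have h1 : e.toMonoidHom x ∈ A.map e.toMonoidHom := by
      have : A.map e.toMonoidHom = ⊤ := htop
      rw [this]
      trivial
    obtain ⟨y, hy, hxy⟩ := Subgroup.mem_map.mp h1
    have := e.injective hxy
    rw [← this]
    exact hy
  · intro g'
    obtain ⟨A, hA, hg⟩ := h.2 (e.symm g')
    refine ⟨A.map e.toMonoidHom, Finset.mem_map_of_mem (mapEmb e) hA, ?_⟩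
    exact Subgroup.mem_map.mpr ⟨_, hg, e.apply_symm_apply g'⟩

theorem nilpotent_min_cover_transport (e : G ≃* G')
    (h : ∃ 𝓐 : Finset (Subgroup G), IsCover 𝓐 ∧
      (∀ 𝓑 : Finset (Subgroup G), IsCover 𝓑 → 𝓐.card ≤ 𝓑.card) ∧
      (∀ A ∈ 𝓐, Group.IsNilpotent ↥A)) :
    ∃ 𝓐 : Finset (Subgroup G'), IsCover 𝓐 ∧
      (∀ 𝓑 : Finset (Subgroup G'), IsCover 𝓑 → 𝓐.card ≤ 𝓑.card) ∧
      (∀ A ∈ 𝓐, Group.IsNilpotent ↥A) := by
  obtain ⟨𝓐, hcov, hmin, hnil⟩ := h
  refine ⟨𝓐.map (mapEmb e), isCover_map e 𝓐 hcov, ?_, ?_⟩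
  · intro 𝓑' h𝓑'
    have := hmin (𝓑'.map (mapEmb e.symm)) (isCover_map e.symm 𝓑' h𝓑')
    rw [Finset.card_map] at this ⊢
    exact this
  · intro A' hA'
    obtain ⟨A, hA, rfl⟩ := Finset.mem_map.mp hA'
    haveI := hnil A hA
    exact (Group.isNilpotent_congr (e.subgroupMap A)).mp (hnil A hA)

end transport

section final

variable {F : Type*} [Field F] [Fintype F] [CharP F 2] {m : ℕ}

theorem no_nilpotent_min_cover_lie (hm : 1 ≤ m) (hF : Fintype.card F = 2 ^ (2 * m + 1)) :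
    ¬ ∃ 𝓐 : Finset (Subgroup ↥(Cfsg.Lie.Sz F (2 ^ (m + 1)))),
      ((∀ A ∈ 𝓐, A ≠ ⊤) ∧ (∀ g : ↥(Cfsg.Lie.Sz F (2 ^ (m + 1))), ∃ A ∈ 𝓐, g ∈ A)) ∧
      (∀ 𝓑 : Finset (Subgroup ↥(Cfsg.Lie.Sz F (2 ^ (m + 1)))),
        (∀ A ∈ 𝓑, A ≠ ⊤) ∧ (∀ g : ↥(Cfsg.Lie.Sz F (2 ^ (m + 1))), ∃ A ∈ 𝓑, g ∈ A) →
          𝓐.card ≤ 𝓑.card) ∧
      (∀ A ∈ 𝓐, Group.IsNilpotent ↥A) := by
  intro h
  exact no_nilpotent_min_cover_sz hm hF (nilpotent_min_cover_transport (szEquiv hm hF).symm h)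

end final

end Cfsg.Agent.Lib.Helper14.Sz
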