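import Mathlib
import Cfsg.Agent.Lib.Helper14.SzP

/-!
# Automorphisms of the Sylow 2-subgroup of a Suzuki group, part A (helper14)

The abstract Suzuki 2-group on `F × F`.
-/

set_option autoImplicit false
set_option maxHeartbeats 1000000
set_option linter.unusedSectionVars false

namespace Cfsg.Agent.Lib.Helper14.SzAut

open Cfsg Cfsg.Agent.Lib.Helper14.Sz

/-- the carrier of the abstract Suzuki 2-group -/
@[ext] structure SQ (F : Type*) (m : ℕ) where
  a : F
  b : F

section grp

variable {F : Type*} [Field F] [CharP F 2] {m : ℕ}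

instance : Mul (SQ F m) := ⟨fun x y => ⟨x.a + y.a, x.b + y.b + sg m x.a * y.a⟩⟩
instance : One (SQ F m) := ⟨⟨0, 0⟩⟩
instance : Inv (SQ F m) := ⟨fun x => ⟨x.a, x.b + sg m x.a * x.a⟩⟩

@[simp] theorem mul_a (x y : SQ F m) : (x * y).a = x.a + y.a := rfl
@[simp] theorem mul_b (x y : SQ F m) : (x * y).b = x.b + y.b + sg m x.a * y.a := rfl
@[simp] theorem one_a : (1 : SQ F m).a = 0 := rfl
@[simp] theorem one_b : (1 : SQ F m).b = 0 := rfl
@[simp] theorem inv_a (x : SQ F m) : (x⁻¹).a = x.a := rfl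
@[simp] theorem inv_b (x : SQ F m) : (x⁻¹).b = x.b + sg m x.a * x.a := rfl

instance : Group (SQ F m) :=
  Group.ofLeftAxioms
    (by
      intro x y z
      ext
      · simp only [mul_a]; ring
      · simp only [mul_b, mul_a, sg_add]; ring)
    (by
      intro x
      ext
      · simp
      · simp [sg_zero])
    (by
      intro x
      ext
      · simp [CharTwo.add_self_eq_zero]
      · simp only [mul_b, inv_b, inv_a, one_b]
        have : x.b + sg m x.a * x.a + x.b + sg m x.a * x.a =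
            (x.b + x.b) + (sg m x.a * x.a + sg m x.a * x.a) := by ring
        rw [this, CharTwo.add_self_eq_zero, CharTwo.add_self_eq_zero, add_zero])

theorem mk_mul_mk (a b c d : F) :
    (⟨a, b⟩ : SQ F m) * ⟨c, d⟩ = ⟨a + c, b + d + sg m a * c⟩ := rfl

theorem one_def : (1 : SQ F m) = ⟨0, 0⟩ := rfl

theorem sq_eq_one_iff (x : SQ F m) : x * x = 1 ↔ x.a = 0 := by
  constructor
  · intro h
    have hb := congrArg SQ.b h
    simp only [mul_b, one_b, CharTwo.add_self_eq_zero, zero_add] at hb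
    rcases mul_eq_zero.mp hb with h1 | h1
    · exact (sg_eq_zero_iff m _).mp h1
    · exact h1
  · intro h
    ext
    · simp [h]
    · simp [h, CharTwo.add_self_eq_zero]

end grp

section iso

variable {F : Type*} [Field F] [Fintype F] [CharP F 2] {m : ℕ}

/-- the abstract group is the standard Sylow 2-subgroup -/
noncomputable def toTSub (hF : Fintype.card F = 2 ^ (2 * m + 1)) : SQ F m →* TSub (m := m) hF where
  toFun x := ⟨TS hF x.a x.b, (mem_TSub_iff hF _).mpr ⟨x.a, x.b, rfl⟩⟩
  map_one' := Subtype.ext (TS_zero hF)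
  map_mul' x y := Subtype.ext (by
    show TS hF (x.a + y.a) (x.b + y.b + sg m x.a * y.a) = TS hF x.a x.b * TS hF y.a y.b
    rw [TS_mul])

theorem toTSub_bijective (hF : Fintype.card F = 2 ^ (2 * m + 1)) :
    Function.Bijective (toTSub (m := m) hF) := by
  constructor
  · intro x y h
    have h1 : TS hF x.a x.b = TS hF y.a y.b := congrArg Subtype.val h
    obtain ⟨h2, h3⟩ := TS_injective hF h1
    exact SQ.ext h2 h3
  · rintro ⟨t, ht⟩
    obtain ⟨a, b, rfl⟩ := (mem_TSub_iff hF t).mp ht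
    exact ⟨⟨a, b⟩, rfl⟩

/-- the isomorphism -/
noncomputable def equivTSub (hF : Fintype.card F = 2 ^ (2 * m + 1)) : SQ F m ≃* TSub (m := m) hF :=
  MulEquiv.ofBijective (toTSub hF) (toTSub_bijective hF)

end iso

section aut

variable {F : Type*} [Field F] [CharP F 2] {m : ℕ}

/-- first coordinate part of an automorphism -/
def fpart (α : MulAut (SQ F m)) (a : F) : F := (α ⟨a, 0⟩).a
/-- the cocycle part -/
def hpart (α : MulAut (SQ F m)) (a : F) : F := (α ⟨a, 0⟩).b
/-- central part -/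
def gpart (α : MulAut (SQ F m)) (b : F) : F := (α ⟨0, b⟩).b

theorem aut_center_a (α : MulAut (SQ F m)) (b : F) : (α ⟨0, b⟩).a = 0 := by
  rw [← sq_eq_one_iff, ← map_mul]
  have : (⟨0, b⟩ : SQ F m) * ⟨0, b⟩ = 1 := (sq_eq_one_iff _).mpr rfl
  rw [this, map_one]

theorem aut_center (α : MulAut (SQ F m)) (b : F) : α ⟨0, b⟩ = ⟨0, gpart α b⟩ :=
  SQ.ext (aut_center_a α b) rfl

theorem aut_apply (α : MulAut (SQ F m)) (x : SQ F m) :
    α x = ⟨fpart α x.a, hpart α x.a + gpart α x.b⟩ := by
  have h1 : x = (⟨x.a, 0⟩ : SQ F m) * ⟨0, x.b⟩ := by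
    ext
    · simp
    · simp
  conv_lhs => rw [h1]
  rw [map_mul, aut_center]
  ext
  · simp [fpart]
  · simp [hpart]

theorem fpart_add (α : MulAut (SQ F m)) (a c : F) : fpart α (a + c) = fpart α a + fpart α c := by
  have h1 : (⟨a, 0⟩ : SQ F m) * ⟨c, 0⟩ = ⟨a + c, sg m a * c⟩ := by
    ext
    · simp
    · simp
  have h2 := congrArg SQ.a (map_mul α (⟨a, 0⟩ : SQ F m) ⟨c, 0⟩)
  rw [h1, aut_apply α ⟨a + c, sg m a * c⟩] at h2
  exact h2

theorem gpart_add (α : MulAut (SQ F m)) (b d : F) : gpart α (b + d) = gpart α b + gpart α d := by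
  have h1 : (⟨0, b⟩ : SQ F m) * ⟨0, d⟩ = ⟨0, b + d⟩ := by
    ext
    · simp
    · simp
  have h2 := congrArg SQ.b (map_mul α (⟨0, b⟩ : SQ F m) ⟨0, d⟩)
  rw [h1, aut_center, aut_center, aut_center] at h2
  simpa [sg_zero] using h2

/-- the cocycle identity -/
theorem cocycle (α : MulAut (SQ F m)) (a c : F) :
    hpart α (a + c) + gpart α (sg m a * c) =
      hpart α a + hpart α c + sg m (fpart α a) * fpart α c := by
  have h1 : (⟨a, 0⟩ : SQ F m) * ⟨c, 0⟩ = ⟨a + c, sg m a * c⟩ := by
    ext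
    · simp
    · simp
  have h2 := congrArg SQ.b (map_mul α (⟨a, 0⟩ : SQ F m) ⟨c, 0⟩)
  rw [h1, aut_apply α ⟨a + c, sg m a * c⟩] at h2
  exact h2

theorem hpart_zero (α : MulAut (SQ F m)) : hpart α 0 = 0 := by
  have : α (⟨0, 0⟩ : SQ F m) = 1 := map_one α
  exact congrArg SQ.b this

theorem gpart_zero (α : MulAut (SQ F m)) : gpart α 0 = 0 := by
  have : α (⟨0, 0⟩ : SQ F m) = 1 := map_one α
  exact congrArg SQ.b this

theorem fpart_zero (α : MulAut (SQ F m)) : fpart α 0 = 0 := by
  have : α (⟨0, 0⟩ : SQ F m) = 1 := map_one α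
  exact congrArg SQ.a this

/-- the key bi-additive form -/
def Kf (α : MulAut (SQ F m)) (a c : F) : F :=
  sg m (fpart α a) * fpart α c + gpart α (sg m a * c)

theorem Kf_eq (α : MulAut (SQ F m)) (a c : F) :
    Kf α a c = hpart α (a + c) + hpart α a + hpart α c := by
  unfold Kf
  have h := cocycle α a c
  have h2 : gpart α (sg m a * c) =
      hpart α a + hpart α c + sg m (fpart α a) * fpart α c + hpart α (a + c) := by
    rw [← h]
    rw [add_comm (hpart α (a + c)), add_assoc, CharTwo.add_self_eq_zero, add_zero]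
  rw [h2]
  have : sg m (fpart α a) * fpart α c +
      (hpart α a + hpart α c + sg m (fpart α a) * fpart α c + hpart α (a + c)) =
      (sg m (fpart α a) * fpart α c + sg m (fpart α a) * fpart α c) +
        (hpart α (a + c) + hpart α a + hpart α c) := by ring
  rw [this, CharTwo.add_self_eq_zero, zero_add]

theorem Kf_symm (α : MulAut (SQ F m)) (a c : F) : Kf α a c = Kf α c a := by
  rw [Kf_eq, Kf_eq, add_comm c a]
  ring

theorem Kf_self (α : MulAut (SQ F m)) (a : F) : Kf α a a = 0 := by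
  rw [Kf_eq, CharTwo.add_self_eq_zero, hpart_zero, zero_add, CharTwo.add_self_eq_zero]

theorem fpart_mul (α β : MulAut (SQ F m)) (a : F) : fpart (α * β) a = fpart α (fpart β a) := by
  show ((α * β) ⟨a, 0⟩).a = _
  rw [MulAut.mul_apply, aut_apply α (β ⟨a, 0⟩)]
  rfl

theorem fpart_one (a : F) : fpart (1 : MulAut (SQ F m)) a = a := rfl

theorem fpart_injective (α : MulAut (SQ F m)) : Function.Injective (fpart α) := by
  intro a c h
  have h1 : fpart (α⁻¹ * α) a = fpart (α⁻¹ * α) c := by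
    rw [fpart_mul, fpart_mul, h]
  rw [inv_mul_cancel, fpart_one, fpart_one] at h1
  exact h1

theorem gpart_mul (α β : MulAut (SQ F m)) (b : F) : gpart (α * β) b = gpart α (gpart β b) := by
  unfold gpart
  rw [MulAut.mul_apply, aut_center β, aut_center α]

theorem gpart_injective (α : MulAut (SQ F m)) : Function.Injective (gpart α) := by
  intro a c h
  have h1 : gpart (α⁻¹ * α) a = gpart (α⁻¹ * α) c := by
    rw [gpart_mul, gpart_mul, h]
  rw [inv_mul_cancel] at h1
  exact h1

end aut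

end Cfsg.Agent.Lib.Helper14.SzAut
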