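import Mathlib
import Cfsg.Agent.Lib.Helper14.SzAutA

/-!
# Automorphisms of the Sylow 2-subgroup of a Suzuki group, part B (helper14)

Linearized polynomials: every additive map of a finite field of characteristic two is a
combination of Frobenius powers.
-/

set_option autoImplicit false
set_option maxHeartbeats 1000000
set_option linter.unusedSectionVars false

namespace Cfsg.Agent.Lib.Helper14.SzAut

open Cfsg Cfsg.Agent.Lib.Helper14.Sz

variable {F : Type*} [Field F] [Fintype F] [CharP F 2] {m : ℕ}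

/-- Frobenius powers are periodic -/
theorem pow_two_pow_mod (hF : Fintype.card F = 2 ^ (2 * m + 1)) (a : F) (k : ℕ) :
    a ^ 2 ^ (k % (2 * m + 1)) = a ^ 2 ^ k := by
  conv_rhs => rw [← Nat.mod_add_div k (2 * m + 1)]
  rw [pow_add, pow_mul, pow_mul, ← hF, FiniteField.pow_card_pow]

theorem zmod_cast_self : ((2 * m + 1 : ℕ) : ZMod (2 * m + 1)) = 0 := ZMod.natCast_self _

/-- the shift `s = m + 1` -/
def sh (m : ℕ) : ZMod (2 * m + 1) := ((m + 1 : ℕ) : ZMod (2 * m + 1))

theorem sh_add_sh : sh m + sh m = 1 := by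
  have h := zmod_cast_self (m := m)
  have : sh m + sh m = ((2 * m + 1 : ℕ) : ZMod (2 * m + 1)) + 1 := by
    unfold sh
    push_cast
    ring
  rw [this, h, zero_add]

theorem natCast_ne_zero {k : ℕ} (h1 : 0 < k) (h2 : k < 2 * m + 1) :
    (k : ZMod (2 * m + 1)) ≠ 0 := by
  intro h
  rw [ZMod.natCast_eq_zero_iff] at h
  exact absurd (Nat.le_of_dvd h1 h) (by omega)

theorem sh_ne_zero (hm : 1 ≤ m) : sh m ≠ 0 := natCast_ne_zero (by omega) (by omega)

theorem val_sh (hm : 1 ≤ m) : (sh m).val = m + 1 := by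
  unfold sh
  rw [ZMod.val_natCast, Nat.mod_eq_of_lt (by omega)]

theorem pow_shift (hm : 1 ≤ m) (hF : Fintype.card F = 2 ^ (2 * m + 1)) (a : F)
    (u : ZMod (2 * m + 1)) : a ^ 2 ^ (u + sh m).val = sg m (a ^ 2 ^ u.val) := by
  rw [ZMod.val_add, val_sh hm, pow_two_pow_mod hF]
  unfold sg
  rw [← pow_mul, ← pow_add]

theorem pow_shift_one (hm : 1 ≤ m) (hF : Fintype.card F = 2 ^ (2 * m + 1)) (a : F)
    (u : ZMod (2 * m + 1)) : a ^ 2 ^ (u + 1).val = (a ^ 2 ^ u.val) ^ 2 := by
  have h1 : (1 : ZMod (2 * m + 1)).val = 1 := by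
    haveI : Fact (1 < 2 * m + 1) := ⟨by omega⟩
    exact ZMod.val_one _
  rw [ZMod.val_add, h1, pow_two_pow_mod hF, ← pow_mul, ← pow_succ]

/-- distinct Frobenius powers are distinct functions -/
theorem frob_distinct (hm : 1 ≤ m) (hF : Fintype.card F = 2 ^ (2 * m + 1))
    (i j : ZMod (2 * m + 1)) (h : ∀ a : F, a ^ 2 ^ i.val = a ^ 2 ^ j.val) : i = j := by
  classical
  obtain ⟨ζ, hζ⟩ := IsCyclic.exists_generator (α := Fˣ)
  have hord : orderOf ζ = 2 ^ (2 * m + 1) - 1 := by
    rw [orderOf_eq_card_of_forall_mem_zpowers hζ, Nat.card_eq_fintype_card, Fintype.card_units, hF]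
  have h1 : ζ ^ 2 ^ i.val = ζ ^ 2 ^ j.val := by
    apply Units.ext
    rw [Units.val_pow_eq_pow_val, Units.val_pow_eq_pow_val]
    exact h ζ
  rw [pow_eq_pow_iff_modEq, hord] at h1
  have hlt : ∀ k : ZMod (2 * m + 1), 2 ^ k.val < 2 ^ (2 * m + 1) - 1 := by
    intro k
    have hk : k.val < 2 * m + 1 := ZMod.val_lt k
    have h2 : 2 ^ k.val ≤ 2 ^ (2 * m) := Nat.pow_le_pow_right (by norm_num) (by omega)
    have h3 : 2 ^ (2 * m + 1) = 2 * 2 ^ (2 * m) := by rw [pow_succ]; ring
    have h4 : 2 ^ 2 ≤ 2 ^ (2 * m) := Nat.pow_le_pow_right (by norm_num) (by omega)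
    omega
  have h2 := Nat.ModEq.eq_of_lt_of_lt h1 (hlt i) (hlt j)
  exact ZMod.val_injective _ (Nat.pow_right_injective (le_refl 2) h2)

/-- Dedekind independence for the Frobenius powers -/
theorem frob_indep (hm : 1 ≤ m) (hF : Fintype.card F = 2 ^ (2 * m + 1))
    (c : ZMod (2 * m + 1) → F) (h : ∀ a : F, ∑ i, c i * a ^ 2 ^ i.val = 0) : ∀ i, c i = 0 := by
  have hli := linearIndependent_monoidHom F F
  have hinj : Function.Injective (fun i : ZMod (2 * m + 1) => (powMonoidHom (2 ^ i.val) : F →* F)) := by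
    intro i j hij
    apply frob_distinct hm hF
    intro a
    have := congrArg (fun f : F →* F => f a) hij
    simpa using this
  have hli2 := hli.comp _ hinj
  rw [Fintype.linearIndependent_iff] at hli2
  apply hli2 c
  funext a
  simp only [Function.comp_apply, Finset.sum_apply, Pi.smul_apply, powMonoidHom_apply,
    smul_eq_mul, Pi.zero_apply]
  exact h a

/-- Dedekind independence in two variables -/
theorem frob_indep_two (hm : 1 ≤ m) (hF : Fintype.card F = 2 ^ (2 * m + 1))
    (K : ZMod (2 * m + 1) → ZMod (2 * m + 1) → F)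
    (h : ∀ a c : F, ∑ u, ∑ v, K u v * (a ^ 2 ^ u.val * c ^ 2 ^ v.val) = 0) :
    ∀ u v, K u v = 0 := by
  intro u v
  have h1 : ∀ c : F, ∀ u, ∑ v, K u v * c ^ 2 ^ v.val = 0 := by
    intro c
    apply frob_indep hm hF
    intro a
    rw [← h a c]
    apply Finset.sum_congr rfl
    intro u _
    rw [Finset.sum_mul]
    apply Finset.sum_congr rfl
    intro v _
    ring
  exact frob_indep hm hF (K u) (fun c => h1 c u) v

/-- the number of additive endomorphisms -/
theorem card_addHom (hF : Fintype.card F = 2 ^ (2 * m + 1)) :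
    Nat.card (F →+ F) = 2 ^ ((2 * m + 1) * (2 * m + 1)) := by
  letI : Algebra (ZMod 2) F := ZMod.algebra F 2
  have hfr : Module.finrank (ZMod 2) F = 2 * m + 1 := by
    have h1 := Module.card_eq_pow_finrank (K := ZMod 2) (V := F)
    rw [ZMod.card, hF] at h1
    exact (Nat.pow_right_injective (le_refl 2) h1).symm
  let b := Module.finBasisOfFinrankEq (ZMod 2) F hfr
  have e1 : (F →+ F) ≃ (F →ₗ[ZMod 2] F) := (AddMonoidHom.toZModLinearMapEquiv 2).toEquiv
  have e2 : (Fin (2 * m + 1) → F) ≃ (F →ₗ[ZMod 2] F) := (b.constr (ZMod 2)).toEquiv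
  rw [Nat.card_congr e1, ← Nat.card_congr e2, Nat.card_eq_fintype_card, Fintype.card_fun,
    Fintype.card_fin, hF, ← pow_mul]

/-- the linearized polynomial with given coefficients -/
def expand (c : ZMod (2 * m + 1) → F) : F →+ F where
  toFun a := ∑ i, c i * a ^ 2 ^ i.val
  map_zero' := by
    apply Finset.sum_eq_zero
    intro i _
    rw [zero_pow (by positivity), mul_zero]
  map_add' a b := by
    rw [← Finset.sum_add_distrib]
    apply Finset.sum_congr rfl
    intro i _
    rw [add_pow_char_pow, mul_add]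

theorem expand_apply (c : ZMod (2 * m + 1) → F) (a : F) :
    expand c a = ∑ i, c i * a ^ 2 ^ i.val := rfl

theorem expand_injective (hm : 1 ≤ m) (hF : Fintype.card F = 2 ^ (2 * m + 1)) :
    Function.Injective (expand (F := F) (m := m)) := by
  intro c c' h
  funext i
  have h1 : ∀ a : F, ∑ i, (c i - c' i) * a ^ 2 ^ i.val = 0 := by
    intro a
    have := DFunLike.congr_fun h a
    rw [expand_apply, expand_apply] at this
    simp only [sub_mul, Finset.sum_sub_distrib, this, sub_self]
  exact sub_eq_zero.mp (frob_indep hm hF _ h1 i)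

theorem expand_surjective (hm : 1 ≤ m) (hF : Fintype.card F = 2 ^ (2 * m + 1)) :
    Function.Surjective (expand (F := F) (m := m)) := by
  haveI : Finite (F →+ F) := by
    apply Nat.finite_of_card_ne_zero
    rw [card_addHom hF]
    positivity
  have h := (Nat.bijective_iff_injective_and_card (expand (F := F) (m := m))).mpr
    ⟨expand_injective hm hF, by
      rw [card_addHom hF, Nat.card_eq_fintype_card, Fintype.card_fun, ZMod.card, hF, ← pow_mul]⟩
  exact h.2

end Cfsg.Agent.Lib.Helper14.SzAut
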