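import Mathlib
import Cfsg.Agent.Lib.Helper14.SzAutB

/-!
# Automorphisms of the Sylow 2-subgroup of a Suzuki group, part C (helper14)

Semilinearity of the first coordinate part.
-/

set_option autoImplicit false
set_option maxHeartbeats 1000000
set_option linter.unusedSectionVars false

namespace Cfsg.Agent.Lib.Helper14.SzAut

open Cfsg Cfsg.Agent.Lib.Helper14.Sz

variable {F : Type*} [Field F] [Fintype F] [CharP F 2] {m : ℕ}

/-- `sg` as an additive map -/
def sgAdd (F : Type*) [Field F] [CharP F 2] (m : ℕ) : F →+ F where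
  toFun := sg m
  map_zero' := sg_zero m
  map_add' := sg_add m

theorem sg_sum {ι : Type*} (s : Finset ι) (f : ι → F) : sg m (∑ i ∈ s, f i) = ∑ i ∈ s, sg m (f i) :=
  map_sum (sgAdd F m) f s

/-- in characteristic two a symmetric double sum reduces to its diagonal -/
theorem sum_symm_char_two {ι : Type*} [Fintype ι] [DecidableEq ι] (T : ι → ι → F)
    (hT : ∀ u v, T u v = T v u) : ∑ u, ∑ v, T u v = ∑ u, T u u := by
  rw [← Fintype.sum_prod_type']
  rw [← Finset.sum_filter_add_sum_filter_not Finset.univ (fun p : ι × ι => p.1 = p.2)]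
  have h2 : ∑ p ∈ Finset.univ.filter (fun p : ι × ι => ¬ p.1 = p.2), T p.1 p.2 = 0 := by
    refine Finset.sum_involution (fun p _ => p.swap) ?_ ?_ ?_ ?_
    · intro p _
      rw [Prod.fst_swap, Prod.snd_swap, hT p.2 p.1, CharTwo.add_self_eq_zero]
    · intro p hp _ h
      have hp' := (Finset.mem_filter.mp hp).2
      apply hp'
      have := congrArg Prod.fst h
      rw [Prod.fst_swap] at this
      exact this.symm
    · intro p hp
      have hp' := (Finset.mem_filter.mp hp).2
      rw [Finset.mem_filter]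
      refine ⟨Finset.mem_univ _, ?_⟩
      rw [Prod.fst_swap, Prod.snd_swap]
      exact fun h => hp' h.symm
    · intro p _
      exact Prod.swap_swap p
  rw [h2, add_zero]
  have h1 : Finset.univ.filter (fun p : ι × ι => p.1 = p.2) =
      Finset.univ.map ⟨fun u : ι => (u, u), fun a b h => (Prod.ext_iff.mp h).1⟩ := by
    ext ⟨a, b⟩
    simp only [Finset.mem_filter, Finset.mem_univ, true_and, Finset.mem_map,
      Function.Embedding.coeFn_mk, Prod.mk.injEq]
    constructor
    · intro h
      exact ⟨a, by subst h; rfl⟩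
    · rintro ⟨u, hu⟩
      have h3 := Prod.ext_iff.mp hu
      exact h3.1.symm.trans h3.2
  rw [h1, Finset.sum_map]
  rfl

/-- the coefficient matrix of the form `Kf` -/
def Kc (c d : ZMod (2 * m + 1) → F) (u v : ZMod (2 * m + 1)) : F :=
  sg m (c (u - sh m)) * c v + (if u = v + sh m then d v else 0)

theorem sg_expand (hm : 1 ≤ m) (hF : Fintype.card F = 2 ^ (2 * m + 1))
    (c : ZMod (2 * m + 1) → F) (a : F) :
    sg m (expand c a) = ∑ u, sg m (c (u - sh m)) * a ^ 2 ^ u.val := by
  rw [expand_apply, sg_sum]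
  apply Fintype.sum_equiv (Equiv.addRight (sh m))
  intro i
  rw [Equiv.coe_addRight, add_sub_cancel_right, sg_mul, pow_shift hm hF]

theorem Kf_expand (hm : 1 ≤ m) (hF : Fintype.card F = 2 ^ (2 * m + 1))
    (α : MulAut (SQ F m)) (c d : ZMod (2 * m + 1) → F)
    (hc : ∀ a, fpart α a = expand c a) (hd : ∀ b, gpart α b = expand d b) (a x : F) :
    Kf α a x = ∑ u, ∑ v, Kc c d u v * (a ^ 2 ^ u.val * x ^ 2 ^ v.val) := by
  unfold Kf
  rw [hc, hc, hd, sg_expand hm hF, expand_apply c x, Finset.sum_mul_sum]
  have h2 : expand d (sg m a * x) =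
      ∑ u, ∑ v, (if u = v + sh m then d v else 0) * (a ^ 2 ^ u.val * x ^ 2 ^ v.val) := by
    rw [Finset.sum_comm, expand_apply]
    apply Finset.sum_congr rfl
    intro v _
    rw [Finset.sum_eq_single (v + sh m)]
    · rw [if_pos rfl, mul_pow, pow_shift hm hF, sg_pow]
    · intro u _ hu
      rw [if_neg hu, zero_mul]
    · intro h
      exact absurd (Finset.mem_univ _) h
  rw [h2, ← Finset.sum_add_distrib]
  apply Finset.sum_congr rfl
  intro u _
  rw [← Finset.sum_add_distrib]
  apply Finset.sum_congr rfl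
  intro v _
  unfold Kc
  ring

theorem Kc_symm (hm : 1 ≤ m) (hF : Fintype.card F = 2 ^ (2 * m + 1))
    (α : MulAut (SQ F m)) (c d : ZMod (2 * m + 1) → F)
    (hc : ∀ a, fpart α a = expand c a) (hd : ∀ b, gpart α b = expand d b) :
    ∀ u v, Kc c d u v = Kc c d v u := by
  intro u v
  have key := frob_indep_two hm hF (fun u v => Kc c d u v - Kc c d v u) (by
    intro a x
    simp only [sub_mul, Finset.sum_sub_distrib]
    rw [← Kf_expand hm hF α c d hc hd a x, sub_eq_zero, Kf_symm, Kf_expand hm hF α c d hc hd x a,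
      Finset.sum_comm]
    apply Finset.sum_congr rfl
    intro u _
    apply Finset.sum_congr rfl
    intro v _
    ring)
  exact sub_eq_zero.mp (key u v)

theorem Kc_diag (hm : 1 ≤ m) (hF : Fintype.card F = 2 ^ (2 * m + 1))
    (α : MulAut (SQ F m)) (c d : ZMod (2 * m + 1) → F)
    (hc : ∀ a, fpart α a = expand c a) (hd : ∀ b, gpart α b = expand d b) :
    ∀ u, Kc c d u u = 0 := by
  classical
  have hsym := Kc_symm hm hF α c d hc hd
  have h1 : ∀ a : F, ∑ w, Kc c d (w - 1) (w - 1) * a ^ 2 ^ w.val = 0 := by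
    intro a
    have h2 := Kf_self α a
    rw [Kf_expand hm hF α c d hc hd a a, sum_symm_char_two _ (by
      intro u v
      rw [hsym u v]
      ring)] at h2
    rw [← h2]
    symm
    apply Fintype.sum_equiv (Equiv.addRight (1 : ZMod (2 * m + 1)))
    intro u
    rw [Equiv.coe_addRight, add_sub_cancel_right, pow_shift_one hm hF, sq]
  intro u
  have := frob_indep hm hF _ h1 (u + 1)
  rwa [add_sub_cancel_right] at this

/-- the two coefficient relations -/
theorem coeff_rel1 (hm : 1 ≤ m) (hF : Fintype.card F = 2 ^ (2 * m + 1))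
    (α : MulAut (SQ F m)) (c d : ZMod (2 * m + 1) → F)
    (hc : ∀ a, fpart α a = expand c a) (hd : ∀ b, gpart α b = expand d b) (u : ZMod (2 * m + 1)) :
    sg m (c (u - sh m)) * c u = 0 := by
  have h := Kc_diag hm hF α c d hc hd u
  unfold Kc at h
  have hne : u ≠ u + sh m := by
    intro h1
    apply sh_ne_zero hm
    have : u + sh m = u + 0 := by rw [add_zero]; exact h1.symm
    exact add_left_cancel this
  rwa [if_neg hne, add_zero] at h

theorem coeff_rel2 (hm : 1 ≤ m) (hF : Fintype.card F = 2 ^ (2 * m + 1))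
    (α : MulAut (SQ F m)) (c d : ZMod (2 * m + 1) → F)
    (hc : ∀ a, fpart α a = expand c a) (hd : ∀ b, gpart α b = expand d b)
    (u v : ZMod (2 * m + 1)) (h1 : u ≠ v + sh m) (h2 : v ≠ u + sh m) :
    sg m (c (u - sh m)) * c v = sg m (c (v - sh m)) * c u := by
  have h := Kc_symm hm hF α c d hc hd u v
  unfold Kc at h
  rwa [if_neg h1, if_neg h2, add_zero, add_zero] at h

/-- the combinatorial heart: at most one coefficient is nonzero -/
theorem support_subsingleton (hm : 1 ≤ m) (c : ZMod (2 * m + 1) → F)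
    (r1 : ∀ u, sg m (c (u - sh m)) * c u = 0)
    (r2 : ∀ u v, u ≠ v + sh m → v ≠ u + sh m →
      sg m (c (u - sh m)) * c v = sg m (c (v - sh m)) * c u) :
    ∀ x y, c x ≠ 0 → c y ≠ 0 → x = y := by
  have hss := sh_add_sh (m := m)
  -- propagation
  have prop : ∀ x y, c x ≠ 0 → c y ≠ 0 → x ≠ y → x + 1 ≠ y →
      c (x + sh m) ≠ 0 ∧ c (y - sh m) ≠ 0 := by
    intro x y hx hy hxy hxy1
    have h := r2 (x + sh m) y (by
      intro h
      exact hxy (add_right_cancel h)) (by
      intro h
      apply hxy1
      rw [h, add_assoc, hss])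
    rw [add_sub_cancel_right] at h
    have hne : sg m (c x) * c y ≠ 0 := mul_ne_zero (by rwa [Ne, sg_eq_zero_iff]) hy
    rw [h] at hne
    constructor
    · exact right_ne_zero_of_mul hne
    · have := left_ne_zero_of_mul hne
      rwa [Ne, sg_eq_zero_iff] at this
  -- the main induction
  have L : ∀ j k : ℕ, k + j = m → 1 ≤ k → ∀ x y, c x ≠ 0 → c y ≠ 0 →
      x - y = (k : ZMod (2 * m + 1)) → False := by
    intro j
    induction j with
    | zero =>
      intro k hk hk1 x y hx hy hd
      have hkm : k = m := by omega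
      rw [hkm] at hd
      have h1 := r1 y
      have hys : y - sh m = x := by
        have h0 := zmod_cast_self (m := m)
        have : x = y + (m : ZMod (2 * m + 1)) := by rw [← hd]; ring
        rw [this]
        unfold sh
        have h3 : (y - ((m + 1 : ℕ) : ZMod (2 * m + 1))) + ((2 * m + 1 : ℕ) : ZMod (2 * m + 1)) =
            y + (m : ZMod (2 * m + 1)) := by
          push_cast
          ring
        rw [← h3, h0, add_zero]
      rw [hys] at h1
      exact mul_ne_zero (by rwa [Ne, sg_eq_zero_iff]) hy h1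
    | succ j ih =>
      intro k hk hk1 x y hx hy hd
      have hxy : x ≠ y := by
        intro h
        rw [h, sub_self] at hd
        exact natCast_ne_zero (m := m) (k := k) (by omega) (by omega) hd.symm
      have hxy1 : x + 1 ≠ y := by
        intro h
        have h2 : ((k + 1 : ℕ) : ZMod (2 * m + 1)) = 0 := by
          push_cast
          rw [← hd, ← h]
          ring
        exact natCast_ne_zero (m := m) (k := k + 1) (by omega) (by omega) h2
      obtain ⟨h1, h2⟩ := prop x y hx hy hxy hxy1
      apply ih (k + 1) (by omega) (by omega) (x + sh m) (y - sh m) h1 h2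
      have : x + sh m - (y - sh m) = (x - y) + (sh m + sh m) := by ring
      rw [this, hss, hd]
      push_cast
      rfl
  intro x y hx hy
  by_contra hxy
  have hd0 : x - y ≠ 0 := sub_ne_zero.mpr hxy
  set r := (x - y).val with hr
  have hr1 : 1 ≤ r := by
    rcases Nat.eq_zero_or_pos r with h | h
    · exact absurd ((ZMod.val_eq_zero _).mp h) hd0
    · exact h
  have hr2 : r < 2 * m + 1 := ZMod.val_lt _
  have hcast : ((r : ℕ) : ZMod (2 * m + 1)) = x - y := ZMod.natCast_zmod_val _
  rcases Nat.lt_or_ge m r with h | h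
  · -- use the pair (y, x)
    have hk : ((2 * m + 1 - r : ℕ) : ZMod (2 * m + 1)) = y - x := by
      rw [Nat.cast_sub hr2.le, zmod_cast_self, hcast]
      ring
    exact L (m - (2 * m + 1 - r)) (2 * m + 1 - r) (by omega) (by omega) y x hy hx hk.symm
  · exact L (m - r) r (by omega) hr1 x y hx hy hcast.symm

/-- semilinearity of the first coordinate part of an automorphism -/
theorem semilinear (hm : 1 ≤ m) (hF : Fintype.card F = 2 ^ (2 * m + 1))
    (α : MulAut (SQ F m)) :
    ∃ (i : ZMod (2 * m + 1)) (l : F), l ≠ 0 ∧ ∀ a, fpart α a = l * a ^ 2 ^ i.val := by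
  classical
  set fA : F →+ F := ⟨⟨fpart α, fpart_zero α⟩, fpart_add α⟩ with hfA
  set gA : F →+ F := ⟨⟨gpart α, gpart_zero α⟩, gpart_add α⟩ with hgA
  obtain ⟨c, hc⟩ := expand_surjective hm hF fA
  obtain ⟨d, hd⟩ := expand_surjective hm hF gA
  have hc' : ∀ a, fpart α a = expand c a := fun a => by rw [hc]; rfl
  have hd' : ∀ b, gpart α b = expand d b := fun b => by rw [hd]; rfl
  have hsub := support_subsingleton hm c (coeff_rel1 hm hF α c d hc' hd')
    (coeff_rel2 hm hF α c d hc' hd')
  have hex : ∃ i, c i ≠ 0 := by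
    by_contra hno
    push Not at hno
    have h1 : fpart α 1 = fpart α 0 := by
      rw [hc', hc', expand_apply, expand_apply]
      simp [hno]
    exact one_ne_zero (fpart_injective α h1)
  obtain ⟨i, hi⟩ := hex
  refine ⟨i, c i, hi, ?_⟩
  intro a
  rw [hc', expand_apply]
  apply Finset.sum_eq_single i
  · intro j _ hj
    have : c j = 0 := by
      by_contra h
      exact hj (hsub j i h hi)
    rw [this, zero_mul]
  · intro h
    exact absurd (Finset.mem_univ _) h

end Cfsg.Agent.Lib.Helper14.SzAut
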