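import Mathlib
import Cfsg.Agent.Lib.Helper14.SzAutC
import Cfsg.Agent.Lib.Helper14.SzH
import Cfsg.Agent.Lib.Helper16.PCore

/-!
# Automorphisms of the Sylow 2-subgroup of a Suzuki group, part D (helper14)

Construction of all automorphisms and the count.
-/

set_option autoImplicit false
set_option maxHeartbeats 1000000
set_option linter.unusedSectionVars false

namespace Cfsg.Agent.Lib.Helper14.SzAut

open Cfsg Cfsg.Agent.Lib.Helper14.Sz

variable {F : Type*} [Field F] [Fintype F] [CharP F 2] {m : ℕ}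

instance : Finite (SQ F m) :=
  Finite.of_injective (fun x : SQ F m => (x.a, x.b)) (by
    intro x y h
    have h1 := Prod.ext_iff.mp h
    exact SQ.ext h1.1 h1.2)

theorem frob_injective (k : ℕ) : Function.Injective (fun a : F => a ^ 2 ^ k) := by
  intro a b h
  simp only at h
  have h1 : (a - b) ^ 2 ^ k = 0 := by
    rw [sub_pow_char_pow, h, sub_self]
  exact sub_eq_zero.mp (pow_eq_zero_iff (by positivity) |>.mp h1)

/-- the standard automorphisms as homomorphisms -/
def stdHom (l : F) (k : ℕ) (h : F →+ F) : SQ F m →* SQ F m where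
  toFun x := ⟨l * x.a ^ 2 ^ k, h x.a + sg m l * l * x.b ^ 2 ^ k⟩
  map_one' := by
    ext
    · simp
    · simp
  map_mul' x y := by
    ext
    · simp only [mul_a]
      rw [add_pow_char_pow, mul_add]
    · simp only [mul_b, mul_a]
      rw [map_add, add_pow_char_pow, add_pow_char_pow, mul_pow, sg_mul, ← sg_pow]
      ring

theorem stdHom_apply (l : F) (k : ℕ) (h : F →+ F) (x : SQ F m) :
    stdHom l k h x = ⟨l * x.a ^ 2 ^ k, h x.a + sg m l * l * x.b ^ 2 ^ k⟩ := rfl

theorem stdHom_bijective {l : F} (hl : l ≠ 0) (k : ℕ) (h : F →+ F) :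
    Function.Bijective (stdHom (m := m) l k h) := by
  have hinj : Function.Injective (stdHom (m := m) l k h) := by
    intro x y hxy
    rw [stdHom_apply, stdHom_apply] at hxy
    have h1 := congrArg SQ.a hxy
    have h2 := congrArg SQ.b hxy
    simp only at h1 h2
    have ha : x.a = y.a := frob_injective k (mul_left_cancel₀ hl h1)
    rw [ha] at h2
    have hN : sg m l * l ≠ 0 := mul_ne_zero (by rwa [Ne, sg_eq_zero_iff]) hl
    have hb : x.b = y.b := frob_injective k (mul_left_cancel₀ hN (add_left_cancel h2))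
    exact SQ.ext ha hb
  exact ⟨hinj, Finite.injective_iff_surjective.mp hinj⟩

/-- the standard automorphisms -/
noncomputable def stdAut (p : Fˣ × ZMod (2 * m + 1) × (F →+ F)) : MulAut (SQ F m) :=
  MulEquiv.ofBijective (stdHom (p.1 : F) p.2.1.val p.2.2)
    (stdHom_bijective (Units.ne_zero p.1) _ _)

theorem stdAut_apply (p : Fˣ × ZMod (2 * m + 1) × (F →+ F)) (x : SQ F m) :
    stdAut p x = ⟨(p.1 : F) * x.a ^ 2 ^ p.2.1.val,
      p.2.2 x.a + sg m (p.1 : F) * (p.1 : F) * x.b ^ 2 ^ p.2.1.val⟩ := rfl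

theorem stdAut_injective (hm : 1 ≤ m) (hF : Fintype.card F = 2 ^ (2 * m + 1)) :
    Function.Injective (stdAut (F := F) (m := m)) := by
  rintro ⟨l, i, h⟩ ⟨l', i', h'⟩ heq
  have key : ∀ x : SQ F m, stdAut (l, i, h) x = stdAut (l', i', h') x := fun x => by rw [heq]
  have hl : l = l' := by
    have := congrArg SQ.a (key ⟨1, 0⟩)
    simp only [stdAut_apply, one_pow, mul_one] at this
    exact Units.ext this
  subst hl
  have hi : i = i' := by
    apply frob_distinct hm hF
    intro a
    have := congrArg SQ.a (key ⟨a, 0⟩)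
    simp only [stdAut_apply] at this
    exact mul_left_cancel₀ (Units.ne_zero l) this
  subst hi
  have hh : h = h' := by
    ext a
    have := congrArg SQ.b (key ⟨a, 0⟩)
    simp only [stdAut_apply, zero_pow (show 2 ^ i.val ≠ 0 by positivity), mul_zero, add_zero] at this
    exact this
  rw [hh]

theorem stdAut_surjective (hm : 1 ≤ m) (hF : Fintype.card F = 2 ^ (2 * m + 1)) :
    Function.Surjective (stdAut (F := F) (m := m)) := by
  intro α
  obtain ⟨i, l, hl, hf⟩ := semilinear hm hF α
  have hN : sg m l * l ≠ 0 := mul_ne_zero (by rwa [Ne, sg_eq_zero_iff]) hl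
  -- the central part
  have hg : ∀ b, gpart α b = sg m l * l * b ^ 2 ^ i.val := by
    intro b
    obtain ⟨a, rfl⟩ := sg_mul_self_surjective hF b
    have h1 := Kf_self α a
    unfold Kf at h1
    have h2 : gpart α (sg m a * a) = sg m (fpart α a) * fpart α a :=
      (CharTwo.add_eq_zero.mp h1).symm
    simp only
    rw [h2, hf, sg_mul, mul_pow, ← sg_pow]
    ring
  -- additivity of the cocycle part
  have hh : ∀ a c, hpart α (a + c) = hpart α a + hpart α c := by
    intro a c
    have h1 := Kf_eq α a c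
    have h2 : Kf α a c = 0 := by
      unfold Kf
      rw [hf, hf, hg, sg_mul, mul_pow, ← sg_pow]
      have : sg m l * sg m (a ^ 2 ^ i.val) * (l * c ^ 2 ^ i.val) +
          sg m l * l * (sg m (a ^ 2 ^ i.val) * c ^ 2 ^ i.val) =
          (sg m l * l * (sg m (a ^ 2 ^ i.val) * c ^ 2 ^ i.val)) +
            (sg m l * l * (sg m (a ^ 2 ^ i.val) * c ^ 2 ^ i.val)) := by ring
      rw [this, CharTwo.add_self_eq_zero]
    rw [h2] at h1
    have h3 : hpart α (a + c) + (hpart α a + hpart α c) = 0 := by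
      rw [← add_assoc]; exact h1.symm
    exact CharTwo.add_eq_zero.mp h3
  set hA : F →+ F := ⟨⟨hpart α, hpart_zero α⟩, hh⟩ with hhA
  refine ⟨(Units.mk0 l hl, i, hA), ?_⟩
  ext x
  · rw [stdAut_apply, aut_apply α x]
    simp only [Units.val_mk0]
    exact (hf x.a).symm
  · rw [stdAut_apply, aut_apply α x]
    simp only [Units.val_mk0]
    rw [hg]
    rfl

/-- the parametrization of the automorphism group -/
noncomputable def autEquiv (hm : 1 ≤ m) (hF : Fintype.card F = 2 ^ (2 * m + 1)) :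
    (Fˣ × ZMod (2 * m + 1) × (F →+ F)) ≃ MulAut (SQ F m) :=
  Equiv.ofBijective stdAut ⟨stdAut_injective hm hF, stdAut_surjective hm hF⟩

theorem card_aut (hm : 1 ≤ m) (hF : Fintype.card F = 2 ^ (2 * m + 1)) :
    Nat.card (MulAut (SQ F m)) =
      2 ^ ((2 * m + 1) ^ 2) * ((2 * m + 1) * (2 ^ (2 * m + 1) - 1)) := by
  classical
  rw [← Nat.card_congr (autEquiv hm hF), Nat.card_prod, Nat.card_prod, card_addHom hF,
    Nat.card_eq_fintype_card, Fintype.card_units, hF, Nat.card_eq_fintype_card, ZMod.card]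
  ring

/-- the central automorphisms -/
def centAut (F : Type*) [Field F] [CharP F 2] (m : ℕ) : Subgroup (MulAut (SQ F m)) where
  carrier := {α | ∀ a, fpart α a = a}
  one_mem' := fun a => rfl
  mul_mem' := by
    intro α β hα hβ a
    rw [fpart_mul, hβ, hα]
  inv_mem' := by
    intro α hα a
    have h1 : fpart (α⁻¹ * α) a = a := by rw [inv_mul_cancel]; rfl
    rw [fpart_mul, hα] at h1
    exact h1

theorem mem_centAut (α : MulAut (SQ F m)) : α ∈ centAut F m ↔ ∀ a, fpart α a = a := Iff.rfl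

instance : (centAut F m).Normal := by
  constructor
  intro α hα β a
  rw [fpart_mul, fpart_mul, hα]
  have h1 : fpart (β * β⁻¹) a = a := by rw [mul_inv_cancel]; rfl
  rwa [fpart_mul] at h1

theorem centAut_apply (hF : Fintype.card F = 2 ^ (2 * m + 1)) {α : MulAut (SQ F m)}
    (hα : α ∈ centAut F m) (x : SQ F m) : α x = ⟨x.a, hpart α x.a + x.b⟩ := by
  have hg : ∀ b, gpart α b = b := by
    intro b
    obtain ⟨a, rfl⟩ := sg_mul_self_surjective hF b
    have h1 := Kf_self α a
    unfold Kf at h1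
    rw [hα a] at h1
    exact (CharTwo.add_eq_zero.mp h1).symm
  rw [aut_apply α x, hα, hg]

theorem centAut_comm (hF : Fintype.card F = 2 ^ (2 * m + 1)) {α β : MulAut (SQ F m)}
    (hα : α ∈ centAut F m) (hβ : β ∈ centAut F m) : α * β = β * α := by
  ext x
  · rw [MulAut.mul_apply, MulAut.mul_apply, centAut_apply hF hβ, centAut_apply hF hα,
      centAut_apply hF hα, centAut_apply hF hβ]
  · rw [MulAut.mul_apply, MulAut.mul_apply, centAut_apply hF hβ, centAut_apply hF hα,
      centAut_apply hF hα, centAut_apply hF hβ]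
    simp only
    ring

theorem centAut_sq (hF : Fintype.card F = 2 ^ (2 * m + 1)) {α : MulAut (SQ F m)}
    (hα : α ∈ centAut F m) : α ^ 2 = 1 := by
  ext x
  · rw [sq, MulAut.mul_apply, centAut_apply hF hα, centAut_apply hF hα]
    rfl
  · rw [sq, MulAut.mul_apply, centAut_apply hF hα, centAut_apply hF hα]
    simp only
    rw [← add_assoc, CharTwo.add_self_eq_zero, zero_add]
    rfl

theorem card_centAut (hm : 1 ≤ m) (hF : Fintype.card F = 2 ^ (2 * m + 1)) :
    Nat.card (centAut F m) = 2 ^ ((2 * m + 1) ^ 2) := by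
  have hmem : ∀ h : F →+ F, stdAut (m := m) ((1 : Fˣ), (0 : ZMod (2 * m + 1)), h) ∈ centAut F m := by
    intro h a
    show (stdAut (m := m) ((1 : Fˣ), (0 : ZMod (2 * m + 1)), h) ⟨a, 0⟩).a = a
    rw [stdAut_apply]
    simp
  have e : (F →+ F) ≃ centAut F m := by
    refine Equiv.ofBijective (fun h => ⟨stdAut ((1 : Fˣ), (0 : ZMod (2 * m + 1)), h), hmem h⟩) ⟨?_, ?_⟩
    · intro h h' heq
      have := stdAut_injective hm hF (congrArg Subtype.val heq)
      exact (Prod.ext_iff.mp (Prod.ext_iff.mp this).2).2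
    · rintro ⟨α, hα⟩
      obtain ⟨⟨l, i, h⟩, rfl⟩ := stdAut_surjective hm hF α
      have hl : l = 1 := by
        have := hα 1
        change (stdAut (m := m) (l, i, h) ⟨1, 0⟩).a = 1 at this
        rw [stdAut_apply] at this
        simp only [one_pow, mul_one] at this
        exact Units.ext this
      subst hl
      have hi : i = 0 := by
        apply frob_distinct hm hF
        intro a
        have := hα a
        change (stdAut (m := m) (1, i, h) ⟨a, 0⟩).a = a at this
        rw [stdAut_apply] at this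
        simp only [Units.val_one, one_mul] at this
        rw [this, ZMod.val_zero, pow_zero, pow_one]
      subst hi
      exact ⟨h, rfl⟩
  rw [← Nat.card_congr e, card_addHom hF, sq]

/-- the `2`-core of the automorphism group is the group of central automorphisms -/
theorem pCore_eq_centAut (hm : 1 ≤ m) (hF : Fintype.card F = 2 ^ (2 * m + 1)) :
    Cfsg.pCore 2 (MulAut (SQ F m)) = centAut F m := by
  haveI : Fact (Nat.Prime 2) := ⟨Nat.prime_two⟩
  have hC2 : IsPGroup 2 (centAut F m) := IsPGroup.of_card (card_centAut hm hF)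
  have hle : centAut F m ≤ Cfsg.pCore 2 (MulAut (SQ F m)) :=
    Cfsg.Agent.Lib.Helper16.le_pCore inferInstance hC2
  symm
  apply Subgroup.eq_of_le_of_card_ge hle
  have hP := Cfsg.Agent.Lib.Helper16.pCore_isPGroup 2 (MulAut (SQ F m))
  obtain ⟨k, hk⟩ := IsPGroup.iff_card.mp hP
  have hdvd : Nat.card (Cfsg.pCore 2 (MulAut (SQ F m))) ∣ Nat.card (MulAut (SQ F m)) :=
    Subgroup.card_subgroup_dvd_card _
  rw [hk, card_aut hm hF] at hdvd
  have hodd : Nat.Coprime (2 ^ k) ((2 * m + 1) * (2 ^ (2 * m + 1) - 1)) := by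
    apply Nat.Coprime.pow_left
    rw [Nat.coprime_two_left]
    apply Odd.mul
    · exact ⟨m, rfl⟩
    · have : 2 ^ (2 * m + 1) = 2 * 2 ^ (2 * m) := by rw [pow_succ]; ring
      have h1 : 1 ≤ 2 ^ (2 * m) := Nat.one_le_two_pow
      exact ⟨2 ^ (2 * m) - 1, by omega⟩
  have h2 : 2 ^ k ∣ 2 ^ ((2 * m + 1) ^ 2) := hodd.dvd_of_dvd_mul_right hdvd
  rw [hk, card_centAut hm hF]
  exact Nat.le_of_dvd (by positivity) h2

/-- the statement for the abstract group -/
theorem main_SQ (hm : 1 ≤ m) (hF : Fintype.card F = 2 ^ (2 * m + 1)) :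
    Cfsg.IsElementaryAbelian 2 (Cfsg.pCore 2 (MulAut (SQ F m))) ∧
      Nat.card ↥(Cfsg.pCore 2 (MulAut (SQ F m))) = 2 ^ ((2 * m + 1) ^ 2) ∧
      Nat.card (MulAut (SQ F m)) =
        2 ^ ((2 * m + 1) ^ 2) * ((2 * m + 1) * (2 ^ (2 * m + 1) - 1)) := by
  rw [pCore_eq_centAut hm hF]
  refine ⟨⟨⟨⟨fun a b => Subtype.ext (centAut_comm hF a.2 b.2)⟩⟩, fun a ha => centAut_sq hF ha⟩,
    card_centAut hm hF, card_aut hm hF⟩

end Cfsg.Agent.Lib.Helper14.SzAut
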