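import Mathlib
import Cfsg.Agent.Lib.Helper14.SzAutD
import Cfsg.Agent.Lib.Helper14.SzU

/-!
# Automorphisms of the Sylow 2-subgroup of a Suzuki group, part E (helper14)

Transport to the Sylow subgroups of the Lie-type model.
-/

set_option autoImplicit false
set_option maxHeartbeats 1000000
set_option linter.unusedSectionVars false

namespace Cfsg.Agent.Lib.Helper14.SzAut

open Cfsg Cfsg.Agent.Lib.Helper14.Sz

section transport

theorem pCore_map_equiv' {X Y : Type*} [Group X] [Group Y] [Finite X] (p : ℕ) [Fact p.Prime]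
    (e : X ≃* Y) : (Cfsg.pCore p X).map e.toMonoidHom = Cfsg.pCore p Y := by
  haveI : Finite Y := Finite.of_equiv X e.toEquiv
  apply le_antisymm
  · apply Cfsg.Agent.Lib.Helper16.le_pCore
    · exact (Cfsg.Agent.Lib.Helper16.pCore_normal p X).map e.toMonoidHom e.surjective
    · exact (Cfsg.Agent.Lib.Helper16.pCore_isPGroup p X).map _
  · have h : (Cfsg.pCore p Y).map e.symm.toMonoidHom ≤ Cfsg.pCore p X :=
      Cfsg.Agent.Lib.Helper16.le_pCore
        ((Cfsg.Agent.Lib.Helper16.pCore_normal p Y).map _ e.symm.surjective)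
        ((Cfsg.Agent.Lib.Helper16.pCore_isPGroup p Y).map _)
    intro y hy
    exact ⟨e.symm y, h ⟨y, hy, rfl⟩, by simp⟩

/-- the conclusion is invariant under isomorphism -/
theorem concl_transport {X Y : Type*} [Group X] [Group Y] [Finite Y] (e : X ≃* Y) (N₁ N₂ : ℕ)
    (h : Cfsg.IsElementaryAbelian 2 (Cfsg.pCore 2 Y) ∧ Nat.card ↥(Cfsg.pCore 2 Y) = N₁ ∧
      Nat.card Y = N₂) :
    Cfsg.IsElementaryAbelian 2 (Cfsg.pCore 2 X) ∧ Nat.card ↥(Cfsg.pCore 2 X) = N₁ ∧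
      Nat.card X = N₂ := by
  haveI : Fact (Nat.Prime 2) := ⟨Nat.prime_two⟩
  haveI : Finite X := Finite.of_equiv Y e.symm.toEquiv
  obtain ⟨⟨hcomm, hexp⟩, h1, h2⟩ := h
  have hmap := pCore_map_equiv' 2 e
  have hmem : ∀ a ∈ Cfsg.pCore 2 X, e a ∈ Cfsg.pCore 2 Y := by
    intro a ha
    rw [← hmap]
    exact ⟨a, ha, rfl⟩
  refine ⟨⟨⟨⟨?_⟩⟩, ?_⟩, ?_, ?_⟩
  · intro a b
    apply Subtype.ext
    apply e.injective
    have := hcomm.is_comm.comm ⟨e a, hmem a a.2⟩ ⟨e b, hmem b b.2⟩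
    have h3 := congrArg Subtype.val this
    simpa using h3
  · intro a ha
    apply e.injective
    rw [map_pow, map_one]
    exact hexp (e a) (hmem a ha)
  · rw [← h1, ← hmap, Subgroup.card_map_of_injective e.injective]
  · rw [← h2]
    exact Nat.card_congr e.toEquiv

end transport

section sylow

variable {F : Type*} [Field F] [Fintype F] [CharP F 2] {m : ℕ}

/-- a Sylow 2-subgroup of the Lie-type model is the abstract Suzuki 2-group -/
theorem sylow_lie_equiv (hm : 1 ≤ m) (hF : Fintype.card F = 2 ^ (2 * m + 1))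
    (P : Sylow 2 ↥(Cfsg.Lie.Sz F (2 ^ (m + 1)))) :
    Nonempty (↥(P : Subgroup ↥(Cfsg.Lie.Sz F (2 ^ (m + 1)))) ≃* SQ F m) := by
  haveI : Fact (Nat.Prime 2) := ⟨Nat.prime_two⟩
  set e := szEquiv hm hF with he
  haveI : Finite ↥(Cfsg.Lie.Sz F (2 ^ (m + 1))) := Finite.of_equiv _ e.toEquiv
  set P' : Subgroup (Sz F m) :=
    (P : Subgroup ↥(Cfsg.Lie.Sz F (2 ^ (m + 1)))).map e.symm.toMonoidHom with hP'
  have hP'p : IsPGroup 2 P' := P.2.map _
  obtain ⟨Q, hQ⟩ := hP'p.exists_le_sylow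
  have hcard : Nat.card P' = Nat.card Q := by
    rw [hP', Subgroup.card_map_of_injective e.symm.injective, Sylow.card_eq_multiplicity,
      Sylow.card_eq_multiplicity, Nat.card_congr e.toEquiv]
  have hPQ : P' = (Q : Subgroup (Sz F m)) := Subgroup.eq_of_le_of_card_ge hQ hcard.ge
  obtain ⟨y, hy⟩ := sylow_std hm hF Q
  have e1 : ↥(P : Subgroup ↥(Cfsg.Lie.Sz F (2 ^ (m + 1)))) ≃* ↥P' :=
    (P : Subgroup ↥(Cfsg.Lie.Sz F (2 ^ (m + 1)))).equivMapOfInjective e.symm.toMonoidHom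
      e.symm.injective
  have e2 : ↥P' ≃* ↥((TSub (m := m) hF).map (MulAut.conj y).toMonoidHom) :=
    MulEquiv.subgroupCongr (hPQ.trans hy)
  have e3 : ↥(TSub (m := m) hF) ≃* ↥((TSub (m := m) hF).map (MulAut.conj y).toMonoidHom) :=
    (TSub (m := m) hF).equivMapOfInjective (MulAut.conj y).toMonoidHom (MulAut.conj y).injective
  exact ⟨(e1.trans e2).trans (e3.symm.trans (equivTSub hF).symm)⟩

end sylow

/-- the final statement -/
theorem main_lie {S : Type*} [Group S] [Finite S] (m : ℕ) (hm : 1 ≤ m)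
    {F : Type*} [Field F] [Fintype F] (hF : Fintype.card F = 2 ^ (2 * m + 1))
    (P : Sylow 2 ↥(Cfsg.Lie.Sz F (2 ^ (m + 1))))
    (hS : Nonempty (S ≃* ↥(P : Subgroup ↥(Cfsg.Lie.Sz F (2 ^ (m + 1)))))) :
    Cfsg.IsElementaryAbelian 2 (Cfsg.pCore 2 (MulAut S)) ∧
      Nat.card ↥(Cfsg.pCore 2 (MulAut S)) = 2 ^ ((2 * m + 1) ^ 2) ∧
      Nat.card (MulAut S) = 2 ^ ((2 * m + 1) ^ 2) * ((2 * m + 1) * (2 ^ (2 * m + 1) - 1)) := by
  haveI : CharP F 2 := charP_two hF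
  obtain ⟨φ⟩ := hS
  obtain ⟨ψ⟩ := sylow_lie_equiv hm hF P
  exact concl_transport (MulAut.congr (φ.trans ψ)) _ _ (main_SQ hm hF)

end Cfsg.Agent.Lib.Helper14.SzAut
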