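import Mathlib

/-!
# Actions of fixity at most two: abstract lemmas (helper14)
-/

set_option autoImplicit false
set_option maxHeartbeats 1000000

namespace Cfsg.Agent.Lib.Helper14.SzFix

open MulAction

section abstract

/-- among three points of a set with at most two elements two coincide -/
theorem two_of_three {α : Type*} {T : Set α} [Finite T] (hT : Nat.card T ≤ 2) {a b c : α}
    (ha : a ∈ T) (hb : b ∈ T) (hc : c ∈ T) : a = b ∨ a = c ∨ b = c := by
  by_contra hne
  push Not at hne
  obtain ⟨h1, h2, h3⟩ := hne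
  have hinj : Function.Injective (![⟨a, ha⟩, ⟨b, hb⟩, ⟨c, hc⟩] : Fin 3 → T) := by
    intro i j hij
    fin_cases i <;> fin_cases j <;> simp_all
  have := Nat.card_le_card_of_injective _ hinj
  rw [Nat.card_fin] at this
  omega

variable {S : Type*} [Group S] {Ω : Type*} [MulAction S Ω]

/-- the basic squaring lemma -/
theorem sq_smul_eq [Finite Ω] (hfix : ∀ g : S, g ≠ 1 → Nat.card (fixedBy Ω g) ≤ 2) (ω : Ω) (g : S)
    (hg1 : g ≠ 1) (x : S) (h0 : g • ω = ω) (h1 : (x⁻¹ * g * x) • ω = ω)
    (h2 : (x⁻¹ * (x⁻¹ * g * x) * x) • ω = ω) : (x * x) • ω = ω := by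
  have m0 : ω ∈ fixedBy Ω g := h0
  have m1 : x • ω ∈ fixedBy Ω g := by
    show g • x • ω = x • ω
    have : g • x • ω = x • (x⁻¹ * g * x) • ω := by
      rw [← mul_smul, ← mul_smul]
      congr 1
      group
    rw [this, h1]
  have m2 : x • x • ω ∈ fixedBy Ω g := by
    show g • x • x • ω = x • x • ω
    have : g • x • x • ω = x • x • (x⁻¹ * (x⁻¹ * g * x) * x) • ω := by
      rw [← mul_smul, ← mul_smul, ← mul_smul, ← mul_smul]
      congr 1
      group
    rw [this, h2]
  rw [mul_smul]
  rcases two_of_three (hfix g hg1) m0 m1 m2 with h | h | h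
  · have h' : x • ω = ω := h.symm
    rw [h', h']
  · exact h.symm
  · have h' : x • ω = ω := (smul_left_cancel x h).symm
    rw [h', h']

/-- the squaring lemma, conjugating the other way -/
theorem sq_smul_eq' [Finite Ω] (hfix : ∀ g : S, g ≠ 1 → Nat.card (fixedBy Ω g) ≤ 2) (ω : Ω) (g : S)
    (hg1 : g ≠ 1) (x : S) (h0 : g • ω = ω) (h1 : (x * g * x⁻¹) • ω = ω)
    (h2 : (x * (x * g * x⁻¹) * x⁻¹) • ω = ω) : (x * x) • ω = ω := by
  have h := sq_smul_eq hfix ω g hg1 x⁻¹ h0 (by rwa [inv_inv]) (by rwa [inv_inv])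
  have e : x * x = (x⁻¹ * x⁻¹)⁻¹ := by rw [mul_inv_rev, inv_inv]
  rw [e, inv_smul_eq_iff, h]

/-- squares of elements commuting with a nonidentity element of a stabilizer -/
theorem sq_of_commute [Finite Ω] (hfix : ∀ g : S, g ≠ 1 → Nat.card (fixedBy Ω g) ≤ 2) (ω : Ω) (g : S)
    (hg1 : g ≠ 1) (h0 : g • ω = ω) (x : S) (hx : x * g = g * x) : (x * x) • ω = ω := by
  have e : x⁻¹ * g * x = g := by rw [mul_assoc, ← hx, inv_mul_cancel_left]
  apply sq_smul_eq hfix ω g hg1 x h0
  · rw [e, h0]
  · rw [e, e, h0]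

/-- squares of elements normalizing a nonidentity subgroup of a stabilizer -/
theorem sq_of_normalizes [Finite Ω] (hfix : ∀ g : S, g ≠ 1 → Nat.card (fixedBy Ω g) ≤ 2) (ω : Ω)
    (A : Subgroup S) (hA : A ≤ stabilizer S ω) (g : S) (hgA : g ∈ A) (hg1 : g ≠ 1) (x : S)
    (hx : ∀ a ∈ A, x * a * x⁻¹ ∈ A) : (x * x) • ω = ω :=
  sq_smul_eq' hfix ω g hg1 x (hA hgA) (hA (hx g hgA)) (hA (hx _ (hx g hgA)))

/-- the orbit of the normalizer -/
theorem card_orbit_normalizer_le [Finite Ω] (hfix : ∀ g : S, g ≠ 1 → Nat.card (fixedBy Ω g) ≤ 2)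
    (ω : Ω) (A : Subgroup S) (hA : A ≤ stabilizer S ω) (g : S) (hgA : g ∈ A) (hg1 : g ≠ 1) :
    Nat.card (orbit (Subgroup.normalizer (A : Set S)) ω) ≤ 2 := by
  refine le_trans (Nat.card_mono (Set.toFinite _) ?_) (hfix g hg1)
  rintro _ ⟨n, rfl⟩
  show g • (n • ω) = n • ω
  have hn : (n : S)⁻¹ * g * (n : S) ∈ A := by
    have := (Subgroup.mem_normalizer_iff'.mp n.2 ((n : S)⁻¹ * g)).mpr (by
      rw [mul_inv_cancel_left]
      exact hgA)
    exact this
  have e : g • (n • ω) = (n : S) • (((n : S)⁻¹ * g * (n : S)) • ω) := by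
    rw [Subgroup.smul_def, ← mul_smul, ← mul_smul]
    congr 1
    group
  rw [e, hA hn]
  rfl

/-- if the normalizer of a nonidentity subgroup of a stabilizer has order divisible by four,
the stabilizer has even order -/
theorem even_of_normalizer [Finite S] [Finite Ω]
    (hfix : ∀ g : S, g ≠ 1 → Nat.card (fixedBy Ω g) ≤ 2)
    (ω : Ω) (A : Subgroup S) (hA : A ≤ stabilizer S ω) (g : S) (hgA : g ∈ A) (hg1 : g ≠ 1)
    (h4 : 4 ∣ Nat.card (Subgroup.normalizer (A : Set S))) : 2 ∣ Nat.card (stabilizer S ω) := by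
  set N := Subgroup.normalizer (A : Set S) with hN
  have h1 := Nat.card_congr (MulAction.orbitProdStabilizerEquivGroup N ω)
  rw [Nat.card_prod] at h1
  have h2 := card_orbit_normalizer_le hfix ω A hA g hgA hg1
  rw [← hN] at h2
  have h3 : 2 ∣ Nat.card (stabilizer N ω) := by
    haveI : Nonempty (orbit N ω) := ⟨⟨ω, mem_orbit_self ω⟩⟩
    have hpos : 0 < Nat.card (orbit N ω) := Nat.card_pos
    rw [← h1] at h4
    have : Nat.card (orbit N ω) = 1 ∨ Nat.card (orbit N ω) = 2 := by omega
    rcases this with h | h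
    · rw [h, one_mul] at h4
      exact dvd_trans (by norm_num) h4
    · rw [h] at h4
      obtain ⟨k, hk⟩ := h4
      exact ⟨k, by omega⟩
  let f : stabilizer N ω →* stabilizer S ω :=
    (N.subtype.comp (stabilizer N ω).subtype).codRestrict (stabilizer S ω) (fun n => n.2)
  have hf : Function.Injective f := by
    intro a b hab
    have := congrArg (fun z : stabilizer S ω => (z : S)) hab
    exact Subtype.ext (Subtype.ext this)
  exact dvd_trans h3 (Subgroup.card_dvd_of_injective f hf)

end abstract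

section classeq

/-- a group in which every nonidentity element has a centralizer of order `c` has order `c` -/
theorem card_eq_of_centralizers {K : Type*} [Group K] [Finite K] [Nontrivial K] (c : ℕ)
    (h : ∀ g : K, g ≠ 1 → Nat.card {x : K // Commute g x} = c) : Nat.card K = c := by
  classical
  haveI := Fintype.ofFinite K
  have h1 := card_comm_eq_card_conjClasses_mul_card K
  have e : {p : K × K // Commute p.1 p.2} ≃ Σ g : K, {x : K // Commute g x} :=
    Equiv.subtypeProdEquivSigmaSubtype (fun g x => Commute g x)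
  rw [Nat.card_congr e, Nat.card_sigma] at h1
  have h2 : ∑ g : K, Nat.card {x : K // Commute g x} = Nat.card K + (Nat.card K - 1) * c := by
    rw [← Finset.add_sum_erase Finset.univ _ (Finset.mem_univ (1 : K))]
    congr 1
    · exact Nat.card_congr ⟨fun x => x.1, fun x => ⟨x, Commute.one_left x⟩, fun _ => rfl,
        fun _ => rfl⟩
    · rw [Finset.sum_congr rfl (fun g hg => h g (Finset.ne_of_mem_erase hg)), Finset.sum_const,
        Finset.card_erase_of_mem (Finset.mem_univ _), Finset.card_univ, smul_eq_mul,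
        Nat.card_eq_fintype_card]
  obtain ⟨g, hg⟩ := exists_ne (1 : K)
  have hc : c ∣ Nat.card K := by
    rw [← h g hg]
    have : Nat.card {x : K // Commute g x} = Nat.card (Subgroup.centralizer ({g} : Set K)) :=
      Nat.card_congr (Equiv.subtypeEquivRight (fun x => by
        rw [Subgroup.mem_centralizer_singleton_iff]
        exact ⟨fun h => h.eq.symm, fun h => h.symm⟩))
    rw [this]
    exact Subgroup.card_subgroup_dvd_card _
  have hn : Nat.card K ∣ (Nat.card K - 1) * c := by
    have : Nat.card K ∣ Nat.card K + (Nat.card K - 1) * c := by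
      rw [← h2, h1]
      exact dvd_mul_left _ _
    exact (Nat.dvd_add_right (dvd_refl _)).mp this
  have hcop : Nat.Coprime (Nat.card K) (Nat.card K - 1) := by
    obtain ⟨k, hk⟩ : ∃ k, Nat.card K = k + 1 := ⟨Nat.card K - 1, by
      have : 0 < Nat.card K := Nat.card_pos
      omega⟩
    rw [hk, Nat.add_sub_cancel]
    exact (Nat.coprime_self_add_left).mpr (Nat.coprime_one_left _)
  exact Nat.dvd_antisymm (hcop.dvd_of_dvd_mul_left hn) hc

end classeq

end Cfsg.Agent.Lib.Helper14.SzFix
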