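import Mathlib
import Cfsg.Prelude.Def_Sz
import Cfsg.Agent.Lib.Helper14.SzU

/-!
# The Suzuki groups as doubly transitive groups on the cosets of a Sylow normalizer (helper14)
-/

set_option autoImplicit false
set_option maxHeartbeats 2000000
set_option linter.unusedSimpArgs false
set_option linter.unusedSectionVars false

namespace Cfsg.Agent.Lib.Helper14.Sz

open Cfsg Cfsg.Lie
open scoped Pointwise

local notation "SL4" => Matrix.SpecialLinearGroup (Fin 4)

section abstract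

theorem sylow_regular_abstract {G : Type*} [Group G] [Finite G] (T B : Subgroup G) (q k : ℕ)
    (hq : q = 2 ^ k) (hk : 1 ≤ k)
    (hG : Nat.card G = q ^ 2 * (q - 1) * (q ^ 2 + 1)) (hT : Nat.card T = q ^ 2)
    (hB : Nat.card B = q ^ 2 * (q - 1))
    (hN : Subgroup.normalizer (T : Set G) = B)
    (hTI : ∀ t ∈ T, t ≠ 1 → ∀ g : G, g⁻¹ * t * g ∈ B → g ∈ B) :
    ∃ S : Sylow 2 G,
      Nat.card (Subgroup.normalizer ((S : Subgroup G) : Set G)) = q ^ 2 * (q - 1) ∧
      (Subgroup.normalizer ((S : Subgroup G) : Set G)).index = q ^ 2 + 1 ∧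
      MulAction.IsMultiplyPretransitive G (G ⧸ Subgroup.normalizer ((S : Subgroup G) : Set G)) 2 ∧
      ∀ x y : G ⧸ Subgroup.normalizer ((S : Subgroup G) : Set G),
        x ≠ (QuotientGroup.mk 1) → y ≠ (QuotientGroup.mk 1) →
          ∃! s : ↥(S : Subgroup G), (s : G) • x = y := by
  classical
  haveI : Fact (Nat.Prime 2) := ⟨Nat.prime_two⟩
  have hq2 : 2 ≤ q := by
    rw [hq]
    calc 2 = 2 ^ 1 := by norm_num
      _ ≤ 2 ^ k := Nat.pow_le_pow_right (by norm_num) hk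
  have hqeven : Even q := by
    rw [hq]
    exact Nat.even_pow.mpr ⟨even_two, by omega⟩
  have hodd : Odd ((q - 1) * (q ^ 2 + 1)) := by
    apply Odd.mul
    · exact Nat.Even.sub_odd (by omega) hqeven odd_one
    · exact Even.add_one (Nat.even_pow.mpr ⟨hqeven, by norm_num⟩)
  have hTp : IsPGroup 2 T := IsPGroup.of_card (n := k * 2) (by rw [hT, hq, ← pow_mul])
  obtain ⟨S, hTS⟩ := hTp.exists_le_sylow
  have hST : T = (S : Subgroup G) := by
    apply Subgroup.eq_of_le_of_card_ge hTS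
    obtain ⟨j, hj⟩ := IsPGroup.iff_card.mp S.isPGroup'
    have hdvd : Nat.card S ∣ Nat.card G := Subgroup.card_subgroup_dvd_card _
    rw [hj, hG, mul_assoc] at hdvd
    have hcop : Nat.Coprime (2 ^ j) ((q - 1) * (q ^ 2 + 1)) := by
      apply Nat.Coprime.pow_left
      exact Nat.coprime_two_left.mpr hodd
    have := hcop.dvd_of_dvd_mul_right hdvd
    rw [hj, hT]
    exact Nat.le_of_dvd (by positivity) this
  subst hST
  subst hN
  set N := Subgroup.normalizer ((S : Subgroup G) : Set G) with hNdef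
  have hSN : (S : Subgroup G) ≤ N := Subgroup.le_normalizer
  have hidx : N.index = q ^ 2 + 1 := by
    have h1 := N.card_mul_index
    rw [hB, hG] at h1
    have hpos : 0 < q ^ 2 * (q - 1) := by
      apply Nat.mul_pos (by positivity)
      omega
    exact Nat.eq_of_mul_eq_mul_left hpos h1
  have hsmul : ∀ (g a : G), g • (QuotientGroup.mk a : G ⧸ N) = QuotientGroup.mk (g * a) :=
    fun g a => rfl
  have hmk1 : ∀ a : G, (QuotientGroup.mk a : G ⧸ N) = QuotientGroup.mk 1 ↔ a ∈ N := by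
    intro a
    rw [QuotientGroup.eq, mul_one, inv_mem_iff]
  -- regularity
  have hreg : ∀ x y : G ⧸ N, x ≠ (QuotientGroup.mk 1) → y ≠ (QuotientGroup.mk 1) →
      ∃! s : ↥(S : Subgroup G), (s : G) • x = y := by
    intro x y hx hy
    obtain ⟨g, rfl⟩ := QuotientGroup.mk_surjective x
    have hg : g ∉ N := fun h => hx ((hmk1 g).mpr h)
    have hwd : ∀ s : ↥(S : Subgroup G), (s : G) • (QuotientGroup.mk g : G ⧸ N) ≠
        QuotientGroup.mk 1 := by
      intro s e
      rw [hsmul, hmk1] at e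
      apply hg
      have := N.mul_mem (N.inv_mem (hSN s.2)) e
      rwa [inv_mul_cancel_left] at this
    let φ : ↥(S : Subgroup G) → {y : G ⧸ N // y ≠ QuotientGroup.mk 1} :=
      fun s => ⟨(s : G) • (QuotientGroup.mk g : G ⧸ N), hwd s⟩
    have hinj : Function.Injective φ := by
      intro s s' h
      have h1 : (s : G) • (QuotientGroup.mk g : G ⧸ N) = (s' : G) • QuotientGroup.mk g :=
        congrArg Subtype.val h
      rw [hsmul, hsmul, QuotientGroup.eq] at h1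
      by_contra hne
      apply hg
      apply hTI ((s : G)⁻¹ * s') ((S : Subgroup G).mul_mem ((S : Subgroup G).inv_mem s.2) s'.2)
      · intro e
        apply hne
        apply Subtype.ext
        exact inv_mul_eq_one.mp e
      · have : g⁻¹ * ((s : G)⁻¹ * s') * g = ((s : G) * g)⁻¹ * ((s' : G) * g) := by group
        rw [this]
        exact h1
    have hcard : Nat.card ↥(S : Subgroup G) = Nat.card {y : G ⧸ N // y ≠ QuotientGroup.mk 1} := by
      rw [hT]
      have h1 : Nat.card (G ⧸ N) = q ^ 2 + 1 := by rw [← hidx]; rfl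
      haveI : Fintype (G ⧸ N) := Fintype.ofFinite _
      rw [Nat.card_eq_fintype_card, Fintype.card_subtype_compl, Fintype.card_subtype_eq,
        ← Nat.card_eq_fintype_card, h1]
      omega
    have hbij : Function.Bijective φ :=
      (Nat.bijective_iff_injective_and_card φ).mpr ⟨hinj, hcard⟩
    obtain ⟨s, hs⟩ := hbij.2 ⟨y, hy⟩
    refine ⟨s, congrArg Subtype.val hs, ?_⟩
    intro s' hs'
    apply hbij.1
    apply Subtype.ext
    show (s' : G) • (QuotientGroup.mk g : G ⧸ N) = (s : G) • (QuotientGroup.mk g : G ⧸ N)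
    have h5 : (s : G) • (QuotientGroup.mk g : G ⧸ N) = y := congrArg Subtype.val hs
    rw [hs', h5]
  refine ⟨S, hB, hidx, ?_, hreg⟩
  -- double transitivity
  have hnt : ∃ w₀ : G ⧸ N, w₀ ≠ QuotientGroup.mk 1 := by
    have h1 : Nat.card (G ⧸ N) = q ^ 2 + 1 := by rw [← hidx]; rfl
    have h2 : 1 < Nat.card (G ⧸ N) := by
      rw [h1]
      have : 0 < q ^ 2 := by positivity
      omega
    haveI : Nontrivial (G ⧸ N) := Finite.one_lt_card_iff_nontrivial.mp h2
    exact exists_ne _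
  obtain ⟨w₀, hw₀⟩ := hnt
  have hstd : ∀ a b : G ⧸ N, a ≠ b → ∃ g : G, g • a = QuotientGroup.mk 1 ∧ g • b = w₀ := by
    intro a b hab
    obtain ⟨ga, rfl⟩ := QuotientGroup.mk_surjective a
    have h1 : ga⁻¹ • (QuotientGroup.mk ga : G ⧸ N) = QuotientGroup.mk 1 := by
      rw [hsmul, inv_mul_cancel]
    have h2 : ga⁻¹ • b ≠ QuotientGroup.mk 1 := by
      rw [← h1]
      intro e
      exact hab (MulAction.injective ga⁻¹ e).symm
    obtain ⟨s, hs, -⟩ := hreg _ _ h2 hw₀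
    refine ⟨(s : G) * ga⁻¹, ?_, ?_⟩
    · rw [mul_smul, h1, hsmul, mul_one, hmk1]
      exact hSN s.2
    · rw [mul_smul, hs]
  rw [MulAction.is_two_pretransitive_iff]
  intro a b c d hab hcd
  obtain ⟨g₁, h1, h2⟩ := hstd a b hab
  obtain ⟨g₂, h3, h4⟩ := hstd c d hcd
  refine ⟨g₂⁻¹ * g₁, ?_, ?_⟩
  · rw [mul_smul, h1, ← h3, inv_smul_smul]
  · rw [mul_smul, h2, ← h4, inv_smul_smul]

end abstract

section apply

variable {F : Type*} [Field F] [Fintype F] [CharP F 2] {m : ℕ}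

theorem BS_eq : BS F m = MulAction.stabilizer (Sz F m) (suzukiPointInfinity F) := by
  ext g
  constructor
  · intro h
    have h1 : g • oinf F m = oinf F m := h
    exact congrArg Subtype.val h1
  · intro h
    have h1 : g • suzukiPointInfinity F = suzukiPointInfinity F := h
    show g • oinf F m = oinf F m
    exact Subtype.ext h1

theorem card_BS (hm : 1 ≤ m) (hF : Fintype.card F = 2 ^ (2 * m + 1)) :
    Nat.card (BS F m) = (2 ^ (2 * m + 1)) ^ 2 * (2 ^ (2 * m + 1) - 1) := by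
  rw [BS_eq, card_stab_pinf hm hF]

theorem lie_sylow (hm : 1 ≤ m) (hF : Fintype.card F = 2 ^ (2 * m + 1)) :
    Nat.card ↥(Cfsg.Lie.Sz F (2 ^ (m + 1))) =
      (2 ^ (2 * m + 1)) ^ 2 * (2 ^ (2 * m + 1) - 1) * ((2 ^ (2 * m + 1)) ^ 2 + 1) ∧
    ∃ S : Sylow 2 ↥(Cfsg.Lie.Sz F (2 ^ (m + 1))),
      Nat.card (Subgroup.normalizer ((S : Subgroup ↥(Cfsg.Lie.Sz F (2 ^ (m + 1)))) :
        Set ↥(Cfsg.Lie.Sz F (2 ^ (m + 1))))) = (2 ^ (2 * m + 1)) ^ 2 * (2 ^ (2 * m + 1) - 1) ∧
      (Subgroup.normalizer ((S : Subgroup ↥(Cfsg.Lie.Sz F (2 ^ (m + 1)))) :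
        Set ↥(Cfsg.Lie.Sz F (2 ^ (m + 1))))).index = (2 ^ (2 * m + 1)) ^ 2 + 1 ∧
      MulAction.IsMultiplyPretransitive ↥(Cfsg.Lie.Sz F (2 ^ (m + 1)))
        (↥(Cfsg.Lie.Sz F (2 ^ (m + 1))) ⧸ Subgroup.normalizer
          ((S : Subgroup ↥(Cfsg.Lie.Sz F (2 ^ (m + 1)))) : Set ↥(Cfsg.Lie.Sz F (2 ^ (m + 1))))) 2 ∧
      ∀ x y : ↥(Cfsg.Lie.Sz F (2 ^ (m + 1))) ⧸ Subgroup.normalizer
          ((S : Subgroup ↥(Cfsg.Lie.Sz F (2 ^ (m + 1)))) : Set ↥(Cfsg.Lie.Sz F (2 ^ (m + 1)))),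
        x ≠ (QuotientGroup.mk 1) → y ≠ (QuotientGroup.mk 1) →
          ∃! s : ↥(S : Subgroup ↥(Cfsg.Lie.Sz F (2 ^ (m + 1)))),
            (s : ↥(Cfsg.Lie.Sz F (2 ^ (m + 1)))) • x = y := by
  set e := szEquiv hm hF with he
  have hG : Nat.card ↥(Cfsg.Lie.Sz F (2 ^ (m + 1))) =
      (2 ^ (2 * m + 1)) ^ 2 * (2 ^ (2 * m + 1) - 1) * ((2 ^ (2 * m + 1)) ^ 2 + 1) := by
    rw [← Nat.card_congr e.toEquiv, card_Sz hm hF]
    ring
  refine ⟨hG, ?_⟩
  haveI : Finite ↥(Cfsg.Lie.Sz F (2 ^ (m + 1))) := Finite.of_equiv _ e.toEquiv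
  apply sylow_regular_abstract ((TSub hF).map e.toMonoidHom) ((BS F m).map e.toMonoidHom)
    (2 ^ (2 * m + 1)) (2 * m + 1) rfl (by omega) hG
  · rw [Subgroup.card_map_of_injective e.injective, card_TSub hF]
  · rw [Subgroup.card_map_of_injective e.injective, card_BS hm hF]
  · rw [← Subgroup.map_equiv_normalizer_eq, normalizer_TSub hm hF]
  · intro t' ht' ht'1 g' hg'
    obtain ⟨t, ht, rfl⟩ := Subgroup.mem_map.mp ht'
    obtain ⟨g, rfl⟩ := e.surjective g'
    obtain ⟨b, hb, hbe⟩ := Subgroup.mem_map.mp hg'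
    have hbe' : e b = e (g⁻¹ * t * g) := by
      rw [map_mul, map_mul, map_inv]
      exact hbe
    have hb' : g⁻¹ * t * g ∈ BS F m := by
      rw [← e.injective hbe']
      exact hb
    obtain ⟨a₁, b₁, rfl⟩ := (mem_TSub_iff hF t).mp ht
    have hne : TS hF a₁ b₁ ≠ 1 := by
      intro h
      apply ht'1
      show e (TS hF a₁ b₁) = 1
      rw [h, map_one]
    have hfix : (g⁻¹ * TS hF a₁ b₁ * g) • oinf F m = oinf F m := hb'
    have hg : g • oinf F m = oinf F m := by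
      apply TS_fix_only hF hne
      rw [mul_smul, mul_smul, inv_smul_eq_iff] at hfix
      exact hfix
    exact Subgroup.mem_map.mpr ⟨g, hg, rfl⟩

end apply

end Cfsg.Agent.Lib.Helper14.Sz
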