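import Mathlib
import Cfsg.Agent.Lib.Helper14.SzFixA
import Cfsg.Agent.Lib.Helper14.SzAC
import Cfsg.Agent.Lib.Helper14.SzW
import Cfsg.Agent.Lib.Helper14.SzV

/-!
# Fixity-two actions of Suzuki groups: stabilizers of even order (helper14)
-/

set_option autoImplicit false
set_option maxHeartbeats 2000000
set_option linter.unusedSectionVars false

namespace Cfsg.Agent.Lib.Helper14.SzFix

open Cfsg Cfsg.Agent.Lib.Helper14.Sz MulAction

section even

variable {F : Type*} [Field F] [Fintype F] [CharP F 2] {m : ℕ}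
variable {Ω : Type*} [MulAction (Sz F m) Ω] [Finite Ω]

theorem TS_sq' (hF : Fintype.card F = 2 ^ (2 * m + 1)) (a b : F) :
    TS hF a b * TS hF a b = TS hF 0 (sg m a * a) := by
  rw [TS_mul]
  congr 1
  · exact CharTwo.add_self_eq_zero a
  · rw [CharTwo.add_self_eq_zero b, zero_add]

/-- the central elements lie in the stabilizer -/
theorem Z_mem (hF : Fintype.card F = 2 ^ (2 * m + 1))
    (hfix : ∀ g : Sz F m, g ≠ 1 → Nat.card (fixedBy Ω g) ≤ 2) (ω : Ω)
    (h0 : TS hF 0 1 • ω = ω) (c : F) : TS hF 0 c • ω = ω := by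
  obtain ⟨a, ha⟩ := sg_mul_self_surjective hF c
  simp only at ha
  have h := sq_of_commute hfix ω (TS hF 0 1) (TS_one_ne hF one_ne_zero) h0 (TS hF a 0)
    (TS_central hF a 0 1)
  rwa [TS_sq', ha] at h

/-- squares of Borel elements lie in the stabilizer -/
theorem borel_sq_mem (hF : Fintype.card F = 2 ^ (2 * m + 1))
    (hfix : ∀ g : Sz F m, g ≠ 1 → Nat.card (fixedBy Ω g) ≤ 2) (ω : Ω)
    (h0 : TS hF 0 1 • ω = ω) (a b : F) (k : Fˣ) :
    ((TS hF a b * HS hF k) * (TS hF a b * HS hF k)) • ω = ω := by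
  apply sq_smul_eq' hfix ω (TS hF 0 1) (TS_one_ne hF one_ne_zero) _ h0
  · rw [conjB_Z]
    exact Z_mem hF hfix ω h0 _
  · rw [conjB_Z, conjB_Z]
    exact Z_mem hF hfix ω h0 _

theorem HS_mem (hF : Fintype.card F = 2 ^ (2 * m + 1))
    (hfix : ∀ g : Sz F m, g ≠ 1 → Nat.card (fixedBy Ω g) ≤ 2) (ω : Ω)
    (h0 : TS hF 0 1 • ω = ω) (k : Fˣ) : HS hF k • ω = ω := by
  obtain ⟨l, rfl⟩ := sq_surj_units k
  have := borel_sq_mem hF hfix ω h0 0 0 l
  rwa [TS_zero, one_mul, ← HS_mul] at this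

theorem TS_mem (hm : 1 ≤ m) (hF : Fintype.card F = 2 ^ (2 * m + 1))
    (hfix : ∀ g : Sz F m, g ≠ 1 → Nat.card (fixedBy Ω g) ≤ 2) (ω : Ω)
    (h0 : TS hF 0 1 • ω = ω) (a b : F) : TS hF a b • ω = ω := by
  obtain ⟨k₀, hk₀, -⟩ := exists_gen hm hF
  have hne : (1 : F) + (k₀ : F) ≠ 0 := by
    intro h
    apply hk₀
    ext
    rw [CharTwo.add_eq_zero] at h
    rw [← h]
    rfl
  set a' : F := a / (1 + (k₀ : F)) with ha'
  have h1 := borel_sq_mem hF hfix ω h0 a' 0 k₀
  have e1 : (TS hF a' 0 * HS hF k₀) * (TS hF a' 0 * HS hF k₀) =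
      (TS hF a' 0 * TS hF ((k₀ : F) * a') (sg m (k₀ : F) * (k₀ : F) * 0)) *
        (HS hF k₀ * HS hF k₀) := by
    have : (TS hF a' 0 * HS hF k₀) * (TS hF a' 0 * HS hF k₀) =
        TS hF a' 0 * (HS hF k₀ * TS hF a' 0) * HS hF k₀ := by
      simp only [mul_assoc]
    rw [this, HS_mul_TS]
    simp only [mul_assoc]
  rw [e1, mul_smul, mul_smul (HS hF k₀), HS_mem hF hfix ω h0, HS_mem hF hfix ω h0, TS_mul] at h1
  have e2 : a' + (k₀ : F) * a' = a := by
    rw [ha']
    field_simp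
  rw [e2] at h1
  set c : F := 0 + sg m (k₀ : F) * (k₀ : F) * 0 + sg m a' * ((k₀ : F) * a') with hc
  have e3 : TS hF a b = TS hF a c * TS hF 0 (b + c) := by
    rw [TS_mul]
    congr 1
    · rw [add_zero]
    · rw [mul_zero, add_zero, add_comm b c, ← add_assoc, CharTwo.add_self_eq_zero, zero_add]
  rw [e3, mul_smul, Z_mem hF hfix ω h0, h1]

theorem BS_le (hm : 1 ≤ m) (hF : Fintype.card F = 2 ^ (2 * m + 1))
    (hfix : ∀ g : Sz F m, g ≠ 1 → Nat.card (fixedBy Ω g) ≤ 2) (ω : Ω)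
    (h0 : TS hF 0 1 • ω = ω) : BS F m ≤ stabilizer (Sz F m) ω := by
  intro x hx
  obtain ⟨a, b, k, rfl⟩ := fix_oinf hm hF x hx
  show (TS hF a b * HS hF k) • ω = ω
  rw [mul_smul, HS_mem hF hfix ω h0, TS_mem hm hF hfix ω h0]

theorem stabilizer_eq_BS (hm : 1 ≤ m) (hF : Fintype.card F = 2 ^ (2 * m + 1))
    (hfix : ∀ g : Sz F m, g ≠ 1 → Nat.card (fixedBy Ω g) ≤ 2) (ω : Ω)
    (h0 : TS hF 0 1 • ω = ω) (hne : stabilizer (Sz F m) ω ≠ ⊤) :
    stabilizer (Sz F m) ω = BS F m := by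
  refine le_antisymm ?_ (BS_le hm hF hfix ω h0)
  intro x hx
  by_contra hxB
  apply hne
  have hW : WS hF • ω = ω := by
    rcases bruhat hm hF x with ⟨a, b, k, rfl⟩ | ⟨c, d, a, b, k, rfl⟩
    · exact absurd (borel_oinf hF a b k) hxB
    · have h1 : (TS hF c d * WS hF * (TS hF a b * HS hF k)) • ω = ω := hx
      rw [mul_smul, mul_smul (TS hF a b), HS_mem hF hfix ω h0, TS_mem hm hF hfix ω h0,
        mul_smul] at h1
      have h2 : (TS hF c d)⁻¹ • (TS hF c d • WS hF • ω) = (TS hF c d)⁻¹ • ω := by rw [h1]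
      rw [inv_smul_smul, TS_inv, TS_mem hm hF hfix ω h0] at h2
      exact h2
  rw [eq_top_iff]
  intro y _
  show y • ω = ω
  rcases bruhat hm hF y with ⟨a, b, k, rfl⟩ | ⟨c, d, a, b, k, rfl⟩
  · rw [mul_smul, HS_mem hF hfix ω h0, TS_mem hm hF hfix ω h0]
  · rw [mul_smul, mul_smul (TS hF a b), HS_mem hF hfix ω h0, TS_mem hm hF hfix ω h0,
      mul_smul, hW, TS_mem hm hF hfix ω h0]

/-- the conclusion when a stabilizer is the Borel subgroup -/
theorem even_conclusion (hm : 1 ≤ m) (hF : Fintype.card F = 2 ^ (2 * m + 1))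
    [IsPretransitive (Sz F m) Ω] (ω : Ω) (hK : stabilizer (Sz F m) ω = BS F m) :
    Nat.card Ω = (2 ^ (2 * m + 1)) ^ 2 + 1 ∧ IsMultiplyPretransitive (Sz F m) Ω 2 := by
  constructor
  · have h1 := Nat.card_congr (MulAction.orbitProdStabilizerEquivGroup (Sz F m) ω)
    rw [Nat.card_prod, hK, card_BS hm hF, card_Sz hm hF, MulAction.orbit_eq_univ,
      Nat.card_congr (Equiv.Set.univ Ω)] at h1
    have hq : 0 < (2 ^ (2 * m + 1)) ^ 2 * (2 ^ (2 * m + 1) - 1) := by
      apply Nat.mul_pos (by positivity)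
      have : 2 ≤ 2 ^ (2 * m + 1) := by
        calc 2 = 2 ^ 1 := by norm_num
          _ ≤ 2 ^ (2 * m + 1) := Nat.pow_le_pow_right (by norm_num) (by omega)
      omega
    apply Nat.eq_of_mul_eq_mul_right hq
    rw [h1]
    ring
  · rw [is_two_pretransitive_iff]
    have key : ∀ {a b : Ω}, a ≠ b → ∃ g : Sz F m, g • ω = a ∧ g • (WS hF • ω) = b := by
      intro a b hab
      obtain ⟨s, rfl⟩ := exists_smul_eq (Sz F m) ω a
      obtain ⟨s', rfl⟩ := exists_smul_eq (Sz F m) ω b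
      have hnot : s⁻¹ * s' ∉ BS F m := by
        rw [← hK]
        intro h
        apply hab
        have h1 : (s⁻¹ * s') • ω = ω := h
        rw [mul_smul, inv_smul_eq_iff] at h1
        exact h1.symm
      rcases bruhat hm hF (s⁻¹ * s') with ⟨a, b, k, e⟩ | ⟨c, d, a, b, k, e⟩
      · exact absurd (e ▸ borel_oinf hF a b k) hnot
      · have hB : ∀ a b k, (TS hF a b * HS hF k) • ω = ω := by
          intro a b k
          have : TS hF a b * HS hF k ∈ stabilizer (Sz F m) ω := by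
            rw [hK]
            exact borel_oinf hF a b k
          exact this
        refine ⟨s * TS hF c d, ?_, ?_⟩
        · have := hB c d 1
          rw [HS_one, mul_one] at this
          rw [mul_smul, this]
        · have e' : s' = s * (TS hF c d * WS hF * (TS hF a b * HS hF k)) := by
            rw [← e, mul_inv_cancel_left]
          have e3 : (s * (TS hF c d * WS hF * (TS hF a b * HS hF k))) • ω =
              s • TS hF c d • WS hF • ω := by
            rw [mul_smul, mul_smul, hB, mul_smul]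
          rw [e', e3, mul_smul]
    intro a b c d hab hcd
    obtain ⟨g₁, h1, h2⟩ := key hab
    obtain ⟨g₂, h3, h4⟩ := key hcd
    refine ⟨g₂ * g₁⁻¹, ?_, ?_⟩
    · rw [← h1, mul_smul, inv_smul_smul, h3]
    · rw [← h2, mul_smul, inv_smul_smul, h4]

end even

end Cfsg.Agent.Lib.Helper14.SzFix
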