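import Mathlib
import Cfsg.Agent.Lib.Helper14.SzFixB
import Cfsg.Agent.Lib.Helper1.SzTm

/-!
# Fixity-two actions of Suzuki groups: stabilizers of odd order (helper14)
-/

set_option autoImplicit false
set_option maxHeartbeats 2000000
set_option linter.unusedSectionVars false

namespace Cfsg.Agent.Lib.Helper14.SzFix

open Cfsg Cfsg.Agent.Lib.Helper14.Sz Cfsg.Agent.Lib.Helper1.SzTori MulAction

section odd

variable {F : Type*} [Field F] [Fintype F] [CharP F 2] {m : ℕ}
variable {Ω : Type*} [MulAction (Sz F m) Ω] [Finite Ω]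

theorem eq_one_of_odd_of_dvd {G : Type*} [Group G] (g : G) (n : ℕ) (hdvd : orderOf g ∣ 2 ^ n)
    (hodd : ¬ 2 ∣ orderOf g) : g = 1 := by
  obtain ⟨j, -, hj⟩ := (Nat.dvd_prime_pow Nat.prime_two).mp hdvd
  cases j with
  | zero =>
    rw [pow_zero, orderOf_eq_one_iff] at hj
    exact hj
  | succ j => exact absurd ⟨2 ^ j, by rw [hj, pow_succ']⟩ hodd

/-- a centralizer of odd order of a nonidentity element of a stabilizer lies in the stabilizer -/
theorem centralizer_le_of_odd (hfix : ∀ g : Sz F m, g ≠ 1 → Nat.card (fixedBy Ω g) ≤ 2) (ω : Ω)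
    (g : Sz F m) (hg1 : g ≠ 1) (h0 : g • ω = ω)
    (hodd : ¬ 2 ∣ Nat.card (Subgroup.centralizer ({g} : Set (Sz F m)))) :
    Subgroup.centralizer ({g} : Set (Sz F m)) ≤ stabilizer (Sz F m) ω := by
  intro a ha
  have ho : ¬ 2 ∣ orderOf a := fun h => hodd (dvd_trans h (Subgroup.orderOf_dvd_natCard _ ha))
  obtain ⟨j, hj⟩ : ∃ j, orderOf a + 1 = 2 * j := ⟨(orderOf a + 1) / 2, by omega⟩
  have e : a = a ^ j * a ^ j := by
    rw [← pow_add, ← two_mul, ← hj, pow_succ, pow_orderOf_eq_one, one_mul]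
  have hc : a ^ j * g = g * a ^ j := by
    have : a ^ j ∈ Subgroup.centralizer ({g} : Set (Sz F m)) := Subgroup.pow_mem _ ha j
    rw [Subgroup.mem_centralizer_singleton_iff] at this
    exact this
  have := sq_of_commute hfix ω g hg1 h0 (a ^ j) hc
  rw [← e] at this
  exact this

theorem TS_pow_four' (hF : Fintype.card F = 2 ^ (2 * m + 1)) (a b : F) :
    (TS (m := m) hF a b) ^ 4 = 1 := by
  rw [pow_succ, pow_succ, pow_succ, pow_one, mul_assoc (TS hF a b * TS hF a b), TS_sq', TS_sq',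
    sg_zero, zero_mul, TS_zero]

/-- centralizers of nonidentity elements of a stabilizer of odd order -/
theorem centralizer_of_mem_odd (hm : 1 ≤ m) (hF : Fintype.card F = 2 ^ (2 * m + 1))
    (hfix : ∀ g : Sz F m, g ≠ 1 → Nat.card (fixedBy Ω g) ≤ 2) (ω : Ω)
    (hodd : ¬ 2 ∣ Nat.card (stabilizer (Sz F m) ω)) (g : Sz F m) (hg1 : g ≠ 1)
    (h0 : g • ω = ω) :
    Subgroup.centralizer ({g} : Set (Sz F m)) ≤ stabilizer (Sz F m) ω ∧
      Nat.card (Subgroup.centralizer ({g} : Set (Sz F m))) = 2 ^ (2 * m + 1) - 1 := by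
  have hgo : ¬ 2 ∣ orderOf g := fun h =>
    hodd (dvd_trans h (Subgroup.orderOf_dvd_natCard (stabilizer (Sz F m) ω) h0))
  obtain ⟨N, hN, hdvd, hcyc, -⟩ := type_of_ne_one hm hF g hg1
  have hNne : N ≠ (2 ^ (2 * m + 1)) ^ 2 := by
    rintro rfl
    rw [← pow_mul] at hdvd
    exact hg1 (eq_one_of_odd_of_dvd g _ hdvd hgo)
  obtain ⟨hcy, hcard⟩ := hcyc hNne
  have hNodd : ¬ 2 ∣ N := by
    obtain ⟨hle, hq2, ht2, htq, hq⟩ := num_basic m
    rcases hN with rfl | rfl | rfl | rfl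
    · exact absurd rfl hNne
    all_goals omega
  have hle : Subgroup.centralizer ({g} : Set (Sz F m)) ≤ stabilizer (Sz F m) ω :=
    centralizer_le_of_odd hfix ω g hg1 h0 (by rw [hcard]; exact hNodd)
  refine ⟨hle, ?_⟩
  by_cases hfree : Free g
  · exfalso
    obtain ⟨g₁, g₂, hf₁, hf₂, hc₁, hc₂, hn₁, hn₂, hcover⟩ := tori_final hm hF
    have h4 : 4 ∣ Nat.card (Subgroup.normalizer
        ((Subgroup.centralizer ({g} : Set (Sz F m)) : Subgroup (Sz F m)) : Set (Sz F m))) := by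
      rcases hcover g hfree with h | h
      · rw [card_normalizer_eq_of_inU hm hF g₁ g hf₁ h, hn₁]
        exact dvd_mul_right _ _
      · rw [card_normalizer_eq_of_inU hm hF g₂ g hf₂ h, hn₂]
        exact dvd_mul_right _ _
    exact hodd (even_of_normalizer hfix ω _ hle g (self_mem_centralizer g) hg1 h4)
  · rw [free_iff_not_fixes, not_not] at hfree
    obtain ⟨h, ⟨a, b, e⟩ | ⟨k, hk, e⟩⟩ := exists_conj_std hm hF g hg1 hfree
    · exfalso
      have h4 : g ^ 4 = 1 := by
        have : (h * g * h⁻¹) ^ 4 = 1 := by rw [e, TS_pow_four']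
        rw [conj_pow, conj_eq_one_iff] at this
        exact this
      have hd : orderOf g ∣ 2 ^ 2 := orderOf_dvd_of_pow_eq_one h4
      exact hg1 (eq_one_of_odd_of_dvd g 2 hd hgo)
    · have hg' : g = h⁻¹ * HS hF k * h⁻¹⁻¹ := by
        rw [← e]
        group
      have hC : Subgroup.centralizer ({g} : Set (Sz F m)) =
          (HSub hF).map (MulAut.conj h⁻¹).toMonoidHom := by
        rw [hg', centralizer_conj, centralizer_HS_eq hm hF hk]
      rw [hC, card_map_conj, card_HSub]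

/-- a nontrivial stabilizer of odd order has order `q - 1` -/
theorem card_stabilizer_of_odd (hm : 1 ≤ m) (hF : Fintype.card F = 2 ^ (2 * m + 1))
    (hfix : ∀ g : Sz F m, g ≠ 1 → Nat.card (fixedBy Ω g) ≤ 2) (ω : Ω)
    (hodd : ¬ 2 ∣ Nat.card (stabilizer (Sz F m) ω)) (hne : stabilizer (Sz F m) ω ≠ ⊥) :
    Nat.card (stabilizer (Sz F m) ω) = 2 ^ (2 * m + 1) - 1 := by
  have : Nontrivial (stabilizer (Sz F m) ω) := (Subgroup.nontrivial_iff_ne_bot _).mpr hne
  apply card_eq_of_centralizers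
  intro g hg
  have hg1 : (g : Sz F m) ≠ 1 := fun h => hg (Subtype.ext h)
  obtain ⟨hle, hcard⟩ := centralizer_of_mem_odd hm hF hfix ω hodd g hg1 g.2
  rw [← hcard]
  exact Nat.card_congr
    ⟨fun x => ⟨x.1.1, by
        rw [Subgroup.mem_centralizer_singleton_iff]
        exact (congrArg Subtype.val x.2.eq).symm⟩,
      fun c => ⟨⟨c.1, hle c.2⟩, by
        have := Subgroup.mem_centralizer_singleton_iff.mp c.2
        exact Subtype.ext this.symm⟩,
      fun _ => rfl, fun _ => rfl⟩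

end odd

end Cfsg.Agent.Lib.Helper14.SzFix
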