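import Mathlib
import Cfsg.Agent.Lib.Helper14.SzFixC

/-!
# Fixity-two actions of Suzuki groups: the classification (helper14)
-/

set_option autoImplicit false
set_option maxHeartbeats 2000000
set_option linter.unusedSectionVars false

namespace Cfsg.Agent.Lib.Helper14.SzFix

open Cfsg Cfsg.Agent.Lib.Helper14.Sz Cfsg.Agent.Lib.Helper1.SzTori MulAction

section final

variable {F : Type*} [Field F] [Fintype F] [CharP F 2] {m : ℕ}

theorem fixity_two_sz (hm : 1 ≤ m) (hF : Fintype.card F = 2 ^ (2 * m + 1))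
    {Ω : Type*} [MulAction (Sz F m) Ω] [Finite Ω] [IsPretransitive (Sz F m) Ω]
    (hfix : ∀ g : Sz F m, g ≠ 1 → Nat.card (fixedBy Ω g) ≤ 2)
    (hex : ∃ g : Sz F m, g ≠ 1 ∧ Nat.card (fixedBy Ω g) = 2) :
    (Nat.card Ω = (2 ^ (2 * m + 1)) ^ 2 + 1 ∧ IsMultiplyPretransitive (Sz F m) Ω 2) ∨
    (Nat.card Ω = (2 ^ (2 * m + 1)) ^ 2 * ((2 ^ (2 * m + 1)) ^ 2 + 1) ∧
      ∀ α : Ω, Nat.card (stabilizer (Sz F m) α) = 2 ^ (2 * m + 1) - 1) := by
  obtain ⟨g, hg1, hg2⟩ := hex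
  have hnon : Nonempty (fixedBy Ω g) := (Nat.card_pos_iff.mp (by rw [hg2]; norm_num)).1
  obtain ⟨⟨ω₁, hω₁⟩⟩ := hnon
  have hne : stabilizer (Sz F m) ω₁ ≠ ⊥ := by
    intro h
    have : g ∈ stabilizer (Sz F m) ω₁ := hω₁
    rw [h, Subgroup.mem_bot] at this
    exact hg1 this
  by_cases heven : 2 ∣ Nat.card (stabilizer (Sz F m) ω₁)
  · left
    haveI : Fact (Nat.Prime 2) := ⟨Nat.prime_two⟩
    obtain ⟨t, ht⟩ := exists_prime_orderOf_dvd_card' (G := stabilizer (Sz F m) ω₁) 2 heven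
    have ht1 : (t : Sz F m) ≠ 1 := by
      intro h
      have : t = 1 := Subtype.ext h
      rw [this, orderOf_one] at ht
      norm_num at ht
    have ht2 : (t : Sz F m) * (t : Sz F m) = 1 := by
      have := pow_orderOf_eq_one t
      rw [ht, sq] at this
      exact congrArg Subtype.val this
    obtain ⟨x, hx⟩ := involution_conj hm hF (t : Sz F m) ht1 ht2
    have h0 : TS hF 0 1 • (x • ω₁) = x • ω₁ := by
      rw [← hx, mul_smul, mul_smul, inv_smul_smul, show (t : Sz F m) • ω₁ = ω₁ from t.2]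
    have hnt : stabilizer (Sz F m) (x • ω₁) ≠ ⊤ := by
      intro htop
      have hall : ∀ α : Ω, α = x • ω₁ := by
        intro α
        obtain ⟨s, rfl⟩ := exists_smul_eq (Sz F m) (x • ω₁) α
        have : s ∈ stabilizer (Sz F m) (x • ω₁) := by
          rw [htop]
          trivial
        exact this
      have : Nat.card (fixedBy Ω g) ≤ 1 := by
        haveI : Subsingleton Ω := ⟨fun a b => by rw [hall a, hall b]⟩
        exact Finite.card_le_one_iff_subsingleton.mpr inferInstance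
      omega
    exact even_conclusion hm hF (x • ω₁) (stabilizer_eq_BS hm hF hfix (x • ω₁) h0 hnt)
  · right
    have hK := card_stabilizer_of_odd hm hF hfix ω₁ heven hne
    have hall : ∀ α : Ω, Nat.card (stabilizer (Sz F m) α) = 2 ^ (2 * m + 1) - 1 := by
      intro α
      obtain ⟨s, rfl⟩ := exists_smul_eq (Sz F m) ω₁ α
      rw [MulAction.stabilizer_smul_eq_stabilizer_map_conj, card_map_conj, hK]
    refine ⟨?_, hall⟩
    have h1 := Nat.card_congr (MulAction.orbitProdStabilizerEquivGroup (Sz F m) ω₁)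
    rw [Nat.card_prod, hK, card_Sz hm hF, MulAction.orbit_eq_univ,
      Nat.card_congr (Equiv.Set.univ Ω)] at h1
    have hq : 0 < 2 ^ (2 * m + 1) - 1 := by
      have : 2 ≤ 2 ^ (2 * m + 1) := by
        calc 2 = 2 ^ 1 := by norm_num
          _ ≤ 2 ^ (2 * m + 1) := Nat.pow_le_pow_right (by norm_num) (by omega)
      omega
    exact Nat.eq_of_mul_eq_mul_right hq h1

/-- transport along an isomorphism -/
theorem fixity_two_iso {G : Type*} [Group G] (hm : 1 ≤ m) (hF : Fintype.card F = 2 ^ (2 * m + 1))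
    (ε : G ≃* Sz F m) {Ω : Type*} [Finite Ω] [MulAction G Ω] (htr : IsPretransitive G Ω)
    (hfix : ∀ g : G, g ≠ 1 → Nat.card (fixedBy Ω g) ≤ 2)
    (hex : ∃ g : G, g ≠ 1 ∧ Nat.card (fixedBy Ω g) = 2) :
    (Nat.card Ω = (2 ^ (2 * m + 1)) ^ 2 + 1 ∧ IsMultiplyPretransitive G Ω 2) ∨
    (Nat.card Ω = (2 ^ (2 * m + 1)) ^ 2 * ((2 ^ (2 * m + 1)) ^ 2 + 1) ∧
      ∀ α : Ω, Nat.card (stabilizer G α) = 2 ^ (2 * m + 1) - 1) := by
  letI inst : MulAction (Sz F m) Ω := MulAction.compHom Ω ε.symm.toMonoidHom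
  have hsm : ∀ (s : Sz F m) (ω : Ω), s • ω = ε.symm s • ω := fun _ _ => rfl
  haveI htr' : IsPretransitive (Sz F m) Ω := ⟨fun a b => by
    obtain ⟨g, hg⟩ := htr.exists_smul_eq a b
    exact ⟨ε g, by rw [hsm, ε.symm_apply_apply, hg]⟩⟩
  have hfb : ∀ s : Sz F m, fixedBy Ω s = fixedBy Ω (ε.symm s) := fun s => rfl
  have hfix' : ∀ s : Sz F m, s ≠ 1 → Nat.card (fixedBy Ω s) ≤ 2 := by
    intro s hs
    rw [hfb]
    apply hfix
    intro h
    apply hs
    rw [← ε.apply_symm_apply s, h, map_one]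
  have hex' : ∃ s : Sz F m, s ≠ 1 ∧ Nat.card (fixedBy Ω s) = 2 := by
    obtain ⟨g, hg1, hg2⟩ := hex
    refine ⟨ε g, ?_, ?_⟩
    · intro h
      apply hg1
      rw [← ε.symm_apply_apply g, h, map_one]
    · rw [hfb, ε.symm_apply_apply]
      exact hg2
  rcases fixity_two_sz hm hF (Ω := Ω) hfix' hex' with ⟨h1, h2⟩ | ⟨h1, h2⟩
  · left
    refine ⟨h1, ?_⟩
    rw [is_two_pretransitive_iff] at h2 ⊢
    intro a b c d hab hcd
    obtain ⟨s, hs1, hs2⟩ := h2 hab hcd
    exact ⟨ε.symm s, hs1, hs2⟩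
  · right
    refine ⟨h1, fun α => ?_⟩
    rw [← h2 α]
    exact Nat.card_congr
      ⟨fun g => ⟨ε g.1, by
          show ε g.1 • α = α
          rw [hsm, ε.symm_apply_apply]
          exact g.2⟩,
        fun s => ⟨ε.symm s.1, s.2⟩,
        fun g => Subtype.ext (ε.symm_apply_apply _),
        fun s => Subtype.ext (ε.apply_symm_apply _)⟩

end final

end Cfsg.Agent.Lib.Helper14.SzFix
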