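import Mathlib

/-!
# Abstract representation-theoretic lemmas for degree bounds (helper14)
-/

set_option autoImplicit false
set_option maxHeartbeats 2000000
set_option linter.unusedSimpArgs false
set_option linter.unusedSectionVars false

namespace Cfsg.Agent.Lib.Helper14.SzRep

open Module

section linalg

variable {W : Type*} [AddCommGroup W] [Module ℂ W] [FiniteDimensional ℂ W]

/-- the trace of an involution -/
theorem trace_of_sq_eq_one (Y : W →ₗ[ℂ] W) (hY : Y * Y = 1) :
    ∃ r : ℕ, r ≤ finrank ℂ W ∧ LinearMap.trace ℂ W Y = 2 * (r : ℂ) - (finrank ℂ W : ℂ) := by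
  set P : W →ₗ[ℂ] W := (1 / 2 : ℂ) • (1 + Y) with hP
  have hPP : P * P = P := by
    rw [hP, smul_mul_smul_comm, mul_add, add_mul, add_mul, one_mul, mul_one, one_mul, hY]
    rw [show (1 : W →ₗ[ℂ] W) + Y + (Y + 1) = (2 : ℂ) • (1 + Y) by
      rw [two_smul]; abel]
    rw [smul_smul]
    norm_num
  have hproj : LinearMap.IsProj (LinearMap.range P) P :=
    (LinearMap.isProj_range_iff_isIdempotentElem P).mpr hPP
  have htr := hproj.trace
  refine ⟨finrank ℂ (LinearMap.range P), Submodule.finrank_le _, ?_⟩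
  have h1 : LinearMap.trace ℂ W P = (1 / 2 : ℂ) * ((finrank ℂ W : ℂ) + LinearMap.trace ℂ W Y) := by
    rw [hP, map_smul, map_add, LinearMap.trace_one, smul_eq_mul]
  rw [htr] at h1
  linear_combination (-2 : ℂ) * h1

/-- the trace of an operator whose square is `±1` -/
theorem trace_sq_of_sq (X : W →ₗ[ℂ] W) (ε : ℂ) (hε : ε = 1 ∨ ε = -1) (hX : X * X = ε • 1) :
    ∃ n : ℤ, |n| ≤ (finrank ℂ W : ℤ) ∧ ε * (LinearMap.trace ℂ W X) ^ 2 = ((n : ℤ) : ℂ) ^ 2 := by
  obtain ⟨ι, hι⟩ : ∃ ι : ℂ, ι * ι = ε := by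
    rcases hε with rfl | rfl
    · exact ⟨1, by norm_num⟩
    · exact ⟨Complex.I, Complex.I_mul_I⟩
  have hεε : ε * ε = 1 := by
    rcases hε with rfl | rfl <;> norm_num
  set Y : W →ₗ[ℂ] W := ι • X with hY
  have hYY : Y * Y = 1 := by
    rw [hY, smul_mul_smul_comm, hι, hX, smul_smul, hεε, one_smul]
  obtain ⟨r, hr, htr⟩ := trace_of_sq_eq_one Y hYY
  refine ⟨2 * (r : ℤ) - (finrank ℂ W : ℤ), ?_, ?_⟩
  · rw [abs_le]
    constructor <;> omega
  · have h1 : LinearMap.trace ℂ W Y = ι * LinearMap.trace ℂ W X := by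
      rw [hY, map_smul, smul_eq_mul]
    rw [h1] at htr
    push_cast
    rw [← htr, mul_pow, sq ι, hι]

end linalg

section rep

variable {T : Type*} [Group T] [Fintype T] {W : Type*} [AddCommGroup W] [Module ℂ W]
  [FiniteDimensional ℂ W]

/-- the core inequality: a non-zero representation whose character is supported on a small set
has large degree -/
theorem card_le_of_support (ρ : Representation ℂ T W) (hW : ∃ v : W, v ≠ 0) (S : Finset T)
    (n : T → ℤ) (hn : ∀ t, |n t| ≤ (finrank ℂ W : ℤ))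
    (hχ : ∀ t ∈ S, ρ.character t⁻¹ * ρ.character t = ((n t : ℤ) : ℂ) ^ 2)
    (h0 : ∀ t, t ∉ S → ρ.character t⁻¹ * ρ.character t = 0) :
    Fintype.card T ≤ S.card * (finrank ℂ W) ^ 2 := by
  classical
  haveI : Invertible (Nat.card T : ℂ) := invertibleOfNonzero (by
    rw [Nat.card_eq_fintype_card]
    exact_mod_cast Fintype.card_ne_zero)
  have h1 := Representation.card_inv_mul_sum_char_eq_finrank (Representation.linHom ρ ρ)
  simp only [Representation.char_linHom] at h1
  -- the identity is an invariant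
  have hid : (1 : W →ₗ[ℂ] W) ∈ Representation.invariants (Representation.linHom ρ ρ) := by
    rw [Representation.mem_invariants]
    intro g
    rw [Representation.linHom_apply]
    ext v
    simp only [LinearMap.comp_apply, Module.End.one_apply]
    rw [← Module.End.mul_apply, ← map_mul, mul_inv_cancel, map_one, Module.End.one_apply]
  have hpos : 1 ≤ finrank ℂ (Representation.invariants (Representation.linHom ρ ρ)) := by
    rw [Nat.one_le_iff_ne_zero, ← Nat.pos_iff_ne_zero, Module.finrank_pos_iff_exists_ne_zero]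
    refine ⟨⟨1, hid⟩, ?_⟩
    intro e
    obtain ⟨v, hv⟩ := hW
    have := congrArg Subtype.val e
    simp only [ZeroMemClass.coe_zero] at this
    have h2 := LinearMap.congr_fun this v
    simp at h2
    exact hv h2
  set N := finrank ℂ (Representation.invariants (Representation.linHom ρ ρ)) with hN
  have hsum : ∑ t : T, ρ.character t⁻¹ * ρ.character t = ∑ t ∈ S, ((n t : ℤ) : ℂ) ^ 2 := by
    rw [← Finset.sum_subset (Finset.subset_univ S) (fun t _ ht => h0 t ht)]
    exact Finset.sum_congr rfl hχ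
  rw [hsum, Nat.card_eq_fintype_card] at h1
  have h2 : ((∑ t ∈ S, (n t) ^ 2 : ℤ) : ℂ) = ((Fintype.card T * N : ℕ) : ℂ) := by
    push_cast
    rw [← h1]
    field_simp
  have h3 : (∑ t ∈ S, (n t) ^ 2 : ℤ) = ((Fintype.card T * N : ℕ) : ℤ) := by
    have : ((∑ t ∈ S, (n t) ^ 2 : ℤ) : ℂ) = (((Fintype.card T * N : ℕ) : ℤ) : ℂ) := by
      rw [h2]; push_cast; rfl
    exact_mod_cast this
  have h4 : (∑ t ∈ S, (n t) ^ 2 : ℤ) ≤ S.card * ((finrank ℂ W : ℤ)) ^ 2 := by
    calc (∑ t ∈ S, (n t) ^ 2 : ℤ) ≤ ∑ _t ∈ S, ((finrank ℂ W : ℤ)) ^ 2 := by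
          apply Finset.sum_le_sum
          intro t _
          exact sq_le_sq' (neg_le_of_abs_le (hn t)) (le_of_abs_le (hn t))
      _ = S.card * ((finrank ℂ W : ℤ)) ^ 2 := by
          rw [Finset.sum_const, nsmul_eq_mul]
  have h5 : (Fintype.card T : ℤ) ≤ ((Fintype.card T * N : ℕ) : ℤ) := by
    push_cast
    have : (1 : ℤ) ≤ N := by exact_mod_cast hpos
    nlinarith [Int.natCast_nonneg (Fintype.card T)]
  have h6 : (Fintype.card T : ℤ) ≤ S.card * ((finrank ℂ W : ℤ)) ^ 2 := by
    rw [← h3] at h5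
    exact h5.trans h4
  exact_mod_cast h6

/-- the core inequality, with existentially quantified integer values -/
theorem card_le_of_support' (ρ : Representation ℂ T W) (hW : ∃ v : W, v ≠ 0) (S : Finset T)
    (hχ : ∀ t ∈ S, ∃ n : ℤ, |n| ≤ (finrank ℂ W : ℤ) ∧
      ρ.character t⁻¹ * ρ.character t = ((n : ℤ) : ℂ) ^ 2)
    (h0 : ∀ t, t ∉ S → ρ.character t⁻¹ * ρ.character t = 0) :
    Fintype.card T ≤ S.card * (finrank ℂ W) ^ 2 := by
  classical
  let n : T → ℤ := fun t =>
    if h : ∃ n : ℤ, |n| ≤ (finrank ℂ W : ℤ) ∧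
      ρ.character t⁻¹ * ρ.character t = ((n : ℤ) : ℂ) ^ 2 then h.choose else 0
  apply card_le_of_support ρ hW S n
  · intro t
    show |dite _ _ _| ≤ _
    split_ifs with h
    · exact h.choose_spec.1
    · simp
  · intro t ht
    have h := hχ t ht
    show _ = ((dite _ _ _ : ℤ) : ℂ) ^ 2
    rw [dif_pos h]
    exact h.choose_spec.2
  · exact h0

end rep

end Cfsg.Agent.Lib.Helper14.SzRep
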