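import Mathlib
import Cfsg.Agent.Lib.Helper14.SzY

/-!
# A linear character of the centre of the Sylow 2-subgroup of a Suzuki group (helper14)
-/

set_option autoImplicit false
set_option maxHeartbeats 2000000
set_option linter.unusedSimpArgs false
set_option linter.unusedSectionVars false

namespace Cfsg.Agent.Lib.Helper14.Sz

open Cfsg

section ell

variable {F : Type*} [Field F] [Fintype F] [CharP F 2] {m : ℕ}

/-- the additive map `x ↦ x + x ^ σ` -/
def asHom (F : Type*) [Field F] [CharP F 2] (m : ℕ) : F →+ F where
  toFun x := x + sg m x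
  map_zero' := by rw [sg_zero, add_zero]
  map_add' x y := by rw [sg_add]; abel

/-- the image of `x ↦ x + x ^ σ` -/
def PSub (F : Type*) [Field F] [CharP F 2] (m : ℕ) : AddSubgroup F := (asHom F m).range

theorem mem_PSub (b : F) : b ∈ PSub F m ↔ ∃ x : F, x + sg m x = b := Iff.rfl

theorem add_sg_mem (x : F) : x + sg m x ∈ PSub F m := ⟨x, rfl⟩

theorem sg_fixed (hF : Fintype.card F = 2 ^ (2 * m + 1)) {x : F} (h : sg m x = x) :
    x = 0 ∨ x = 1 := by
  have h1 : x ^ 2 = x := by rw [← sg_sg hF, h, h]
  have h2 : x * (x - 1) = 0 := by ring_nf; rw [h1]; ring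
  rcases mul_eq_zero.mp h2 with h3 | h3
  · exact Or.inl h3
  · exact Or.inr (sub_eq_zero.mp h3)

theorem one_not_mem_PSub (hF : Fintype.card F = 2 ^ (2 * m + 1)) : (1 : F) ∉ PSub F m := by
  rintro ⟨x, hx⟩
  have hx' : x + sg m x = 1 := hx
  have h1 : sg m x + x ^ 2 = 1 := by
    have := congrArg (sg m) hx'
    rw [sg_add, sg_sg hF, sg_one] at this
    exact this
  have h2 : x + x ^ 2 = 0 := by
    have : (x + sg m x) + (sg m x + x ^ 2) = 1 + 1 := by rw [hx', h1]
    rw [CharTwo.add_self_eq_zero] at this
    rw [← this]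
    have : sg m x + sg m x = 0 := CharTwo.add_self_eq_zero _
    linear_combination (-1 : F) * this
  have h3 : x ^ 2 = x := by
    have := CharTwo.add_eq_zero.mp h2
    exact this.symm
  have h4 : x = 0 ∨ x = 1 := by
    have h2 : x * (x - 1) = 0 := by ring_nf; rw [h3]; ring
    rcases mul_eq_zero.mp h2 with h5 | h5
    · exact Or.inl h5
    · exact Or.inr (sub_eq_zero.mp h5)
  rcases h4 with rfl | rfl
  · rw [sg_zero, add_zero] at hx'
    exact zero_ne_one hx'
  · rw [sg_one, CharTwo.add_self_eq_zero] at hx'
    exact zero_ne_one hx'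

theorem card_ker_asHom (hF : Fintype.card F = 2 ^ (2 * m + 1)) :
    Nat.card (asHom F m).ker = 2 := by
  classical
  have h : ∀ x : F, x ∈ (asHom F m).ker ↔ x = 0 ∨ x = 1 := by
    intro x
    rw [AddMonoidHom.mem_ker]
    show x + sg m x = 0 ↔ _
    constructor
    · intro hx
      exact sg_fixed hF (CharTwo.add_eq_zero.mp hx).symm
    · rintro (rfl | rfl)
      · rw [sg_zero, add_zero]
      · rw [sg_one, CharTwo.add_self_eq_zero]
  have : ((asHom F m).ker : Set F) = {0, 1} := by
    ext x
    simp only [SetLike.mem_coe, h, Set.mem_insert_iff, Set.mem_singleton_iff]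
  rw [← SetLike.coe_sort_coe, this, Nat.card_coe_set_eq, Set.ncard_pair zero_ne_one]

theorem index_PSub (hF : Fintype.card F = 2 ^ (2 * m + 1)) : (PSub F m).index = 2 := by
  have h1 : Nat.card (PSub F m) * 2 = Nat.card F := by
    have := AddSubgroup.card_mul_index (asHom F m).ker
    rw [AddSubgroup.index_ker, card_ker_asHom hF] at this
    rw [← this, mul_comm]
    rfl
  have h2 := AddSubgroup.card_mul_index (PSub F m)
  have h3 : 0 < Nat.card (PSub F m) := Nat.card_pos
  have h4 : Nat.card (PSub F m) * (PSub F m).index = Nat.card (PSub F m) * 2 := by rw [h2, h1]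
  exact Nat.eq_of_mul_eq_mul_left h3 h4

theorem mem_or_add_one_mem (hF : Fintype.card F = 2 ^ (2 * m + 1)) (b : F) :
    b ∈ PSub F m ∨ b + 1 ∈ PSub F m := by
  obtain ⟨a, ha⟩ := AddSubgroup.index_eq_two_iff.mp (index_PSub (m := m) hF)
  by_cases hb : b ∈ PSub F m
  · exact Or.inl hb
  · right
    have h1 : b + a ∈ PSub F m := by
      rcases ha b with ⟨h, -⟩ | ⟨h, -⟩
      · exact h
      · exact absurd h hb
    have h2 : 1 + a ∈ PSub F m := by
      rcases ha 1 with ⟨h, -⟩ | ⟨h, -⟩
      · exact h
      · exact absurd h (one_not_mem_PSub hF)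
    have h3 := (PSub F m).add_mem h1 h2
    have h4 : b + a + (1 + a) = b + 1 := by
      have : a + a = 0 := CharTwo.add_self_eq_zero a
      linear_combination this
    rw [h4] at h3
    exact h3

/-- multiplication stabilizers of the hyperplane are trivial -/
theorem mul_PSub (hF : Fintype.card F = 2 ^ (2 * m + 1)) (u : F)
    (hu : ∀ x : F, u * (x + sg m x) ∈ PSub F m) : u = 0 ∨ u = 1 := by
  obtain ⟨v, hv⟩ := (Finite.injective_iff_surjective.mp (sg_injective m (F := F))) u
  have h1 : ∀ x : F, (u + v) * x ∈ PSub F m := by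
    intro x
    have e1 := hu x
    have e2 : v * x + sg m (v * x) ∈ PSub F m := add_sg_mem _
    have e3 := (PSub F m).add_mem e1 e2
    have e4 : u * (x + sg m x) + (v * x + sg m (v * x)) = (u + v) * x := by
      rw [sg_mul, hv]
      have : u * sg m x + u * sg m x = 0 := CharTwo.add_self_eq_zero _
      linear_combination this
    rw [e4] at e3
    exact e3
  have h2 : u + v = 0 := by
    by_contra hne
    apply one_not_mem_PSub (m := m) hF
    have := h1 (u + v)⁻¹
    rw [mul_inv_cancel₀ hne] at this
    exact this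
  have h3 : v = u := (CharTwo.add_eq_zero.mp h2).symm
  rw [h3] at hv
  exact sg_fixed hF hv

open Classical in
/-- the linear character with kernel `PSub` -/
noncomputable def ell (F : Type*) [Field F] [CharP F 2] (m : ℕ) (b : F) : ℂ :=
  if b ∈ PSub F m then 1 else -1

theorem ell_of_mem {b : F} (h : b ∈ PSub F m) : ell F m b = 1 := by
  unfold ell; rw [if_pos h]

theorem ell_of_not_mem {b : F} (h : b ∉ PSub F m) : ell F m b = -1 := by
  unfold ell; rw [if_neg h]

theorem ell_zero : ell F m 0 = 1 := ell_of_mem (PSub F m).zero_mem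

theorem ell_one (hF : Fintype.card F = 2 ^ (2 * m + 1)) : ell F m 1 = -1 :=
  ell_of_not_mem (one_not_mem_PSub hF)

theorem ell_mul_self (b : F) : ell F m b * ell F m b = 1 := by
  by_cases h : b ∈ PSub F m
  · rw [ell_of_mem h]; norm_num
  · rw [ell_of_not_mem h]; norm_num

theorem ell_add (hF : Fintype.card F = 2 ^ (2 * m + 1)) (b c : F) :
    ell F m (b + c) = ell F m b * ell F m c := by
  by_cases hb : b ∈ PSub F m
  · by_cases hc : c ∈ PSub F m
    · rw [ell_of_mem hb, ell_of_mem hc, ell_of_mem ((PSub F m).add_mem hb hc)]; norm_num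
    · have : b + c ∉ PSub F m := by
        intro h
        apply hc
        have := (PSub F m).add_mem hb h
        have e : b + (b + c) = c := by
          have : b + b = 0 := CharTwo.add_self_eq_zero b
          linear_combination this
        rw [e] at this
        exact this
      rw [ell_of_mem hb, ell_of_not_mem hc, ell_of_not_mem this]; norm_num
  · by_cases hc : c ∈ PSub F m
    · have : b + c ∉ PSub F m := by
        intro h
        apply hb
        have := (PSub F m).add_mem h hc
        have e : b + c + c = b := by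
          have : c + c = 0 := CharTwo.add_self_eq_zero c
          linear_combination this
        rw [e] at this
        exact this
      rw [ell_of_not_mem hb, ell_of_mem hc, ell_of_not_mem this]; norm_num
    · have hb1 : b + 1 ∈ PSub F m := (mem_or_add_one_mem hF b).resolve_left hb
      have hc1 : c + 1 ∈ PSub F m := (mem_or_add_one_mem hF c).resolve_left hc
      have : b + c ∈ PSub F m := by
        have := (PSub F m).add_mem hb1 hc1
        have e : b + 1 + (c + 1) = b + c := by
          have : (1 : F) + 1 = 0 := CharTwo.add_self_eq_zero 1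
          linear_combination this
        rw [e] at this
        exact this
      rw [ell_of_not_mem hb, ell_of_not_mem hc, ell_of_mem this]; norm_num

theorem sum_ell (hF : Fintype.card F = 2 ^ (2 * m + 1)) : ∑ b : F, ell F m b = 0 := by
  have h1 : ∑ b : F, ell F m b = ∑ b : F, ell F m (b + 1) :=
    (Fintype.sum_equiv (Equiv.addRight (1 : F)) _ _ (fun b => rfl)).symm
  have h2 : ∑ b : F, ell F m (b + 1) = - ∑ b : F, ell F m b := by
    rw [← Finset.sum_neg_distrib]
    apply Finset.sum_congr rfl
    intro b _
    rw [ell_add hF, ell_one hF]; ring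
  rw [h2] at h1
  have h3 : (2 : ℂ) * ∑ b : F, ell F m b = 0 := by linear_combination h1
  rcases mul_eq_zero.mp h3 with h | h
  · norm_num at h
  · exact h

/-- the commutator pairing is non-degenerate modulo the kernel of `ell`, away from `1` -/
theorem exists_ell_neg (hF : Fintype.card F = 2 ^ (2 * m + 1)) {a : F} (ha0 : a ≠ 0) (ha1 : a ≠ 1) :
    ∃ c : F, ell F m (sg m a * c + sg m c * a) = -1 := by
  by_contra h
  push Not at h
  have h1 : ∀ c : F, sg m a * c + sg m c * a ∈ PSub F m := by
    intro c
    by_contra hc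
    exact h c (ell_of_not_mem hc)
  have h2 : ∀ x : F, (sg m a * a) * (x + sg m x) ∈ PSub F m := by
    intro x
    have := h1 (a * x)
    have e : sg m a * (a * x) + sg m (a * x) * a = (sg m a * a) * (x + sg m x) := by
      rw [sg_mul]; ring
    rw [e] at this
    exact this
  rcases mul_PSub hF _ h2 with h3 | h3
  · exact sg_mul_self_ne_zero ha0 h3
  · apply ha1
    apply sg_mul_self_injective (m := m) hF
    simp only [sg_one, one_mul]
    exact h3

end ell

end Cfsg.Agent.Lib.Helper14.Sz
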