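import Mathlib
import Cfsg.Agent.Lib.Helper14.SzRepA
import Cfsg.Agent.Lib.Helper14.SzRepB

/-!
# Complex representations of the Suzuki groups: weight spaces of the centre of a Sylow 2-subgroup
(helper14)
-/

set_option autoImplicit false
set_option maxHeartbeats 2000000
set_option linter.unusedSimpArgs false
set_option linter.unusedSectionVars false

namespace Cfsg.Agent.Lib.Helper14.Sz

open Cfsg Module

section zrep

variable {F : Type*} [Field F] [Fintype F] [CharP F 2] {m : ℕ}
  {V : Type*} [AddCommGroup V] [Module ℂ V] [FiniteDimensional ℂ V]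

/-- the centre of the standard Sylow 2-subgroup as a homomorphism -/
def zf (hF : Fintype.card F = 2 ^ (2 * m + 1)) : Multiplicative F →* Sz F m where
  toFun b := TS hF 0 (Multiplicative.toAdd b)
  map_one' := TS_zero hF
  map_mul' b c := by
    rw [TS_mul, add_zero, sg_zero, zero_mul, add_zero]
    rfl

theorem zf_apply (hF : Fintype.card F = 2 ^ (2 * m + 1)) (b : F) :
    zf (m := m) hF (Multiplicative.ofAdd b) = TS hF 0 b := rfl

/-- the restriction to the centre -/
def zrep (hF : Fintype.card F = 2 ^ (2 * m + 1)) (ρ : Representation ℂ (Sz F m) V) :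
    Representation ℂ (Multiplicative F) V := ρ.comp (zf hF)

/-- the restriction to the centre, twisted by the linear character `ell` -/
noncomputable def twrep (hF : Fintype.card F = 2 ^ (2 * m + 1))
    (ρ : Representation ℂ (Sz F m) V) : Representation ℂ (Multiplicative F) V where
  toFun b := ell F m (Multiplicative.toAdd b) • ρ (TS hF 0 (Multiplicative.toAdd b))
  map_one' := by
    show ell F m 0 • ρ (TS hF 0 0) = 1
    rw [ell_zero, TS_zero, map_one, one_smul]
  map_mul' b c := by
    show ell F m (Multiplicative.toAdd b + Multiplicative.toAdd c) •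
        ρ (TS hF 0 (Multiplicative.toAdd b + Multiplicative.toAdd c)) = _
    rw [ell_add hF, smul_mul_smul_comm, ← map_mul, TS_mul, add_zero, sg_zero, zero_mul, add_zero]

theorem twrep_apply (hF : Fintype.card F = 2 ^ (2 * m + 1)) (ρ : Representation ℂ (Sz F m) V)
    (b : F) : twrep hF ρ (Multiplicative.ofAdd b) = ell F m b • ρ (TS hF 0 b) := rfl

theorem char_central (hm : 1 ≤ m) (hF : Fintype.card F = 2 ^ (2 * m + 1))
    (ρ : Representation ℂ (Sz F m) V) {b : F} (hb : b ≠ 0) :
    ρ.character (TS hF 0 b) = ρ.character (TS hF 0 1) := by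
  obtain ⟨x, hx⟩ := involution_conj hm hF (TS hF 0 b) (TS_one_ne hF hb) (by
    rw [TS_mul, CharTwo.add_self_eq_zero, CharTwo.add_self_eq_zero, sg_zero, zero_mul, add_zero,
      TS_zero])
  rw [← hx, Representation.char_conj]

theorem sum_mult (f : F → ℂ) :
    ∑ g : Multiplicative F, f (Multiplicative.toAdd g) = ∑ b : F, f b :=
  Fintype.sum_equiv Multiplicative.toAdd _ _ (fun _ => rfl)

/-- the dimension of the fixed space of the centre -/
theorem dim_fixed (hm : 1 ≤ m) (hF : Fintype.card F = 2 ^ (2 * m + 1))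
    (ρ : Representation ℂ (Sz F m) V) :
    ((2 : ℂ) ^ (2 * m + 1)) * (finrank ℂ (Representation.invariants (zrep hF ρ)) : ℂ) =
      (finrank ℂ V : ℂ) + ((2 : ℂ) ^ (2 * m + 1) - 1) * ρ.character (TS hF 0 1) := by
  classical
  haveI : Invertible (Nat.card (Multiplicative F) : ℂ) := invertibleOfNonzero (by
    rw [Nat.card_eq_fintype_card]
    exact_mod_cast Fintype.card_ne_zero)
  have h1 := Representation.card_inv_mul_sum_char_eq_finrank (zrep hF ρ)
  have hcard : (Nat.card (Multiplicative F) : ℂ) = (2 : ℂ) ^ (2 * m + 1) := by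
    rw [Nat.card_eq_fintype_card, Fintype.card_multiplicative, hF]
    push_cast
    rfl
  rw [hcard] at h1
  have h2 : ∑ g : Multiplicative F, (zrep hF ρ).character g =
      ∑ b : F, ρ.character (TS hF 0 b) := sum_mult (fun b => ρ.character (TS hF 0 b))
  have h3 : ∀ b : F, ρ.character (TS hF 0 b) = ρ.character (TS hF 0 1) +
      (if b = 0 then (finrank ℂ V : ℂ) - ρ.character (TS hF 0 1) else 0) := by
    intro b
    by_cases hb : b = 0
    · rw [if_pos hb, hb, TS_zero, Representation.char_one]; ring
    · rw [if_neg hb, add_zero, char_central hm hF ρ hb]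
  rw [h2, Finset.sum_congr rfl (fun b _ => h3 b), Finset.sum_add_distrib, Finset.sum_const,
    Finset.sum_ite_eq' Finset.univ (0 : F), if_pos (Finset.mem_univ _), Finset.card_univ, hF,
    nsmul_eq_mul] at h1
  have h4 : ((2 : ℂ) ^ (2 * m + 1)) ≠ 0 := pow_ne_zero _ (by norm_num)
  rw [← h1]
  push_cast
  field_simp
  ring

/-- the dimension of the `ell`-weight space of the centre -/
theorem dim_weight (hm : 1 ≤ m) (hF : Fintype.card F = 2 ^ (2 * m + 1))
    (ρ : Representation ℂ (Sz F m) V) :
    ((2 : ℂ) ^ (2 * m + 1)) * (finrank ℂ (Representation.invariants (twrep hF ρ)) : ℂ) =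
      (finrank ℂ V : ℂ) - ρ.character (TS hF 0 1) := by
  classical
  haveI : Invertible (Nat.card (Multiplicative F) : ℂ) := invertibleOfNonzero (by
    rw [Nat.card_eq_fintype_card]
    exact_mod_cast Fintype.card_ne_zero)
  have h1 := Representation.card_inv_mul_sum_char_eq_finrank (twrep hF ρ)
  have hcard : (Nat.card (Multiplicative F) : ℂ) = (2 : ℂ) ^ (2 * m + 1) := by
    rw [Nat.card_eq_fintype_card, Fintype.card_multiplicative, hF]
    push_cast
    rfl
  rw [hcard] at h1
  have h2 : ∑ g : Multiplicative F, (twrep hF ρ).character g =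
      ∑ b : F, ell F m b * ρ.character (TS hF 0 b) := by
    rw [← sum_mult (fun b => ell F m b * ρ.character (TS hF 0 b))]
    apply Finset.sum_congr rfl
    intro g _
    show LinearMap.trace ℂ V (ell F m (Multiplicative.toAdd g) •
      ρ (TS hF 0 (Multiplicative.toAdd g))) = _
    rw [map_smul, smul_eq_mul]
    rfl
  have h3 : ∀ b : F, ell F m b * ρ.character (TS hF 0 b) =
      ell F m b * ρ.character (TS hF 0 1) +
      (if b = 0 then (finrank ℂ V : ℂ) - ρ.character (TS hF 0 1) else 0) := by
    intro b
    by_cases hb : b = 0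
    · rw [if_pos hb, hb, TS_zero, Representation.char_one, ell_zero]; ring
    · rw [if_neg hb, add_zero, char_central hm hF ρ hb]
  rw [h2, Finset.sum_congr rfl (fun b _ => h3 b), Finset.sum_add_distrib, ← Finset.sum_mul,
    sum_ell hF, zero_mul, zero_add,
    Finset.sum_ite_eq' Finset.univ (0 : F), if_pos (Finset.mem_univ _)] at h1
  have h4 : ((2 : ℂ) ^ (2 * m + 1)) ≠ 0 := pow_ne_zero _ (by norm_num)
  rw [← h1]
  field_simp

end zrep

end Cfsg.Agent.Lib.Helper14.Sz
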