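import Mathlib
import Cfsg.Agent.Lib.Helper14.SzRepC

/-!
# Complex representations of the Suzuki groups: the Sylow 2-subgroup acting on a weight space of
its centre (helper14)
-/

set_option autoImplicit false
set_option maxHeartbeats 2000000
set_option linter.unusedSimpArgs false
set_option linter.unusedSectionVars false

namespace Cfsg.Agent.Lib.Helper14.Sz

open Cfsg Module

section trep

variable {F : Type*} [Field F] [Fintype F] [CharP F 2] {m : ℕ}
  {V : Type*} [AddCommGroup V] [Module ℂ V] [FiniteDimensional ℂ V]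

theorem mem_weight (hF : Fintype.card F = 2 ^ (2 * m + 1)) (ρ : Representation ℂ (Sz F m) V)
    (v : V) : v ∈ Representation.invariants (twrep hF ρ) ↔
      ∀ b : F, ρ (TS hF 0 b) v = ell F m b • v := by
  rw [Representation.mem_invariants]
  constructor
  · intro h b
    have := h (Multiplicative.ofAdd b)
    rw [twrep_apply, LinearMap.smul_apply] at this
    calc ρ (TS hF 0 b) v = (ell F m b * ell F m b) • ρ (TS hF 0 b) v := by
          rw [ell_mul_self, one_smul]
      _ = ell F m b • (ell F m b • ρ (TS hF 0 b) v) := by rw [mul_smul]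
      _ = ell F m b • v := by rw [this]
  · intro h g
    show (ell F m (Multiplicative.toAdd g) • ρ (TS hF 0 (Multiplicative.toAdd g))) v = v
    rw [LinearMap.smul_apply, h, ← mul_smul, ell_mul_self, one_smul]

/-- the restriction to the standard Sylow 2-subgroup -/
def trep (hF : Fintype.card F = 2 ^ (2 * m + 1)) (ρ : Representation ℂ (Sz F m) V) :
    Representation ℂ (TSub (m := m) hF) V := ρ.comp (TSub hF).subtype

/-- the weight space as a subrepresentation of the Sylow 2-subgroup -/
noncomputable def lamSub (hF : Fintype.card F = 2 ^ (2 * m + 1)) (ρ : Representation ℂ (Sz F m) V) :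
    Subrepresentation (trep hF ρ) where
  toSubmodule := Representation.invariants (twrep hF ρ)
  apply_mem_toSubmodule t v hv := by
    rw [mem_weight] at hv ⊢
    intro b
    obtain ⟨a, c, ht⟩ := (mem_TSub_iff hF t.1).mp t.2
    show ρ (TS hF 0 b) (ρ t.1 v) = ell F m b • ρ t.1 v
    rw [← Module.End.mul_apply, ← map_mul, ht, ← TS_central, map_mul, Module.End.mul_apply,
      hv b, map_smul]

/-- the Sylow 2-subgroup acting on the weight space -/
noncomputable def lamrep (hF : Fintype.card F = 2 ^ (2 * m + 1))
    (ρ : Representation ℂ (Sz F m) V) :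
    Representation ℂ (TSub (m := m) hF) (Representation.invariants (twrep hF ρ)) :=
  (lamSub hF ρ).toRepresentation

theorem lamrep_apply (hF : Fintype.card F = 2 ^ (2 * m + 1)) (ρ : Representation ℂ (Sz F m) V)
    (t : TSub (m := m) hF) (v : Representation.invariants (twrep hF ρ)) :
    ((lamrep hF ρ t v : Representation.invariants (twrep hF ρ)) : V) = ρ t.1 (v : V) := rfl

theorem tauT_val (hF : Fintype.card F = 2 ^ (2 * m + 1)) (a b : F) :
    ((tauT (m := m) hF (a, b) : TSub hF) : Sz F m) = TS hF a b := rfl

/-- central elements act by scalars -/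
theorem lamrep_central (hF : Fintype.card F = 2 ^ (2 * m + 1)) (ρ : Representation ℂ (Sz F m) V)
    (b : F) : lamrep hF ρ (tauT hF (0, b)) = ell F m b • 1 := by
  apply LinearMap.ext
  intro v
  apply Subtype.ext
  rw [lamrep_apply, tauT_val]
  have := (mem_weight hF ρ v.1).mp v.2 b
  rw [this]
  rfl

theorem char_lam_central (hF : Fintype.card F = 2 ^ (2 * m + 1))
    (ρ : Representation ℂ (Sz F m) V) (b : F) :
    (lamrep hF ρ).character (tauT hF (0, b)) =
      ell F m b * (finrank ℂ (Representation.invariants (twrep hF ρ)) : ℂ) := by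
  unfold Representation.character
  rw [lamrep_central, map_smul, LinearMap.trace_one, smul_eq_mul]

theorem tauT_inv (hF : Fintype.card F = 2 ^ (2 * m + 1)) (a b : F) :
    (tauT (m := m) hF (a, b))⁻¹ = tauT hF (a, b + sg m a * a) := by
  apply Subtype.ext
  show (TS hF a b)⁻¹ = TS hF a (b + sg m a * a)
  exact TS_inv hF a b

/-- the character vanishes off the centralizer modulo the kernel -/
theorem char_lam_vanish (hF : Fintype.card F = 2 ^ (2 * m + 1))
    (ρ : Representation ℂ (Sz F m) V) {a : F} (ha0 : a ≠ 0) (ha1 : a ≠ 1) (b : F) :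
    (lamrep hF ρ).character (tauT hF (a, b)) = 0 := by
  obtain ⟨c, hc⟩ := exists_ell_neg (m := m) hF ha0 ha1
  set t := tauT (m := m) hF (a, b) with ht
  set s := tauT (m := m) hF (c, 0) with hs
  set z := tauT (m := m) hF (0, sg m a * c + sg m c * a) with hz
  have h1 : s⁻¹ * t * s⁻¹⁻¹ = t * z := by
    rw [inv_inv]
    have h2 : t * s = s * (t * z) := by
      rw [ht, hs, hz, tauT_mul, tauT_mul, tauT_mul]
      congr 1
      have e1 : sg m a * c + sg m a * c = 0 := CharTwo.add_self_eq_zero _
      refine Prod.ext ?_ ?_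
      · show a + c = c + (a + 0)
        ring
      · show b + 0 + sg m a * c =
          0 + (b + (sg m a * c + sg m c * a) + sg m a * 0) + sg m c * (a + 0)
        have e2 : sg m c * a + sg m c * a = 0 := CharTwo.add_self_eq_zero _
        linear_combination (-1 : F) * e2
    calc s⁻¹ * t * s = s⁻¹ * (t * s) := by group
      _ = s⁻¹ * (s * (t * z)) := by rw [h2]
      _ = t * z := by group
  have h3 := Representation.char_conj (lamrep hF ρ) t s⁻¹
  rw [h1] at h3
  have h4 : (lamrep hF ρ).character (t * z) = - (lamrep hF ρ).character t := by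
    unfold Representation.character
    rw [map_mul, hz, lamrep_central, hc, mul_smul_comm, mul_one, map_smul, smul_eq_mul]
    ring
  rw [h4] at h3
  have h5 : (2 : ℂ) * (lamrep hF ρ).character t = 0 := by linear_combination (-1 : ℂ) * h3
  rcases mul_eq_zero.mp h5 with h | h
  · norm_num at h
  · exact h

/-- the character on the remaining coset -/
theorem char_lam_one (hF : Fintype.card F = 2 ^ (2 * m + 1))
    (ρ : Representation ℂ (Sz F m) V) (b : F) :
    ∃ n : ℤ, |n| ≤ (finrank ℂ (Representation.invariants (twrep hF ρ)) : ℤ) ∧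
      (lamrep hF ρ).character (tauT hF (1, b))⁻¹ * (lamrep hF ρ).character (tauT hF (1, b)) =
        ((n : ℤ) : ℂ) ^ 2 := by
  set t := tauT (m := m) hF (1, b) with ht
  set X := lamrep hF ρ t with hX
  have htt : t * t = tauT hF (0, 1) := by
    rw [ht, tauT_mul, CharTwo.add_self_eq_zero, CharTwo.add_self_eq_zero, sg_one, one_mul, zero_add]
  have hXX : X * X = (-1 : ℂ) • 1 := by
    rw [hX, ← map_mul, htt, lamrep_central, ell_one hF]
  have hinv : t⁻¹ = t * (t * t) := by
    have h4 : (t * t) * (t * t) = 1 := by
      rw [htt, tauT_mul, CharTwo.add_self_eq_zero, sg_zero, zero_mul, add_zero,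
        CharTwo.add_self_eq_zero]
      apply Subtype.ext
      exact TS_zero hF
    have : t * (t * (t * t)) = 1 := by
      rw [← mul_assoc]; exact h4
    exact inv_eq_of_mul_eq_one_right this
  have hXinv : lamrep hF ρ t⁻¹ = (-1 : ℂ) • X := by
    rw [hinv, map_mul, map_mul, ← hX, hXX, mul_smul_comm, mul_one]
  obtain ⟨n, hn, hn2⟩ := SzRep.trace_sq_of_sq X (-1) (Or.inr rfl) hXX
  refine ⟨n, hn, ?_⟩
  unfold Representation.character
  rw [hXinv, map_smul, smul_eq_mul, ← hX, ← hn2]
  ring

end trep

end Cfsg.Agent.Lib.Helper14.Sz
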