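import Mathlib
import Cfsg.Agent.Lib.Helper14.SzRepD

/-!
# Complex representations of the Suzuki groups: the degree bound (helper14)
-/

set_option autoImplicit false
set_option maxHeartbeats 2000000
set_option linter.unusedSimpArgs false
set_option linter.unusedSectionVars false

namespace Cfsg.Agent.Lib.Helper14.Sz

open Cfsg Module

section bound

variable {F : Type*} [Field F] [Fintype F] [CharP F 2] {m : ℕ}
  {V : Type*} [AddCommGroup V] [Module ℂ V] [FiniteDimensional ℂ V]

/-- a non-zero weight space has dimension at least `2 ^ m` -/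
theorem weight_dim_ge (hF : Fintype.card F = 2 ^ (2 * m + 1))
    (ρ : Representation ℂ (Sz F m) V)
    (hd : 0 < finrank ℂ (Representation.invariants (twrep hF ρ))) :
    2 ^ m ≤ finrank ℂ (Representation.invariants (twrep hF ρ)) := by
  classical
  letI : Fintype (TSub (m := m) hF) := Fintype.ofFinite _
  set d := finrank ℂ (Representation.invariants (twrep hF ρ)) with hddef
  have hW : ∃ v : Representation.invariants (twrep hF ρ), v ≠ 0 :=
    (Module.finrank_pos_iff_exists_ne_zero).mp hd
  set S : Finset (TSub (m := m) hF) :=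
    (({0, 1} : Finset F) ×ˢ (Finset.univ : Finset F)).image (tauT hF) with hS
  have hScard : S.card ≤ 2 * 2 ^ (2 * m + 1) := by
    refine Finset.card_image_le.trans ?_
    rw [Finset.card_product, Finset.card_univ, hF]
    exact Nat.mul_le_mul_right _ Finset.card_le_two
  have key := SzRep.card_le_of_support' (lamrep hF ρ) hW S (by
    intro t ht
    obtain ⟨⟨a, b⟩, hab, rfl⟩ := Finset.mem_image.mp ht
    rw [Finset.mem_product, Finset.mem_insert, Finset.mem_singleton] at hab
    rcases hab.1 with h | h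
    · simp only at h
      subst h
      refine ⟨(d : ℤ), by rw [Nat.abs_cast], ?_⟩
      rw [tauT_inv, sg_zero, zero_mul, add_zero, char_lam_central]
      have := ell_mul_self (m := m) b
      push_cast
      linear_combination ((d : ℂ)) ^ 2 * this
    · simp only at h
      subst h
      exact char_lam_one hF ρ b) (by
    intro t ht
    obtain ⟨⟨a, b⟩, rfl⟩ := (tauT_bijective (m := m) hF).2 t
    have ha : a ≠ 0 ∧ a ≠ 1 := by
      constructor
      · rintro rfl
        apply ht
        exact Finset.mem_image.mpr ⟨(0, b), by simp, rfl⟩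
      · rintro rfl
        apply ht
        exact Finset.mem_image.mpr ⟨(1, b), by simp, rfl⟩
    rw [char_lam_vanish hF ρ ha.1 ha.2, mul_zero])
  rw [← Nat.card_eq_fintype_card, card_TSub hF] at key
  set q := 2 ^ (2 * m + 1) with hq
  have hqpos : 0 < q := by positivity
  have h1 : q * q ≤ q * (2 * d ^ 2) := by
    calc q * q = q ^ 2 := (sq q).symm
      _ ≤ S.card * d ^ 2 := key
      _ ≤ (2 * q) * d ^ 2 := Nat.mul_le_mul_right _ hScard
      _ = q * (2 * d ^ 2) := by ring
  have h2 : q ≤ 2 * d ^ 2 := Nat.le_of_mul_le_mul_left h1 hqpos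
  have h3 : (2 ^ m) ^ 2 ≤ d ^ 2 := by
    have : q = 2 * (2 ^ m) ^ 2 := by
      rw [hq, ← pow_mul, pow_succ, mul_comm m 2, mul_comm]
    rw [this] at h2
    exact Nat.le_of_mul_le_mul_left h2 (by norm_num)
  exact (Nat.pow_le_pow_iff_left (by norm_num)).mp h3

/-- the degree bound for representations in which the central involution acts non-trivially -/
theorem degree_bound (hm : 1 ≤ m) (hF : Fintype.card F = 2 ^ (2 * m + 1))
    (ρ : Representation ℂ (Sz F m) V) (hne : ρ (TS hF 0 1) ≠ 1) :
    2 ^ m * (2 ^ (2 * m + 1) - 1) ≤ finrank ℂ V := by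
  have e1 := dim_fixed hm hF ρ
  have e2 := dim_weight hm hF ρ
  set k := finrank ℂ V with hk
  set d₁ := finrank ℂ (Representation.invariants (zrep hF ρ)) with hd₁
  set d := finrank ℂ (Representation.invariants (twrep hF ρ)) with hd
  set c := ρ.character (TS hF 0 1) with hc
  have hq0 : ((2 : ℂ) ^ (2 * m + 1)) ≠ 0 := pow_ne_zero _ (by norm_num)
  have hq1 : 1 ≤ 2 ^ (2 * m + 1) := Nat.one_le_two_pow
  -- `k = d₁ + (q - 1) d`
  have hsum : d₁ + (2 ^ (2 * m + 1) - 1) * d = k := by
    have h1 : ((2 : ℂ) ^ (2 * m + 1)) * ((d₁ : ℂ) + ((2 : ℂ) ^ (2 * m + 1) - 1) * (d : ℂ)) =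
        ((2 : ℂ) ^ (2 * m + 1)) * (k : ℂ) := by
      linear_combination e1 + ((2 : ℂ) ^ (2 * m + 1) - 1) * e2
    have h2 := mul_left_cancel₀ hq0 h1
    have h3 : ((d₁ + (2 ^ (2 * m + 1) - 1) * d : ℕ) : ℂ) = (k : ℂ) := by
      rw [← h2]
      push_cast [Nat.cast_sub hq1]
      ring
    exact_mod_cast h3
  -- the weight space is non-zero
  have hdpos : 0 < d := by
    rcases Nat.eq_zero_or_pos d with h0 | h0
    · exfalso
      rw [h0, mul_zero, add_zero] at hsum
      have htop : Representation.invariants (zrep hF ρ) = ⊤ :=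
        Submodule.eq_top_of_finrank_eq (by rw [← hd₁, hsum])
      apply hne
      apply LinearMap.ext
      intro v
      have hv : v ∈ Representation.invariants (zrep hF ρ) := by rw [htop]; trivial
      have := (Representation.mem_invariants _ v).mp hv (Multiplicative.ofAdd 1)
      exact this
    · exact h0
  have hdm := weight_dim_ge hF ρ hdpos
  calc 2 ^ m * (2 ^ (2 * m + 1) - 1) ≤ d * (2 ^ (2 * m + 1) - 1) := Nat.mul_le_mul_right _ hdm
    _ = (2 ^ (2 * m + 1) - 1) * d := mul_comm _ _
    _ ≤ d₁ + (2 ^ (2 * m + 1) - 1) * d := Nat.le_add_left _ _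
    _ = k := hsum

end bound

end Cfsg.Agent.Lib.Helper14.Sz
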