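import Mathlib
import Cfsg.Agent.Lib.Helper14.SzRepE
import Cfsg.Agent.Lib.Helper14.SzU

/-!
# The minimal degree of a non-trivial complex representation of a Suzuki group (helper14)
-/

set_option autoImplicit false
set_option maxHeartbeats 2000000
set_option linter.unusedSimpArgs false
set_option linter.unusedSectionVars false

namespace Cfsg.Agent.Lib.Helper14.Sz

open Cfsg Module

section final

variable {F : Type*} [Field F] [Fintype F] [CharP F 2] {m : ℕ}

theorem degree_bound_lie (hm : 1 ≤ m) (hF : Fintype.card F = 2 ^ (2 * m + 1)) (k : ℕ)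
    (ρ : Representation ℂ (Cfsg.Lie.Sz F (2 ^ (m + 1))) (Fin k → ℂ)) (hirr : ρ.IsIrreducible)
    (hk : 2 ≤ k) : 2 ^ m * (2 ^ (2 * m + 1) - 1) ≤ k := by
  classical
  set e := szEquiv hm hF with he
  set ρ' : Representation ℂ (Sz F m) (Fin k → ℂ) := ρ.comp e.toMonoidHom with hρ'
  have hne : ρ' (TS hF 0 1) ≠ 1 := by
    intro h1
    set N : Subgroup (Cfsg.Lie.Sz F (2 ^ (m + 1))) := (Representation.asGroupHom ρ).ker with hN
    haveI := lie_simple hm hF
    have hNn : N.Normal := by rw [hN]; infer_instance
    have hz : e (TS hF 0 1) ∈ N := by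
      rw [hN, MonoidHom.mem_ker]
      apply Units.ext
      rw [Representation.asGroupHom_apply]
      exact h1
    rcases hNn.eq_bot_or_eq_top with hNb | hNt
    · rw [hNb, Subgroup.mem_bot] at hz
      have : TS hF (0 : F) 1 = 1 := e.injective (hz.trans (map_one e).symm)
      exact TS_one_ne hF one_ne_zero this
    · have htriv : ∀ g, ρ g = 1 := by
        intro g
        have hg : g ∈ N := by rw [hNt]; trivial
        rw [hN, MonoidHom.mem_ker] at hg
        have := congrArg Units.val hg
        rw [Representation.asGroupHom_apply] at this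
        exact this
      set v₀ : Fin k → ℂ := Pi.single (⟨0, by omega⟩ : Fin k) 1 with hv₀
      have hv₀0 : v₀ ≠ 0 := by
        intro h
        have := congrFun h (⟨0, by omega⟩ : Fin k)
        rw [hv₀, Pi.single_eq_same] at this
        exact one_ne_zero this
      let W : Subrepresentation ρ := ⟨Submodule.span ℂ {v₀}, by
        intro g v hv
        rw [htriv g]
        exact hv⟩
      haveI := hirr
      rcases eq_bot_or_eq_top W with hW | hW
      · have h2 : W.toSubmodule = ⊥ := by rw [hW]; rfl
        have h3 : v₀ ∈ W.toSubmodule := Submodule.subset_span (Set.mem_singleton v₀)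
        rw [h2, Submodule.mem_bot] at h3
        exact hv₀0 h3
      · have h2 : W.toSubmodule = ⊤ := by rw [hW]; rfl
        have h3 : finrank ℂ (Submodule.span ℂ {v₀}) = k := by
          show finrank ℂ W.toSubmodule = k
          rw [h2, finrank_top, Module.finrank_fin_fun]
        rw [finrank_span_singleton hv₀0] at h3
        omega
  have := degree_bound hm hF ρ' hne
  rwa [Module.finrank_fin_fun] at this

end final

end Cfsg.Agent.Lib.Helper14.Sz
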