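import Mathlib

/-!
# A ping-pong argument for polynomial matrices (helper14)

Strictly dominant entries of `4 × 4` matrices over `K[X]`.
-/

set_option autoImplicit false
set_option maxHeartbeats 2000000

namespace Cfsg.Agent.Lib.Helper14.SzWord

open Polynomial Matrix

section dom

variable {K : Type*} [Field K]

/-- strict dominance of the entry `(r, c)` -/
def Dom (P : Matrix (Fin 4) (Fin 4) K[X]) (r c : Fin 4) : Prop :=
  ∀ i j, (i, j) ≠ (r, c) → (P i j).degree < (P r c).degree

theorem Dom.ne_zero {P : Matrix (Fin 4) (Fin 4) K[X]} {r c : Fin 4} (h : Dom P r c) :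
    P r c ≠ 0 := by
  intro h0
  have hne : (r + 1, c) ≠ (r, c) := by
    intro e
    have := (Prod.mk.inj e).1
    revert this
    fin_cases r <;> decide
  have := h (r + 1) c hne
  rw [h0, degree_zero] at this
  exact not_lt_bot this

theorem deg_mul_lt {p q a b : K[X]} (ha : a ≠ 0) (hb : b ≠ 0) (h1 : p.degree < a.degree)
    (h2 : q.degree ≤ b.degree) : (p * q).degree < (a * b).degree := by
  have hab : (a * b).degree ≠ ⊥ := by
    rw [Ne, degree_eq_bot]
    exact mul_ne_zero ha hb
  by_cases hp : p = 0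
  · rw [hp, zero_mul, degree_zero]
    exact bot_lt_iff_ne_bot.mpr hab
  by_cases hq : q = 0
  · rw [hq, mul_zero, degree_zero]
    exact bot_lt_iff_ne_bot.mpr hab
  rw [degree_eq_natDegree hp, degree_eq_natDegree ha] at h1
  rw [degree_eq_natDegree hq, degree_eq_natDegree hb] at h2
  have h1' : p.natDegree < a.natDegree := by exact_mod_cast h1
  have h2' : q.natDegree ≤ b.natDegree := by exact_mod_cast h2
  rw [degree_mul, degree_mul, degree_eq_natDegree hp, degree_eq_natDegree hq,
    degree_eq_natDegree ha, degree_eq_natDegree hb]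
  exact_mod_cast (by omega : p.natDegree + q.natDegree < a.natDegree + b.natDegree)

/-- dominance is multiplicative -/
theorem Dom.mul {P Q : Matrix (Fin 4) (Fin 4) K[X]} {r c c' : Fin 4} (hP : Dom P r c)
    (hQ : Dom Q c c') : Dom (P * Q) r c' := by
  have hPne := hP.ne_zero
  have hQne := hQ.ne_zero
  have hbot : ⊥ < (P r c * Q c c').degree := by
    rw [bot_lt_iff_ne_bot, Ne, degree_eq_bot]
    exact mul_ne_zero hPne hQne
  have key : ∀ i j k, ((i, k) ≠ (r, c) ∨ (k, j) ≠ (c, c')) →
      (P i k * Q k j).degree < (P r c * Q c c').degree := by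
    intro i j k h
    by_cases h1 : (i, k) = (r, c)
    · have h2 : (k, j) ≠ (c, c') := h.resolve_left (not_not.mpr h1)
      obtain ⟨hi, hk⟩ := Prod.mk.inj h1
      subst hi
      subst hk
      rw [mul_comm (P i k), mul_comm (P i k)]
      exact deg_mul_lt hQne hPne (hQ _ _ h2) le_rfl
    · by_cases h2 : (k, j) = (c, c')
      · obtain ⟨hk, hj⟩ := Prod.mk.inj h2
        subst hk
        subst hj
        exact deg_mul_lt hPne hQne (hP _ _ h1) le_rfl
      · exact deg_mul_lt hPne hQne (hP _ _ h1) (hQ _ _ h2).le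
  have hmain : ((P * Q) r c').degree = (P r c * Q c c').degree := by
    rw [Matrix.mul_apply, ← Finset.add_sum_erase _ _ (Finset.mem_univ c)]
    apply degree_add_eq_left_of_degree_lt
    apply lt_of_le_of_lt (degree_sum_le _ _)
    rw [Finset.sup_lt_iff hbot]
    intro k hk
    exact key r c' k (Or.inl (fun h => (Finset.ne_of_mem_erase hk) (Prod.mk.inj h).2))
  intro i j hij
  rw [hmain, Matrix.mul_apply]
  apply lt_of_le_of_lt (degree_sum_le _ _)
  rw [Finset.sup_lt_iff hbot]
  intro k _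
  apply key i j k
  by_contra hcon
  push Not at hcon
  obtain ⟨h1, h2⟩ := hcon
  apply hij
  rw [(Prod.mk.inj h1).1, (Prod.mk.inj h2).2]

theorem Dom.ne_one {P : Matrix (Fin 4) (Fin 4) K[X]} {r c : Fin 4} (h : Dom P r c) : P ≠ 1 := by
  rintro rfl
  have hle : ((1 : Matrix (Fin 4) (Fin 4) K[X]) r c).degree ≤ 0 := by
    by_cases hrc : r = c
    · rw [hrc, Matrix.one_apply_eq]
      exact degree_one_le
    · rw [Matrix.one_apply_ne hrc, degree_zero]
      exact bot_le
  obtain ⟨i, hi⟩ : ∃ i : Fin 4, (i, i) ≠ (r, c) := by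
    by_cases h0 : r = 0
    · refine ⟨1, ?_⟩
      rw [h0]
      intro e
      exact absurd (Prod.mk.inj e).1 (by decide)
    · exact ⟨0, fun e => h0 (Prod.mk.inj e).1.symm⟩
  have := h i i hi
  rw [Matrix.one_apply_eq, degree_one] at this
  exact absurd (lt_of_lt_of_le this hle) (lt_irrefl _)

end dom

section ut

variable {K : Type*} [Field K]

/-- upper unitriangular matrices -/
noncomputable def UT (p01 p02 p03 p12 p13 p23 : K[X]) : Matrix (Fin 4) (Fin 4) K[X] :=
  !![1, p01, p02, p03; 0, 1, p12, p13; 0, 0, 1, p23; 0, 0, 0, 1]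

theorem UT_mul (p01 p02 p03 p12 p13 p23 q01 q02 q03 q12 q13 q23 : K[X]) :
    UT p01 p02 p03 p12 p13 p23 * UT q01 q02 q03 q12 q13 q23 =
      UT (p01 + q01) (q02 + p01 * q12 + p02) (q03 + p01 * q13 + p02 * q23 + p03)
        (p12 + q12) (q13 + p12 * q23 + p13) (p23 + q23) := by
  ext i j
  rw [Matrix.mul_apply, Fin.sum_univ_four]
  fin_cases i <;> fin_cases j <;> simp [UT] <;> ring

theorem dom_UT (N : ℕ) (hN : 0 < N) (p01 p02 p03 p12 p13 p23 : K[X]) (h03 : p03.degree = N)
    (h01 : p01.degree < N) (h02 : p02.degree < N) (h12 : p12.degree < N) (h13 : p13.degree < N)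
    (h23 : p23.degree < N) : Dom (UT p01 p02 p03 p12 p13 p23) 0 3 := by
  have h1 : (1 : K[X]).degree < (N : WithBot ℕ) := by
    rw [degree_one]
    exact_mod_cast hN
  have h0 : (0 : K[X]).degree < (N : WithBot ℕ) := by
    rw [degree_zero]
    exact WithBot.bot_lt_coe N
  have e03 : UT p01 p02 p03 p12 p13 p23 0 3 = p03 := by simp [UT]
  intro i j hij
  rw [e03, h03]
  fin_cases i <;> fin_cases j <;> first
    | exact absurd rfl hij
    | (simp [UT] <;> first | exact hN | exact h1 | exact h0 | exact h01 | exact h02 | exact h12 | exact h13 | exact h23)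

/-- the antidiagonal permutation matrix -/
noncomputable def Wp : Matrix (Fin 4) (Fin 4) K[X] :=
  !![0, 0, 0, 1; 0, 0, 1, 0; 0, 1, 0, 0; 1, 0, 0, 0]

theorem Wp_mul_self : (Wp : Matrix (Fin 4) (Fin 4) K[X]) * Wp = 1 := by
  ext i j
  rw [Matrix.mul_apply, Fin.sum_univ_four]
  fin_cases i <;> fin_cases j <;> simp [Wp]

theorem Wp_conj_apply (u : Matrix (Fin 4) (Fin 4) K[X]) (i j : Fin 4) :
    (Wp * u * Wp : Matrix (Fin 4) (Fin 4) K[X]) i j = u (Fin.rev i) (Fin.rev j) := by
  rw [Matrix.mul_apply, Fin.sum_univ_four]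
  simp only [Matrix.mul_apply, Fin.sum_univ_four]
  fin_cases i <;> fin_cases j <;> simp [Wp, Fin.rev]

theorem dom_conj {u : Matrix (Fin 4) (Fin 4) K[X]} (h : Dom u 0 3) :
    Dom (Wp * u * Wp : Matrix (Fin 4) (Fin 4) K[X]) 3 0 := by
  intro i j hij
  rw [Wp_conj_apply, Wp_conj_apply]
  have e3 : Fin.rev (3 : Fin 4) = 0 := by decide
  have e0 : Fin.rev (0 : Fin 4) = 3 := by decide
  rw [e3, e0]
  apply h
  intro e
  apply hij
  have h1 := (Prod.mk.inj e).1
  have h2 := (Prod.mk.inj e).2
  have h1' : i = 3 := by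
    rw [← Fin.rev_rev i, h1]
    decide
  have h2' : j = 0 := by
    rw [← Fin.rev_rev j, h2]
    decide
  rw [h1', h2']

end ut

end Cfsg.Agent.Lib.Helper14.SzWord
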