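import Mathlib
import Cfsg.Agent.Lib.Helper14.SzWordA

/-!
# Words in polynomial Suzuki-type matrices are nontrivial (helper14)
-/

set_option autoImplicit false
set_option maxHeartbeats 2000000

namespace Cfsg.Agent.Lib.Helper14.SzWord

open Polynomial Matrix

section mats

variable {K : Type*} [Field K] (s : ℕ)

/-- the polynomial translation `T(X^e, 0)` -/
noncomputable def Mu (e : ℕ) : Matrix (Fin 4) (Fin 4) K[X] :=
  UT (X ^ e) (X ^ (s * e + e)) (X ^ (s * e + 2 * e)) (X ^ (s * e)) 0 (X ^ e)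

/-- its formal inverse -/
noncomputable def MuInv (e : ℕ) : Matrix (Fin 4) (Fin 4) K[X] :=
  UT (X ^ e) 0 (X ^ (s * e + 2 * e)) (X ^ (s * e)) (X ^ (s * e + e)) (X ^ e)

theorem lt_X_pow {n N : ℕ} (h : n < N) : ((X : K[X]) ^ n).degree < (N : WithBot ℕ) := by
  rw [degree_X_pow]
  exact_mod_cast h

theorem lt_add' {p q : K[X]} {N : ℕ} (hp : p.degree < (N : WithBot ℕ))
    (hq : q.degree < (N : WithBot ℕ)) : (p + q).degree < (N : WithBot ℕ) :=
  lt_of_le_of_lt (degree_add_le p q) (max_lt hp hq)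

theorem lt_X_mul {a b N : ℕ} (h : a + b < N) :
    ((X : K[X]) ^ a * X ^ b).degree < (N : WithBot ℕ) := by
  rw [← pow_add]
  exact lt_X_pow h

theorem lt_zero' {N : ℕ} : ((0 : K[X])).degree < (N : WithBot ℕ) := by
  rw [degree_zero]
  exact WithBot.bot_lt_coe N

theorem deg_X_pow_add {n : ℕ} {p : K[X]} (h : p.degree < (n : WithBot ℕ)) :
    (X ^ n + p).degree = (n : WithBot ℕ) := by
  rw [degree_add_eq_left_of_degree_lt (by rw [degree_X_pow]; exact h), degree_X_pow]

theorem deg_add_X_pow {n : ℕ} {p : K[X]} (h : p.degree < (n : WithBot ℕ)) :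
    (p + X ^ n).degree = (n : WithBot ℕ) := by
  rw [add_comm]
  exact deg_X_pow_add h

theorem dom_Mu {e : ℕ} (he : 0 < e) : Dom (Mu (K := K) s e) 0 3 := by
  unfold Mu
  refine dom_UT (s * e + 2 * e) (by omega) _ _ _ _ _ _ (degree_X_pow _) (lt_X_pow (by omega))
    (lt_X_pow (by omega)) (lt_X_pow (by omega)) lt_zero' (lt_X_pow (by omega))

theorem dom_MuInv {e : ℕ} (he : 0 < e) : Dom (MuInv (K := K) s e) 0 3 := by
  unfold MuInv
  refine dom_UT (s * e + 2 * e) (by omega) _ _ _ _ _ _ (degree_X_pow _) (lt_X_pow (by omega))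
    lt_zero' (lt_X_pow (by omega)) (lt_X_pow (by omega)) (lt_X_pow (by omega))

theorem dom_MuInv_mul_Mu {e f : ℕ} (he : 0 < e) (hf : 0 < f) (hef : e ≠ f) :
    Dom (MuInv (K := K) s e * Mu s f) 0 3 := by
  unfold MuInv Mu
  rw [UT_mul]
  simp only [mul_zero, zero_mul, add_zero]
  rcases lt_or_gt_of_ne hef with h | h
  · have h1 : s * e ≤ s * f := Nat.mul_le_mul_left s h.le
    refine dom_UT (s * f + 2 * f) (by omega) _ _ _ _ _ _ ?_ ?_ ?_ ?_ ?_ ?_
    · exact deg_X_pow_add (lt_X_pow (by omega))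
    · exact lt_add' (lt_X_pow (by omega)) (lt_X_pow (by omega))
    · exact lt_add' (lt_X_pow (by omega)) (lt_X_mul (by omega))
    · exact lt_add' (lt_X_pow (by omega)) (lt_X_pow (by omega))
    · exact lt_add' (lt_add' lt_zero' (lt_X_mul (by omega))) (lt_X_pow (by omega))
    · exact lt_add' (lt_X_pow (by omega)) (lt_X_pow (by omega))
  · have h1 : s * f ≤ s * e := Nat.mul_le_mul_left s h.le
    refine dom_UT (s * e + 2 * e) (by omega) _ _ _ _ _ _ ?_ ?_ ?_ ?_ ?_ ?_
    · exact deg_add_X_pow (lt_X_pow (by omega))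
    · exact lt_add' (lt_X_pow (by omega)) (lt_X_pow (by omega))
    · exact lt_add' (lt_X_pow (by omega)) (lt_X_mul (by omega))
    · exact lt_add' (lt_X_pow (by omega)) (lt_X_pow (by omega))
    · exact lt_add' (lt_add' lt_zero' (lt_X_mul (by omega))) (lt_X_pow (by omega))
    · exact lt_add' (lt_X_pow (by omega)) (lt_X_pow (by omega))

theorem dom_Mu_mul_MuInv {e f : ℕ} (he : 0 < e) (hf : 0 < f) (hef : e ≠ f) :
    Dom (Mu (K := K) s e * MuInv s f) 0 3 := by
  unfold MuInv Mu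
  rw [UT_mul]
  simp only [mul_zero, zero_mul, add_zero]
  rcases lt_or_gt_of_ne hef with h | h
  · have h1 : s * e ≤ s * f := Nat.mul_le_mul_left s h.le
    refine dom_UT (s * f + 2 * f) (by omega) _ _ _ _ _ _ ?_ ?_ ?_ ?_ ?_ ?_
    · rw [add_assoc, add_assoc]
      exact deg_X_pow_add
        (lt_add' (lt_X_mul (by omega)) (lt_add' (lt_X_mul (by omega)) (lt_X_pow (by omega))))
    · exact lt_add' (lt_X_pow (by omega)) (lt_X_pow (by omega))
    · exact lt_add' (lt_add' lt_zero' (lt_X_mul (by omega))) (lt_X_pow (by omega))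
    · exact lt_add' (lt_X_pow (by omega)) (lt_X_pow (by omega))
    · exact lt_add' (lt_X_pow (by omega)) (lt_X_mul (by omega))
    · exact lt_add' (lt_X_pow (by omega)) (lt_X_pow (by omega))
  · have h1 : s * f ≤ s * e := Nat.mul_le_mul_left s h.le
    refine dom_UT (s * e + 2 * e) (by omega) _ _ _ _ _ _ ?_ ?_ ?_ ?_ ?_ ?_
    · exact deg_add_X_pow
        (lt_add' (lt_add' (lt_X_pow (by omega)) (lt_X_mul (by omega))) (lt_X_mul (by omega)))
    · exact lt_add' (lt_X_pow (by omega)) (lt_X_pow (by omega))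
    · exact lt_add' (lt_add' lt_zero' (lt_X_mul (by omega))) (lt_X_pow (by omega))
    · exact lt_add' (lt_X_pow (by omega)) (lt_X_pow (by omega))
    · exact lt_add' (lt_X_pow (by omega)) (lt_X_mul (by omega))
    · exact lt_add' (lt_X_pow (by omega)) (lt_X_pow (by omega))

end mats

end Cfsg.Agent.Lib.Helper14.SzWord
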