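import Mathlib
import Cfsg.Agent.Lib.Helper14.SzWordB

/-!
# Reduced words in the polynomial generators are nontrivial (helper14)
-/

set_option autoImplicit false
set_option maxHeartbeats 2000000

namespace Cfsg.Agent.Lib.Helper14.SzWord

open Polynomial Matrix

section word

variable {K : Type*} [Field K] (s : ℕ)

noncomputable def Uf (i : ℕ) : Matrix (Fin 4) (Fin 4) K[X] := Mu s (i + 1)

noncomputable def UfInv (i : ℕ) : Matrix (Fin 4) (Fin 4) K[X] := MuInv s (i + 1)

noncomputable def Vf (i : ℕ) : Matrix (Fin 4) (Fin 4) K[X] := Wp * Mu s (i + 1) * Wp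

noncomputable def VfInv (i : ℕ) : Matrix (Fin 4) (Fin 4) K[X] := Wp * MuInv s (i + 1) * Wp

/-- the matrix of a letter -/
noncomputable def letterMat (x : ℕ × Bool) : Matrix (Fin 4) (Fin 4) K[X] :=
  cond x.2 (Uf s x.1 * Vf s x.1) (VfInv s x.1 * UfInv s x.1)

/-- the matrix of a word -/
noncomputable def wordMat (L : List (ℕ × Bool)) : Matrix (Fin 4) (Fin 4) K[X] :=
  (L.map (letterMat s)).prod

theorem conj_mul_conj (A B : Matrix (Fin 4) (Fin 4) K[X]) :
    (Wp * A * Wp) * (Wp * B * Wp) = Wp * (A * B) * Wp := by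
  have : (Wp * A * Wp) * (Wp * B * Wp) = Wp * A * (Wp * Wp) * B * Wp := by
    simp only [Matrix.mul_assoc]
  rw [this, Wp_mul_self, Matrix.mul_one]
  simp only [Matrix.mul_assoc]

theorem dom_Uf (i : ℕ) : Dom (Uf (K := K) s i) 0 3 := dom_Mu s (Nat.succ_pos i)

theorem dom_UfInv (i : ℕ) : Dom (UfInv (K := K) s i) 0 3 := dom_MuInv s (Nat.succ_pos i)

theorem dom_Vf (i : ℕ) : Dom (Vf (K := K) s i) 3 0 := dom_conj (dom_Mu s (Nat.succ_pos i))

theorem dom_VfInv (i : ℕ) : Dom (VfInv (K := K) s i) 3 0 := dom_conj (dom_MuInv s (Nat.succ_pos i))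

theorem dom_UfInv_Uf {i j : ℕ} (h : j ≠ i) : Dom (UfInv (K := K) s j * Uf s i) 0 3 :=
  dom_MuInv_mul_Mu s (Nat.succ_pos j) (Nat.succ_pos i) (by omega)

theorem dom_Vf_VfInv {i j : ℕ} (h : j ≠ i) : Dom (Vf (K := K) s j * VfInv s i) 3 0 := by
  unfold Vf VfInv
  rw [conj_mul_conj]
  exact dom_conj (dom_Mu_mul_MuInv s (Nat.succ_pos j) (Nat.succ_pos i) (by omega))

/-- the inductive invariant -/
def Good (P : Matrix (Fin 4) (Fin 4) K[X]) (x : ℕ × Bool) : Prop :=
  (x.2 = true ∧ ∃ (Q : Matrix (Fin 4) (Fin 4) K[X]) (c' : Fin 4), P = Uf s x.1 * Q ∧ Dom Q 3 c') ∨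
  (x.2 = false ∧ ∃ (Q : Matrix (Fin 4) (Fin 4) K[X]) (c' : Fin 4),
    P = VfInv s x.1 * Q ∧ Dom Q 0 c')

theorem wordMat_cons (x : ℕ × Bool) (L : List (ℕ × Bool)) :
    wordMat (K := K) s (x :: L) = letterMat s x * wordMat s L := by
  unfold wordMat
  rw [List.map_cons, List.prod_cons]

theorem wordMat_nil : wordMat (K := K) s [] = 1 := by
  unfold wordMat
  rw [List.map_nil, List.prod_nil]

theorem good_word : ∀ (L : List (ℕ × Bool)) (x : ℕ × Bool), FreeGroup.IsReduced (x :: L) →
    Good (K := K) s (wordMat s (x :: L)) x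
  | [], x, _ => by
    rw [wordMat_cons, wordMat_nil, Matrix.mul_one]
    obtain ⟨i, b⟩ := x
    cases b
    · right
      exact ⟨rfl, UfInv s i, 3, rfl, dom_UfInv s i⟩
    · left
      exact ⟨rfl, Vf s i, 0, rfl, dom_Vf s i⟩
  | y :: L, x, h => by
    have h' := FreeGroup.isReduced_cons_cons.mp h
    have ih := good_word L y h'.2
    rw [wordMat_cons]
    obtain ⟨j, b⟩ := x
    obtain ⟨i, b'⟩ := y
    rcases ih with ⟨hb', Q, c', hP, hQ⟩ | ⟨hb', Q, c', hP, hQ⟩
    · simp only at hb'
      subst hb'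
      simp only at hP
      cases b
      · have hji : j ≠ i := by
          intro e
          have := h'.1 e
          simp at this
        right
        refine ⟨rfl, UfInv s j * Uf s i * Q, c', ?_, (dom_UfInv_Uf s hji).mul hQ⟩
        rw [hP]
        show VfInv s j * UfInv s j * (Uf s i * Q) = VfInv s j * (UfInv s j * Uf s i * Q)
        simp only [Matrix.mul_assoc]
      · left
        refine ⟨rfl, Vf s j * (Uf s i * Q), c', ?_, (dom_Vf s j).mul ((dom_Uf s i).mul hQ)⟩
        rw [hP]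
        show Uf s j * Vf s j * (Uf s i * Q) = Uf s j * (Vf s j * (Uf s i * Q))
        simp only [Matrix.mul_assoc]
    · simp only at hb'
      subst hb'
      simp only at hP
      cases b
      · right
        refine ⟨rfl, UfInv s j * (VfInv s i * Q), c', ?_,
          (dom_UfInv s j).mul ((dom_VfInv s i).mul hQ)⟩
        rw [hP]
        show VfInv s j * UfInv s j * (VfInv s i * Q) = VfInv s j * (UfInv s j * (VfInv s i * Q))
        simp only [Matrix.mul_assoc]
      · have hji : j ≠ i := by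
          intro e
          have := h'.1 e
          simp at this
        left
        refine ⟨rfl, Vf s j * VfInv s i * Q, c', ?_, (dom_Vf_VfInv s hji).mul hQ⟩
        rw [hP]
        show Uf s j * Vf s j * (VfInv s i * Q) = Uf s j * (Vf s j * VfInv s i * Q)
        simp only [Matrix.mul_assoc]

/-- a nonempty reduced word has a nontrivial matrix -/
theorem wordMat_ne_one (L : List (ℕ × Bool)) (hL : L ≠ []) (hred : FreeGroup.IsReduced L) :
    wordMat (K := K) s L ≠ 1 := by
  obtain ⟨x, L', rfl⟩ := List.exists_cons_of_ne_nil hL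
  rcases good_word (K := K) s L' x hred with ⟨-, Q, c', hP, hQ⟩ | ⟨-, Q, c', hP, hQ⟩
  · rw [hP]
    exact ((dom_Uf s x.1).mul hQ).ne_one
  · rw [hP]
    exact ((dom_VfInv s x.1).mul hQ).ne_one

end word

end Cfsg.Agent.Lib.Helper14.SzWord
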