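import Mathlib
import Cfsg.Agent.Lib.Helper14.SzWordC

/-!
# Degree bounds and evaluation of word matrices (helper14)
-/

set_option autoImplicit false
set_option maxHeartbeats 2000000

namespace Cfsg.Agent.Lib.Helper14.SzWord

open Polynomial Matrix

section bound

variable {K : Type*} [Field K]

/-- all entries have degree at most `b` -/
def EB (P : Matrix (Fin 4) (Fin 4) K[X]) (b : ℕ) : Prop := ∀ i j, (P i j).natDegree ≤ b

theorem EB.mul {P Q : Matrix (Fin 4) (Fin 4) K[X]} {b₁ b₂ : ℕ} (hP : EB P b₁) (hQ : EB Q b₂) :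
    EB (P * Q) (b₁ + b₂) := by
  intro i j
  rw [Matrix.mul_apply]
  apply natDegree_sum_le_of_forall_le
  intro k _
  exact natDegree_mul_le_of_le (hP i k) (hQ k j)

theorem EB.mono {P : Matrix (Fin 4) (Fin 4) K[X]} {b b' : ℕ} (h : EB P b) (hb : b ≤ b') :
    EB P b' := fun i j => le_trans (h i j) hb

theorem EB_one : EB (1 : Matrix (Fin 4) (Fin 4) K[X]) 0 := by
  intro i j
  by_cases h : i = j
  · rw [h, Matrix.one_apply_eq, natDegree_one]
  · rw [Matrix.one_apply_ne h, natDegree_zero]

theorem EB_Wp : EB (Wp : Matrix (Fin 4) (Fin 4) K[X]) 0 := by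
  intro i j
  fin_cases i <;> fin_cases j <;> simp [Wp]

theorem EB_UT (b : ℕ) (p01 p02 p03 p12 p13 p23 : K[X]) (h01 : p01.natDegree ≤ b)
    (h02 : p02.natDegree ≤ b) (h03 : p03.natDegree ≤ b) (h12 : p12.natDegree ≤ b)
    (h13 : p13.natDegree ≤ b) (h23 : p23.natDegree ≤ b) : EB (UT p01 p02 p03 p12 p13 p23) b := by
  intro i j
  fin_cases i <;> fin_cases j <;> simp [UT] <;> assumption

variable (s : ℕ)

theorem natDegree_X_pow_le' {n b : ℕ} (h : n ≤ b) : ((X : K[X]) ^ n).natDegree ≤ b :=
  le_trans (natDegree_X_pow_le n) h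

theorem EB_Mu (e : ℕ) : EB (Mu (K := K) s e) (s * e + 2 * e) := by
  unfold Mu
  refine EB_UT _ _ _ _ _ _ _ (natDegree_X_pow_le' (by omega)) (natDegree_X_pow_le' (by omega))
    (natDegree_X_pow_le' (by omega)) (natDegree_X_pow_le' (by omega)) (by simp)
    (natDegree_X_pow_le' (by omega))

theorem EB_MuInv (e : ℕ) : EB (MuInv (K := K) s e) (s * e + 2 * e) := by
  unfold MuInv
  refine EB_UT _ _ _ _ _ _ _ (natDegree_X_pow_le' (by omega)) (by simp)
    (natDegree_X_pow_le' (by omega)) (natDegree_X_pow_le' (by omega))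
    (natDegree_X_pow_le' (by omega)) (natDegree_X_pow_le' (by omega))

theorem EB_letter (x : ℕ × Bool) (k : ℕ) (hx : x.1 < k) :
    EB (letterMat (K := K) s x) (2 * (s * k + 2 * k)) := by
  have h1 : s * (x.1 + 1) ≤ s * k := Nat.mul_le_mul_left s hx
  have hMu : EB (Mu (K := K) s (x.1 + 1)) (s * k + 2 * k) := (EB_Mu s _).mono (by omega)
  have hMuInv : EB (MuInv (K := K) s (x.1 + 1)) (s * k + 2 * k) := (EB_MuInv s _).mono (by omega)
  have hV : EB (Wp * Mu (K := K) s (x.1 + 1) * Wp) (s * k + 2 * k) := by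
    have := (EB_Wp.mul hMu).mul (EB_Wp (K := K))
    exact this.mono (by omega)
  have hVInv : EB (Wp * MuInv (K := K) s (x.1 + 1) * Wp) (s * k + 2 * k) := by
    have := (EB_Wp.mul hMuInv).mul (EB_Wp (K := K))
    exact this.mono (by omega)
  unfold letterMat
  cases x.2
  · exact (hVInv.mul hMuInv).mono (by omega)
  · exact (hMu.mul hV).mono (by omega)

theorem EB_word (k : ℕ) : ∀ (L : List (ℕ × Bool)), (∀ x ∈ L, x.1 < k) →
    EB (wordMat (K := K) s L) (L.length * (2 * (s * k + 2 * k)))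
  | [], _ => by
    rw [wordMat_nil]
    exact EB_one.mono (by omega)
  | x :: L, h => by
    rw [wordMat_cons]
    have h1 := EB_letter (K := K) s x k (h x (List.mem_cons_self))
    have h2 := EB_word k L (fun y hy => h y (List.mem_cons_of_mem _ hy))
    refine (h1.mul h2).mono ?_
    rw [List.length_cons, add_one_mul]
    omega

end bound

section evaluation

variable {K : Type*} [Field K]

/-- entrywise evaluation -/
noncomputable def evM (τ : K) : Matrix (Fin 4) (Fin 4) K[X] →+* Matrix (Fin 4) (Fin 4) K :=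
  (Polynomial.evalRingHom τ).mapMatrix

theorem evM_apply (τ : K) (P : Matrix (Fin 4) (Fin 4) K[X]) (i j : Fin 4) :
    evM τ P i j = (P i j).eval τ := rfl

theorem exists_eval_ne_one [Fintype K] (P : Matrix (Fin 4) (Fin 4) K[X]) (b : ℕ) (hP : EB P b)
    (hb : b < Fintype.card K) (hne : P ≠ 1) : ∃ τ : K, evM τ P ≠ 1 := by
  by_contra h
  push Not at h
  apply hne
  apply Matrix.ext
  intro i j
  have h0 : P i j - (1 : Matrix (Fin 4) (Fin 4) K[X]) i j = 0 := by
    apply Polynomial.eq_zero_of_natDegree_lt_card_of_eval_eq_zero _ (f := fun τ : K => τ)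
      (fun _ _ h => h)
    · intro τ
      have := congrFun (congrFun (h τ) i) j
      rw [evM_apply] at this
      rw [eval_sub, this]
      by_cases hij : i = j
      · rw [hij, Matrix.one_apply_eq, Matrix.one_apply_eq, eval_one, sub_self]
      · rw [Matrix.one_apply_ne hij, Matrix.one_apply_ne hij, eval_zero, sub_self]
    · refine lt_of_le_of_lt (natDegree_sub_le _ _) (lt_of_le_of_lt (max_le (hP i j) ?_) hb)
      exact le_trans (EB_one i j) (Nat.zero_le _)
  exact sub_eq_zero.mp h0

end evaluation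

end Cfsg.Agent.Lib.Helper14.SzWord
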