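import Mathlib
import Cfsg.Agent.Lib.Helper14.SzWordD
import Cfsg.Agent.Lib.Helper14.SzU
import Cfsg.Agent.Lib.Helper14.SzL

/-!
# A nontrivial word is a law in only finitely many Suzuki groups (helper14)
-/

set_option autoImplicit false
set_option maxHeartbeats 2000000
set_option linter.unusedSectionVars false

namespace Cfsg.Agent.Lib.Helper14.SzWord

open Cfsg Cfsg.Agent.Lib.Helper14.Sz Polynomial Matrix

section link

variable {F : Type*} [Field F] [Fintype F] [CharP F 2] {m : ℕ}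

theorem evM_Mu (τ : F) (e : ℕ) : evM τ (Mu (2 ^ (m + 1)) e) = Tmat m (τ ^ e) 0 := by
  ext i j
  rw [evM_apply]
  fin_cases i <;> fin_cases j <;> simp [Mu, UT, Tmat, ff, sg_zero] <;> (simp only [sg]; ring)

theorem ff_inv_entry (hF : Fintype.card F = 2 ^ (2 * m + 1)) (a : F) :
    ff m a (0 + sg m a * a) = sg m a * a ^ 2 := by
  unfold ff
  rw [zero_add, sg_mul, sg_sg hF]
  have : a * (sg m a * a) + sg m a * a ^ 2 + a ^ 2 * sg m a =
      sg m a * a ^ 2 + (sg m a * a ^ 2 + sg m a * a ^ 2) := by ring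
  rw [this, CharTwo.add_self_eq_zero, add_zero]

theorem evM_MuInv (hF : Fintype.card F = 2 ^ (2 * m + 1)) (τ : F) (e : ℕ) :
    evM τ (MuInv (2 ^ (m + 1)) e) = Tmat m (τ ^ e) (0 + sg m (τ ^ e) * τ ^ e) := by
  ext i j
  rw [evM_apply]
  fin_cases i <;> fin_cases j
  all_goals simp only [MuInv, UT, Tmat, ff_inv_entry hF]
  all_goals simp [CharTwo.add_self_eq_zero]
  all_goals (simp only [sg]; ring)

theorem evM_Wp (τ : F) : evM τ (Wp : Matrix (Fin 4) (Fin 4) F[X]) = Wmat F := by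
  ext i j
  rw [evM_apply]
  fin_cases i <;> fin_cases j <;> simp [Wp, Wmat]

theorem matOf_TS (hF : Fintype.card F = 2 ^ (2 * m + 1)) (a b : F) :
    matOf (TS (m := m) hF a b) = Tmat m a b := rfl

theorem matOf_WS (hF : Fintype.card F = 2 ^ (2 * m + 1)) : matOf (WS (m := m) hF) = Wmat F := rfl

theorem matOf_one : matOf (1 : Sz F m) = 1 := rfl

/-- the substituted elements -/
noncomputable def gen (hF : Fintype.card F = 2 ^ (2 * m + 1)) (τ : F) (i : ℕ) : Sz F m :=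
  TS hF (τ ^ (i + 1)) 0 * (WS hF * TS hF (τ ^ (i + 1)) 0 * WS hF)

theorem matOf_gen (hF : Fintype.card F = 2 ^ (2 * m + 1)) (τ : F) (i : ℕ) :
    matOf (gen hF τ i) = evM τ (letterMat (2 ^ (m + 1)) (i, true)) := by
  unfold gen letterMat Uf Vf
  simp only [cond_true, map_mul, evM_Mu, evM_Wp, matOf_mul, matOf_TS, matOf_WS]

theorem gen_inv (hF : Fintype.card F = 2 ^ (2 * m + 1)) (τ : F) (i : ℕ) :
    (gen hF τ i)⁻¹ = (WS hF * TS hF (τ ^ (i + 1)) (0 + sg m (τ ^ (i + 1)) * τ ^ (i + 1)) * WS hF) *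
      TS hF (τ ^ (i + 1)) (0 + sg m (τ ^ (i + 1)) * τ ^ (i + 1)) := by
  unfold gen
  rw [_root_.mul_inv_rev, _root_.mul_inv_rev, _root_.mul_inv_rev, WS_inv, TS_inv]
  simp only [mul_assoc]

theorem matOf_gen_inv (hF : Fintype.card F = 2 ^ (2 * m + 1)) (τ : F) (i : ℕ) :
    matOf (gen hF τ i)⁻¹ = evM τ (letterMat (2 ^ (m + 1)) (i, false)) := by
  rw [gen_inv]
  unfold letterMat UfInv VfInv
  simp only [cond_false, map_mul, evM_MuInv hF, evM_Wp, matOf_mul, matOf_TS, matOf_WS]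

/-- the matrix homomorphism -/
noncomputable def matHom (F : Type*) [Field F] [CharP F 2] (m : ℕ) :
    Sz F m →* Matrix (Fin 4) (Fin 4) F :=
  (Units.coeHom _).comp (iotaGL F m)

theorem matHom_apply (x : Sz F m) : matHom F m x = matOf x := rfl

theorem matOf_lift (hF : Fintype.card F = 2 ^ (2 * m + 1)) (τ : F) (w : FreeGroup ℕ) :
    matOf (FreeGroup.lift (gen hF τ) w) = evM τ (wordMat (2 ^ (m + 1)) w.toWord) := by
  conv_lhs => rw [← FreeGroup.mk_toWord (x := w)]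
  rw [FreeGroup.lift_mk, ← matHom_apply, map_list_prod, List.map_map]
  unfold wordMat
  rw [map_list_prod, List.map_map]
  congr 1
  apply List.map_congr_left
  intro x _
  obtain ⟨i, b⟩ := x
  cases b
  · exact matOf_gen_inv hF τ i
  · exact matOf_gen hF τ i

end link

section final

theorem arith_bound (l k m : ℕ) (hm : l * k + 3 ≤ m) :
    l * (2 * (2 ^ (m + 1) * k + 2 * k)) < 2 ^ (2 * m + 1) := by
  obtain ⟨n, rfl⟩ : ∃ n, m = n + 2 := ⟨m - 2, by omega⟩
  have hA : 1 ≤ 2 ^ n := Nat.one_le_two_pow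
  have hn : n < 2 ^ n := Nat.lt_two_pow_self
  have hP : l * k ≤ 2 ^ n := by omega
  have e1 : (2 : ℕ) ^ (n + 2 + 1) = 8 * 2 ^ n := by ring
  have e2 : (2 : ℕ) ^ (2 * (n + 2) + 1) = 32 * 2 ^ n * 2 ^ n := by ring
  rw [e1, e2]
  calc l * (2 * (8 * 2 ^ n * k + 2 * k)) = (16 * 2 ^ n + 4) * (l * k) := by ring
    _ ≤ (16 * 2 ^ n + 4) * 2 ^ n := Nat.mul_le_mul_left _ hP
    _ < 32 * 2 ^ n * 2 ^ n := by nlinarith

/-- a nontrivial word is not a law in large Suzuki groups -/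
theorem exists_subst_ne_one (w : FreeGroup ℕ) (hw : w ≠ 1) :
    ∃ N : ℕ, ∀ (F : Type*) [Field F] [Fintype F] (m : ℕ), 1 ≤ m → N ≤ m →
      ∀ hF : Fintype.card F = 2 ^ (2 * m + 1),
      haveI : CharP F 2 := Cfsg.Agent.Lib.Helper14.Sz.charP_two hF
      ∃ g : ℕ → Sz F m, FreeGroup.lift g w ≠ 1 := by
  set L := w.toWord with hL
  set k := (L.map Prod.fst).sum + 1 with hk
  refine ⟨L.length * k + 3, ?_⟩
  intro F _ _ m _ hN hF
  haveI : CharP F 2 := Cfsg.Agent.Lib.Helper14.Sz.charP_two hF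
  have hLne : L ≠ [] := by
    rw [hL, Ne, FreeGroup.toWord_eq_nil_iff]
    exact hw
  have hred : FreeGroup.IsReduced L := FreeGroup.isReduced_toWord
  have hne := wordMat_ne_one (K := F) (2 ^ (m + 1)) L hLne hred
  have hkb : ∀ x ∈ L, x.1 < k := by
    intro x hx
    have h1 : x.1 ∈ L.map Prod.fst := List.mem_map_of_mem hx
    have h2 : x.1 ≤ (L.map Prod.fst).sum := List.single_le_sum (fun _ _ => Nat.zero_le _) _ h1
    omega
  have hEB := EB_word (K := F) (2 ^ (m + 1)) k L hkb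
  have hb : L.length * (2 * (2 ^ (m + 1) * k + 2 * k)) < Fintype.card F := by
    rw [hF]
    exact arith_bound _ _ _ hN
  obtain ⟨τ, hτ⟩ := exists_eval_ne_one _ _ hEB hb hne
  refine ⟨gen hF τ, ?_⟩
  intro h1
  apply hτ
  rw [← matOf_lift hF τ w, h1]
  rfl

end final

end Cfsg.Agent.Lib.Helper14.SzWord
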