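import Mathlib
import Cfsg.Prelude.Def_KGroupFacts
import Cfsg.Agent.Lib.Helper14.SzY
import Cfsg.Agent.Lib.Helper14.SzU

/-!
# The outer automorphism group of the Suzuki groups (helper14)
-/

set_option autoImplicit false
set_option maxHeartbeats 2000000
set_option linter.unusedSimpArgs false
set_option linter.unusedSectionVars false

namespace Cfsg.Agent.Lib.Helper14.Sz

open Cfsg
open scoped Pointwise

local notation "SL4" => Matrix.SpecialLinearGroup (Fin 4)

section gal

variable (F : Type*) [Field F] [Fintype F] (p : ℕ) [Fact p.Prime] [CharP F p]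

/-- ring automorphisms of a finite field are algebra automorphisms over the prime field -/
noncomputable def galEquivSz :
    letI := ZMod.algebra F p
    (F ≃ₐ[ZMod p] F) ≃* RingAut F :=
  letI := ZMod.algebra F p
  { toFun := fun e => e.toRingEquiv
    invFun := fun τ => AlgEquiv.ofRingEquiv (f := τ) (fun x => by
      have h : ((τ : F →+* F).comp (algebraMap (ZMod p) F)) = algebraMap (ZMod p) F :=
        Subsingleton.elim _ _
      exact RingHom.congr_fun h x)
    left_inv := fun e => by ext; rfl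
    right_inv := fun τ => by ext; rfl
    map_mul' := fun a b => by ext; rfl }

theorem card_ringAutSz (f : ℕ) (hF : Fintype.card F = p ^ f) : Nat.card (RingAut F) = f := by
  letI := ZMod.algebra F p
  have h1 : Nat.card (RingAut F) = Nat.card (F ≃ₐ[ZMod p] F) :=
    (Nat.card_congr (galEquivSz F p).toEquiv).symm
  have h2 := Nat.card_eq_of_bijective _
    (FiniteField.bijective_frobeniusAlgEquivOfAlgebraic_pow (ZMod p) F)
  rw [Nat.card_eq_fintype_card, Fintype.card_fin] at h2
  rw [h1, ← h2]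
  have h3 : Fintype.card F = p ^ Module.finrank (ZMod p) F := by
    rw [Module.card_eq_pow_finrank (K := ZMod p) (V := F), ZMod.card]
  rw [hF] at h3
  exact (Nat.pow_right_injective (Fact.out : p.Prime).two_le h3).symm

end gal

section transport

/-- `Out` is invariant under isomorphism -/
theorem card_out_congr {G G' : Type*} [Group G] [Group G'] (e : G ≃* G') :
    Nat.card (Cfsg.Out G) = Nat.card (Cfsg.Out G') := by
  have he : (Cfsg.Inn G).map (MulAut.congr e).toMonoidHom = Cfsg.Inn G' := by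
    ext φ
    constructor
    · rintro ⟨_, ⟨g, rfl⟩, rfl⟩
      refine ⟨e g, ?_⟩
      apply MulEquiv.ext
      intro x
      show e g * x * (e g)⁻¹ = e (g * e.symm x * g⁻¹)
      rw [map_mul, map_mul, map_inv, e.apply_symm_apply]
    · rintro ⟨g', rfl⟩
      refine ⟨MulAut.conj (e.symm g'), ⟨_, rfl⟩, ?_⟩
      apply MulEquiv.ext
      intro x
      show e (e.symm g' * e.symm x * (e.symm g')⁻¹) = g' * x * g'⁻¹
      rw [map_mul, map_mul, map_inv, e.apply_symm_apply, e.apply_symm_apply]
  exact Nat.card_congr (QuotientGroup.congr (Cfsg.Inn G) (Cfsg.Inn G') (MulAut.congr e) he).toEquiv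

end transport

section out

variable {F : Type*} [Field F] [Fintype F] [CharP F 2] {m : ℕ}

theorem mk_conj_eq_one {G : Type*} [Group G] (x : G) :
    (QuotientGroup.mk (MulAut.conj x) : Cfsg.Out G) = 1 :=
  (QuotientGroup.eq_one_iff _).mpr ⟨x, rfl⟩

theorem out_surj (hm : 1 ≤ m) (hF : Fintype.card F = 2 ^ (2 * m + 1)) (q : Cfsg.Out (Sz F m)) :
    ∃ τ : F ≃+* F, (QuotientGroup.mk (fAut hm hF τ) : Cfsg.Out (Sz F m)) = q := by
  obtain ⟨α, rfl⟩ := QuotientGroup.mk_surjective q
  obtain ⟨τ, x, hx⟩ := exists_isSemi hm hF α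
  refine ⟨τ, ?_⟩
  set A : MulAut (Sz F m) := MulAut.conj x * α * (fAut hm hF τ)⁻¹ with hA
  have hAZ : ∀ b : F, A (TS hF 0 b) = TS hF 0 b := by
    intro b
    rw [hA, MulAut.mul_apply, fAut_inv_TS, map_zero, hx, τ.apply_symm_apply]
  obtain ⟨t, ht⟩ := inner_of_fix_center hm hF A hAZ
  have h1 : (QuotientGroup.mk A : Cfsg.Out (Sz F m)) = QuotientGroup.mk (MulAut.conj t) := by
    rw [ht]
  rw [hA, QuotientGroup.mk_mul, QuotientGroup.mk_mul, QuotientGroup.mk_inv, mk_conj_eq_one,
    mk_conj_eq_one, one_mul] at h1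
  exact (mul_inv_eq_one.mp h1).symm

theorem out_inj (hm : 1 ≤ m) (hF : Fintype.card F = 2 ^ (2 * m + 1)) (τ τ' : F ≃+* F)
    (h : (QuotientGroup.mk (fAut hm hF τ) : Cfsg.Out (Sz F m)) =
      QuotientGroup.mk (fAut hm hF τ')) : τ = τ' := by
  rw [QuotientGroup.eq] at h
  obtain ⟨y, hy⟩ := h
  have h1 : ∀ b : F, y * TS hF 0 b * y⁻¹ = TS hF 0 (τ.symm (τ' b)) := by
    intro b
    have := congrArg (fun φ : MulAut (Sz F m) => φ (TS hF 0 b)) hy
    simp only [MulAut.conj_apply, MulAut.mul_apply] at this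
    rw [this, fAut_TS, fAut_inv_TS, map_zero, map_zero]
  have hyfix : y • oinf F m = oinf F m := by
    have h2 := h1 1
    rw [map_one, map_one] at h2
    have hne : TS (m := m) hF 0 (1 : F) ≠ 1 := TS_one_ne hF one_ne_zero
    apply TS_fix_only hF hne
    nth_rewrite 1 [← h2]
    rw [mul_smul, mul_smul, inv_smul_smul, TS_oinf]
  obtain ⟨a, c, k, rfl⟩ := fix_oinf hm hF y hyfix
  have h3 : ∀ b : F, sg m (k : F) * (k : F) * b = τ.symm (τ' b) := by
    intro b
    have := h1 b
    rw [conjB_Z] at this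
    exact (TS_injective hF this).2
  have h4 : sg m (k : F) * (k : F) = 1 := by
    have := h3 1
    rw [map_one, map_one, mul_one] at this
    exact this
  apply RingEquiv.ext
  intro b
  have := h3 b
  rw [h4, one_mul] at this
  have h5 : τ b = τ (τ.symm (τ' b)) := congrArg τ this
  rw [h5, τ.apply_symm_apply]

theorem card_out_sz (hm : 1 ≤ m) (hF : Fintype.card F = 2 ^ (2 * m + 1)) :
    Nat.card (Cfsg.Out (Sz F m)) = 2 * m + 1 := by
  have : Fact (Nat.Prime 2) := ⟨Nat.prime_two⟩
  rw [← card_ringAutSz F 2 (2 * m + 1) hF]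
  symm
  apply Nat.card_eq_of_bijective
    (fun τ : RingAut F => (QuotientGroup.mk (fAut hm hF τ) : Cfsg.Out (Sz F m)))
  exact ⟨fun τ τ' h => out_inj hm hF τ τ' h, fun q => out_surj hm hF q⟩

theorem card_out_lie (hm : 1 ≤ m) (hF : Fintype.card F = 2 ^ (2 * m + 1)) :
    Nat.card (Cfsg.Out ↥(Cfsg.Lie.Sz F (2 ^ (m + 1)))) = 2 * m + 1 := by
  rw [← card_out_congr (szEquiv hm hF)]
  exact card_out_sz hm hF

end out

end Cfsg.Agent.Lib.Helper14.Sz
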