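import Mathlib
set_option autoImplicit false
set_option maxHeartbeats 400000
namespace Cfsg.Agent.Lib.Helper14

theorem finrank_eq_map_add_inf_ker {F V V' : Type*} [Field F] [AddCommGroup V] [Module F V] [FiniteDimensional F V]
    [AddCommGroup V'] [Module F V'] (f : V →ₗ[F] V') (S : Submodule F V) :
    Module.finrank F S = Module.finrank F (S.map f) + Module.finrank F (S ⊓ LinearMap.ker f : Submodule F V) := by
  have h4 := LinearMap.finrank_range_add_finrank_ker (f.domRestrict S)
  rw [LinearMap.range_domRestrict, LinearMap.ker_domRestrict] at h4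
  rw [← h4, ← Submodule.finrank_map_subtype_eq S ((LinearMap.ker f).comap S.subtype), Submodule.map_comap_subtype]

/-- Abstract reduction step for Witt index bounds: splitting off a hyperbolic pair. -/
theorem witt_step {F V V' : Type*} [Field F] [AddCommGroup V] [Module F V] [FiniteDimensional F V]
    [AddCommGroup V'] [Module F V'] [FiniteDimensional F V']
    (Q : V → F) (Q' : V' → F) (x y : V →ₗ[F] F) (π : V →ₗ[F] V') (e : V)
    (hQ : ∀ v, Q v = x v * y v + Q' (π v))
    (hxe : x e = 1) (hye : y e = 0) (hπe : π e = 0)
    (hker : ∀ v, π v = 0 → y v = 0 → v = x v • e)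
    (w : ℕ) (hw : ∀ U' : Submodule F V', (∀ u ∈ U', Q' u = 0) → Module.finrank F U' ≤ w)
    (U : Submodule F V) (hU : ∀ u ∈ U, Q u = 0) : Module.finrank F U ≤ w + 1 := by
  set U₀ : Submodule F V := U ⊓ LinearMap.ker y with hU₀
  have himg : ∀ u' ∈ U₀.map π, Q' u' = 0 := by
    rintro _ ⟨u, hu, rfl⟩
    have h1 := hU u hu.1
    have h2 : y u = 0 := hu.2
    rw [hQ, h2, mul_zero, zero_add] at h1
    exact h1
  have h3 := hw _ himg
  have h4 := finrank_eq_map_add_inf_ker π U₀
  -- K' ≤ span e
  have hK : ∀ v ∈ (U₀ ⊓ LinearMap.ker π : Submodule F V), v = x v • e := by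
    intro v hv
    exact hker v hv.2 hv.1.2
  by_cases he : e ∈ U
  · have hUy : U ≤ LinearMap.ker y := by
      intro u hu
      have h6 := hU (u + e) (U.add_mem hu he)
      have h7 := hU u hu
      rw [hQ] at h6 h7
      rw [map_add, map_add, map_add, hxe, hye, hπe, add_zero, add_zero] at h6
      rw [LinearMap.mem_ker]
      have : (x u + 1) * y u + Q' (π u) - (x u * y u + Q' (π u)) = y u := by ring
      rw [← this, h6, h7, sub_zero]
    have hUU₀ : U₀ = U := inf_eq_left.mpr hUy
    have h8 : Module.finrank F (U₀ ⊓ LinearMap.ker π : Submodule F V) ≤ 1 := by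
      have hle : (U₀ ⊓ LinearMap.ker π : Submodule F V) ≤ Submodule.span F {e} := by
        intro v hv
        rw [Submodule.mem_span_singleton]
        exact ⟨x v, (hK v hv).symm⟩
      refine (Submodule.finrank_mono hle).trans ?_
      have := finrank_span_le_card (R := F) ({e} : Set V)
      simpa using this
    rw [← hUU₀]
    omega
  · have h8 : (U₀ ⊓ LinearMap.ker π : Submodule F V) = ⊥ := by
      rw [eq_bot_iff]
      intro v hv
      rw [Submodule.mem_bot]
      have h9 := hK v hv
      by_cases hx : x v = 0
      · rw [h9, hx, zero_smul]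
      · exfalso
        apply he
        have : e = (x v)⁻¹ • v := by
          rw [h9, map_smul, smul_eq_mul, hxe, mul_one, smul_smul, inv_mul_cancel₀ hx, one_smul]
        rw [this]
        exact U.smul_mem _ hv.1.1
    rw [h8, finrank_bot, add_zero] at h4
    -- finrank U ≤ finrank U₀ + 1
    have h10 := Submodule.finrank_sup_add_finrank_inf_eq U (LinearMap.ker y)
    rw [← hU₀] at h10
    have h11 := LinearMap.finrank_range_add_finrank_ker y
    have h12 : Module.finrank F (LinearMap.range y) ≤ 1 := by
      have := Submodule.finrank_le (LinearMap.range y)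
      simpa using this
    have h13 := Submodule.finrank_le (U ⊔ LinearMap.ker y)
    omega

/-- Witt index bound: for the form `Σ_{i<k} x_i y_i + g(z)` where totally singular subspaces of `g`
have dimension at most `w`, every totally singular subspace has dimension at most `w + k`. -/
theorem witt_bound {F : Type*} [Field F] {τ : Type} [Fintype τ] (g : (τ → F) → F) (w : ℕ)
    (hg : ∀ U' : Submodule F (τ → F), (∀ u ∈ U', g u = 0) → Module.finrank F U' ≤ w) :
    ∀ (k : ℕ) (U : Submodule F ((Fin k ⊕ Fin k) ⊕ τ → F)),
      (∀ u ∈ U, (∑ i : Fin k, u (.inl (.inl i)) * u (.inl (.inr i))) + g (fun t => u (.inr t)) = 0) →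
      Module.finrank F U ≤ w + k := by
  classical
  intro k
  induction k with
  | zero =>
    intro U hU
    set f : ((Fin 0 ⊕ Fin 0) ⊕ τ → F) →ₗ[F] (τ → F) := LinearMap.funLeft F F Sum.inr with hf
    have hinj : Function.Injective f := by
      intro a b hab
      funext j
      rcases j with (j | j) | t
      · exact j.elim0
      · exact j.elim0
      · exact congrFun hab t
    have h1 : Module.finrank F (U.map f) = Module.finrank F U :=
      (Submodule.equivMapOfInjective f hinj U).finrank_eq.symm
    rw [← h1, add_zero]
    apply hg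
    rintro _ ⟨u, hu, rfl⟩
    have := hU u hu
    simp only [Finset.univ_eq_empty, Finset.sum_empty, zero_add] at this
    exact this
  | succ k ih =>
    intro U hU
    have := witt_step (F := F)
      (Q := fun u : (Fin (k + 1) ⊕ Fin (k + 1)) ⊕ τ → F =>
        (∑ i : Fin (k + 1), u (.inl (.inl i)) * u (.inl (.inr i))) + g (fun t => u (.inr t)))
      (Q' := fun u : (Fin k ⊕ Fin k) ⊕ τ → F =>
        (∑ i : Fin k, u (.inl (.inl i)) * u (.inl (.inr i))) + g (fun t => u (.inr t)))
      (x := LinearMap.proj (Sum.inl (Sum.inl (Fin.last k))))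
      (y := LinearMap.proj (Sum.inl (Sum.inr (Fin.last k))))
      (π := LinearMap.funLeft F F (Sum.map (Sum.map Fin.castSucc Fin.castSucc) id))
      (e := Pi.single (Sum.inl (Sum.inl (Fin.last k))) 1)
      ?_ ?_ ?_ ?_ ?_ (w + k) ih U hU
    · omega
    · intro v
      simp only [LinearMap.proj_apply, LinearMap.funLeft_apply, Sum.map_inl, Sum.map_inr, id]
      rw [Fin.sum_univ_castSucc]
      ring
    · simp
    · simp
    · funext j
      rcases j with (j | j) | t
      · simp [LinearMap.funLeft_apply, Fin.castSucc_ne_last]
      · simp [LinearMap.funLeft_apply]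
      · simp [LinearMap.funLeft_apply]
    · intro v hπ hy
      funext j
      have hπ' : ∀ j', v (Sum.map (Sum.map Fin.castSucc Fin.castSucc) id j') = 0 := fun j' => congrFun hπ j'
      rcases j with (j | j) | t
      · induction j using Fin.lastCases with
        | last => simp
        | cast j =>
          have := hπ' (Sum.inl (Sum.inl j))
          simp only [Sum.map_inl] at this
          simp [this, Fin.castSucc_ne_last]
      · induction j using Fin.lastCases with
        | last => simpa using hy
        | cast j =>
          have := hπ' (Sum.inl (Sum.inr j))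
          simp only [Sum.map_inl, Sum.map_inr] at this
          simp [this]
      · have := hπ' (Sum.inr t)
        simp only [Sum.map_inr, id] at this
        simp [this]

/-- Witt index bound for the pure hyperbolic form `Σ_{i<k} x_i y_i`. -/
theorem witt_bound_plus {F : Type*} [Field F] (k : ℕ) (U : Submodule F (Fin k ⊕ Fin k → F))
    (hU : ∀ u ∈ U, (∑ i : Fin k, u (.inl i) * u (.inr i)) = 0) :
    Module.finrank F U ≤ k := by
  classical
  set f : (Fin k ⊕ Fin k → F) →ₗ[F] ((Fin k ⊕ Fin k) ⊕ Empty → F) :=
    LinearMap.funLeft F F (Sum.elim id Empty.elim) with hf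
  have hinj : Function.Injective f := by
    intro a b hab
    funext j
    exact congrFun hab (Sum.inl j)
  have h1 : Module.finrank F (U.map f) = Module.finrank F U :=
    (Submodule.equivMapOfInjective f hinj U).finrank_eq.symm
  have h2 := witt_bound (F := F) (τ := Empty) (fun _ => 0) 0 ?_ k (U.map f) ?_
  · omega
  · intro U' _
    have : Module.finrank F (Empty → F) = 0 := by simp
    have h3 := Submodule.finrank_le U'
    omega
  · rintro _ ⟨u, hu, rfl⟩
    rw [add_zero]
    have := hU u hu
    simpa [hf, LinearMap.funLeft_apply] using this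

/-- The coordinate subspace `{u | u ∘ j = 0}` for an injective index map `j : σ → ι` has
dimension `|ι| - |σ|`. -/
theorem finrank_ker_funLeft {F : Type*} [Field F] {ι σ : Type*} [Fintype ι] [Fintype σ]
    (j : σ → ι) (hj : Function.Injective j) :
    Module.finrank F (LinearMap.ker (LinearMap.funLeft F F j)) = Fintype.card ι - Fintype.card σ := by
  have h1 := LinearMap.finrank_range_add_finrank_ker (LinearMap.funLeft F F j)
  have h2 : LinearMap.range (LinearMap.funLeft F F j) = ⊤ :=
    LinearMap.range_eq_top.mpr (LinearMap.funLeft_surjective_of_injective F F j hj)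
  rw [h2, finrank_top, Module.finrank_pi, Module.finrank_pi] at h1
  omega

end Cfsg.Agent.Lib.Helper14
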